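import Mathlib
import Cfsg.Prelude.Def_LieExceptional
import Cfsg.Agent.Lib.Cores

/-!
Elementary facts on finite nilpotent groups (elements of prime power order for different primes
commute, central elements of every prime order) and on maximal nilpotent subgroups of CN-groups.
-/

set_option autoImplicit false
set_option linter.style.haveILetI false
set_option linter.unusedSectionVars false

namespace Cfsg.Agent.OddOrderLocal.CNNil

open Subgroup

section Basic

variable {G : Type*} [Group G]

/-- The cyclic group generated by an element of order a power of `p` is a `p`-group. -/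
theorem isPGroup_zpowers {p k : ℕ} {x : G} (hx : orderOf x = p ^ k) :
    IsPGroup p (zpowers x) :=
  IsPGroup.of_card (by rw [Nat.card_zpowers, hx])

/-- In a finite nilpotent group a `p`-element and a `q`-element commute (`p ≠ q`). -/
theorem commute_of_ne [Finite G] (h : Group.IsNilpotent G) {p q : ℕ} (hp : p.Prime) (hq : q.Prime)
    (hpq : p ≠ q) {x y : G} {j k : ℕ} (hx : orderOf x = p ^ j) (hy : orderOf y = q ^ k) :
    Commute x y := by
  haveI := Fact.mk hp
  haveI := Fact.mk hq
  obtain ⟨P, hP⟩ := (isPGroup_zpowers hx).exists_le_sylow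
  obtain ⟨Q, hQ⟩ := (isPGroup_zpowers hy).exists_le_sylow
  exact commute_of_normal_of_disjoint (P : Subgroup G) (Q : Subgroup G) inferInstance inferInstance
    (IsPGroup.disjoint_of_ne p q hpq _ _ P.isPGroup' Q.isPGroup') x y
    (hP (mem_zpowers x)) (hQ (mem_zpowers y))

/-- Subgroup version. -/
theorem commute_of_ne_subgroup [Finite G] {C : Subgroup G} (h : Group.IsNilpotent C)
    {p q : ℕ} (hp : p.Prime) (hq : q.Prime)
    (hpq : p ≠ q) {x y : G} {j k : ℕ} (hx : orderOf x = p ^ j) (hy : orderOf y = q ^ k)
    (hxC : x ∈ C) (hyC : y ∈ C) :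
    Commute x y := by
  have := commute_of_ne h hp hq hpq (x := ⟨x, hxC⟩) (y := ⟨y, hyC⟩)
    (by rw [← hx, ← Subgroup.orderOf_coe]) (by rw [← hy, ← Subgroup.orderOf_coe])
  exact congrArg Subtype.val this

/-- A subgroup of a finite group all of whose elements of prime power order lie in `H` is
contained in `H`. -/
theorem le_of_prime_pow [Finite G] {K H : Subgroup G}
    (h : ∀ x ∈ K, ∀ (p k : ℕ), p.Prime → orderOf x = p ^ k → x ∈ H) : K ≤ H := by
  have h1 : H.subgroupOf K = ⊤ := by
    refine Lib.Cores.eq_top_of_sylow_le fun p hp => ?_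
    obtain ⟨P⟩ := (inferInstance : Nonempty (Sylow p K))
    refine ⟨P, fun x hx => ?_⟩
    rw [mem_subgroupOf]
    obtain ⟨k, hk⟩ := IsPGroup.iff_orderOf.mp P.isPGroup' ⟨x, hx⟩
    refine h x x.2 p k hp.out ?_
    rw [← hk, Subgroup.orderOf_coe]
    exact (Subgroup.orderOf_coe (⟨x, hx⟩ : (P : Subgroup K))).trans rfl
  rwa [subgroupOf_eq_top] at h1

/-- A finite nilpotent group has central elements of order `p` for every prime divisor `p` of its
order. -/
theorem exists_center_orderOf [Finite G] (h : Group.IsNilpotent G) {p : ℕ} (hp : p.Prime)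
    (hdvd : p ∣ Nat.card G) : ∃ z : G, z ∈ center G ∧ orderOf z = p := by
  haveI := Fact.mk hp
  obtain ⟨P⟩ := (inferInstance : Nonempty (Sylow p G))
  have hPne : (P : Subgroup G) ≠ ⊥ := P.ne_bot_of_dvd_card hdvd
  haveI : Nontrivial P := (Subgroup.nontrivial_iff_ne_bot _).mpr hPne
  haveI : Nontrivial (center P) := P.isPGroup'.center_nontrivial
  have hcp : IsPGroup p (center P) := P.isPGroup'.to_subgroup _
  have hd : p ∣ Nat.card (center P) := by
    rcases hcp.card_eq_or_dvd with h1 | h1
    · exact absurd h1 (Finite.one_lt_card).ne'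
    · exact h1
  obtain ⟨z, hz⟩ := exists_prime_orderOf_dvd_card' (G := center P) p hd
  refine ⟨((z : P) : G), ?_, ?_⟩
  · have hz1 : orderOf ((z : P) : G) = p ^ 1 := by
      rw [Subgroup.orderOf_coe, Subgroup.orderOf_coe, hz, pow_one]
    have : centralizer ({((z : P) : G)} : Set G) = ⊤ := by
      rw [eq_top_iff]
      apply le_of_prime_pow
      intro x _ q k hq hx
      rw [mem_centralizer_singleton_iff]
      by_cases hqp : q = p
      · subst hqp
        obtain ⟨Q, hQ⟩ := (isPGroup_zpowers hx).exists_le_sylow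
        haveI : (P : Subgroup G).Normal := inferInstance
        have hQP : Q = P := by
          haveI := Sylow.unique_of_normal P inferInstance
          exact Subsingleton.elim _ _
        subst hQP
        have hxP : x ∈ (Q : Subgroup G) := hQ (mem_zpowers x)
        have := mem_center_iff.mp z.2 ⟨x, hxP⟩
        exact congrArg Subtype.val this
      · exact (commute_of_ne h hq hp hqp hx hz1).eq
    rw [mem_center_iff]
    intro g
    have hg : g ∈ centralizer ({((z : P) : G)} : Set G) := by rw [this]; trivial
    exact mem_centralizer_singleton_iff.mp hg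
  · rw [Subgroup.orderOf_coe, Subgroup.orderOf_coe, hz]

/-- Subgroup version of `exists_center_orderOf`. -/
theorem exists_central_orderOf_subgroup [Finite G] {H : Subgroup G} (h : Group.IsNilpotent H)
    {p : ℕ} (hp : p.Prime) (hdvd : p ∣ Nat.card H) :
    ∃ z ∈ H, orderOf z = p ∧ ∀ x ∈ H, Commute x z := by
  obtain ⟨z, hz, ho⟩ := exists_center_orderOf h hp hdvd
  refine ⟨z, z.2, by rw [Subgroup.orderOf_coe, ho], fun x hx => ?_⟩
  exact congrArg Subtype.val (mem_center_iff.mp hz ⟨x, hx⟩)

/-- transport of nilpotency to conjugates -/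
theorem isNilpotent_map_conj {H : Subgroup G} (h : Group.IsNilpotent H) (g : G) :
    Group.IsNilpotent (H.map (MulAut.conj g).toMonoidHom) := by
  haveI := h
  exact Group.nilpotent_of_mulEquiv
    (H.equivMapOfInjective (MulAut.conj g).toMonoidHom (MulAut.conj g).injective)

end Basic

section CN

variable {G : Type*} [Group G] [Finite G]

theorem exists_prime_ne_of_not_isPrimePow {n : ℕ} (h : ¬ IsPrimePow n) (h1 : n ≠ 1) (h0 : n ≠ 0)
    (r : ℕ) (hr : r.Prime) : ∃ s, s.Prime ∧ s ∣ n ∧ s ≠ r := by
  by_contra hcon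
  push Not at hcon
  apply h
  have : n = r ^ n.primeFactorsList.length :=
    Nat.eq_prime_pow_of_unique_prime_dvd h0 (fun {d} hd hdn => hcon d hd hdn)
  rw [isPrimePow_nat_iff]
  refine ⟨r, n.primeFactorsList.length, hr, ?_, this.symm⟩
  rcases Nat.eq_zero_or_pos n.primeFactorsList.length with h2 | h2
  · rw [h2, pow_zero] at this
    exact absurd this h1
  · exact h2

/-- The centralizer of a central element of a maximal nilpotent subgroup of a CN-group. -/
theorem centralizer_eq_of_central (hCN : Cfsg.IsCNGroup G) {H : Subgroup G}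
    (hmax : ∀ L : Subgroup G, Group.IsNilpotent L → H ≤ L → L = H) {z : G} (hz1 : z ≠ 1)
    (hz : ∀ x ∈ H, Commute x z) : centralizer ({z} : Set G) = H :=
  hmax _ (hCN z hz1) (fun x hx => mem_centralizer_singleton_iff.mpr (hz x hx).eq)

/-- In a CN-group a maximal nilpotent subgroup of non prime power order contains the centralizer of
each of its non-identity elements. -/
theorem centralizer_le_of_not_isPrimePow (hCN : Cfsg.IsCNGroup G) {H : Subgroup G}
    (hH : Group.IsNilpotent H)
    (hmax : ∀ L : Subgroup G, Group.IsNilpotent L → H ≤ L → L = H)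
    (hpp : ¬ IsPrimePow (Nat.card H)) {x : G} (hx : x ∈ H) (hx1 : x ≠ 1) :
    centralizer ({x} : Set G) ≤ H := by
  have hcard1 : Nat.card H ≠ 1 := by
    rw [Ne, Subgroup.card_eq_one]
    rintro rfl
    exact hx1 (Subgroup.mem_bot.mp hx)
  apply le_of_prime_pow
  intro c hc r k hr hck
  obtain ⟨s, hs, hsd, hsr⟩ := exists_prime_ne_of_not_isPrimePow hpp hcard1 Nat.card_pos.ne' r hr
  obtain ⟨z, hzH, hzo, hzc⟩ := exists_central_orderOf_subgroup hH hs hsd
  have hz1 : z ≠ 1 := by
    rintro rfl
    rw [orderOf_one] at hzo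
    exact hs.one_lt.ne hzo
  have hC := centralizer_eq_of_central hCN hmax hz1 hzc
  have hcz : Commute c z := by
    refine commute_of_ne_subgroup (hCN x hx1) hr hs hsr.symm hck (k := 1) (by rw [hzo, pow_one]) hc ?_
    exact mem_centralizer_singleton_iff.mpr (hzc x hx).symm.eq
  rw [← hC]
  exact mem_centralizer_singleton_iff.mpr hcz.eq

end CN

end Cfsg.Agent.OddOrderLocal.CNNil
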