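import Mathlib
import Cfsg.Prelude.Def_OddOrderLocal

/-!
Basic API for `Cfsg.PRankLE p k G` ("every elementary abelian `p`-subgroup has order at most `p ^ k`")
and `Cfsg.RankLE k G`, and for `Cfsg.IsElementaryAbelian p A`.
-/

set_option autoImplicit false

namespace Cfsg.Agent.OddOrderLocal.Rank

open Subgroup

variable {G : Type*} [Group G] {p k : ℕ}

/-! ### Elementary abelian subgroups -/

theorem elemAb_def {A : Subgroup G} :
    Cfsg.IsElementaryAbelian p A ↔ (∀ a ∈ A, ∀ b ∈ A, a * b = b * a) ∧ ∀ a ∈ A, a ^ p = 1 := by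
  constructor
  · rintro ⟨h1, h2⟩
    exact ⟨isMulCommutative_iff_of_setLike.mp h1, h2⟩
  · rintro ⟨h1, h2⟩
    exact ⟨isMulCommutative_iff_of_setLike.mpr h1, h2⟩

theorem elemAb_mono {A B : Subgroup G} (h : Cfsg.IsElementaryAbelian p B) (hAB : A ≤ B) :
    Cfsg.IsElementaryAbelian p A := by
  rw [elemAb_def] at h ⊢
  exact ⟨fun a ha b hb => h.1 a (hAB ha) b (hAB hb), fun a ha => h.2 a (hAB ha)⟩

theorem elemAb_map {H : Type*} [Group H] (f : G →* H) {A : Subgroup G}
    (h : Cfsg.IsElementaryAbelian p A) : Cfsg.IsElementaryAbelian p (A.map f) := by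
  rw [elemAb_def] at h ⊢
  constructor
  · rintro _ ⟨a, ha, rfl⟩ _ ⟨b, hb, rfl⟩
    rw [← map_mul, h.1 a ha b hb, map_mul]
  · rintro _ ⟨a, ha, rfl⟩
    rw [← map_pow, h.2 a ha, map_one]

theorem elemAb_comap {H : Type*} [Group H] (f : H →* G) (hf : Function.Injective f)
    {A : Subgroup G} (h : Cfsg.IsElementaryAbelian p A) :
    Cfsg.IsElementaryAbelian p (A.comap f) := by
  rw [elemAb_def] at h ⊢
  constructor
  · intro a ha b hb
    apply hf
    rw [map_mul, map_mul]
    exact h.1 _ ha _ hb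
  · intro a ha
    apply hf
    rw [map_pow, map_one]
    exact h.2 _ ha

theorem elemAb_isPGroup {A : Subgroup G} (h : Cfsg.IsElementaryAbelian p A) : IsPGroup p A := by
  intro a
  refine ⟨1, ?_⟩
  rw [pow_one]
  exact Subtype.ext (h.2 a a.2)

theorem elemAb_bot : Cfsg.IsElementaryAbelian p (⊥ : Subgroup G) := by
  rw [elemAb_def]
  constructor
  · intro a ha b hb
    rw [Subgroup.mem_bot] at ha hb
    rw [ha, hb]
  · intro a ha
    rw [Subgroup.mem_bot] at ha
    rw [ha, one_pow]

theorem elemAb_zpowers {x : G} (h : x ^ p = 1) :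
    Cfsg.IsElementaryAbelian p (Subgroup.zpowers x) := by
  rw [elemAb_def]
  constructor
  · rintro _ ⟨m, rfl⟩ _ ⟨n, rfl⟩
    exact (Commute.refl x).zpow_zpow m n
  · rintro _ ⟨m, rfl⟩
    change (x ^ m) ^ p = 1
    rw [← zpow_natCast, ← zpow_mul, mul_comm, zpow_mul, zpow_natCast, h, one_zpow]

/-- The join of two commuting elementary abelian subgroups is elementary abelian. -/
theorem elemAb_sup {A B : Subgroup G} (hA : Cfsg.IsElementaryAbelian p A)
    (hB : Cfsg.IsElementaryAbelian p B) (hAB : ∀ a ∈ A, ∀ b ∈ B, a * b = b * a) :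
    Cfsg.IsElementaryAbelian p (A ⊔ B) := by
  rw [elemAb_def] at hA hB ⊢
  have hmem : ∀ x ∈ A ⊔ B, ∃ a ∈ A, ∃ b ∈ B, x = a * b := by
    intro x hx
    have hn : A ≤ Subgroup.normalizer (B : Set G) := by
      rw [Subgroup.le_normalizer_iff]
      intro a ha b hb
      rw [hAB a ha b hb, mul_inv_cancel_right]
      exact hb
    rw [← SetLike.mem_coe, Subgroup.coe_mul_of_left_le_normalizer_right A B hn] at hx
    obtain ⟨a, ha, b, hb, rfl⟩ := hx
    exact ⟨a, ha, b, hb, rfl⟩
  constructor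
  · intro x hx y hy
    obtain ⟨a, ha, b, hb, rfl⟩ := hmem x hx
    obtain ⟨c, hc, d, hd, rfl⟩ := hmem y hy
    calc a * b * (c * d) = a * (b * c) * d := by group
      _ = a * (c * b) * d := by rw [hAB c hc b hb]
      _ = (a * c) * (b * d) := by group
      _ = (c * a) * (d * b) := by rw [hA.1 a ha c hc, hB.1 b hb d hd]
      _ = c * (a * d) * b := by group
      _ = c * (d * a) * b := by rw [hAB a ha d hd]
      _ = c * d * (a * b) := by group
  · intro x hx
    obtain ⟨a, ha, b, hb, rfl⟩ := hmem x hx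
    have hc : Commute a b := hAB a ha b hb
    rw [hc.mul_pow, hA.2 a ha, hB.2 b hb, one_mul]

/-! ### `PRankLE` -/

theorem pRankLE_def : Cfsg.PRankLE p k G ↔
    ∀ A : Subgroup G, Cfsg.IsElementaryAbelian p A → Nat.card A ≤ p ^ k :=
  ⟨fun h A hA => h A hA.1 hA.2, fun h A hA hA' => h A ⟨hA, hA'⟩⟩

theorem pRankLE_of_injective {H : Type*} [Group H] (f : H →* G) (hf : Function.Injective f)
    (h : Cfsg.PRankLE p k G) : Cfsg.PRankLE p k H := by
  rw [pRankLE_def] at h ⊢
  intro A hA
  rw [← Subgroup.card_map_of_injective hf]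
  exact h _ (elemAb_map f hA)

theorem pRankLE_congr {H : Type*} [Group H] (e : H ≃* G) :
    Cfsg.PRankLE p k H ↔ Cfsg.PRankLE p k G :=
  ⟨pRankLE_of_injective e.symm.toMonoidHom e.symm.injective,
    pRankLE_of_injective e.toMonoidHom e.injective⟩

theorem pRankLE_subgroup {H : Subgroup G} (h : Cfsg.PRankLE p k G) : Cfsg.PRankLE p k H :=
  pRankLE_of_injective H.subtype H.subtype_injective h

theorem pRankLE_mono {H K : Subgroup G} (hHK : H ≤ K) (h : Cfsg.PRankLE p k K) :
    Cfsg.PRankLE p k H :=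
  pRankLE_of_injective (Subgroup.inclusion hHK) (Subgroup.inclusion_injective hHK) h

theorem pRankLE_le {l : ℕ} (hkl : k ≤ l) (hp : 0 < p) (h : Cfsg.PRankLE p k G) :
    Cfsg.PRankLE p l G := fun A hA hA' =>
  (h A hA hA').trans (Nat.pow_le_pow_right hp hkl)

/-- The `p`-rank of a subgroup in terms of elementary abelian subgroups of the big group. -/
theorem pRankLE_iff {H : Subgroup G} : Cfsg.PRankLE p k H ↔
    ∀ A : Subgroup G, A ≤ H → Cfsg.IsElementaryAbelian p A → Nat.card A ≤ p ^ k := by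
  rw [pRankLE_def]
  constructor
  · intro h A hAH hA
    have h1 := h (A.subgroupOf H) (elemAb_comap H.subtype H.subtype_injective hA)
    rwa [Nat.card_congr (Subgroup.subgroupOfEquivOfLe hAH).toEquiv] at h1
  · intro h A hA
    have h1 := h (A.map H.subtype) (Subgroup.map_subtype_le A) (elemAb_map H.subtype hA)
    rwa [Subgroup.card_subtype] at h1

theorem not_pRankLE_of_elemAb {H A : Subgroup G} (hAH : A ≤ H)
    (hA : Cfsg.IsElementaryAbelian p A) (hc : p ^ k < Nat.card A) : ¬ Cfsg.PRankLE p k H := by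
  intro h
  exact absurd (pRankLE_iff.mp h A hAH hA) (not_le.mpr hc)

/-- A group of `p`-rank more than `k` has an elementary abelian subgroup of order `p ^ (k + 1)`. -/
theorem exists_elemAb_of_not_pRankLE_top [Fact p.Prime] (h : ¬ Cfsg.PRankLE p k G) :
    ∃ A : Subgroup G, Cfsg.IsElementaryAbelian p A ∧ Nat.card A = p ^ (k + 1) := by
  rw [pRankLE_def] at h
  push Not at h
  obtain ⟨A, hA, hc⟩ := h
  have hfin : Finite A := Nat.finite_of_card_ne_zero (by omega)
  obtain ⟨n, hn⟩ := (IsPGroup.iff_card).mp (elemAb_isPGroup hA)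
  have hp1 : 1 < p := (Fact.out : p.Prime).one_lt
  have hkn : k < n := by
    rw [hn] at hc
    exact (Nat.pow_lt_pow_iff_right hp1).mp hc
  obtain ⟨B, hB⟩ := Sylow.exists_subgroup_card_pow_prime (G := A) p (n := k + 1)
    (by rw [hn]; exact pow_dvd_pow p hkn)
  refine ⟨B.map A.subtype, elemAb_mono hA (Subgroup.map_subtype_le B), ?_⟩
  rw [Subgroup.card_subtype, hB]

theorem exists_elemAb_of_not_pRankLE [Fact p.Prime] {H : Subgroup G}
    (h : ¬ Cfsg.PRankLE p k H) :
    ∃ A : Subgroup G, A ≤ H ∧ Cfsg.IsElementaryAbelian p A ∧ Nat.card A = p ^ (k + 1) := by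
  obtain ⟨A, hA, hc⟩ := exists_elemAb_of_not_pRankLE_top h
  exact ⟨A.map H.subtype, Subgroup.map_subtype_le A, elemAb_map _ hA, by
    rw [Subgroup.card_subtype, hc]⟩

theorem pRankLE_iff_card [Fact p.Prime] {H : Subgroup G} : Cfsg.PRankLE p k H ↔
    ∀ A : Subgroup G, A ≤ H → Cfsg.IsElementaryAbelian p A → Nat.card A ≠ p ^ (k + 1) := by
  have hp1 : 1 < p := (Fact.out : p.Prime).one_lt
  constructor
  · intro h A hAH hA hc
    have h1 := pRankLE_iff.mp h A hAH hA
    rw [hc] at h1
    exact absurd h1 (not_le.mpr (Nat.pow_lt_pow_right hp1 (Nat.lt_succ_self k)))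
  · intro h
    by_contra h1
    obtain ⟨A, hAH, hA, hc⟩ := exists_elemAb_of_not_pRankLE h1
    exact h A hAH hA hc

/-- Trivial group and groups of order prime to `p` have `p`-rank at most `0`. -/
theorem pRankLE_zero_of_not_dvd [Finite G] [Fact p.Prime] (h : ¬ p ∣ Nat.card G) :
    Cfsg.PRankLE p 0 G := by
  rw [pRankLE_def]
  intro A hA
  obtain ⟨n, hn⟩ := (IsPGroup.iff_card).mp (elemAb_isPGroup hA)
  rcases Nat.eq_zero_or_pos n with h0 | h0
  · rw [hn, h0]
  · exfalso
    apply h
    have h1 : p ∣ Nat.card A := by rw [hn]; exact dvd_pow_self p h0.ne'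
    exact h1.trans (Subgroup.card_subgroup_dvd_card A)

theorem dvd_card_of_not_pRankLE [Finite G] [Fact p.Prime] (h : ¬ Cfsg.PRankLE p k G) :
    p ∣ Nat.card G := by
  by_contra h1
  exact h (pRankLE_le (Nat.zero_le k) (Fact.out : p.Prime).pos (pRankLE_zero_of_not_dvd h1))

/-- The `p`-rank of a finite group is the `p`-rank of its Sylow `p`-subgroups. -/
theorem pRankLE_sylow [Finite G] [Fact p.Prime] (P : Sylow p G) :
    Cfsg.PRankLE p k P ↔ Cfsg.PRankLE p k G := by
  constructor
  · intro h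
    rw [pRankLE_def]
    intro A hA
    obtain ⟨Q, hQ⟩ := (elemAb_isPGroup hA).exists_le_sylow
    have h1 : Cfsg.PRankLE p k Q := (pRankLE_congr (Q.equiv P)).mpr h
    exact pRankLE_iff.mp h1 A hQ hA
  · exact pRankLE_subgroup

/-- The `p`-rank of a subgroup is the `p`-rank of its Sylow `p`-subgroups. -/
theorem pRankLE_map_sylow [Finite G] [Fact p.Prime] {H : Subgroup G} (P : Sylow p H) :
    Cfsg.PRankLE p k ((P : Subgroup H).map H.subtype) ↔ Cfsg.PRankLE p k H := by
  rw [← pRankLE_sylow P]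
  exact (pRankLE_congr (Subgroup.equivMapOfInjective (P : Subgroup H) H.subtype
    H.subtype_injective)).symm

/-- A surjection with kernel of order prime to `p` does not change the `p`-rank: the rank of the
image is at least that of the source. -/
theorem pRankLE_of_surjective_coprime {H : Type*} [Group H] [Finite G] [Fact p.Prime] (f : G →* H)
    (hker : ¬ p ∣ Nat.card f.ker) (h : Cfsg.PRankLE p k H) : Cfsg.PRankLE p k G := by
  rw [pRankLE_def] at h ⊢
  intro A hA
  have h1 := h _ (elemAb_map f hA)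
  have h2 : Function.Injective (f.comp A.subtype) := by
    rw [injective_iff_map_eq_one]
    intro a ha
    by_contra hne
    apply hker
    have h3 : orderOf (a : G) = p := by
      apply orderOf_eq_prime
      · exact hA.2 a a.2
      · intro h'
        exact hne (Subtype.ext h')
    have h4 : (a : G) ∈ f.ker := ha
    have h5 : orderOf (⟨(a : G), h4⟩ : f.ker) = p := by
      rw [Subgroup.orderOf_mk, h3]
    rw [← h5]
    exact orderOf_dvd_natCard _
  have h3 : Nat.card (A.map f) = Nat.card A := by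
    have h4 : A.map f = (f.comp A.subtype).range := by
      rw [MonoidHom.range_comp, Subgroup.range_subtype]
    rw [h4]
    exact (Nat.card_congr (MonoidHom.ofInjective h2).toEquiv).symm
  rwa [h3] at h1

/-! ### `RankLE` -/

theorem rankLE_of_injective {H : Type*} [Group H] (f : H →* G) (hf : Function.Injective f)
    (h : Cfsg.RankLE k G) : Cfsg.RankLE k H := by
  intro q hq A hA hA'
  have h1 := h q hq (A.map f) inferInstance (by
    rintro _ ⟨a, ha, rfl⟩
    rw [← map_pow, hA' a ha, map_one])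
  rwa [Subgroup.card_map_of_injective hf] at h1

theorem rankLE_mono' {H K : Type*} [Group H] [Group K] (f : H →* K) (hf : Function.Injective f)
    (h : Cfsg.RankLE k K) : Cfsg.RankLE k H := rankLE_of_injective f hf h

theorem rankLE_mono {H K : Subgroup G} (hHK : H ≤ K) (h : Cfsg.RankLE k K) :
    Cfsg.RankLE k H :=
  rankLE_of_injective (Subgroup.inclusion hHK) (Subgroup.inclusion_injective hHK) h

theorem rankLE_congr {H : Type*} [Group H] (e : H ≃* G) :
    Cfsg.RankLE k H ↔ Cfsg.RankLE k G :=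
  ⟨rankLE_of_injective e.symm.toMonoidHom e.symm.injective,
    rankLE_of_injective e.toMonoidHom e.injective⟩

theorem rankLE_le {l : ℕ} (hkl : k ≤ l) (h : Cfsg.RankLE k G) : Cfsg.RankLE l G :=
  fun q hq => pRankLE_le hkl hq.pos (h q hq)

theorem not_rankLE {H : Type*} [Group H] (h : ¬ Cfsg.RankLE k H) :
    ∃ q : ℕ, q.Prime ∧ ¬ Cfsg.PRankLE q k H := by
  by_contra h1
  push Not at h1
  exact h h1

theorem not_rankLE_of_not_pRankLE {H : Type*} [Group H] {q : ℕ} (hq : q.Prime)
    (h : ¬ Cfsg.PRankLE q k H) : ¬ Cfsg.RankLE k H := fun h1 => h (h1 q hq)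

/-- A subgroup of rank more than `k` contains an elementary abelian subgroup of order `q ^ (k+1)`. -/
theorem exists_elemAb_of_not_rankLE {H : Subgroup G} (h : ¬ Cfsg.RankLE k H) :
    ∃ q : ℕ, q.Prime ∧ ∃ A : Subgroup G, A ≤ H ∧ Cfsg.IsElementaryAbelian q A ∧
      Nat.card A = q ^ (k + 1) := by
  obtain ⟨q, hq, h1⟩ := not_rankLE h
  have : Fact q.Prime := ⟨hq⟩
  exact ⟨q, hq, exists_elemAb_of_not_pRankLE h1⟩

theorem not_rankLE_of_elemAb {q : ℕ} (hq : q.Prime) {H A : Subgroup G} (hAH : A ≤ H)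
    (hA : Cfsg.IsElementaryAbelian q A) (hc : q ^ k < Nat.card A) : ¬ Cfsg.RankLE k H :=
  not_rankLE_of_not_pRankLE hq (not_pRankLE_of_elemAb hAH hA hc)

end Cfsg.Agent.OddOrderLocal.Rank
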