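import Mathlib
import Cfsg.Prelude.Def_OddOrderLocal
import Cfsg.Agent.OddOrderLocal.Rank
import Cfsg.Agent.S0127

/-!
For `p` odd, a finite `p`-group of `p`-rank at most `1` is cyclic; hence the Sylow `p`-subgroups of a finite
group of `p`-rank at most `1` are cyclic.
-/

set_option autoImplicit false

namespace Cfsg.Agent.OddOrderLocal.RankOneCyclic

open Subgroup

universe u

/-- For `p` odd, a finite `p`-group of `p`-rank at most one is cyclic. -/
theorem isCyclic_of_pRankLE_one {R : Type u} [Group R] [Finite R] {p : ℕ} [Fact p.Prime]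
    (hp : p ≠ 2) (hR : IsPGroup p R) (h : Cfsg.PRankLE p 1 R) : IsCyclic R := by
  have hpp : p.Prime := Fact.out
  suffices H : ∀ n : ℕ, ∀ (R : Type u) [Group R] [Finite R], IsPGroup p R → Cfsg.PRankLE p 1 R →
      Nat.card R = p ^ n → IsCyclic R by
    obtain ⟨n, hn⟩ := IsPGroup.iff_card.mp hR
    exact H n R hR h hn
  intro n
  induction n with
  | zero =>
    intro R _ _ _ _ hn
    rw [pow_zero] at hn
    have : Subsingleton R := (Nat.card_eq_one_iff_unique.mp hn).1
    infer_instance
  | succ n ih =>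
    intro R _ _ hR h hn
    by_contra hnc
    obtain ⟨C, hC⟩ := Sylow.exists_subgroup_card_pow_prime (G := R) p (n := n)
      (by rw [hn]; exact pow_dvd_pow p (Nat.le_succ n))
    have hCcyc : IsCyclic C :=
      ih C (hR.to_subgroup C) (Rank.pRankLE_subgroup h) hC
    have hCi : C.index = p := by
      have h1 := C.card_mul_index
      rw [hC, hn, pow_succ] at h1
      exact Nat.eq_of_mul_eq_mul_left (pow_pos hpp.pos n) h1
    obtain ⟨h1, h2⟩ := Cfsg.Agent.S0127.result hp hR hnc C hCcyc hCi
    have h3 := Rank.pRankLE_def.mp h _ h1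
    rw [h2, pow_one] at h3
    have h4 : p < p ^ 2 := by
      have := hpp.one_lt
      nlinarith
    omega

/-- For `p` odd, the Sylow `p`-subgroups of a group of `p`-rank at most one are cyclic. -/
theorem isCyclic_sylow_of_pRankLE_one {R : Type u} [Group R] [Finite R] {p : ℕ} [Fact p.Prime]
    (hp : p ≠ 2) (h : Cfsg.PRankLE p 1 R) (P : Sylow p R) : IsCyclic P :=
  isCyclic_of_pRankLE_one hp P.isPGroup' (Rank.pRankLE_subgroup h)

/-- For `p` odd, a `p`-subgroup of a subgroup of `p`-rank at most one is cyclic. -/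
theorem isCyclic_of_le_of_pRankLE_one {G : Type u} [Group G] [Finite G] {p : ℕ} [Fact p.Prime]
    (hp : p ≠ 2) {H P : Subgroup G} (hPH : P ≤ H) (hP : IsPGroup p P) (h : Cfsg.PRankLE p 1 H) :
    IsCyclic P :=
  isCyclic_of_pRankLE_one hp hP (Rank.pRankLE_mono hPH h)

/-- A cyclic group has `p`-rank at most one. -/
theorem pRankLE_one_of_isCyclic {R : Type u} [Group R] [Finite R] {p : ℕ} [Fact p.Prime]
    (h : IsCyclic R) : Cfsg.PRankLE p 1 R := by
  rw [Rank.pRankLE_def]
  intro A hA
  have hAc : IsCyclic A := inferInstance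
  obtain ⟨g, hg⟩ := hAc.exists_generator
  have h1 : orderOf g = Nat.card A := orderOf_eq_card_of_forall_mem_zpowers hg
  rw [← h1, pow_one]
  apply Nat.le_of_dvd (Fact.out : p.Prime).pos
  apply orderOf_dvd_of_pow_eq_one
  exact Subtype.ext (hA.2 g g.2)

end Cfsg.Agent.OddOrderLocal.RankOneCyclic
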