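import Mathlib
import Cfsg.Prelude.Def_OddOrderLocal

/-!
Basic facts on minimal simple groups of odd order: proper subgroups are solvable, normalizers of nontrivial
proper subgroups are proper, maximal subgroups are self-normalizing, conjugates of maximal subgroups are
maximal; elementary facts about subgroups lying in a unique maximal subgroup.
-/

set_option autoImplicit false

namespace Cfsg.Agent.OddOrderLocal.MinSimple

open Subgroup

variable {G : Type*} [Group G]

theorem isSimpleGroup (hG : Cfsg.IsMinSimpleOddOrder G) : IsSimpleGroup G := hG.2.1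

theorem not_comm (hG : Cfsg.IsMinSimpleOddOrder G) : ¬ IsMulCommutative G := hG.2.2.1

theorem odd_card (hG : Cfsg.IsMinSimpleOddOrder G) : Odd (Nat.card G) := hG.1

theorem isFinite (hG : Cfsg.IsMinSimpleOddOrder G) : Finite G := by
  have h : Nat.card G ≠ 0 := by
    intro h
    have := hG.1
    rw [h] at this
    exact (Nat.not_odd_zero) this
  exact Nat.finite_of_card_ne_zero h

theorem isSolvable (hG : Cfsg.IsMinSimpleOddOrder G) {H : Subgroup G} (hH : H ≠ ⊤) :
    Group.IsSolvable H := hG.2.2.2 H hH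

theorem odd_card_subgroup (hG : Cfsg.IsMinSimpleOddOrder G) (H : Subgroup G) :
    Odd (Nat.card H) :=
  Odd.of_dvd_nat hG.1 (Subgroup.card_subgroup_dvd_card H)

theorem not_isSolvable (hG : Cfsg.IsMinSimpleOddOrder G) : ¬ Group.IsSolvable G := by
  intro h
  have := isSimpleGroup hG
  apply not_comm hG
  have := (IsSimpleGroup.comm_iff_isSolvable (G := G)).mpr h
  exact ⟨⟨this⟩⟩

/-- Every prime divisor of the order of `G` is odd. -/
theorem ne_two_of_dvd (hG : Cfsg.IsMinSimpleOddOrder G) {p : ℕ} {H : Subgroup G}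
    (h : p ∣ Nat.card H) : p ≠ 2 := by
  rintro rfl
  have h1 := odd_card_subgroup hG H
  rw [← Nat.not_even_iff_odd] at h1
  exact h1 (even_iff_two_dvd.mpr h)

theorem eq_bot_or_eq_top_of_normal (hG : Cfsg.IsMinSimpleOddOrder G) {H : Subgroup G}
    (hH : H.Normal) : H = ⊥ ∨ H = ⊤ :=
  have := isSimpleGroup hG
  hH.eq_bot_or_eq_top

/-- The normalizer of a nontrivial proper subgroup is proper. -/
theorem normalizer_ne_top (hG : Cfsg.IsMinSimpleOddOrder G) {H : Subgroup G} (h1 : H ≠ ⊥)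
    (h2 : H ≠ ⊤) : Subgroup.normalizer (H : Set G) ≠ ⊤ := by
  intro h
  rcases eq_bot_or_eq_top_of_normal hG (Subgroup.normalizer_eq_top_iff.mp h) with h3 | h3
  · exact h1 h3
  · exact h2 h3

/-- A maximal subgroup is nontrivial. -/
theorem ne_bot_of_isCoatom (hG : Cfsg.IsMinSimpleOddOrder G) {M : Subgroup G}
    (hM : IsCoatom M) : M ≠ ⊥ := by
  rintro rfl
  apply not_isSolvable hG
  have := isSimpleGroup hG
  -- every nontrivial cyclic subgroup is everything, so `G` is cyclic
  obtain ⟨g, hg⟩ := exists_ne (1 : G)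
  have h1 : (⊥ : Subgroup G) < Subgroup.zpowers g := by
    rw [bot_lt_iff_ne_bot]
    rwa [Ne, Subgroup.zpowers_eq_bot]
  have h2 := hM.2 _ h1
  have : IsCyclic G := ⟨g, fun x => by
    have : x ∈ (⊤ : Subgroup G) := Subgroup.mem_top x
    rwa [← h2] at this⟩
  have hc : ∀ a b : G, a * b = b * a := by
    let _ : CommGroup G := IsCyclic.commGroup (α := G)
    exact fun a b => mul_comm a b
  exact Group.isSolvable_of_comm hc

/-- A maximal subgroup is its own normalizer. -/
theorem normalizer_of_isCoatom (hG : Cfsg.IsMinSimpleOddOrder G) {M : Subgroup G}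
    (hM : IsCoatom M) : Subgroup.normalizer (M : Set G) = M := by
  by_contra h
  have h1 : M < Subgroup.normalizer (M : Set G) :=
    lt_of_le_of_ne Subgroup.le_normalizer (Ne.symm h)
  exact normalizer_ne_top hG (ne_bot_of_isCoatom hG hM) hM.1 (hM.2 _ h1)

/-- Centralizers of nontrivial subgroups are proper. -/
theorem centralizer_ne_top (hG : Cfsg.IsMinSimpleOddOrder G) {X : Set G} {x : G} (hx : x ∈ X)
    (hx1 : x ≠ 1) : Subgroup.centralizer X ≠ ⊤ := by
  intro h
  have h1 : x ∈ Subgroup.center G := by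
    rw [Subgroup.mem_center_iff]
    intro g
    have hg : g ∈ Subgroup.centralizer X := h ▸ Subgroup.mem_top g
    exact (Subgroup.mem_centralizer_iff.mp hg x hx).symm
  rcases eq_bot_or_eq_top_of_normal hG (inferInstance : (Subgroup.center G).Normal) with h2 | h2
  · rw [h2, Subgroup.mem_bot] at h1
    exact hx1 h1
  · apply not_comm hG
    refine ⟨⟨fun a b => ?_⟩⟩
    have hb : b ∈ Subgroup.center G := h2 ▸ Subgroup.mem_top b
    exact (Subgroup.mem_center_iff.mp hb a)

theorem centralizer_subgroup_ne_top (hG : Cfsg.IsMinSimpleOddOrder G) {X : Subgroup G}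
    (hX : X ≠ ⊥) : Subgroup.centralizer (X : Set G) ≠ ⊤ := by
  obtain ⟨x, hx⟩ := Subgroup.ne_bot_iff_exists_ne_one.mp hX
  exact centralizer_ne_top hG (x := (x : G)) x.2 (fun h => hx (Subtype.ext h))

/-- Every proper subgroup lies in a maximal subgroup. -/
theorem exists_isCoatom_ge [Finite G] {H : Subgroup G} (hH : H ≠ ⊤) :
    ∃ M : Subgroup G, IsCoatom M ∧ H ≤ M := by
  rcases eq_top_or_exists_le_coatom H with h | ⟨M, hM, hHM⟩
  · exact absurd h hH
  · exact ⟨M, hM, hHM⟩

/-- Conjugates of maximal subgroups are maximal. -/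
theorem isCoatom_map_conj {M : Subgroup G} (hM : IsCoatom M) (g : G) :
    IsCoatom (M.map (MulAut.conj g).toMonoidHom) := by
  have := (OrderIso.isCoatom_iff (MulEquiv.mapSubgroup (MulAut.conj g)) M).mpr hM
  exact this

theorem mem_map_conj {H : Subgroup G} {g x : G} :
    x ∈ H.map (MulAut.conj g).toMonoidHom ↔ g⁻¹ * x * g ∈ H := by
  constructor
  · rintro ⟨y, hy, rfl⟩
    have h : g⁻¹ * (MulAut.conj g).toMonoidHom y * g = y := by
      simp only [MulEquiv.coe_toMonoidHom, MulAut.conj_apply]; group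
    rw [h]; exact hy
  · intro h
    refine ⟨g⁻¹ * x * g, h, ?_⟩
    simp only [MulEquiv.coe_toMonoidHom, MulAut.conj_apply]; group

/-- If `M` is maximal and `M ^ g = M` then `g ∈ M`. -/
theorem mem_of_map_conj_eq (hG : Cfsg.IsMinSimpleOddOrder G) {M : Subgroup G}
    (hM : IsCoatom M) {g : G} (h : M.map (MulAut.conj g).toMonoidHom = M) : g ∈ M := by
  rw [← normalizer_of_isCoatom hG hM, Subgroup.mem_normalizer_iff_map_conj_eq]
  exact h

/-! ### Uniqueness subgroups -/

theorem eq_of_inUniqueMaximal {H M L : Subgroup G} (h : Cfsg.InUniqueMaximal H)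
    (hM : IsCoatom M) (hHM : H ≤ M) (hL : IsCoatom L) (hHL : H ≤ L) : L = M :=
  h.unique ⟨hL, hHL⟩ ⟨hM, hHM⟩

theorem ne_top_of_inUniqueMaximal {H : Subgroup G} (h : Cfsg.InUniqueMaximal H) : H ≠ ⊤ := by
  obtain ⟨M, ⟨hM, hHM⟩, -⟩ := h
  rintro rfl
  exact hM.1 (top_le_iff.mp hHM)

/-- A proper overgroup of a uniqueness subgroup is a uniqueness subgroup. -/
theorem inUniqueMaximal_mono [Finite G] {H K : Subgroup G} (h : Cfsg.InUniqueMaximal H)
    (hHK : H ≤ K) (hK : K ≠ ⊤) : Cfsg.InUniqueMaximal K := by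
  obtain ⟨L, hL, hKL⟩ := exists_isCoatom_ge hK
  exact ⟨L, ⟨hL, hKL⟩, fun L' hL' =>
    eq_of_inUniqueMaximal h hL (hHK.trans hKL) hL'.1 (hHK.trans hL'.2)⟩

/-- A proper overgroup of a uniqueness subgroup of the maximal subgroup `M` lies in `M`. -/
theorem le_of_inUniqueMaximal [Finite G] {H K M : Subgroup G} (h : Cfsg.InUniqueMaximal H)
    (hM : IsCoatom M) (hHM : H ≤ M) (hHK : H ≤ K) (hK : K ≠ ⊤) : K ≤ M := by
  obtain ⟨L, hL, hKL⟩ := exists_isCoatom_ge hK
  have := eq_of_inUniqueMaximal h hM hHM hL (hHK.trans hKL)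
  rwa [← this]

/-- The normalizer of a (nontrivial) uniqueness subgroup of `M` lies in `M`. -/
theorem normalizer_le_of_inUniqueMaximal [Finite G] (hG : Cfsg.IsMinSimpleOddOrder G)
    {H M : Subgroup G} (h : Cfsg.InUniqueMaximal H) (h1 : H ≠ ⊥)
    (hM : IsCoatom M) (hHM : H ≤ M) : Subgroup.normalizer (H : Set G) ≤ M :=
  le_of_inUniqueMaximal h hM hHM Subgroup.le_normalizer
    (normalizer_ne_top hG h1 (ne_top_of_inUniqueMaximal h))

/-- Conjugates of uniqueness subgroups are uniqueness subgroups. -/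
theorem inUniqueMaximal_map_conj {H : Subgroup G} (h : Cfsg.InUniqueMaximal H) (g : G) :
    Cfsg.InUniqueMaximal (H.map (MulAut.conj g).toMonoidHom) := by
  obtain ⟨M, ⟨hM, hHM⟩, huniq⟩ := h
  refine ⟨M.map (MulAut.conj g).toMonoidHom, ⟨isCoatom_map_conj hM g, Subgroup.map_mono hHM⟩, ?_⟩
  rintro L ⟨hL, hHL⟩
  have h1 : IsCoatom (L.map (MulAut.conj g⁻¹).toMonoidHom) := isCoatom_map_conj hL g⁻¹
  have h2 : H ≤ L.map (MulAut.conj g⁻¹).toMonoidHom := by
    intro x hx
    rw [mem_map_conj]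
    have : (MulAut.conj g).toMonoidHom x ∈ L := hHL (Subgroup.mem_map_of_mem _ hx)
    simpa using this
  have h3 := huniq _ ⟨h1, h2⟩
  rw [← h3]
  ext x
  rw [mem_map_conj, mem_map_conj]
  have : g⁻¹⁻¹ * (g⁻¹ * x * g) * g⁻¹ = x := by group
  rw [this]

end Cfsg.Agent.OddOrderLocal.MinSimple
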