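import Mathlib
import Cfsg.Prelude.Def_OddOrderLocal
import Cfsg.Agent.OddOrderLocal.Rank
import Cfsg.Agent.Lib.NormalAbelian
import Cfsg.Agent.S0100

/-!
Existence of `SCN_3` subgroups in ambient-subgroup form.
-/

set_option autoImplicit false
set_option linter.style.haveILetI false
open Cfsg

namespace Cfsg.Agent.OddOrderLocal.ScnThree

variable {G : Type*} [Group G]

theorem isSCN_isMulCommutative {P A : Subgroup G} (h : IsSCN P A) : IsMulCommutative A := by
  rw [← Subgroup.le_centralizer_iff_isMulCommutative]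
  exact h.2.2.symm.le.trans inf_le_right

/-- A self-centralizing normal subgroup of `↥P`, viewed in `G`, is in `SCN(P)`. -/
theorem isSCN_map {P : Subgroup G} {A : Subgroup P} (hn : A.Normal)
    (hc : Subgroup.centralizer (A : Set P) = A) : IsSCN P (A.map P.subtype) := by
  refine ⟨Subgroup.map_subtype_le _, ?_, ?_⟩
  · intro x hx
    rw [Subgroup.mem_normalizer_iff]
    intro y
    constructor
    · rintro ⟨a, ha, rfl⟩
      exact ⟨⟨x, hx⟩ * a * ⟨x, hx⟩⁻¹, hn.conj_mem a ha ⟨x, hx⟩, rfl⟩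
    · rintro ⟨a, ha, h⟩
      refine ⟨⟨x, hx⟩⁻¹ * a * ⟨x, hx⟩, ?_, ?_⟩
      · have := hn.conj_mem a ha (⟨x, hx⟩ : P)⁻¹
        simpa using this
      · change x⁻¹ * (a : G) * x = y
        have h' : (a : G) = x * y * x⁻¹ := h
        rw [h']; group
  · apply le_antisymm
    · rintro x ⟨hxP, hxc⟩
      have h1 : (⟨x, hxP⟩ : P) ∈ Subgroup.centralizer (A : Set P) := by
        rw [Subgroup.mem_centralizer_iff]
        intro a ha
        apply Subtype.ext
        exact (Subgroup.mem_centralizer_iff.mp hxc) a ⟨a, ha, rfl⟩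
      rw [hc] at h1
      exact ⟨_, h1, rfl⟩
    · rintro _ ⟨a, ha, rfl⟩
      refine ⟨a.2, ?_⟩
      change (a : G) ∈ Subgroup.centralizer _
      rw [Subgroup.mem_centralizer_iff]
      rintro _ ⟨b, hb, rfl⟩
      have ha' : a ∈ Subgroup.centralizer (A : Set P) := by rw [hc]; exact ha
      have := (Subgroup.mem_centralizer_iff.mp ha') b hb
      exact congrArg Subtype.val this

/-- `SCN_3(P)` is nonempty for a `p`-group `P` of rank at least 3, `p` odd. -/
theorem exists_isSCN_three [Finite G] {p : ℕ} [Fact p.Prime] (hp : p ≠ 2) {P : Subgroup G}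
    (hP : IsPGroup p P) (hr : ¬ PRankLE p 2 P) : ∃ A : Subgroup G, IsSCN P A ∧ ¬ PRankLE p 2 A := by
  haveI : Group.IsNilpotent P := hP.isNilpotent
  have h1 : ∃ E : Subgroup P, E.Normal ∧ IsMulCommutative E ∧ (∀ a ∈ E, a ^ p = 1) ∧
      Nat.card E = p ^ 3 := by
    by_contra hcon
    push Not at hcon
    exact hr (fun E hE hEe => Cfsg.Agent.S0100.result hp hP
      (fun A h1 h2 h3 => hcon A h1 h2 h3) E hE hEe)
  obtain ⟨E, hEn, hEc, hEe, hE3⟩ := h1
  obtain ⟨A, hEA, hAn, hAc, hAA, -⟩ :=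
    Cfsg.Agent.Lib.NormalAbelian.exists_normal_abelian_selfCentralizing_ge E hEn hEc
  refine ⟨A.map P.subtype, isSCN_map hAn hAA, ?_⟩
  refine Rank.not_pRankLE_of_elemAb (A := E.map P.subtype) (Subgroup.map_mono hEA)
    (Rank.elemAb_map _ ⟨hEc, hEe⟩) ?_
  rw [Subgroup.card_map_of_injective P.subtype_injective, hE3]
  exact Nat.pow_lt_pow_right (Fact.out : p.Prime).one_lt (by norm_num)

end Cfsg.Agent.OddOrderLocal.ScnThree
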