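import Mathlib
import Cfsg.Prelude.Def_OddOrderLocal

/-!
Basic facts on `Cfsg.piCore` and `Cfsg.piCoreOf` (the `π`-core of a finite group / of a subgroup).
-/

set_option autoImplicit false
open Cfsg

namespace Cfsg.Agent.OddOrderLocal.PiCoreOf

universe u

variable {G : Type u} [Group G]

/-- The predicate "every prime divisor of the order lies in π". -/
def IsPi (π : Set ℕ) (H : Subgroup G) : Prop := ∀ p : ℕ, p.Prime → p ∣ Nat.card H → p ∈ π

theorem isPi_def (π : Set ℕ) (H : Subgroup G) :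
    IsPi π H ↔ ∀ p : ℕ, p.Prime → p ∣ Nat.card H → p ∈ π := Iff.rfl

theorem isPi_bot (π : Set ℕ) : IsPi π (⊥ : Subgroup G) := by
  intro p hp hd
  rw [Subgroup.card_bot] at hd
  exact absurd (Nat.dvd_one.mp hd) hp.one_lt.ne'

theorem isPi_mono {π : Set ℕ} {H K : Subgroup G} (hHK : H ≤ K) (hK : IsPi π K) : IsPi π H :=
  fun p hp hd => hK p hp (hd.trans (Subgroup.card_dvd_of_le hHK))

theorem isPi_of_card_eq {G' : Type*} [Group G'] {π : Set ℕ} {H : Subgroup G} {K : Subgroup G'}
    (h : Nat.card K = Nat.card H) (hH : IsPi π H) : ∀ p : ℕ, p.Prime → p ∣ Nat.card K → p ∈ π := by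
  intro p hp hd
  exact hH p hp (h ▸ hd)

theorem card_sup_dvd_of_normal (H N : Subgroup G) [N.Normal] :
    Nat.card ↥(H ⊔ N) ∣ Nat.card H * Nat.card N := by
  have h1 : Nat.card ↥(H ⊔ N) = Nat.card N * N.relIndex (H ⊔ N) := by
    have h := Subgroup.card_mul_index (N.subgroupOf (H ⊔ N))
    rw [← h]
    congr 1
    exact Nat.card_congr (Subgroup.subgroupOfEquivOfLe le_sup_right).toEquiv
  rw [h1, Subgroup.relIndex_sup_right, mul_comm]
  exact Nat.mul_dvd_mul_right (Subgroup.relIndex_dvd_card N H) _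

theorem isPi_sup_normal {π : Set ℕ} {H N : Subgroup G} [N.Normal] (hH : IsPi π H) (hN : IsPi π N) :
    IsPi π (H ⊔ N) := by
  intro p hp hd
  have h2 := hd.trans (card_sup_dvd_of_normal H N)
  rcases (Nat.Prime.dvd_mul hp).mp h2 with h | h
  · exact hH p hp h
  · exact hN p hp h

/-- `|H ⊔ N|` divides `|H| |N|` when `H` normalises `N`. -/
theorem card_sup_dvd_of_le_normalizer {H N : Subgroup G} (h : H ≤ Subgroup.normalizer (N : Set G)) :
    Nat.card ↥(H ⊔ N) ∣ Nat.card H * Nat.card N := by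
  have hsup : H ⊔ N ≤ Subgroup.normalizer (N : Set G) := sup_le h Subgroup.le_normalizer
  have : (N.subgroupOf (H ⊔ N)).Normal := by
    rw [Subgroup.normal_subgroupOf_iff_le_normalizer le_sup_right]
    exact hsup
  have h1 : H.subgroupOf (H ⊔ N) ⊔ N.subgroupOf (H ⊔ N) = ⊤ := by
    rw [← Subgroup.subgroupOf_sup le_sup_left le_sup_right, Subgroup.subgroupOf_self]
  have h2 := card_sup_dvd_of_normal (H.subgroupOf (H ⊔ N)) (N.subgroupOf (H ⊔ N))
  rw [h1, Subgroup.card_top,
    Nat.card_congr (Subgroup.subgroupOfEquivOfLe (le_sup_left : H ≤ H ⊔ N)).toEquiv,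
    Nat.card_congr (Subgroup.subgroupOfEquivOfLe (le_sup_right : N ≤ H ⊔ N)).toEquiv] at h2
  exact h2

theorem isPi_sup {π : Set ℕ} {H N : Subgroup G} (h : H ≤ Subgroup.normalizer (N : Set G))
    (hH : IsPi π H) (hN : IsPi π N) : IsPi π (H ⊔ N) := by
  intro p hp hd
  have h2 := hd.trans (card_sup_dvd_of_le_normalizer h)
  rcases (Nat.Prime.dvd_mul hp).mp h2 with h | h
  · exact hH p hp h
  · exact hN p hp h

/-- A normal `π`-subgroup lies in the `π`-core. -/
theorem le_piCore {π : Set ℕ} {N : Subgroup G} (hn : N.Normal) (hN : IsPi π N) : N ≤ piCore π G :=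
  le_sSup ⟨hn, hN⟩

/-- In a finite group the `π`-core is a `π`-group. -/
theorem piCore_isPi [Finite G] (π : Set ℕ) : IsPi π (piCore π G) := by
  classical
  have hfin : (({N : Subgroup G | N.Normal ∧ ∀ p : ℕ, p.Prime → p ∣ Nat.card N → p ∈ π})).Finite :=
    Set.toFinite _
  obtain ⟨M, hM⟩ := hfin.exists_maximal ⟨⊥, Subgroup.normal_bot, isPi_bot π⟩
  have hMn : M.Normal := hM.prop.1
  have hMπ : IsPi π M := hM.prop.2
  have hle : piCore π G ≤ M := by
    refine sSup_le ?_
    rintro N ⟨hNn, hNπ⟩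
    have hmem : N ⊔ M ∈ {N : Subgroup G | N.Normal ∧ ∀ p : ℕ, p.Prime → p ∣ Nat.card N → p ∈ π} :=
      ⟨Subgroup.sup_normal N M, isPi_sup_normal hNπ hMπ⟩
    exact le_sup_left.trans (hM.le_of_ge hmem le_sup_right)
  exact isPi_mono hle hMπ

theorem isPi_map {G' : Type*} [Group G'] {π : Set ℕ} {H : Subgroup G} (hH : IsPi π H) (f : G →* G') :
    IsPi π (H.map f) :=
  fun p hp hd => hH p hp (hd.trans (Subgroup.card_map_dvd H f))

theorem isPi_subgroupOf {π : Set ℕ} {N X : Subgroup G} (hN : IsPi π N) :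
    IsPi π (N.subgroupOf X) := by
  intro p hp hd
  refine hN p hp (hd.trans ?_)
  have h : Nat.card ↥(N.subgroupOf X) = Nat.card ↥((N.subgroupOf X).map X.subtype) :=
    (Subgroup.card_map_of_injective (Subgroup.subtype_injective X)).symm
  rw [h, Subgroup.subgroupOf_map_subtype]
  exact Subgroup.card_dvd_of_le inf_le_left

instance piCore_characteristic (π : Set ℕ) : (piCore π G).Characteristic := by
  rw [Subgroup.characteristic_iff_map_le]
  intro φ
  rw [Subgroup.map_le_iff_le_comap]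
  refine sSup_le ?_
  rintro N ⟨hNn, hNπ⟩
  rw [← Subgroup.map_le_iff_le_comap]
  refine le_piCore (hNn.map φ.toMonoidHom φ.surjective) ?_
  exact isPi_map hNπ _

/-! ### `piCoreOf` -/

theorem piCoreOf_le (π : Set ℕ) (X : Subgroup G) : piCoreOf π X ≤ X :=
  Subgroup.map_subtype_le _

theorem piCoreOf_isPi [Finite G] (π : Set ℕ) (X : Subgroup G) : IsPi π (piCoreOf π X) :=
  isPi_map (piCore_isPi π) _

/-- a `π`-subgroup of `X` normalised by `X` lies in `O_π(X)` -/
theorem le_piCoreOf {π : Set ℕ} {N X : Subgroup G} (hNX : N ≤ X)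
    (hn : X ≤ Subgroup.normalizer (N : Set G)) (hN : IsPi π N) : N ≤ piCoreOf π X := by
  have h1 : N.subgroupOf X ≤ piCore π X := by
    refine le_piCore ?_ (isPi_subgroupOf hN)
    rw [Subgroup.normal_subgroupOf_iff_le_normalizer hNX]
    exact hn
  have h2 := Subgroup.map_mono (f := X.subtype) h1
  rwa [Subgroup.map_subgroupOf_eq_of_le hNX] at h2

/-- `g` normalises `H` iff conjugation by `g` maps `H` onto `H` -/
theorem mem_normalizer_iff_conj {H : Subgroup G} {g : G} :
    g ∈ Subgroup.normalizer (H : Set G) ↔ H.map (MulAut.conj g).toMonoidHom = H :=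
  Subgroup.mem_normalizer_iff_map_conj_eq

theorem conj_mem_normalizer_of_forall_map_le {H X : Subgroup G}
    (h : ∀ g ∈ X, H.map (MulAut.conj g).toMonoidHom ≤ H) : X ≤ Subgroup.normalizer (H : Set G) := by
  intro g hg
  rw [Subgroup.mem_normalizer_iff]
  intro x
  constructor
  · intro hx
    have := h g hg (Subgroup.mem_map_of_mem _ hx)
    simpa using this
  · intro hx
    have := h g⁻¹ (inv_mem hg) (Subgroup.mem_map_of_mem _ hx)
    simpa [mul_assoc] using this

/-- `O_π(X)` is normalised by `N_G(X)`. -/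
theorem normalizer_le_normalizer_piCoreOf [Finite G] (π : Set ℕ) (X : Subgroup G) :
    Subgroup.normalizer (X : Set G) ≤ Subgroup.normalizer (piCoreOf π X : Set G) := by
  apply conj_mem_normalizer_of_forall_map_le
  intro g hg
  have hgX : X.map (MulAut.conj g).toMonoidHom = X := mem_normalizer_iff_conj.mp hg
  have hXn : X ≤ Subgroup.normalizer (piCoreOf π X : Set G) := by
    have h1 : (piCore π X) = (piCoreOf π X).subgroupOf X :=
      (Subgroup.comap_map_eq_self_of_injective (Subgroup.subtype_injective X) _).symm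
    rw [← Subgroup.normal_subgroupOf_iff_le_normalizer (piCoreOf_le π X), ← h1]
    infer_instance
  refine le_piCoreOf ?_ ?_ (isPi_map (piCoreOf_isPi π X) _)
  · calc (piCoreOf π X).map (MulAut.conj g).toMonoidHom ≤ X.map (MulAut.conj g).toMonoidHom :=
          Subgroup.map_mono (piCoreOf_le π X)
      _ = X := hgX
  · calc X = X.map (MulAut.conj g).toMonoidHom := hgX.symm
      _ ≤ (Subgroup.normalizer (piCoreOf π X : Set G)).map (MulAut.conj g).toMonoidHom :=
          Subgroup.map_mono hXn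
      _ = Subgroup.normalizer ((piCoreOf π X).map (MulAut.conj g).toMonoidHom : Set G) :=
          Subgroup.map_equiv_normalizer_eq _ _

/-- `X` normalises `O_π(X)`. -/
theorem le_normalizer_piCoreOf [Finite G] (π : Set ℕ) (X : Subgroup G) :
    X ≤ Subgroup.normalizer (piCoreOf π X : Set G) :=
  Subgroup.le_normalizer.trans (normalizer_le_normalizer_piCoreOf π X)

/-- If `Y ≤ N_G(X)` contains `O_π(X)`, then `O_π(X) ≤ O_π(Y)`. -/
theorem piCoreOf_le_piCoreOf [Finite G] {π : Set ℕ} {X Y : Subgroup G}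
    (hY : Y ≤ Subgroup.normalizer (X : Set G)) (hXY : piCoreOf π X ≤ Y) :
    piCoreOf π X ≤ piCoreOf π Y :=
  le_piCoreOf hXY (hY.trans (normalizer_le_normalizer_piCoreOf π X)) (piCoreOf_isPi π X)

/-- `IsPi (primesNotDvd n)` means coprime to `n`. -/
theorem coprime_of_isPi_primesNotDvd [Finite G] {n : ℕ} {H : Subgroup G}
    (h : IsPi (primesNotDvd n) H) : (Nat.card H).Coprime n :=
  Nat.Coprime.symm (Nat.coprime_of_dvd' fun p hp hpn hpH => absurd hpn (h p hp hpH).2)

theorem isPi_primesNotDvd_iff [Finite G] {n : ℕ} (H : Subgroup G) :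
    IsPi (primesNotDvd n) H ↔ (Nat.card H).Coprime n := by
  refine ⟨coprime_of_isPi_primesNotDvd, fun h p hp hd => ⟨hp, fun hn => ?_⟩⟩
  exact hp.one_lt.ne' (Nat.dvd_one.mp (h ▸ Nat.dvd_gcd hd hn))

theorem isPi_singleton_iff [Finite G] {q : ℕ} (hq : q.Prime) (H : Subgroup G) :
    IsPi {q} H ↔ IsPGroup q H := by
  have := Fact.mk hq
  constructor
  · intro h
    rw [IsPGroup.iff_card]
    exact ⟨_, Nat.eq_prime_pow_of_unique_prime_dvd Nat.card_pos.ne' fun {d} hd hdd => h d hd hdd⟩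
  · intro h p hp hd
    obtain ⟨n, hn⟩ := (IsPGroup.iff_card).mp h
    rw [hn] at hd
    exact (Nat.prime_dvd_prime_iff_eq hp hq).mp (hp.dvd_of_dvd_pow hd)

end Cfsg.Agent.OddOrderLocal.PiCoreOf
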