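import Mathlib
import Cfsg.Prelude.Def_Solvable
import Cfsg.Agent.OddOrderLocal.BaerSuzukiSolvable
import Cfsg.Agent.OddOrderLocal.QuadOdd

/-!
# `p`-stability of solvable groups of odd order: the action form
-/

set_option autoImplicit false

namespace Cfsg.Agent.OddOrderLocal.PStableOdd

open Subgroup

/-- The elements of the centre of `E` of order dividing `p`. -/
def omegaCenter (p : ℕ) (E : Type*) [Group E] : Subgroup E where
  carrier := {z | z ∈ center E ∧ z ^ p = 1}
  one_mem' := ⟨one_mem _, one_pow _⟩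
  mul_mem' := by
    rintro a b ⟨ha, ha'⟩ ⟨hb, hb'⟩
    refine ⟨mul_mem ha hb, ?_⟩
    have h : Commute a b := mem_center_iff.mp hb a
    rw [h.mul_pow, ha', hb', one_mul]
  inv_mem' := by
    rintro a ⟨ha, ha'⟩
    exact ⟨inv_mem ha, by rw [inv_pow, ha', inv_one]⟩

theorem mem_omegaCenter {p : ℕ} {E : Type*} [Group E] {z : E} :
    z ∈ omegaCenter p E ↔ z ∈ center E ∧ z ^ p = 1 := Iff.rfl

/-- `omegaCenter p E` is commutative. -/
abbrev omegaCenterCommGroup (p : ℕ) (E : Type*) [Group E] : CommGroup (omegaCenter p E) :=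
  { (inferInstance : Group (omegaCenter p E)) with
    mul_comm := fun a b => Subtype.ext (mem_center_iff.mp b.2.1 a) }

theorem end_mul_apply {E : Type*} [Group E] (f g : Monoid.End E) (e : E) :
    (f * g) e = f (g e) := rfl

theorem end_one_apply {E : Type*} [Group E] (e : E) : (1 : Monoid.End E) e = e := rfl

theorem apply_inv_apply {G E : Type*} [Group G] [Group E] (φ : G →* Monoid.End E) (g : G) (e : E) :
    φ g⁻¹ (φ g e) = e := by
  rw [← end_mul_apply, ← map_mul, inv_mul_cancel, map_one, end_one_apply]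

theorem apply_apply_inv {G E : Type*} [Group G] [Group E] (φ : G →* Monoid.End E) (g : G) (e : E) :
    φ g (φ g⁻¹ e) = e := by
  rw [← end_mul_apply, ← map_mul, mul_inv_cancel, map_one, end_one_apply]

theorem apply_mem_omegaCenter {p : ℕ} {G E : Type*} [Group G] [Group E] (φ : G →* Monoid.End E)
    (g : G) {z : E} (hz : z ∈ omegaCenter p E) : φ g z ∈ omegaCenter p E := by
  refine ⟨?_, ?_⟩
  · rw [mem_center_iff]
    intro e
    have h1 := mem_center_iff.mp hz.1 (φ g⁻¹ e)
    have h2 := congrArg (φ g) h1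
    rwa [map_mul, map_mul, apply_apply_inv] at h2
  · rw [← map_pow, hz.2, map_one]

/-- Two quadratically acting elements generating a solvable group of odd order fix a nonzero
vector of a space over the prime field. -/
theorem exists_fixed_zmod {G : Type*} [Group G] [Finite G] [Group.IsSolvable G]
    (hodd : Odd (Nat.card G)) {p : ℕ} [hp : Fact p.Prime] {x y : G}
    (hxy : Subgroup.closure {x, y} = ⊤) {V : Type*} [AddCommGroup V] [Module (ZMod p) V]
    [Finite V] [Nontrivial V] (ψ : G →* AddMonoid.End V)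
    (hx : ∀ e, ψ x (ψ x e - e) = ψ x e - e) (hy : ∀ e, ψ y (ψ y e - e) = ψ y e - e) :
    ∃ z : V, z ≠ 0 ∧ ψ x z = z ∧ ψ y z = z := by
  have hfd : FiniteDimensional (ZMod p) V := Module.Finite.of_finite
  let ρ : G →* Module.End (ZMod p) V :=
    { toFun := fun g => (ψ g : V →+ V).toZModLinearMap p
      map_one' := by
        apply LinearMap.ext
        intro v
        show ψ 1 v = v
        rw [map_one]; rfl
      map_mul' := by
        intro a b
        apply LinearMap.ext
        intro v
        show ψ (a * b) v = ψ a (ψ b v)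
        rw [map_mul]; rfl }
  have hρ : ∀ g (v : V), ρ g v = ψ g v := fun g v => rfl
  have hquad : ∀ g : G, (∀ e, ψ g (ψ g e - e) = ψ g e - e) → (ρ g - 1) ^ 2 = 0 := by
    intro g hg
    apply LinearMap.ext
    intro v
    rw [pow_two, Module.End.mul_apply, LinearMap.zero_apply, LinearMap.sub_apply,
      LinearMap.sub_apply, Module.End.one_apply, Module.End.one_apply, sub_eq_zero, hρ, hρ]
    exact hg v
  exact QuadOdd.exists_fixed_vector hodd ρ hxy (hquad x hx) (hquad y hy)

/-- Two quadratically acting elements generating a solvable group of odd order fix a nontrivial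
element of an abelian group of exponent `p`. -/
theorem exists_fixed_comm {G : Type*} [Group G] [Finite G] [Group.IsSolvable G]
    (hodd : Odd (Nat.card G)) {p : ℕ} [hp : Fact p.Prime] {x y : G}
    (hxy : Subgroup.closure {x, y} = ⊤) {Z : Type*} [CommGroup Z] [Finite Z] [Nontrivial Z]
    (hZ : ∀ z : Z, z ^ p = 1) (φ : G →* Monoid.End Z)
    (hx : ∀ e, φ x (e⁻¹ * φ x e) = e⁻¹ * φ x e) (hy : ∀ e, φ y (e⁻¹ * φ y e) = e⁻¹ * φ y e) :
    ∃ z : Z, z ≠ 1 ∧ φ x z = z ∧ φ y z = z := by
  let _ : Module (ZMod p) (Additive Z) := AddCommGroup.zmodModule (n := p) (by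
    intro v
    apply Additive.toMul.injective
    exact hZ (Additive.toMul v))
  let ψ : G →* AddMonoid.End (Additive Z) :=
    { toFun := fun g => MonoidHom.toAdditive (φ g : Z →* Z)
      map_one' := by
        apply AddMonoidHom.ext
        intro v
        apply Additive.toMul.injective
        show φ 1 (Additive.toMul v) = Additive.toMul v
        rw [map_one]; rfl
      map_mul' := by
        intro a b
        apply AddMonoidHom.ext
        intro v
        apply Additive.toMul.injective
        show φ (a * b) (Additive.toMul v) = φ a (φ b (Additive.toMul v))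
        rw [map_mul]; rfl }
  have hq : ∀ g : G, (∀ e, φ g (e⁻¹ * φ g e) = e⁻¹ * φ g e) →
      ∀ e, ψ g (ψ g e - e) = ψ g e - e := by
    intro g hg e
    apply Additive.toMul.injective
    have h1 : Additive.toMul (ψ g e - e) = (Additive.toMul e)⁻¹ * φ g (Additive.toMul e) := by
      rw [sub_eq_neg_add]
      rfl
    rw [h1, ← hg, ← h1]
    rfl
  obtain ⟨v, hv, h1, h2⟩ := exists_fixed_zmod (p := p) hodd hxy ψ (hq x hx) (hq y hy)
  exact ⟨Additive.toMul v, fun h => hv (Additive.toMul.injective h),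
    congrArg Additive.toMul h1, congrArg Additive.toMul h2⟩

/-- Two quadratically acting elements generating a solvable group of odd order fix a nontrivial
central element of order `p` of a nontrivial `p`-group. -/
theorem exists_central_fixed {G : Type*} [Group G] [Finite G] [Group.IsSolvable G]
    (hodd : Odd (Nat.card G)) {p : ℕ} [hp : Fact p.Prime] {x y : G}
    (hxy : Subgroup.closure {x, y} = ⊤) {E : Type*} [Group E] [Finite E] [Nontrivial E]
    (hE : IsPGroup p E) (φ : G →* Monoid.End E)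
    (hx : ∀ e, φ x (e⁻¹ * φ x e) = e⁻¹ * φ x e) (hy : ∀ e, φ y (e⁻¹ * φ y e) = e⁻¹ * φ y e) :
    ∃ z : E, z ≠ 1 ∧ z ∈ omegaCenter p E ∧ φ x z = z ∧ φ y z = z := by
  have hnt : Nontrivial (omegaCenter p E) := by
    have hc : Nontrivial (center E) := hE.center_nontrivial
    have hcp : IsPGroup p (center E) := hE.to_subgroup _
    obtain ⟨n, hn⟩ := (IsPGroup.iff_card).mp hcp
    have hn0 : n ≠ 0 := by
      rintro rfl
      rw [pow_zero] at hn
      exact absurd hn (Finite.one_lt_card_iff_nontrivial.mpr hc).ne'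
    obtain ⟨z, hz⟩ := exists_prime_orderOf_dvd_card' (G := center E) p
      (by rw [hn]; exact dvd_pow_self p hn0)
    have hz1 : (z : E) ≠ 1 := by
      intro h
      have : z = 1 := Subtype.ext h
      rw [this, orderOf_one] at hz
      exact hp.out.one_lt.ne hz
    have hz2 : (z : E) ^ p = 1 := by
      have := pow_orderOf_eq_one z
      rw [hz] at this
      simpa using congrArg Subtype.val this
    refine ⟨⟨z, z.2, hz2⟩, 1, ?_⟩
    intro h
    exact hz1 (congrArg Subtype.val h)
  let _ := omegaCenterCommGroup p E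
  let φ' : G →* Monoid.End (omegaCenter p E) :=
    { toFun := fun g => (((φ g : E →* E).comp (omegaCenter p E).subtype).codRestrict
        (omegaCenter p E) (fun z => apply_mem_omegaCenter φ g z.2))
      map_one' := by
        apply MonoidHom.ext
        intro z
        apply Subtype.ext
        show φ 1 (z : E) = z
        rw [map_one]; rfl
      map_mul' := by
        intro a b
        apply MonoidHom.ext
        intro z
        apply Subtype.ext
        show φ (a * b) (z : E) = φ a (φ b (z : E))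
        rw [map_mul]; rfl }
  obtain ⟨z, hz, h1, h2⟩ := exists_fixed_comm hodd hxy (Z := omegaCenter p E)
    (fun z => Subtype.ext z.2.2) φ' (fun e => Subtype.ext (hx e)) (fun e => Subtype.ext (hy e))
  exact ⟨z, fun h => hz (Subtype.ext h), z.2, congrArg Subtype.val h1, congrArg Subtype.val h2⟩

/-- Two quadratically acting elements generating a solvable group of odd order: modulo the kernel
of the action on the `p`-group `E`, this is a `p`-group. -/
theorem exists_pow_eq_one {G : Type*} [Group G] [Finite G] [Group.IsSolvable G]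
    (hodd : Odd (Nat.card G)) {p : ℕ} [hp : Fact p.Prime] {x y : G}
    (hxy : Subgroup.closure {x, y} = ⊤) {E : Type*} [Group E] [Finite E]
    (hE : IsPGroup p E) (φ : G →* Monoid.End E)
    (hx : ∀ e, φ x (e⁻¹ * φ x e) = e⁻¹ * φ x e) (hy : ∀ e, φ y (e⁻¹ * φ y e) = e⁻¹ * φ y e)
    (g : G) : ∃ k, φ (g ^ p ^ k) = 1 := by
  revert hE φ
  refine Cfsg.Agent.Lib.SolvableNormalP.card_strong_induction
    (motive := fun E _ _ => ∀ (_ : IsPGroup p E) (φ : G →* Monoid.End E)
      (_ : ∀ e, φ x (e⁻¹ * φ x e) = e⁻¹ * φ x e) (_ : ∀ e, φ y (e⁻¹ * φ y e) = e⁻¹ * φ y e),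
      ∃ k, φ (g ^ p ^ k) = 1) ?_ E
  intro E _ _ IH hE φ hx hy
  rcases subsingleton_or_nontrivial E with hsub | hnt
  · exact ⟨0, MonoidHom.ext fun e => Subsingleton.elim _ _⟩
  obtain ⟨z, hz1, hz, hzx, hzy⟩ := exists_central_fixed hodd hxy hE φ hx hy
  have hzg : ∀ g : G, φ g z = z := by
    intro g
    have hg : g ∈ Subgroup.closure {x, y} := by rw [hxy]; exact mem_top g
    induction hg using Subgroup.closure_induction with
    | mem t ht =>
      rcases ht with rfl | ht
      · exact hzx
      · rw [Set.mem_singleton_iff] at ht; subst ht; exact hzy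
    | one => rw [map_one]; rfl
    | mul a b _ _ iha ihb => rw [map_mul, end_mul_apply, ihb, iha]
    | inv a _ iha =>
      have := apply_inv_apply φ a z
      rwa [iha] at this
  have hzgN : ∀ g : G, ∀ n ∈ zpowers z, φ g n = n := by
    intro g n hn
    obtain ⟨i, rfl⟩ := mem_zpowers_iff.mp hn
    rw [map_zpow, hzg]
  have hcen : ∀ n ∈ zpowers z, n ∈ center E := fun n hn => by
    obtain ⟨i, rfl⟩ := mem_zpowers_iff.mp hn
    exact zpow_mem hz.1 i
  have hNn : (zpowers z).Normal := by
    refine ⟨fun n hn g => ?_⟩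
    have h1 := mem_center_iff.mp (hcen n hn) g
    rw [h1, mul_inv_cancel_right]
    exact hn
  have hle : ∀ g : G, zpowers z ≤ (zpowers z).comap (φ g : E →* E) := fun g n hn => by
    show φ g n ∈ zpowers z
    rw [hzgN g n hn]; exact hn
  let φ' : G →* Monoid.End (E ⧸ zpowers z) :=
    { toFun := fun g => QuotientGroup.map (zpowers z) (zpowers z) (φ g : E →* E) (hle g)
      map_one' := by
        apply MonoidHom.ext
        intro e
        obtain ⟨e, rfl⟩ := QuotientGroup.mk_surjective e
        show ((φ 1 e : E) : E ⧸ zpowers z) = (e : E ⧸ zpowers z)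
        rw [map_one]; rfl
      map_mul' := by
        intro a b
        apply MonoidHom.ext
        intro e
        obtain ⟨e, rfl⟩ := QuotientGroup.mk_surjective e
        show ((φ (a * b) e : E) : E ⧸ zpowers z) = ((φ a (φ b e) : E) : E ⧸ zpowers z)
        rw [map_mul]; rfl }
  have hφ' : ∀ g (e : E), φ' g (e : E ⧸ zpowers z) = ((φ g e : E) : E ⧸ zpowers z) :=
    fun g e => rfl
  have hq : ∀ t : G, (∀ e, φ t (e⁻¹ * φ t e) = e⁻¹ * φ t e) →
      ∀ e, φ' t (e⁻¹ * φ' t e) = e⁻¹ * φ' t e := by
    intro t ht e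
    obtain ⟨e, rfl⟩ := QuotientGroup.mk_surjective e
    rw [hφ', ← QuotientGroup.mk_inv, ← QuotientGroup.mk_mul, hφ', ht]
  have hNne : zpowers z ≠ ⊥ := fun h => hz1 (zpowers_eq_bot.mp h)
  obtain ⟨k, hk⟩ := IH (E ⧸ zpowers z) (Cfsg.Agent.Lib.SolvableNormalP.card_quotient_lt hNne)
    (hE.to_quotient _) φ' (hq x hx) (hq y hy)
  refine ⟨k + 1, ?_⟩
  have hp1 : g ^ p ^ (k + 1) = (g ^ p ^ k) ^ p := by rw [← pow_mul, pow_succ]
  rw [hp1]
  set h := g ^ p ^ k with hh
  apply MonoidHom.ext
  intro e
  have h1 : φ' h (e : E ⧸ zpowers z) = (e : E ⧸ zpowers z) := by rw [hk]; rfl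
  rw [hφ', eq_comm, QuotientGroup.eq] at h1
  set n := e⁻¹ * φ h e with hn
  have he : φ h e = e * n := by rw [hn, mul_inv_cancel_left]
  have hpow : ∀ j : ℕ, φ (h ^ j) e = e * n ^ j := by
    intro j
    induction j with
    | zero => rw [pow_zero, pow_zero, map_one, mul_one]; rfl
    | succ j ih =>
      rw [pow_succ', map_mul, end_mul_apply, ih, map_mul, he, map_pow, hzgN h n h1,
        mul_assoc, pow_succ']
  have hnp : n ^ p = 1 := by
    obtain ⟨i, hi⟩ := mem_zpowers_iff.mp h1
    rw [← hi, ← zpow_natCast, ← zpow_mul, mul_comm, zpow_mul, zpow_natCast, hz.2, one_zpow]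
  have := hpow p
  rw [hnp, mul_one] at this
  exact this

/-- The endomorphism underlying an automorphism. -/
def autToEnd (E : Type*) [Group E] : MulAut E →* Monoid.End E where
  toFun f := f.toMonoidHom
  map_one' := rfl
  map_mul' _ _ := rfl

/-- `p`-stability of solvable groups of odd order, action form. -/
theorem mk_mem_pCore_of_quadratic {G : Type*} [Group G] [Finite G] [Group.IsSolvable G]
    (hodd : Odd (Nat.card G)) {p : ℕ} [Fact p.Prime] {E : Type*} [Group E] [Finite E]
    (hE : IsPGroup p E) (φ : G →* MulAut E) (C : Subgroup G) [C.Normal]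
    (hC : ∀ g, g ∈ C ↔ φ g = 1) (x : G)
    (hx : ∀ e, φ x (e⁻¹ * φ x e) = e⁻¹ * φ x e) :
    (QuotientGroup.mk x : G ⧸ C) ∈ Cfsg.pCore p (G ⧸ C) := by
  apply BaerSuzukiSolvable.mem_pCore_of_solvable
  intro g
  obtain ⟨g, rfl⟩ := QuotientGroup.mk_surjective g
  set y := g * x * g⁻¹ with hyd
  have hy : ∀ e, φ y (e⁻¹ * φ y e) = e⁻¹ * φ y e := by
    intro e
    obtain ⟨f, rfl⟩ : ∃ f, e = φ g f := ⟨(φ g).symm e, ((φ g).apply_symm_apply e).symm⟩
    have h1 : ∀ f, φ y (φ g f) = φ g (φ x f) := by
      intro f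
      rw [← MulAut.mul_apply, ← MulAut.mul_apply, ← map_mul, ← map_mul, hyd, inv_mul_cancel_right]
    rw [h1, ← map_inv, ← map_mul, h1, hx]
  set D := Subgroup.closure {x, y} with hD
  have hxD : x ∈ D := subset_closure (Set.mem_insert _ _)
  have hyD : y ∈ D := subset_closure (Set.mem_insert_of_mem _ rfl)
  have hgen : Subgroup.closure {(⟨x, hxD⟩ : D), (⟨y, hyD⟩ : D)} = ⊤ := by
    have h1 := Subgroup.closure_closure_coe_preimage (k := {x, y})
    have h2 : ((↑) ⁻¹' {x, y} : Set (Subgroup.closure {x, y})) =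
        {(⟨x, hxD⟩ : D), (⟨y, hyD⟩ : D)} := by
      ext t
      simp only [Set.mem_preimage, Set.mem_insert_iff, Set.mem_singleton_iff, Subtype.ext_iff]
    rwa [h2] at h1
  have hDodd : Odd (Nat.card D) := Odd.of_dvd_nat hodd D.card_subgroup_dvd_card
  have hpow : ∀ d ∈ D, ∃ k, d ^ p ^ k ∈ C := by
    intro d hd
    obtain ⟨k, hk⟩ := exists_pow_eq_one hDodd hgen hE
      (((autToEnd E).comp φ).comp D.subtype) hx hy ⟨d, hd⟩
    refine ⟨k, (hC _).mpr ?_⟩
    apply MulEquiv.ext
    intro e
    exact DFunLike.congr_fun hk e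
  have hmap : Subgroup.closure {(x : G ⧸ C), (g : G ⧸ C) * (x : G ⧸ C) * (g : G ⧸ C)⁻¹} =
      D.map (QuotientGroup.mk' C) := by
    rw [hD, MonoidHom.map_closure, Set.image_pair]; rfl
  rw [hmap]
  rintro ⟨_, d, hd, rfl⟩
  obtain ⟨k, hk⟩ := hpow d hd
  refine ⟨k, Subtype.ext ?_⟩
  show (QuotientGroup.mk' C d) ^ p ^ k = 1
  rw [← map_pow, QuotientGroup.mk'_apply]
  exact (QuotientGroup.eq_one_iff _).mpr hk

end Cfsg.Agent.OddOrderLocal.PStableOdd
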