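import Mathlib
import Cfsg.Prelude.Def_CaseTheorems
import Cfsg.Agent.Lib.CoprimeStab
import Cfsg.Agent.Lib.FrattiniPGroup
import Cfsg.Agent.S0093
import Cfsg.Agent.S0121

set_option autoImplicit false

/-!
For odd `p`, a finite `p`-group `R` has a characteristic subgroup `H` of exponent `p` and class at most
two on which every nontrivial `p'`-automorphism of `R` acts nontrivially.  If `R` has `p`-rank at most two
then the abelianization of `H` has order at most `p ^ 2`.
-/

namespace Cfsg.Agent.OddOrderLocal.OmegaCritical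

open Subgroup
open scoped commutatorElement

/-- If a `p'`-automorphism `a` of a finite `p`-group fixes `x⁻¹ * a x`, then it fixes `x`. -/
theorem fix_of_fix_div {G : Type*} [Group G] {p : ℕ} (hG : IsPGroup p G)
    (a : MulAut G) (ha : (orderOf a).Coprime p) (x : G) (hz : a (x⁻¹ * a x) = x⁻¹ * a x) :
    a x = x := by
  set z : G := x⁻¹ * a x with hzdef
  have hax : a x = x * z := by rw [hzdef]; group
  have key : ∀ n : ℕ, (a ^ n) x = x * z ^ n := by
    intro n
    induction n with
    | zero => simp
    | succ n ih =>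
      rw [pow_succ', MulAut.mul_apply, ih, map_mul, map_pow, hz, hax, pow_succ', mul_assoc]
  have h7 := key (orderOf a)
  rw [pow_orderOf_eq_one, MulAut.one_apply] at h7
  have h8 : z ^ orderOf a = 1 := by
    have : x * 1 = x * z ^ orderOf a := by rw [mul_one]; exact h7
    exact (mul_left_cancel this).symm
  obtain ⟨k, hk⟩ := hG z
  have h9 : orderOf z ∣ orderOf a := orderOf_dvd_of_pow_eq_one h8
  have h10 : orderOf z ∣ p ^ k := orderOf_dvd_of_pow_eq_one hk
  have h11 : orderOf z ∣ 1 := by
    have hc : Nat.Coprime (orderOf a) (p ^ k) := Nat.Coprime.pow_right k ha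
    rw [← hc]
    exact Nat.dvd_gcd h9 h10
  have h12 : z = 1 := by
    rw [← orderOf_eq_one_iff]
    exact Nat.dvd_one.mp h11
  rw [hax, h12, mul_one]

/-- For odd `p` a finite `p`-group has a characteristic subgroup of exponent `p` and class at most `2` on
which every nontrivial `p'`-automorphism acts nontrivially. -/
theorem exists_omega_critical {R : Type*} [Group R] [Finite R] {p : ℕ} [hpf : Fact p.Prime]
    (hp : p ≠ 2) (hR : IsPGroup p R) :
    ∃ H : Subgroup R, H.Characteristic ∧ (∀ x ∈ H, x ^ p = 1) ∧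
      (∀ x ∈ H, ∀ y ∈ H, ∀ z ∈ H, Commute ⁅x, y⁆ z) ∧
      ∀ a : MulAut R, (orderOf a).Coprime p → (∀ x ∈ H, a x = x) → a = 1 := by
  obtain ⟨C, hC, h1, h2, h3⟩ := Cfsg.Agent.S0093.result hR
  have hpc : ∀ x ∈ C, ∀ y ∈ C, Commute (x ^ p) y := by
    intro x hx y hy
    have h4 : (⟨x, hx⟩ : C) ^ p ∈ frattini C :=
      Cfsg.Agent.Lib.FrattiniPGroup.pow_mem_frattini (hR.to_subgroup C) _
    have h5 : x ^ p ∈ Subgroup.centralizer (C : Set R) := h1 ⟨_, h4, rfl⟩
    exact (Subgroup.mem_centralizer_iff.1 h5 y hy).symm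
  have hcc : ∀ x ∈ C, ∀ y, ∀ z ∈ C, Commute ⁅x, y⁆ z := by
    intro x hx y z hz
    have h4 : ⁅x, y⁆ ∈ C ⊓ Subgroup.centralizer (C : Set R) :=
      h2 (Subgroup.commutator_mem_commutator hx (Subgroup.mem_top y))
    exact (Subgroup.mem_centralizer_iff.1 h4.2 z hz).symm
  have hmul : ∀ x ∈ C, ∀ y ∈ C, (x * y) ^ p = x ^ p * y ^ p := by
    intro x hx y hy
    exact Cfsg.Agent.Lib.CoprimeStab.mul_pow_prime_of_class_two hpf.out hp (hcc y hy x x hx)
      (hcc y hy x y hy) (hpc x hx y hy)
  let H : Subgroup R :=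
    { carrier := {x | x ∈ C ∧ x ^ p = 1}
      one_mem' := ⟨C.one_mem, one_pow p⟩
      mul_mem' := by
        rintro x y ⟨hx, hx'⟩ ⟨hy, hy'⟩
        exact ⟨C.mul_mem hx hy, by rw [hmul x hx y hy, hx', hy', one_mul]⟩
      inv_mem' := by
        rintro x ⟨hx, hx'⟩
        exact ⟨C.inv_mem hx, by rw [inv_pow, hx', inv_one]⟩ }
  have hHC : ∀ x, x ∈ H ↔ x ∈ C ∧ x ^ p = 1 := fun x => Iff.rfl
  have hCa : ∀ (a : MulAut R) (x : R), x ∈ C → a x ∈ C := by
    intro a x hx
    have := (Subgroup.characteristic_iff_le_comap.1 hC) a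
    exact this hx
  refine ⟨H, ?_, fun x hx => hx.2, fun x hx y hy z hz => hcc x hx.1 y z hz.1, ?_⟩
  · rw [Subgroup.characteristic_iff_le_comap]
    intro φ x hx
    refine ⟨hCa φ x hx.1, ?_⟩
    have h4 : (φ x) ^ p = 1 := by rw [← map_pow, hx.2, map_one]
    exact h4
  · intro a ha hfix
    have key : ∀ n : ℕ, ∀ x ∈ C, x ^ (p ^ n) = 1 → a x = x := by
      intro n
      induction n with
      | zero =>
        intro x _ hx
        rw [pow_zero, pow_one] at hx
        rw [hx, map_one]
      | succ n ih =>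
        intro x hx hxn
        rw [pow_succ', pow_mul] at hxn
        have h4 := ih (x ^ p) (C.pow_mem hx p) hxn
        apply fix_of_fix_div hR a ha
        apply hfix
        refine ⟨C.mul_mem (C.inv_mem hx) (hCa a x hx), ?_⟩
        rw [hmul _ (C.inv_mem hx) _ (hCa a x hx), ← map_pow, h4, inv_pow, inv_mul_cancel]
    refine Cfsg.Agent.S0121.result hR C hC h1 h2 h3 a ha ?_
    intro x hx
    obtain ⟨n, hn⟩ := hR x
    exact key n x hx hn

/-- A finite group of exponent `p`, class at most `2` and `p`-rank at most `2` has abelianization of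
order at most `p ^ 2`. -/
theorem card_abelianization_le {H : Type*} [Group H] [Finite H] {p : ℕ} [hpf : Fact p.Prime]
    (hexp : ∀ x : H, x ^ p = 1) (hcl : ∀ x y z : H, Commute ⁅x, y⁆ z)
    (hr : Cfsg.PRankLE p 2 H) : Nat.card (Abelianization H) ≤ p ^ 2 := by
  have hp : p.Prime := hpf.out
  have hHP : IsPGroup p H := fun x => ⟨1, by rw [pow_one]; exact hexp x⟩
  have hr' : ∀ E : Subgroup H, (∀ x ∈ E, ∀ y ∈ E, x * y = y * x) → Nat.card E ≤ p ^ 2 := by
    intro E hE
    refine hr E ⟨⟨fun x y => Subtype.ext (hE x x.2 y y.2)⟩⟩ (fun a _ => hexp a)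
  by_cases hcomm : ∀ x y : H, x * y = y * x
  · have h1 := hr' ⊤ (fun x _ y _ => hcomm x y)
    rw [Subgroup.card_top] at h1
    refine le_trans ?_ h1
    exact Nat.card_le_card_of_surjective (Abelianization.of (G := H)) (QuotientGroup.mk_surjective)
  push Not at hcomm
  obtain ⟨x, y₀, hxy⟩ := hcomm
  -- joining an element to an abelian subgroup it centralizes
  have hjoin : ∀ (E : Subgroup H), (∀ a ∈ E, ∀ b ∈ E, a * b = b * a) → ∀ z : H,
      (∀ a ∈ E, a * z = z * a) → ∀ a ∈ E ⊔ Subgroup.zpowers z, ∀ b ∈ E ⊔ Subgroup.zpowers z,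
        a * b = b * a := by
    intro E hE z hz
    have h1 : E ⊔ Subgroup.zpowers z ≤ Subgroup.centralizer ((E ⊔ Subgroup.zpowers z : Subgroup H) : Set H) := by
      have h2 : E ⊔ Subgroup.zpowers z = Subgroup.closure ((E : Set H) ∪ {z}) := by
        rw [Subgroup.closure_union, Subgroup.closure_eq, Subgroup.zpowers_eq_closure]
      rw [h2, Subgroup.centralizer_closure, Subgroup.closure_le]
      intro a ha
      rw [SetLike.mem_coe, Subgroup.mem_centralizer_iff]
      intro b hb
      rcases ha with ha | ha <;> rcases hb with hb | hb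
      · exact hE b hb a ha
      · rw [Set.mem_singleton_iff] at hb
        subst hb
        exact (hz a ha).symm
      · rw [Set.mem_singleton_iff] at ha
        subst ha
        exact hz b hb
      · rw [Set.mem_singleton_iff] at ha hb
        rw [ha, hb]
    intro a ha b hb
    exact (Subgroup.mem_centralizer_iff.1 (h1 hb) a ha)
  set Z := Subgroup.center H with hZ
  have hxZ : x ∉ Z := by
    intro h
    exact hxy (Subgroup.mem_center_iff.1 h y₀).symm
  set E := Z ⊔ Subgroup.zpowers x with hE
  have hEc : ∀ a ∈ E, ∀ b ∈ E, a * b = b * a :=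
    hjoin Z (fun a ha b _ => (Subgroup.mem_center_iff.1 ha b).symm) x
      (fun a ha => (Subgroup.mem_center_iff.1 ha x).symm)
  have hxE : x ∈ E := (le_sup_right : Subgroup.zpowers x ≤ E) (Subgroup.mem_zpowers x)
  have hZE : Z < E := by
    refine lt_of_le_of_ne le_sup_left ?_
    intro h
    rw [h] at hxZ
    exact hxZ hxE
  have hE2 : Nat.card E ≤ p ^ 2 := hr' E hEc
  -- strict inclusions of subgroups multiply the order by at least `p`
  have hlt : ∀ A B : Subgroup H, A < B → p * Nat.card A ≤ Nat.card B := by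
    intro A B hAB
    obtain ⟨m, hm⟩ := IsPGroup.iff_card.1 (hHP.to_subgroup A)
    obtain ⟨n, hn⟩ := IsPGroup.iff_card.1 (hHP.to_subgroup B)
    have hmn : m < n := by
      by_contra hcon
      push Not at hcon
      have h1 : Nat.card B ≤ Nat.card A := by
        rw [hm, hn]
        exact Nat.pow_le_pow_right hp.pos hcon
      exact hAB.ne (Subgroup.eq_of_le_of_card_ge hAB.le h1)
    rw [hm, hn, ← pow_succ']
    exact Nat.pow_le_pow_right hp.pos hmn
  have hZp : Nat.card Z ≤ p := by
    have h1 := hlt Z E hZE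
    have h2 : p * Nat.card Z ≤ p * p := by
      calc p * Nat.card Z ≤ Nat.card E := h1
        _ ≤ p ^ 2 := hE2
        _ = p * p := pow_two p
    exact Nat.le_of_mul_le_mul_left h2 hp.pos
  have hnt : Nontrivial H := ⟨x, 1, by
    rintro rfl
    exact hxZ (Subgroup.one_mem _)⟩
  have hZ1 : p ≤ Nat.card Z := by
    have h0 : Nontrivial Z := hHP.center_nontrivial
    have h1 : (⊥ : Subgroup H) < Z := by
      rw [bot_lt_iff_ne_bot]
      exact (Subgroup.nontrivial_iff_ne_bot _).1 h0
    have h2 := hlt _ _ h1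
    rw [Subgroup.card_bot, mul_one] at h2
    exact h2
  have hE1 : p ^ 2 ≤ Nat.card E := by
    calc p ^ 2 = p * p := pow_two p
      _ ≤ p * Nat.card Z := Nat.mul_le_mul_left p hZ1
      _ ≤ Nat.card E := hlt Z E hZE
  -- the centralizer of `x` is `E`
  have hCE : Subgroup.centralizer ({x} : Set H) ≤ E := by
    intro y hy
    rw [Subgroup.mem_centralizer_singleton_iff] at hy
    have hzy : ∀ a ∈ E, a * y = y * a := by
      have h1 : E ≤ Subgroup.centralizer ({y} : Set H) := by
        rw [hE, sup_le_iff]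
        constructor
        · intro a ha
          rw [Subgroup.mem_centralizer_singleton_iff]
          exact (Subgroup.mem_center_iff.1 ha y).symm
        · rw [Subgroup.zpowers_le, Subgroup.mem_centralizer_singleton_iff]
          exact hy.symm
      intro a ha
      have := h1 ha
      rw [Subgroup.mem_centralizer_singleton_iff] at this
      exact this
    by_contra hyE
    have h2 : E < E ⊔ Subgroup.zpowers y := by
      refine lt_of_le_of_ne le_sup_left ?_
      intro h
      apply hyE
      rw [h]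
      exact (le_sup_right : Subgroup.zpowers y ≤ _) (Subgroup.mem_zpowers y)
    have h3 := hlt _ _ h2
    have h4 := hr' _ (hjoin E hEc y hzy)
    have h5 : p * p ^ 2 ≤ 1 * p ^ 2 := by
      rw [one_mul]
      exact le_trans (le_trans (Nat.mul_le_mul_left p hE1) h3) h4
    have h6 := Nat.le_of_mul_le_mul_right h5 (pow_pos hp.pos 2)
    exact absurd h6 (not_le.2 hp.one_lt)
  -- the commutator map
  let f : H →* Z :=
    { toFun := fun y => ⟨⁅y, x⁆, Subgroup.mem_center_iff.2 (fun g => (hcl y x g).symm)⟩
      map_one' := by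
        apply Subtype.ext
        simp
      map_mul' := by
        intro a b
        apply Subtype.ext
        change ⁅a * b, x⁆ = ⁅a, x⁆ * ⁅b, x⁆
        have h1 : ⁅a * b, x⁆ = a * ⁅b, x⁆ * a⁻¹ * ⁅a, x⁆ := by
          simp only [commutatorElement_def]; group
        rw [h1, (hcl b x a).symm.eq, mul_assoc ⁅b, x⁆, mul_inv_cancel, mul_one]
        exact (hcl b x _).eq }
  have hker : f.ker ≤ Subgroup.centralizer ({x} : Set H) := by
    intro y hy
    rw [MonoidHom.mem_ker] at hy
    have h1 : ⁅y, x⁆ = 1 := congrArg Subtype.val hy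
    rw [Subgroup.mem_centralizer_singleton_iff]
    exact commutatorElement_eq_one_iff_mul_comm.1 h1
  have hcardH : Nat.card H ≤ p ^ 2 * p := by
    have h1 : Nat.card f.ker * f.ker.index = Nat.card H := f.ker.card_mul_index
    rw [← h1]
    refine Nat.mul_le_mul ?_ ?_
    · exact le_trans (Subgroup.card_le_of_le (hker.trans hCE)) hE2
    · rw [Subgroup.index_ker]
      exact le_trans (Subgroup.card_le_card_group _) hZp
  have hder : p ≤ Nat.card (commutator H) := by
    have h1 : (⊥ : Subgroup H) < commutator H := by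
      rw [bot_lt_iff_ne_bot]
      intro h
      apply hxy
      have h2 : ⁅x, y₀⁆ ∈ commutator H :=
        Subgroup.commutator_mem_commutator (Subgroup.mem_top x) (Subgroup.mem_top y₀)
      rw [h, Subgroup.mem_bot] at h2
      exact commutatorElement_eq_one_iff_mul_comm.1 h2
    have h2 := hlt _ _ h1
    rw [Subgroup.card_bot, mul_one] at h2
    exact h2
  have hfin : Nat.card (Abelianization H) * Nat.card (commutator H) = Nat.card H :=
    (Subgroup.card_eq_card_quotient_mul_card_subgroup (commutator H)).symm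
  have h7 : Nat.card (Abelianization H) * p ≤ p ^ 2 * p := by
    calc Nat.card (Abelianization H) * p ≤ Nat.card (Abelianization H) * Nat.card (commutator H) :=
          Nat.mul_le_mul_left _ hder
      _ = Nat.card H := hfin
      _ ≤ p ^ 2 * p := hcardH
  exact Nat.le_of_mul_le_mul_right h7 hp.pos

end Cfsg.Agent.OddOrderLocal.OmegaCritical
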