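import Mathlib
import Cfsg.Prelude.Def_CaseTheorems
import Cfsg.Agent.OddOrderLocal.GLTwoOdd
import Cfsg.Agent.OddOrderLocal.OmegaCritical

set_option autoImplicit false

/-!
Solvable groups of odd order acting faithfully on a `p`-group of rank at most two (`p` odd): the
derived subgroup is a `p`-group.
-/

namespace Cfsg.Agent.OddOrderLocal.AutRankTwo

open Subgroup
open scoped commutatorElement

theorem pRankLE_subgroup {p k : ℕ} {G : Type*} [Group G] (h : Cfsg.PRankLE p k G) (H : Subgroup G) :
    Cfsg.PRankLE p k H := by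
  intro A hA hA'
  have h1 : Nat.card (A.map H.subtype) = Nat.card A :=
    Nat.card_congr (A.equivMapOfInjective H.subtype H.subtype_injective).symm.toEquiv
  rw [← h1]
  apply h
  · refine ⟨⟨?_⟩⟩
    rintro ⟨_, x, hx, rfl⟩ ⟨_, y, hy, rfl⟩
    apply Subtype.ext
    have h2 : x * y = y * x := congrArg Subtype.val (hA.is_comm.comm ⟨x, hx⟩ ⟨y, hy⟩)
    change H.subtype x * H.subtype y = H.subtype y * H.subtype x
    rw [← map_mul, h2, map_mul]
  · rintro _ ⟨x, hx, rfl⟩
    rw [← map_pow, hA' x hx, map_one]

/-- For `p` odd: if a finite solvable group of odd order acts faithfully on a finite `p`-group of rank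
at most two, then its derived subgroup is a `p`-group. -/
theorem isPGroup_commutator {A : Type*} [Group A] [Finite A] (hs : Group.IsSolvable A)
    (hodd : Odd (Nat.card A)) {p : ℕ} [hpf : Fact p.Prime] (hp : p ≠ 2) {R : Type*} [Group R]
    [Finite R] (hR : IsPGroup p R) (hr : Cfsg.PRankLE p 2 R) (φ : A →* MulAut R)
    (hφ : Function.Injective φ) : IsPGroup p (commutator A) := by
  obtain ⟨H, hH, hexp, hcl, hfaith⟩ :=
    Cfsg.Agent.OddOrderLocal.OmegaCritical.exists_omega_critical hp hR
  let ψ : A →* MulAut H := (MulAut.characteristic H).comp φ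
  let θ : A →* MulAut (Abelianization H) :=
    { toFun := fun a => (ψ a).abelianizationCongr
      map_one' := by
        rw [map_one]
        exact abelianizationCongr_refl
      map_mul' := by
        intro a b
        rw [map_mul]
        exact (abelianizationCongr_trans (ψ b) (ψ a)).symm }
  have hexp' : ∀ x : H, x ^ p = 1 := fun x => Subtype.ext (hexp x x.2)
  have hcl' : ∀ x y z : H, Commute ⁅x, y⁆ z := fun x y z =>
    Subtype.ext (hcl x x.2 y y.2 z z.2).eq
  have hcard := Cfsg.Agent.OddOrderLocal.OmegaCritical.card_abelianization_le hexp' hcl'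
    (pRankLE_subgroup hr H)
  have hθ : ∀ g ∈ commutator A, θ g ^ p = 1 := by
    intro g hg
    refine Cfsg.Agent.OddOrderLocal.GLTwoOdd.mulAut_pow_eq_one_of_mem_commutator hs hodd
      (fun a b => mul_comm a b) ?_ hcard θ hg
    intro a
    obtain ⟨x, rfl⟩ := QuotientGroup.mk_surjective a
    change (Abelianization.of x) ^ p = 1
    rw [← map_pow, hexp' x, map_one]
  -- the kernel of `θ` is a `p`-group
  have hker : ∀ h : A, θ h = 1 → (orderOf h).Coprime p → h = 1 := by
    intro h hh hcop
    have hcop' : (orderOf (φ h)).Coprime p :=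
      Nat.Coprime.coprime_dvd_left (orderOf_map_dvd φ h) hcop
    have hcopψ : (orderOf (ψ h)).Coprime p :=
      Nat.Coprime.coprime_dvd_left (orderOf_map_dvd ψ h) hcop
    have hHP : IsPGroup p H := hR.to_subgroup H
    -- `ψ h` moves each element by an element of the derived subgroup
    have hmov : ∀ x : H, x⁻¹ * ψ h x ∈ commutator H := by
      intro x
      have h1 : θ h (Abelianization.of x) = Abelianization.of x := by rw [hh]; rfl
      have h2 : θ h (Abelianization.of x) = Abelianization.of (ψ h x) := rfl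
      rw [h2] at h1
      exact QuotientGroup.eq.1 h1.symm
    have hcen : ∀ z ∈ commutator H, ∀ y : H, Commute z y := by
      have h1 : commutator H ≤ Subgroup.center H := by
        rw [commutator_def, Subgroup.commutator_le]
        intro a _ b _
        rw [Subgroup.mem_center_iff]
        intro g
        exact (hcl' a b g).symm.eq
      intro z hz y
      exact (Subgroup.mem_center_iff.1 (h1 hz) y).symm
    have hfixc : ∀ z ∈ commutator H, ψ h z = z := by
      have h1 : commutator H ≤ ((ψ h).toMonoidHom.eqLocus (MonoidHom.id H)) := by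
        rw [commutator_def, Subgroup.commutator_le]
        intro a _ b _
        change ψ h ⁅a, b⁆ = ⁅a, b⁆
        have ha : ψ h a = a * (a⁻¹ * ψ h a) := by group
        have hb : ψ h b = b * (b⁻¹ * ψ h b) := by group
        have hza := hcen _ (hmov a)
        have hzb := hcen _ (hmov b)
        rw [map_commutatorElement, ha, hb]
        generalize a⁻¹ * ψ h a = u at hza
        generalize b⁻¹ * ψ h b = v at hzb
        rw [commutatorElement_def, commutatorElement_def]
        calc a * u * (b * v) * (a * u)⁻¹ * (b * v)⁻¹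
            = a * (u * b) * v * u⁻¹ * a⁻¹ * v⁻¹ * b⁻¹ := by group
          _ = a * (b * u) * v * u⁻¹ * a⁻¹ * v⁻¹ * b⁻¹ := by rw [(hza b).eq]
          _ = a * b * (u * v) * u⁻¹ * a⁻¹ * v⁻¹ * b⁻¹ := by group
          _ = a * b * (v * u) * u⁻¹ * a⁻¹ * v⁻¹ * b⁻¹ := by rw [(hza v).eq]
          _ = a * b * (v * a⁻¹) * v⁻¹ * b⁻¹ := by group
          _ = a * b * (a⁻¹ * v) * v⁻¹ * b⁻¹ := by rw [(hzb a⁻¹).eq]
          _ = a * b * a⁻¹ * b⁻¹ := by group
      intro z hz
      exact h1 hz
    have hfix : ∀ x : H, ψ h x = x := by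
      intro x
      exact Cfsg.Agent.OddOrderLocal.OmegaCritical.fix_of_fix_div hHP (ψ h) hcopψ x
        (hfixc _ (hmov x))
    have h1 : φ h = 1 := by
      apply hfaith _ hcop'
      intro x hx
      exact congrArg Subtype.val (hfix ⟨x, hx⟩)
    apply hφ
    rw [h1, map_one]
  rintro ⟨g, hg⟩
  -- the order of `g ^ p` is a power of `p`
  obtain ⟨k, m, hm, hgm⟩ := Nat.exists_eq_pow_mul_and_not_dvd (n := orderOf (g ^ p))
    (orderOf_pos (g ^ p)).ne' p hpf.out.ne_one
  have h1 : (g ^ p) ^ (p ^ k) = 1 := by
    apply hker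
    · rw [map_pow, map_pow, hθ g hg, one_pow]
    · have h2 : orderOf ((g ^ p) ^ (p ^ k)) = m := by
        rw [orderOf_pow_of_dvd (pow_pos hpf.out.pos k).ne' (by rw [hgm]; exact dvd_mul_right _ _),
          hgm, Nat.mul_div_cancel_left _ (pow_pos hpf.out.pos k)]
      rw [h2]
      exact (Nat.Coprime.symm ((Nat.Prime.coprime_iff_not_dvd hpf.out).2 hm))
  refine ⟨k + 1, ?_⟩
  apply Subtype.ext
  change g ^ (p ^ (k + 1)) = 1
  rw [pow_succ', pow_mul]
  exact h1

end Cfsg.Agent.OddOrderLocal.AutRankTwo
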