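import Mathlib
import Cfsg.Prelude.Def_OddOrderLocal
import Cfsg.Agent.OddOrderLocal.GLTwoOdd
import Cfsg.Agent.OddOrderLocal.OmegaCritical
import Cfsg.Agent.OddOrderLocal.AutRankTwo

/-!
# Odd order groups acting on `p`-groups of rank at most two

`p` is an odd prime, `R` a finite `p`-group without elementary abelian subgroups of order `p ^ 3`.
-/

set_option autoImplicit false

namespace Cfsg.Agent.OddOrderLocal.RankTwoAction

open Subgroup Cfsg
open scoped commutatorElement

/-- For `p` odd and `R` a finite `p`-group of rank at most two there is an elementary abelian group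
`V` of order at most `p ^ 2` on which the automorphisms of `R` act, every nontrivial automorphism of
order prime to `p` acting nontrivially. -/
theorem exists_module {R : Type*} [Group R] [Finite R] {p : ℕ} [Fact p.Prime] (hp : p ≠ 2)
    (hR : IsPGroup p R) (hr : Cfsg.PRankLE p 2 R) :
    ∃ H : Subgroup R, ∃ θ : MulAut R →* MulAut (Abelianization H),
      (∀ v : Abelianization H, v ^ p = 1) ∧ Nat.card (Abelianization H) ≤ p ^ 2 ∧
      ∀ a : MulAut R, (orderOf a).Coprime p → θ a = 1 → a = 1 := by
  obtain ⟨H, hH, hexp, hcl, hfaith⟩ :=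
    Cfsg.Agent.OddOrderLocal.OmegaCritical.exists_omega_critical hp hR
  let ψ : MulAut R →* MulAut H := MulAut.characteristic H
  let θ : MulAut R →* MulAut (Abelianization H) :=
    { toFun := fun a => (ψ a).abelianizationCongr
      map_one' := by
        rw [map_one]
        exact abelianizationCongr_refl
      map_mul' := by
        intro a b
        rw [map_mul]
        exact (abelianizationCongr_trans (ψ b) (ψ a)).symm }
  have hexp' : ∀ x : H, x ^ p = 1 := fun x => Subtype.ext (hexp x x.2)
  have hcl' : ∀ x y z : H, Commute ⁅x, y⁆ z := fun x y z =>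
    Subtype.ext (hcl x x.2 y y.2 z z.2).eq
  have hcard := Cfsg.Agent.OddOrderLocal.OmegaCritical.card_abelianization_le hexp' hcl'
    (Cfsg.Agent.OddOrderLocal.AutRankTwo.pRankLE_subgroup hr H)
  refine ⟨H, θ, ?_, hcard, ?_⟩
  · intro a
    obtain ⟨x, rfl⟩ := QuotientGroup.mk_surjective a
    change (Abelianization.of x) ^ p = 1
    rw [← map_pow, hexp' x, map_one]
  · intro h hcop' hh
    have hcopψ : (orderOf (ψ h)).Coprime p :=
      Nat.Coprime.coprime_dvd_left (orderOf_map_dvd ψ h) hcop'
    have hHP : IsPGroup p H := hR.to_subgroup H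
    -- `ψ h` moves each element by an element of the derived subgroup
    have hmov : ∀ x : H, x⁻¹ * ψ h x ∈ _root_.commutator H := by
      intro x
      have h1 : θ h (Abelianization.of x) = Abelianization.of x := by rw [hh]; rfl
      have h2 : θ h (Abelianization.of x) = Abelianization.of (ψ h x) := rfl
      rw [h2] at h1
      exact QuotientGroup.eq.1 h1.symm
    have hcen : ∀ z ∈ _root_.commutator H, ∀ y : H, Commute z y := by
      have h1 : _root_.commutator H ≤ Subgroup.center H := by
        rw [_root_.commutator_def, Subgroup.commutator_le]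
        intro a _ b _
        rw [Subgroup.mem_center_iff]
        intro g
        exact (hcl' a b g).symm.eq
      intro z hz y
      exact (Subgroup.mem_center_iff.1 (h1 hz) y).symm
    have hfixc : ∀ z ∈ _root_.commutator H, ψ h z = z := by
      have h1 : _root_.commutator H ≤ ((ψ h).toMonoidHom.eqLocus (MonoidHom.id H)) := by
        rw [_root_.commutator_def, Subgroup.commutator_le]
        intro a _ b _
        change ψ h ⁅a, b⁆ = ⁅a, b⁆
        have ha : ψ h a = a * (a⁻¹ * ψ h a) := by group
        have hb : ψ h b = b * (b⁻¹ * ψ h b) := by group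
        have hza := hcen _ (hmov a)
        have hzb := hcen _ (hmov b)
        rw [map_commutatorElement, ha, hb]
        generalize a⁻¹ * ψ h a = u at hza
        generalize b⁻¹ * ψ h b = v at hzb
        rw [commutatorElement_def, commutatorElement_def]
        calc a * u * (b * v) * (a * u)⁻¹ * (b * v)⁻¹
            = a * (u * b) * v * u⁻¹ * a⁻¹ * v⁻¹ * b⁻¹ := by group
          _ = a * (b * u) * v * u⁻¹ * a⁻¹ * v⁻¹ * b⁻¹ := by rw [(hza b).eq]
          _ = a * b * (u * v) * u⁻¹ * a⁻¹ * v⁻¹ * b⁻¹ := by group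
          _ = a * b * (v * u) * u⁻¹ * a⁻¹ * v⁻¹ * b⁻¹ := by rw [(hza v).eq]
          _ = a * b * (v * a⁻¹) * v⁻¹ * b⁻¹ := by group
          _ = a * b * (a⁻¹ * v) * v⁻¹ * b⁻¹ := by rw [(hzb a⁻¹).eq]
          _ = a * b * a⁻¹ * b⁻¹ := by group
      intro z hz
      exact h1 hz
    have hfix : ∀ x : H, ψ h x = x := by
      intro x
      exact Cfsg.Agent.OddOrderLocal.OmegaCritical.fix_of_fix_div hHP (ψ h) hcopψ x
        (hfixc _ (hmov x))
    apply hfaith _ hcop'
    intro x hx
    exact congrArg Subtype.val (hfix ⟨x, hx⟩)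

theorem eq_one_of_pow_of_pow {M : Type*} [Monoid M] {x : M} {m n : ℕ} (hm : x ^ m = 1)
    (hn : x ^ n = 1) (h : m.Coprime n) : x = 1 := by
  have h1 : orderOf x ∣ m.gcd n :=
    Nat.dvd_gcd (orderOf_dvd_of_pow_eq_one hm) (orderOf_dvd_of_pow_eq_one hn)
  rw [h] at h1
  exact orderOf_eq_one_iff.mp (Nat.dvd_one.mp h1)

/-- In a solvable group of odd order acting on a `p`-group of rank at most two, the elements of the
derived subgroup of order prime to `p` act trivially. -/
theorem map_eq_one_of_mem_commutator {A R : Type*} [Group A] [Finite A] [Group R] [Finite R]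
    (hs : Group.IsSolvable A) (hodd : Odd (Nat.card A)) {p : ℕ} [Fact p.Prime] (hp : p ≠ 2)
    (hR : IsPGroup p R) (hr : Cfsg.PRankLE p 2 R) (φ : A →* MulAut R) {g : A}
    (hg : g ∈ _root_.commutator A) (ho : (orderOf g).Coprime p) : φ g = 1 := by
  obtain ⟨H, θ, hexp, hcard, hθ⟩ := exists_module hp hR hr
  apply hθ
  · exact Nat.Coprime.coprime_dvd_left (orderOf_map_dvd φ g) ho
  · have h1 : ((θ.comp φ) g) ^ p = 1 :=
      Cfsg.Agent.OddOrderLocal.GLTwoOdd.mulAut_pow_eq_one_of_mem_commutator hs hodd
        (fun a b => mul_comm a b) hexp hcard (θ.comp φ) hg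
    have h2 : ((θ.comp φ) g) ^ (orderOf g) = 1 := by rw [← map_pow, pow_orderOf_eq_one, map_one]
    exact eq_one_of_pow_of_pow h2 h1 ho

/-- Arithmetic: a prime larger than the odd prime `p` divides neither `p - 1` nor `p ^ 2 - 1`. -/
theorem eq_of_modEq {p q i j : ℕ} (hp : p.Prime) (hp2 : p ≠ 2) (hq : q.Prime) (h : p < q)
    (hji : j ≤ i) (hi : i ≤ 2) (hmod : p ^ i ≡ p ^ j [MOD q]) : i = j := by
  have hp1 : 1 < p := hp.one_lt
  have hodd : p % 2 = 1 := by
    rcases hp.eq_two_or_odd with h1 | h1
    · exact absurd h1 hp2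
    · exact h1
  have hqodd : q % 2 = 1 := by
    rcases hq.eq_two_or_odd with h1 | h1
    · omega
    · exact h1
  have hd : q ∣ p ^ i - p ^ j := (Nat.modEq_iff_dvd' (Nat.pow_le_pow_right hp1.le hji)).mp hmod.symm
  have hqp : ¬ q ∣ p := fun h1 => by
    have := Nat.le_of_dvd (by omega) h1
    omega
  have hqp1 : ¬ q ∣ p - 1 := fun h1 => by
    have := Nat.le_of_dvd (by omega) h1
    omega
  have hqp2 : ¬ q ∣ p + 1 := fun h1 => by
    have := Nat.le_of_dvd (by omega) h1
    omega
  interval_cases i <;> interval_cases j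
  · rfl
  · exfalso
    rw [pow_one, pow_zero] at hd
    exact hqp1 hd
  · rfl
  · exfalso
    have e1 : p ^ 2 - p ^ 0 = (p + 1) * (p - 1) := by
      have := Nat.sq_sub_sq p 1
      simpa using this
    rw [e1] at hd
    rcases hq.dvd_mul.mp hd with hd | hd
    · exact hqp2 hd
    · exact hqp1 hd
  · exfalso
    have e2 : p ^ 2 - p ^ 1 = p * (p - 1) := by
      rw [pow_one, Nat.mul_sub, mul_one, sq]
    rw [e2] at hd
    rcases hq.dvd_mul.mp hd with hd | hd
    · exact hqp hd
    · exact hqp1 hd
  · rfl

/-- An automorphism of order a power of `q > p` of an elementary abelian `p`-group of order at most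
`p ^ 2` is trivial. -/
theorem mulAut_eq_one {V : Type*} [Group V] [Finite V] {p q : ℕ} [hpf : Fact p.Prime]
    (hp2 : p ≠ 2) (hV : IsPGroup p V) (hcard : Nat.card V ≤ p ^ 2) (hq : q.Prime) (h : p < q)
    (a : MulAut V) {k : ℕ} (ha : a ^ q ^ k = 1) : a = 1 := by
  have hp := hpf.out
  have hqf : Fact q.Prime := ⟨hq⟩
  let F : Subgroup V :=
    { carrier := {v | a v = v}
      mul_mem' := fun {x y} hx hy => by
        change a (x * y) = x * y
        rw [map_mul, hx, hy]
      one_mem' := map_one a
      inv_mem' := fun {x} hx => by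
        change a x⁻¹ = x⁻¹
        rw [map_inv, hx] }
  have hF : ∀ v, v ∈ F ↔ a v = v := fun v => Iff.rfl
  have hz : IsPGroup q (Subgroup.zpowers a) := by
    rw [IsPGroup.iff_card]
    rw [Nat.card_zpowers]
    obtain ⟨j, _, hj⟩ := (Nat.dvd_prime_pow hq).mp (orderOf_dvd_of_pow_eq_one ha)
    exact ⟨j, hj⟩
  have hmod := hz.card_modEq_card_fixedPoints V
  have hfix : Nat.card (MulAction.fixedPoints (Subgroup.zpowers a) V) = Nat.card F := by
    apply Nat.card_congr
    apply Equiv.subtypeEquivRight
    intro v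
    rw [MulAction.mem_fixedPoints]
    constructor
    · intro hv
      exact hv ⟨a, Subgroup.mem_zpowers a⟩
    · rintro hv ⟨b, hb⟩
      obtain ⟨n, rfl⟩ := Subgroup.mem_zpowers_iff.mp hb
      change (a ^ n) v = v
      have h1 : a ∈ MulAction.stabilizer (MulAut V) v := hv
      exact (MulAction.stabilizer (MulAut V) v).zpow_mem h1 n
  rw [hfix] at hmod
  obtain ⟨i, hi⟩ := hV.exists_card_eq
  obtain ⟨j, hj⟩ := (hV.to_subgroup F).exists_card_eq
  rw [hi, hj] at hmod
  have hi2 : i ≤ 2 := by
    rw [hi] at hcard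
    exact (Nat.pow_le_pow_iff_right hp.one_lt).1 hcard
  have hji : j ≤ i := by
    have h1 : Nat.card F ≤ Nat.card V := Subgroup.card_le_card_group F
    rw [hi, hj] at h1
    exact (Nat.pow_le_pow_iff_right hp.one_lt).1 h1
  have hij := eq_of_modEq hp hp2 hq h hji hi2 hmod
  have hFtop : F = ⊤ := by
    apply Subgroup.eq_top_of_card_eq
    rw [hi, hj, hij]
  ext v
  have h1 : v ∈ F := by rw [hFtop]; exact Subgroup.mem_top v
  exact h1

/-- An element whose order is a power of a prime larger than `p` acts trivially on a `p`-group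
of rank at most two. -/
theorem map_eq_one_of_orderOf_eq_pow {A R : Type*} [Group A] [Group R] [Finite R]
    {p : ℕ} [hpf : Fact p.Prime] (hp : p ≠ 2)
    (hR : IsPGroup p R) (hr : Cfsg.PRankLE p 2 R) (φ : A →* MulAut R) {g : A} {q k : ℕ}
    (hq : q.Prime) (hpq : p < q) (hg : g ^ q ^ k = 1) : φ g = 1 := by
  obtain ⟨H, θ, hexp, hcard, hθ⟩ := exists_module hp hR hr
  have hcop : (q ^ k).Coprime p := Nat.Coprime.pow_left _ ((Nat.coprime_primes hq hpf.out).mpr (by omega))
  have hpow : (φ g) ^ q ^ k = 1 := by rw [← map_pow, hg, map_one]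
  apply hθ
  · exact Nat.Coprime.coprime_dvd_left (orderOf_dvd_of_pow_eq_one hpow) hcop
  · have hV : IsPGroup p (Abelianization H) := fun v => ⟨1, by rw [pow_one]; exact hexp v⟩
    exact mulAut_eq_one hp hV hcard hq hpq (θ (φ g)) (k := k) (by rw [← map_pow, hpow, map_one])

section Normal

variable {G : Type*} [Group G] [Finite G] {p : ℕ} [Fact p.Prime] {R : Subgroup G}

omit [Finite G] in
theorem mem_centralizer_of_conjNormal_eq_one [R.Normal] {g : G}
    (h : (MulAut.conjNormal g : MulAut R) = 1) : g ∈ Subgroup.centralizer (R : Set G) := by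
  rw [Subgroup.mem_centralizer_iff]
  intro x hx
  have h1 := congrArg (fun f : MulAut R => ((f ⟨x, hx⟩ : R) : G)) h
  simp only [MulAut.conjNormal_apply, MulAut.one_apply] at h1
  rw [mul_inv_eq_iff_eq_mul] at h1
  exact h1.symm

/-- `G` solvable of odd order, `R` a normal `p`-subgroup of rank at most two: every element of `G'`
of order prime to `p` centralizes `R`. -/
theorem mem_centralizer_of_mem_commutator (hs : Group.IsSolvable G) (hodd : Odd (Nat.card G))
    (hp : p ≠ 2) (hRn : R.Normal) (hR : IsPGroup p R) (hr : Cfsg.PRankLE p 2 R) {g : G}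
    (hg : g ∈ _root_.commutator G) (ho : (orderOf g).Coprime p) :
    g ∈ Subgroup.centralizer (R : Set G) :=
  mem_centralizer_of_conjNormal_eq_one
    (map_eq_one_of_mem_commutator hs hodd hp hR hr (MulAut.conjNormal (H := R)) hg ho)

/-- `R` a normal `p`-subgroup of rank at most two, `p` odd: every element of `G`
whose order is a power of a prime `q > p` centralizes `R`. -/
theorem mem_centralizer_of_pow_eq_one
    (hp : p ≠ 2) (hRn : R.Normal) (hR : IsPGroup p R) (hr : Cfsg.PRankLE p 2 R) {g : G} {q k : ℕ}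
    (hq : q.Prime) (hpq : p < q) (hg : g ^ q ^ k = 1) :
    g ∈ Subgroup.centralizer (R : Set G) :=
  mem_centralizer_of_conjNormal_eq_one
    (map_eq_one_of_orderOf_eq_pow hp hR hr (MulAut.conjNormal (H := R)) hq hpq hg)

end Normal

end Cfsg.Agent.OddOrderLocal.RankTwoAction
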