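import Mathlib
import Cfsg.Prelude.Def_OddOrderLocal
import Cfsg.Agent.Lib.Cores
import Cfsg.Agent.S0044
import Cfsg.Agent.OddOrderLocal.RankTwoAction

/-!
# Solvable groups of odd order and `p`-rank at most two

Auxiliary results for S1450, S1451.
-/

set_option autoImplicit false

namespace Cfsg.Agent.OddOrderLocal.RankTwoSolvable

open Subgroup Cfsg
open Cfsg.Agent.Lib.Cores Cfsg.Agent.OddOrderLocal.RankTwoAction

variable {G : Type*} [Group G]

/-! ### Ranks of quotients and subgroups -/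

theorem pRankLE_quotient [Finite G] {p k : ℕ} [Fact p.Prime] (K : Subgroup G) [K.Normal]
    (hK : (Nat.card K).Coprime p) (h : PRankLE p k G) : PRankLE p k (G ⧸ K) := by
  intro A hA hAp
  have hApg : IsPGroup p A := fun a => ⟨1, by
    rw [pow_one]; exact Subtype.ext (hAp a a.2)⟩
  obtain ⟨Q, hQ⟩ := hApg.exists_le_sylow
  obtain ⟨P, rfl⟩ := Sylow.mapSurjective_surjective (QuotientGroup.mk'_surjective K) p Q
  rw [Sylow.coe_mapSurjective] at hQ
  set B : Subgroup G := (P : Subgroup G) ⊓ A.comap (QuotientGroup.mk' K) with hB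
  have hPK : ∀ x ∈ (P : Subgroup G), x ∈ K → x = 1 := by
    intro x hx hxK
    have h1 : (Nat.card (P : Subgroup G)).Coprime (Nat.card K) := by
      obtain ⟨n, hn⟩ := P.isPGroup'.exists_card_eq
      rw [hn]
      exact Nat.Coprime.pow_left _ hK.symm
    have h2 := (disjoint_of_coprime_natCard h1).le_bot (⟨hx, hxK⟩ : x ∈ (P : Subgroup G) ⊓ K)
    simpa using h2
  have hinj : ∀ x ∈ (P : Subgroup G), ∀ y ∈ (P : Subgroup G),
      (QuotientGroup.mk' K) x = (QuotientGroup.mk' K) y → x = y := by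
    intro x hx y hy hxy
    have h1 : x⁻¹ * y ∈ K := by
      rw [QuotientGroup.mk'_apply, QuotientGroup.mk'_apply, QuotientGroup.eq] at hxy
      exact hxy
    have h2 := hPK _ (mul_mem (inv_mem hx) hy) h1
    exact (inv_mul_eq_one.mp h2)
  have hBmap : B.map (QuotientGroup.mk' K) = A := by
    apply le_antisymm
    · rw [map_le_iff_le_comap]; exact inf_le_right
    · intro a ha
      obtain ⟨x, hx, rfl⟩ := hQ ha
      exact ⟨x, ⟨hx, ha⟩, rfl⟩
  have hBcomm : IsMulCommutative B := by
    refine ⟨⟨fun a b => Subtype.ext ?_⟩⟩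
    apply hinj _ (mul_mem a.2.1 b.2.1) _ (mul_mem b.2.1 a.2.1)
    rw [map_mul, map_mul]
    exact setLike_mul_comm (s := A) (Subgroup.mem_comap.mp a.2.2) (Subgroup.mem_comap.mp b.2.2)
  have hBp : ∀ b ∈ B, b ^ p = 1 := by
    intro b hb
    apply hPK _ (pow_mem hb.1 p)
    have := hAp _ hb.2
    rw [← map_pow, ← MonoidHom.mem_ker, QuotientGroup.ker_mk'] at this
    exact this
  have hcard : Nat.card A = Nat.card B := by
    rw [← hBmap]
    refine Nat.card_congr (Equiv.ofBijective
      (fun b : B => (⟨QuotientGroup.mk' K b, b, b.2, rfl⟩ : B.map (QuotientGroup.mk' K))) ⟨?_, ?_⟩).symm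
    · intro x y hxy
      exact Subtype.ext (hinj _ x.2.1 _ y.2.1 (congrArg Subtype.val hxy))
    · rintro ⟨_, b, hb, rfl⟩
      exact ⟨⟨b, hb⟩, rfl⟩
  rw [hcard]
  exact h B hBcomm hBp

theorem pRankLE_of_injective {H : Type*} [Group H] {p k : ℕ} (f : H →* G)
    (hf : Function.Injective f) (h : PRankLE p k G) : PRankLE p k H := by
  intro A hA hAp
  have h1 : Nat.card A = Nat.card (A.map f) :=
    Nat.card_congr (A.equivMapOfInjective f hf).toEquiv
  rw [h1]
  refine h _ ⟨⟨?_⟩⟩ ?_
  · rintro ⟨_, a, ha, rfl⟩ ⟨_, b, hb, rfl⟩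
    apply Subtype.ext
    show f a * f b = f b * f a
    rw [← map_mul, ← map_mul, setLike_mul_comm ha hb]
  · rintro _ ⟨a, ha, rfl⟩
    rw [← map_pow, hAp a ha, map_one]

theorem pRankLE_subgroup {p k : ℕ} (H : Subgroup G) (h : PRankLE p k G) : PRankLE p k H :=
  pRankLE_of_injective H.subtype H.subtype_injective h

theorem pRankLE_of_le {p k : ℕ} {H K : Subgroup G} (hHK : H ≤ K) (h : PRankLE p k K) :
    PRankLE p k H :=
  pRankLE_of_injective (Subgroup.inclusion hHK) (Subgroup.inclusion_injective hHK) h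

/-! ### Orders -/

theorem ne_two_of_odd {n : ℕ} (hodd : Odd n) {p : ℕ} (h : p ∣ n) :
    p ≠ 2 := by
  rintro rfl
  exact (Nat.not_even_iff_odd.mpr hodd) (even_iff_two_dvd.mpr h)

/-- If every element of order prime to `p` of a subgroup is trivial, it is a `p`-group. -/
theorem isPGroup_of_forall_coprime [Finite G] {p : ℕ} [hp : Fact p.Prime] {H : Subgroup G}
    (h : ∀ x ∈ H, (orderOf x).Coprime p → x = 1) : IsPGroup p H := by
  rintro ⟨x, hx⟩
  have hpos : 0 < orderOf x := orderOf_pos x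
  obtain ⟨k, m, hm, hkm⟩ := Nat.exists_eq_pow_mul_and_not_dvd hpos.ne' p hp.out.ne_one
  refine ⟨k, Subtype.ext ?_⟩
  show x ^ p ^ k = 1
  apply h _ (pow_mem hx _)
  have h1 : (x ^ p ^ k) ^ m = 1 := by rw [← pow_mul, ← hkm, pow_orderOf_eq_one]
  exact Nat.Coprime.coprime_dvd_left (orderOf_dvd_of_pow_eq_one h1)
    ((Nat.Prime.coprime_iff_not_dvd hp.out).mpr hm).symm

theorem eq_one_of_mem_isPGroup {p : ℕ} {H : Subgroup G} (hH : IsPGroup p H)
    {x : G} (hx : x ∈ H) (ho : (orderOf x).Coprime p) : x = 1 := by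
  obtain ⟨n, hn⟩ := hH ⟨x, hx⟩
  have h1 : x ^ p ^ n = 1 := congrArg Subtype.val hn
  exact eq_one_of_pow_of_pow (pow_orderOf_eq_one x) h1 (Nat.Coprime.pow_right n ho)

/-! ### Groups with trivial `p'`-core -/

/-- If `O_{p'}(G) = 1` then `F(G) = O_p(G)`. -/
theorem fittingSubgroup_eq_pCore [Finite G] {p : ℕ} [hp : Fact p.Prime] (h : pPrimeCore p G = ⊥) :
    fittingSubgroup G = pCore p G := by
  apply le_antisymm
  · rw [fittingSubgroup_eq_iSup_pCore]
    refine iSup_le fun r => ?_
    by_cases hr : (r : ℕ) = p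
    · rw [hr]
    · haveI : Fact (r : ℕ).Prime := ⟨r.2⟩
      obtain ⟨n, hn⟩ := (pCore_isPGroup (G := G) (r : ℕ)).exists_card_eq
      have h1 : pCore (r : ℕ) G ≤ pPrimeCore p G := by
        refine le_pPrimeCore (Lib.Cores.pCore_normal _) ?_
        rw [hn]
        exact Nat.Coprime.pow_left _ ((Nat.coprime_primes r.2 hp.out).mpr hr)
      rw [h] at h1
      exact h1.trans bot_le
  · exact pCore_le_fittingSubgroup p

/-- Hall-Higman Lemma 1.2.3 for solvable groups. -/
theorem centralizer_pCore_le [Finite G] [Group.IsSolvable G] {p : ℕ} [hp : Fact p.Prime]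
    (h : pPrimeCore p G = ⊥) :
    Subgroup.centralizer (pCore p G : Set G) ≤ pCore p G := by
  have h1 := Cfsg.Agent.S0044.centralizer_fitting_le G (fittingSubgroup_normal (G := G))
  rwa [fittingSubgroup_eq_pCore h] at h1

section Core

variable [Finite G] [Group.IsSolvable G] {p : ℕ} [hp : Fact p.Prime]

theorem isPGroup_commutator_of_core_eq_bot (hodd : Odd (Nat.card G)) (hp2 : p ≠ 2)
    (hr : PRankLE p 2 G) (h : pPrimeCore p G = ⊥) : IsPGroup p (_root_.commutator G) := by
  refine isPGroup_of_forall_coprime fun x hx hxo => ?_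
  have h1 := mem_centralizer_of_mem_commutator (R := pCore p G) inferInstance hodd hp2
    (Lib.Cores.pCore_normal p) (pCore_isPGroup p) (pRankLE_subgroup _ hr) hx hxo
  exact eq_one_of_mem_isPGroup (pCore_isPGroup p) (centralizer_pCore_le h h1) hxo

theorem commutator_le_pCore_of_core_eq_bot (hodd : Odd (Nat.card G)) (hp2 : p ≠ 2)
    (hr : PRankLE p 2 G) (h : pPrimeCore p G = ⊥) : _root_.commutator G ≤ pCore p G :=
  le_pCore inferInstance (isPGroup_commutator_of_core_eq_bot hodd hp2 hr h)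

theorem prime_le_of_core_eq_bot (hp2 : p ≠ 2)
    (hr : PRankLE p 2 G) (h : pPrimeCore p G = ⊥) {q : ℕ} (hq : q.Prime) (hqG : q ∣ Nat.card G) :
    q ≤ p := by
  by_contra hlt
  push Not at hlt
  have : Fact q.Prime := ⟨hq⟩
  obtain ⟨x, hx⟩ := exists_prime_orderOf_dvd_card' q hqG
  have h1 : x ∈ Subgroup.centralizer (pCore p G : Set G) :=
    mem_centralizer_of_pow_eq_one (k := 1) hp2
      (Lib.Cores.pCore_normal p) (pCore_isPGroup p) (pRankLE_subgroup _ hr) hq hlt
      (by rw [pow_one, ← hx, pow_orderOf_eq_one])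
  have h2 : (orderOf x).Coprime p := by
    rw [hx]; exact (Nat.coprime_primes hq hp.out).mpr (by omega)
  have h3 := eq_one_of_mem_isPGroup (pCore_isPGroup p) (centralizer_pCore_le h h1) h2
  rw [h3, orderOf_one] at hx
  exact hq.one_lt.ne hx

omit [Group.IsSolvable G] in
theorem index_pCore_coprime_of_commutator_le (h : _root_.commutator G ≤ pCore p G) :
    (pCore p G).index.Coprime p := by
  obtain ⟨P⟩ := (inferInstance : Nonempty (Sylow p G))
  have h1 : (P : Subgroup G).Normal :=
    Normal.of_commutator_le G (h.trans (pCore_le_sylow P))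
  have h2 : (P : Subgroup G) = pCore p G :=
    le_antisymm (le_pCore h1 P.isPGroup') (pCore_le_sylow P)
  rw [← h2]
  exact ((Nat.Prime.coprime_iff_not_dvd hp.out).mpr P.not_dvd_index).symm

end Core

/-! ### Normal `p`-complements -/

theorem hasNormalPComplement_of [Finite G] {p : ℕ} [hp : Fact p.Prime] {N : Subgroup G}
    (hN : N.Normal) (h1 : (Nat.card N).Coprime p) {n : ℕ} (h2 : N.index = p ^ n) :
    HasNormalPComplement p G := by
  obtain ⟨P⟩ := (inferInstance : Nonempty (Sylow p G))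
  refine ⟨P, N, hN, ?_⟩
  have hcop : (Nat.card N).Coprime (Nat.card (P : Subgroup G)) := by
    obtain ⟨m, hm⟩ := P.isPGroup'.exists_card_eq
    rw [hm]
    exact Nat.Coprime.pow_right _ h1
  refine isComplement'_of_coprime ?_ hcop
  have h3 : Nat.card (P : Subgroup G) = N.index := by
    rw [P.card_eq_multiplicity, ← N.card_mul_index, h2,
      Nat.factorization_mul Nat.card_pos.ne' (pow_ne_zero _ hp.out.ne_zero), Finsupp.add_apply,
      Nat.Prime.factorization_pow hp.out, Finsupp.single_eq_same,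
      Nat.factorization_eq_zero_of_not_dvd
        ((Nat.Prime.coprime_iff_not_dvd hp.out).mp h1.symm), zero_add]
  rw [h3]
  exact N.card_mul_index

end Cfsg.Agent.OddOrderLocal.RankTwoSolvable
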