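import Mathlib
import Cfsg.Prelude.Def_OddOrderLocal
import Cfsg.Agent.OddOrderLocal.UniqZL
import Cfsg.Agent.OddOrderLocal.ScnThree
import Cfsg.Agent.Lib.PGroupCoprimeAction
import Cfsg.Agent.PLocal.ZJReduction
import Cfsg.Agent.S1393
import Cfsg.Agent.S1395
import Cfsg.Agent.S1396
import Cfsg.Agent.S1450
import Cfsg.Agent.S1457

/-!
B&G Theorem 9.1(b): if `B ≠ 1` is a `p`-subgroup of the maximal subgroup `M` such that every
`B`-invariant `p'`-subgroup of `G` lies in `M`, then `M` is the only maximal subgroup above `B`.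
-/

set_option autoImplicit false
set_option linter.style.haveILetI false
set_option linter.unusedSectionVars false
open Cfsg

namespace Cfsg.Agent.OddOrderLocal.NormedUniq

open Cfsg.Agent.OddOrderLocal
open Cfsg.Agent.OddOrderLocal.SylIn Cfsg.Agent.OddOrderLocal.PuigZL
open Cfsg.Agent.OddOrderLocal.PiCoreOf Cfsg.Agent.OddOrderLocal.UniqZL

variable {G : Type*} [Group G] [Finite G]

/-- If `Q = O_{p'}(M) ≠ 1` contains every `R`-invariant `p'`-subgroup of `G`, then
`N_G(R) ≤ M`. -/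
theorem normalizer_le_of_invariant (hG : IsMinSimpleOddOrder G) {M R : Subgroup G}
    (hM : IsCoatom M) (hRM : R ≤ M) {p : ℕ} (hO : piCoreOf (primesNotDvd p) M ≠ ⊥)
    (h : ∀ Y : Subgroup G, (Nat.card Y).Coprime p → R ≤ Subgroup.normalizer (Y : Set G) →
      Y ≤ piCoreOf (primesNotDvd p) M) :
    Subgroup.normalizer (R : Set G) ≤ M := by
  set Q := piCoreOf (primesNotDvd p) M with hQ
  have hNQ : Subgroup.normalizer (Q : Set G) = M :=
    MinSimpleBasic.normalizer_eq_of_le_coatom hG hM hO (piCoreOf_le _ _)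
      (le_normalizer_piCoreOf _ _)
  have hRQ : R ≤ Subgroup.normalizer (Q : Set G) := hRM.trans hNQ.ge
  refine (conj_mem_normalizer_of_forall_map_le ?_).trans hNQ.le
  intro g hg
  apply h
  · rw [Subgroup.card_map_of_injective (MulAut.conj g).injective]
    exact coprime_of_isPi_primesNotDvd (piCoreOf_isPi _ _)
  · calc R = R.map (MulAut.conj g).toMonoidHom := (mem_normalizer_iff_conj.mp hg).symm
      _ ≤ (Subgroup.normalizer (Q : Set G)).map (MulAut.conj g).toMonoidHom :=
          Subgroup.map_mono hRQ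
      _ = Subgroup.normalizer ((Q.map (MulAut.conj g).toMonoidHom : Subgroup G) : Set G) :=
          Subgroup.map_equiv_normalizer_eq _ _

/-- `H = O_{p'}(H) N_H(P ∩ O_{p',p}(H))` for a Sylow `p`-subgroup `P` of `H`. -/
theorem le_sup_normalizer_inf {H P : Subgroup G} {p : ℕ} [Fact p.Prime] (hP : IsSyl p P H) :
    H ≤ piCoreOf (primesNotDvd p) H ⊔
      (H ⊓ Subgroup.normalizer
        ((P ⊓ (pPrimePCore p H).map H.subtype : Subgroup G) : Set G)) := by
  obtain ⟨S, hS⟩ := hP.exists_sylow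
  have hNp : IsPGroup p (pCore p (H ⧸ pPrimeCore p H)) := Cfsg.Agent.Lib.Cores.pCore_isPGroup p
  have h1 := Cfsg.Agent.PLocal.ZJReduction.sup_inf_comap (pPrimeCore p H)
    (N := pCore p (H ⧸ pPrimeCore p H)) inferInstance hNp S
  have h2 : (pPrimeCore p H ⊔ ((S : Subgroup H) ⊓ (pCore p (H ⧸ pPrimeCore p H)).comap
      (QuotientGroup.mk' (pPrimeCore p H)))).Normal := by
    rw [h1]; infer_instance
  have h3 := Cfsg.Agent.PLocal.ZJReduction.sup_normalizer_eq_top (K := pPrimeCore p H)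
    inferInstance (Cfsg.Agent.Lib.Cores.pPrimeCore_coprime p)
    (S.isPGroup'.to_le inf_le_left) h2
  have h4 := congrArg (Subgroup.map H.subtype) h3
  rw [Subgroup.map_sup, map_pPrimeCore_eq, ← MonoidHom.range_eq_map, Subgroup.range_subtype] at h4
  refine h4.symm.le.trans (sup_le_sup_left (le_inf (Subgroup.map_subtype_le _) ?_) _)
  refine (Subgroup.le_normalizer_map H.subtype).trans ?_
  rw [Subgroup.map_inf_eq _ _ _ H.subtype_injective, hS]
  rfl

/-- An abelian subgroup `A` normal in the Sylow `p`-subgroup `P` of the solvable group `H` of odd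
order lies in `O_{p',p}(H)`. -/
theorem le_map_pPrimePCore {H P A : Subgroup G} (hH : Group.IsSolvable H)
    (hodd : Odd (Nat.card H)) {p : ℕ} [Fact p.Prime] (hP : IsSyl p P H) (hAP : A ≤ P)
    (hAc : IsMulCommutative A) (hAn : P ≤ Subgroup.normalizer (A : Set G)) :
    A ≤ (pPrimePCore p H).map H.subtype := by
  obtain ⟨S, hS⟩ := hP.exists_sylow
  have hAH : A ≤ H := hAP.trans hP.le
  haveI := hH
  have h1 : A.subgroupOf H ≤ pPrimePCore p H := by
    refine Cfsg.Agent.S1457.result hodd p S (A.subgroupOf H) ?_ ?_ ?_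
    · intro x hx
      have hx' : (x : G) ∈ P := hAP (Subgroup.mem_subgroupOf.mp hx)
      rw [← hS] at hx'
      obtain ⟨y, hy, hyx⟩ := hx'
      have : y = x := Subtype.ext hyx
      rwa [← this]
    · infer_instance
    · intro x hx
      have hx' : (x : G) ∈ P := by rw [← hS]; exact Subgroup.mem_map_of_mem _ hx
      have := hAn hx'
      rw [Subgroup.mem_normalizer_iff] at this ⊢
      intro y
      rw [Subgroup.mem_subgroupOf, Subgroup.mem_subgroupOf]
      exact this y
  have h2 := Subgroup.map_mono (f := H.subtype) h1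
  rwa [Subgroup.map_subgroupOf_eq_of_le hAH] at h2

/-- In `p`-rank at most 2, a Sylow `p`-subgroup lies in `O_{p',p}(H)`. -/
theorem isSyl_le_map_pPrimePCore {H P : Subgroup G} (hH : Group.IsSolvable H)
    (hodd : Odd (Nat.card H)) {p : ℕ} [Fact p.Prime] (hP : IsSyl p P H) (hP1 : P ≠ ⊥)
    (hr : PRankLE p 2 P) : P ≤ (pPrimePCore p H).map H.subtype := by
  obtain ⟨S, hS⟩ := hP.exists_sylow
  haveI := hH
  have hr' : PRankLE p 2 H := by
    rw [← Rank.pRankLE_map_sylow S, hS]; exact hr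
  have hpH : p ∣ Nat.card H := by
    haveI : Nontrivial P := (Subgroup.nontrivial_iff_ne_bot P).mpr hP1
    obtain ⟨n, hn, hc⟩ := hP.isPGroup.nontrivial_iff_card.mp inferInstance
    exact (dvd_pow_self p hn.ne').trans (hc ▸ Subgroup.card_dvd_of_le hP.le)
  have h1 := (Cfsg.Agent.S1450.result hodd p hpH hr').2.2.2.2.2
  have hn : (pPrimePCore p H).Normal := by
    unfold pPrimePCore; infer_instance
  have h2 : (S : Subgroup H) ≤ pPrimePCore p H := by
    intro x hx
    -- the image of x in the quotient is a p-element of a p'-group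
    have h3 : (QuotientGroup.mk' (pPrimePCore p H) x) = 1 := by
      obtain ⟨k, hk⟩ := S.isPGroup' ⟨x, hx⟩
      have hk' : x ^ p ^ k = 1 := congrArg Subtype.val hk
      have h4 : (QuotientGroup.mk' (pPrimePCore p H) x) ^ p ^ k = 1 := by
        rw [← map_pow, hk', map_one]
      have h5 : (QuotientGroup.mk' (pPrimePCore p H) x) ^
          Nat.card (H ⧸ pPrimePCore p H) = 1 := pow_card_eq_one'
      have h6 : (p ^ k).Coprime (Nat.card (H ⧸ pPrimePCore p H)) :=
        Nat.Coprime.pow_left k h1.symm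
      have h7 : orderOf (QuotientGroup.mk' (pPrimePCore p H) x) ∣ 1 := by
        rw [← h6.gcd_eq_one]
        exact Nat.dvd_gcd (orderOf_dvd_of_pow_eq_one h4) (orderOf_dvd_of_pow_eq_one h5)
      rw [Nat.dvd_one, orderOf_eq_one_iff] at h7
      exact h7
    rwa [← MonoidHom.mem_ker, QuotientGroup.ker_mk'] at h3
  rw [← hS]
  exact Subgroup.map_mono h2

/-- Transitivity: if `A ∈ SCN_3(P)`, `P` a Sylow `p`-subgroup of `G` and of `M`, and every
`P`-invariant `p'`-subgroup of `G` lies in `Q`, then so does every `A`-invariant `p'`-subgroup. -/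
theorem le_of_scn_three (hG : IsMinSimpleOddOrder G) {P A Q : Subgroup G} {p : ℕ} [Fact p.Prime]
    (hP : IsSyl p P ⊤) (hA : IsSCN P A) (hr : ¬ PRankLE p 2 A)
    (hPinv : ∀ Y : Subgroup G, (Nat.card Y).Coprime p → P ≤ Subgroup.normalizer (Y : Set G) →
      Y ≤ Q)
    (Y : Subgroup G) (hY : (Nat.card Y).Coprime p) (hAY : A ≤ Subgroup.normalizer (Y : Set G)) :
    Y ≤ Q := by
  have hpp : p.Prime := Fact.out
  have hAp : IsPGroup p A := hP.isPGroup.to_le hA.1
  have hAc : IsMulCommutative A := ScnThree.isSCN_isMulCommutative hA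
  have hA1 : A ≠ ⊥ := by
    rintro rfl
    apply hr
    intro B _ _
    rw [Nat.card_eq_one_iff_unique.mpr ⟨inferInstance, ⟨1⟩⟩]
    exact Nat.one_le_pow _ _ hpp.pos
  have hpA : p ∣ Nat.card A := by
    haveI : Nontrivial A := (Subgroup.nontrivial_iff_ne_bot A).mpr hA1
    obtain ⟨n, hn, hc⟩ := hAp.nontrivial_iff_card.mp inferInstance
    exact hc ▸ dvd_pow_self p hn.ne'
  obtain ⟨n, hn⟩ := IsPGroup.iff_card.mp hAp
  have hpG : p ∣ Nat.card G := hpA.trans (Subgroup.card_subgroup_dvd_card A)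
  have hPtop : P ≠ ⊤ := MinSimpleBasic.ne_top_of_isPGroup hG hP.isPGroup
  -- the Sylow subgroup of G
  have hPi : ¬ p ∣ P.index := by
    have := hP.not_dvd; rwa [Subgroup.relIndex_top_right] at this
  have hTH : TransitivityHypothesis A := by
    refine Cfsg.Agent.S1396.result hG p hpG A hAp hAc (Or.inr ⟨hP.isPGroup.toSylow hPi, hA, ?_⟩)
    exact fun h => hr (Rank.pRankLE_le (by norm_num) hpp.pos h)
  have hZ : ¬ RankLE 2 ↥(A ⊓ Subgroup.centralizer (A : Set G)) := by
    rw [inf_eq_left.mpr (Subgroup.le_centralizer_iff_isMulCommutative.mpr hAc)]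
    exact Rank.not_rankLE_of_not_pRankLE hpp hr
  have hPπ : ∀ r : ℕ, r.Prime → r ∣ Nat.card P → r ∣ Nat.card A := by
    intro r hr' hrd
    obtain ⟨m, hm⟩ := IsPGroup.iff_card.mp hP.isPGroup
    rw [hm] at hrd
    rw [(Nat.prime_dvd_prime_iff_eq hr' hpp).mp (hr'.dvd_of_dvd_pow hrd)]
    exact hpA
  have hAPn : (A.subgroupOf P).Normal := by
    rw [Subgroup.normal_subgroupOf_iff_le_normalizer hA.1]
    exact hA.2.1
  -- K ≤ Q
  have hKQ : piCoreOf (primesNotDvd (Nat.card A)) (Subgroup.centralizer (A : Set G)) ≤ Q := by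
    apply hPinv
    · have h1 := Transitivity.coreK_coprime A
      rw [Transitivity.coreK_def] at h1
      exact Nat.Coprime.coprime_dvd_right hpA h1
    · exact hA.2.1.trans (Transitivity.coreK_normalized A)
  -- every A-invariant q-subgroup is in Q
  have hq : ∀ (q : ℕ), q.Prime → q ≠ p → ∀ T : Subgroup G, IsPGroup q T →
      A ≤ Subgroup.normalizer (T : Set G) → T ≤ Q := by
    intro q hq hqp T hT hAT
    have hqA : ¬ q ∣ Nat.card A := by
      intro h
      rw [hn] at h
      exact hqp ((Nat.prime_dvd_prime_iff_eq hq hpp).mp (hq.dvd_of_dvd_pow h))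
    have htr := Cfsg.Agent.S1393.result hG A hTH hZ q hq hqA
    have hsn := (Cfsg.Agent.S1395.result hG A hTH q hq hqA P hPtop hPπ hA.1
      hAPn.isSubnormal htr).2.2.1
    obtain ⟨Q₂, hQ₂, -⟩ := Transitivity.exists_maxInv_ge (Transitivity.bot_mem_inv ⊤ P {q})
    obtain ⟨Q₁, hQ₁, hTQ₁⟩ := Transitivity.exists_maxInv_ge (H := ⊤) (A := A) (Y := T) (π := {q})
      ⟨le_top, (isPi_singleton_iff hq T).mpr hT, hAT⟩
    obtain ⟨k, hk, hkQ⟩ := htr Q₂ (hsn hQ₂) Q₁ hQ₁
    have hQ₂Q : Q₂ ≤ Q := by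
      apply hPinv
      · haveI := Fact.mk hq
        obtain ⟨m, hm⟩ := IsPGroup.iff_card.mp ((isPi_singleton_iff hq Q₂).mp hQ₂.1.2.1)
        rw [hm]
        exact Nat.Coprime.pow_left m ((Nat.coprime_primes hq hpp).mpr hqp)
      · exact hQ₂.1.2.2
    refine hTQ₁.trans ?_
    rw [hkQ]
    rintro _ ⟨x, hx, rfl⟩
    exact Q.mul_mem (Q.mul_mem (hKQ hk) (hQ₂Q hx)) (Q.inv_mem (hKQ hk))
  -- conclusion via invariant Sylow subgroups
  have hYn : ∀ b ∈ A, ∀ u ∈ Y, b * u * b⁻¹ ∈ Y := fun b hb u hu =>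
    (Subgroup.mem_normalizer_iff.mp (hAY hb) u).mp hu
  have hpY : ¬ p ∣ Nat.card Y := fun h => by
    have h1 := Nat.dvd_gcd h (dvd_refl p)
    rw [hY.gcd_eq_one] at h1
    exact hpp.one_lt.ne' (Nat.dvd_one.mp h1)
  have htop : Q.subgroupOf Y = ⊤ := by
    apply Cfsg.Agent.Lib.Cores.eq_top_of_sylow_le
    intro q hqf
    obtain ⟨T, ⟨T', hT'⟩, hTA⟩ :=
      Cfsg.Agent.Lib.PGroupCoprimeAction.exists_invariant_sylow hAp hpY hYn q
    refine ⟨T', ?_⟩
    intro x hx
    rw [Subgroup.mem_subgroupOf]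
    by_cases hqp : q = p
    · subst hqp
      -- T' is trivial
      have h1 : (T' : Subgroup Y) = ⊥ := by
        rw [← Subgroup.card_eq_one]
        rw [T'.card_eq_multiplicity, Nat.factorization_eq_zero_of_not_dvd hpY, pow_zero]
      rw [h1, Subgroup.mem_bot] at hx
      rw [hx]
      exact Q.one_mem
    · refine hq q hqf.out hqp T ?_ ?_ ?_
      · rw [← hT']; exact T'.isPGroup'.map _
      · intro b hb
        rw [Subgroup.mem_normalizer_iff]
        intro y
        constructor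
        · exact hTA b hb y
        · intro h
          have := hTA b⁻¹ (A.inv_mem hb) _ h
          simpa [mul_assoc] using this
      · rw [← hT']; exact Subgroup.mem_map_of_mem _ hx
  rwa [Subgroup.subgroupOf_eq_top] at htop

/-- The case `O_{p'}(M) ≠ 1`: every proper subgroup containing `P` lies in `M`. -/
theorem le_of_core_ne_bot (hG : IsMinSimpleOddOrder G) {M B : Subgroup G} (hM : IsCoatom M)
    {p : ℕ} [Fact p.Prime] (hB1 : B ≠ ⊥)
    (hinv : ∀ Y : Subgroup G, (Nat.card Y).Coprime p → B ≤ Subgroup.normalizer (Y : Set G) → Y ≤ M)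
    (hO : piCoreOf (primesNotDvd p) M ≠ ⊥)
    (P : Subgroup G) (hP : IsSyl p P M) (hBP : B ≤ P) (H : Subgroup G) (hH : H ≠ ⊤) (hPH : P ≤ H) :
    H ≤ M := by
  have hP1 : P ≠ ⊥ := fun h => hB1 (le_bot_iff.mp (h ▸ hBP))
  have hp2 : p ≠ 2 := MinSimpleBasic.prime_ne_two_of_isPGroup hG hP.isPGroup hP1
  have hMs := MinSimpleBasic.isSolvable_of_isCoatom hG hM
  have hHs := MinSimpleBasic.isSolvable_of_ne_top hG hH
  have hHodd := MinSimpleBasic.odd_card_subgroup hG H
  have hPinv : ∀ Y : Subgroup G, (Nat.card Y).Coprime p → P ≤ Subgroup.normalizer (Y : Set G) →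
      Y ≤ piCoreOf (primesNotDvd p) M := fun Y hY hPY =>
    le_piCoreOf_of_isSyl hMs hP (hinv Y hY (hBP.trans hPY)) hY hPY
  have hNP : Subgroup.normalizer (P : Set G) ≤ M :=
    normalizer_le_of_invariant hG hM hP.le hO hPinv
  have hPHs : IsSyl p P H :=
    isSyl_of_normalizer_le hPH (hP.mono (le_inf hPH hP.le) inf_le_right)
      (le_inf inf_le_left (inf_le_right.trans hNP))
  have hPG : IsSyl p P ⊤ := isSyl_of_normalizer_le le_top hP (inf_le_right.trans hNP)
  have h1 := le_sup_normalizer_inf hPHs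
  refine h1.trans (sup_le ?_ (inf_le_right.trans ?_))
  · refine hinv _ (coprime_of_isPi_primesNotDvd (piCoreOf_isPi _ _)) ?_
    exact (hBP.trans hPH).trans (le_normalizer_piCoreOf _ _)
  · by_cases hr : PRankLE p 2 P
    · rw [inf_eq_left.mpr (isSyl_le_map_pPrimePCore hHs hHodd hPHs hP1 hr)]
      exact hNP
    · obtain ⟨A, hA, hAr⟩ := ScnThree.exists_isSCN_three hp2 hP.isPGroup hr
      have hAinv := le_of_scn_three hG hPG hA hAr hPinv
      have hAc : IsMulCommutative A := ScnThree.isSCN_isMulCommutative hA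
      have hAD := le_map_pPrimePCore hHs hHodd hPHs hA.1 hAc hA.2.1
      refine normalizer_le_of_invariant hG hM (inf_le_left.trans hP.le) hO ?_
      intro Y hY hPY
      exact hAinv Y hY ((le_inf hA.1 hAD).trans hPY)

/-- B&G Theorem 9.1(b), for any `p`-subgroup `B ≠ 1`. -/
theorem inUniqueMaximal_of_invariant (hG : IsMinSimpleOddOrder G) {M B : Subgroup G}
    (hM : IsCoatom M) {p : ℕ} [Fact p.Prime] (hBp : IsPGroup p B) (hB1 : B ≠ ⊥) (hBM : B ≤ M)
    (hinv : ∀ Y : Subgroup G, (Nat.card Y).Coprime p → B ≤ Subgroup.normalizer (Y : Set G) →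
      Y ≤ M) : InUniqueMaximal B := by
  by_cases hO : piCoreOf (primesNotDvd p) M = ⊥
  · exact inUniqueMaximal_of_core_eq_bot hG hM hBp hB1 hBM hinv hO
  · exact inUniqueMaximal_of hG hM hBp hB1 hBM hinv
      (fun P hP hBP H hH hPH => le_of_core_ne_bot hG hM hB1 hinv hO P hP hBP H hH hPH)

end Cfsg.Agent.OddOrderLocal.NormedUniq
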