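import Mathlib
import Cfsg.Prelude.Def_OddOrderLocal
import Cfsg.Agent.Lib.NormalAbelian

/-!
Small tools for the uniqueness theorems in a minimal simple group of odd order:
transport of `InUniqueMaximal` along automorphisms, elementary abelian subgroups witnessing a
`p`-rank, and the bound `#E ≤ p * #C_E(Z)` for `Z` normal of order `p ^ 2` in a `p`-group
containing `E`.
-/

set_option autoImplicit false

namespace Cfsg.Agent.OddOrderLocal.RankThreeTools

universe u

variable {G : Type u} [Group G]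

theorem isCoatom_map (e : G ≃* G) {M : Subgroup G} (h : IsCoatom M) :
    IsCoatom (M.map e.toMonoidHom) :=
  (OrderIso.isCoatom_iff (e.mapSubgroup) M).mpr h

theorem inUniqueMaximal_map (e : G ≃* G) {A : Subgroup G} (h : Cfsg.InUniqueMaximal A) :
    Cfsg.InUniqueMaximal (A.map e.toMonoidHom) := by
  obtain ⟨M, ⟨hM, hAM⟩, huniq⟩ := h
  refine ⟨M.map e.toMonoidHom, ⟨isCoatom_map e hM, Subgroup.map_mono hAM⟩, ?_⟩
  rintro N ⟨hN, hAN⟩
  have h1 : N.map e.symm.toMonoidHom = M := by
    refine huniq _ ⟨isCoatom_map e.symm hN, ?_⟩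
    have h2 := Subgroup.map_mono (f := e.symm.toMonoidHom) hAN
    rw [Subgroup.map_map] at h2
    simpa using h2
  rw [← h1, Subgroup.map_map]
  simp

theorem inUniqueMaximal_of_le {A B : Subgroup G} (hA : Cfsg.InUniqueMaximal A) (hAB : A ≤ B)
    (hB : ∃ M : Subgroup G, IsCoatom M ∧ B ≤ M) : Cfsg.InUniqueMaximal B := by
  obtain ⟨M, hM, hBM⟩ := hB
  refine ⟨M, ⟨hM, hBM⟩, fun N hN => ?_⟩
  exact hA.unique ⟨hN.1, hAB.trans hN.2⟩ ⟨hM, hAB.trans hBM⟩

/-- A subgroup of `p`-rank more than `k` contains (as a subgroup of `G`) an elementary abelian subgroup of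
order more than `p ^ k`. -/
theorem exists_of_not_pRankLE {p k : ℕ} {H : Subgroup G} (h : ¬ Cfsg.PRankLE p k ↥H) :
    ∃ E : Subgroup G, E ≤ H ∧ IsMulCommutative E ∧ (∀ a ∈ E, a ^ p = 1) ∧ p ^ k < Nat.card E := by
  unfold Cfsg.PRankLE at h
  push Not at h
  obtain ⟨A, hAc, hAp, hA⟩ := h
  refine ⟨A.map H.subtype, Subgroup.map_subtype_le A, ?_, ?_, ?_⟩
  · infer_instance
  · rintro _ ⟨a, ha, rfl⟩
    have := hAp a ha
    rw [← map_pow, this, map_one]
  · rwa [Subgroup.card_map_of_injective H.subtype_injective]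

theorem not_pRankLE_of_le {p k : ℕ} {H E : Subgroup G} (hEH : E ≤ H) (hEc : IsMulCommutative E)
    (hEp : ∀ a ∈ E, a ^ p = 1) (hE : p ^ k < Nat.card E) : ¬ Cfsg.PRankLE p k ↥H := by
  intro h
  have h1 := h (E.subgroupOf H) ?_ ?_
  · rw [Nat.card_congr (Subgroup.subgroupOfEquivOfLe hEH).toEquiv] at h1
    omega
  · infer_instance
  · intro a ha
    exact Subtype.ext (hEp _ (Subgroup.mem_subgroupOf.mp ha))

theorem not_rankLE_one_of_le {p : ℕ} (hp : p.Prime) {H E : Subgroup G} (hEH : E ≤ H)
    (hEc : IsMulCommutative E)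
    (hEp : ∀ a ∈ E, a ^ p = 1) (hE : p < Nat.card E) : ¬ Cfsg.RankLE 1 ↥H := by
  intro h
  exact not_pRankLE_of_le (k := 1) hEH hEc hEp (by simpa using hE) (h p hp)

theorem isPGroup_of_pow {p : ℕ} {E : Subgroup G} (hEp : ∀ a ∈ E, a ^ p = 1) : IsPGroup p E := by
  intro a
  exact ⟨1, Subtype.ext (by simpa using hEp _ a.2)⟩

/-- In a finite `p`-group, a normal elementary abelian subgroup of order `p ^ 2` has centralizer of
index at most `p`. -/
theorem index_centralizer_le {P : Type u} [Group P] [Finite P] {p : ℕ} [hpf : Fact p.Prime]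
    (hP : IsPGroup p P) (Z : Subgroup P) [hZn : Z.Normal] (hZc : IsMulCommutative Z)
    (hZp : ∀ a ∈ Z, a ^ p = 1) (hZ : Nat.card Z = p ^ 2) :
    (Subgroup.centralizer (Z : Set P)).index ≤ p := by
  classical
  have hp := hpf.out
  have hnil : Group.IsNilpotent P := hP.isNilpotent
  have hZne : Z ≠ ⊥ := by
    rintro rfl
    rw [Subgroup.card_bot] at hZ
    have : 1 < p ^ 2 := Nat.one_lt_pow (by norm_num) hp.one_lt
    omega
  obtain ⟨z1, hz1, hz1ne⟩ : ∃ z : P, z ∈ Z ⊓ Subgroup.center P ∧ z ≠ 1 := by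
    obtain ⟨y, hy⟩ := Subgroup.ne_bot_iff_exists_ne_one.mp
      (Cfsg.Agent.Lib.NormalAbelian.normal_inf_center_ne_bot Z hZne)
    exact ⟨y.1, y.2, fun e => hy (Subtype.ext e)⟩
  have hz1o : orderOf z1 = p := orderOf_eq_prime (hZp z1 hz1.1) hz1ne
  have hcz1 : Nat.card (Subgroup.zpowers z1) = p := by rw [Nat.card_zpowers, hz1o]
  have hle1 : Subgroup.zpowers z1 ≤ Z := by
    rw [Subgroup.zpowers_le]; exact hz1.1
  obtain ⟨z2, hz2, hz2n⟩ : ∃ z2 ∈ Z, z2 ∉ Subgroup.zpowers z1 := by
    by_contra hcon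
    push Not at hcon
    have h1 : Z ≤ Subgroup.zpowers z1 := hcon
    have h2 := Subgroup.card_le_of_le h1
    rw [hcz1, hZ] at h2
    have := hp.one_lt
    nlinarith
  -- closure of z1 and z2 is Z
  have hcl : Subgroup.closure {z1, z2} = Z := by
    have hle : Subgroup.closure {z1, z2} ≤ Z := by
      rw [Subgroup.closure_le]
      rintro x (rfl | hx)
      · exact hz1.1
      · rw [Set.mem_singleton_iff.mp hx]; exact hz2
    have hge : Subgroup.zpowers z1 ≤ Subgroup.closure {z1, z2} := by
      rw [Subgroup.zpowers_le]; exact Subgroup.subset_closure (by simp)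
    have hdvd : Nat.card (Subgroup.closure {z1, z2}) ∣ p ^ 2 := by
      rw [← hZ]; exact Subgroup.card_dvd_of_le hle
    obtain ⟨k, hk, hk'⟩ := (Nat.dvd_prime_pow hp).mp hdvd
    have hne : Subgroup.zpowers z1 ≠ Subgroup.closure {z1, z2} := by
      intro h
      apply hz2n
      rw [h]
      exact Subgroup.subset_closure (by simp)
    have hlt : p < Nat.card (Subgroup.closure {z1, z2}) := by
      rw [← hcz1]
      refine lt_of_le_of_ne (Subgroup.card_le_of_le hge) fun h => hne ?_
      exact Subgroup.eq_of_le_of_card_ge hge h.ge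
    have hk2 : k = 2 := by
      interval_cases k
      · rw [hk', pow_zero] at hlt; have := hp.one_lt; omega
      · rw [hk', pow_one] at hlt; omega
      · rfl
    refine Subgroup.eq_of_le_of_card_ge hle ?_
    rw [hk', hk2, hZ]
  have hcent : Subgroup.centralizer (Z : Set P) = Subgroup.centralizer {z2} := by
    apply le_antisymm
    · exact Subgroup.centralizer_le (by simpa using hz2)
    · intro x hx
      rw [← hcl, Subgroup.centralizer_closure]
      refine Subgroup.mem_centralizer_iff.mpr ?_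
      rintro y (rfl | hy)
      · exact (Subgroup.mem_center_iff.mp hz1.2 x).symm
      · rw [Set.mem_singleton_iff.mp hy]
        exact Subgroup.mem_centralizer_iff.mp hx z2 rfl
  rw [hcent]
  obtain ⟨k, hk⟩ := hP.index (Subgroup.centralizer {z2})
  -- the conjugates of z2
  have hidx : (Subgroup.centralizer ({z2} : Set P)).index < p ^ 2 := by
    have h1 : (Subgroup.centralizer ({z2} : Set P)).index
        = (MulAction.orbit (ConjAct P) z2).ncard := by
      rw [← MulAction.index_stabilizer, Subgroup.centralizer_eq_comap_stabilizer]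
      exact Subgroup.index_comap_of_surjective _ (ConjAct.toConjAct (G := P)).surjective
    rw [h1]
    have h2 : MulAction.orbit (ConjAct P) z2 ⊂ (Z : Set P) := by
      refine (Set.ssubset_iff_of_subset ?_).mpr ⟨1, Z.one_mem, ?_⟩
      · intro x hx
        rw [ConjAct.mem_orbit_conjAct] at hx
        obtain ⟨c, hc⟩ := isConj_iff.mp hx.symm
        rw [← hc]
        exact hZn.conj_mem _ hz2 c
      · intro h
        rw [ConjAct.mem_orbit_conjAct, isConj_comm, isConj_one_left] at h
        rw [h] at hz2n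
        exact hz2n (Subgroup.one_mem _)
    have h3 := Set.ncard_lt_ncard h2 (Set.toFinite _)
    rwa [← Nat.card_coe_set_eq (Z : Set P), SetLike.coe_sort_coe, hZ] at h3
  rw [hk] at hidx ⊢
  have : k < 2 := (Nat.pow_lt_pow_iff_right hp.one_lt).mp hidx
  calc p ^ k ≤ p ^ 1 := Nat.pow_le_pow_right hp.pos (by omega)
    _ = p := pow_one p

/-- If `Z` is an elementary abelian subgroup of order `p ^ 2` normal in a `p`-subgroup `S`, then
`#E ≤ p * #C_E(Z)` for every `E ≤ S`. -/
theorem card_le_mul_card_inf_centralizer [Finite G] {p : ℕ} [Fact p.Prime] {S Z E : Subgroup G}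
    (hS : IsPGroup p S) (hZS : Z ≤ S) (hSZ : S ≤ Subgroup.normalizer (Z : Set G))
    (hZc : IsMulCommutative Z) (hZp : ∀ a ∈ Z, a ^ p = 1) (hZ : Nat.card Z = p ^ 2) (hE : E ≤ S) :
    Nat.card E ≤ p * Nat.card ↥(E ⊓ Subgroup.centralizer (Z : Set G)) := by
  have hn : (Z.subgroupOf S).Normal := (Subgroup.normal_subgroupOf_iff_le_normalizer hZS).mpr hSZ
  have h1 := index_centralizer_le hS (Z.subgroupOf S) inferInstance
    (fun a ha => Subtype.ext (hZp _ (Subgroup.mem_subgroupOf.mp ha)))
    (by rw [Nat.card_congr (Subgroup.subgroupOfEquivOfLe hZS).toEquiv, hZ])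
  have hcent : Subgroup.centralizer ((Z.subgroupOf S : Subgroup S) : Set S)
      = (Subgroup.centralizer (Z : Set G)).subgroupOf S := by
    ext x
    rw [Subgroup.mem_subgroupOf, Subgroup.mem_centralizer_iff, Subgroup.mem_centralizer_iff]
    constructor
    · intro h y hy
      exact congrArg Subtype.val (h ⟨y, hZS hy⟩ (Subgroup.mem_subgroupOf.mpr hy))
    · intro h y hy
      exact Subtype.ext (h y.1 (Subgroup.mem_subgroupOf.mp hy))
  rw [hcent] at h1
  have h2 : (Subgroup.centralizer (Z : Set G)).relIndex E ≤ p := by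
    refine le_trans ?_ h1
    have := Subgroup.relIndex_le_of_le_right (H := Subgroup.centralizer (Z : Set G)) hE
      (by exact Subgroup.index_ne_zero_of_finite)
    exact this
  have h3 := Subgroup.card_mul_index ((Subgroup.centralizer (Z : Set G)).subgroupOf E)
  have h4 : Nat.card ↥((Subgroup.centralizer (Z : Set G)).subgroupOf E)
      = Nat.card ↥(E ⊓ Subgroup.centralizer (Z : Set G)) := by
    rw [← Subgroup.inf_subgroupOf_left,
      Nat.card_congr (Subgroup.subgroupOfEquivOfLe inf_le_left).toEquiv]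
  rw [h4] at h3
  rw [← h3, mul_comm]
  exact Nat.mul_le_mul_right _ h2

end Cfsg.Agent.OddOrderLocal.RankThreeTools
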