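import Mathlib
import Cfsg.Prelude.Def_OddOrderLocal

set_option autoImplicit false
open Cfsg
open scoped Pointwise commutatorElement

namespace Cfsg.Agent.OddOrderLocal.RankBasics

variable {G : Type*} [Group G]

/-- An elementary abelian subgroup given by ambient conditions. -/
theorem isElementaryAbelian_iff {p : ℕ} {A : Subgroup G} :
    Cfsg.IsElementaryAbelian p A ↔ (∀ a ∈ A, ∀ b ∈ A, a * b = b * a) ∧ ∀ a ∈ A, a ^ p = 1 := by
  constructor
  · rintro ⟨h1, h2⟩
    refine ⟨fun a ha b hb => ?_, h2⟩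
    exact congrArg Subtype.val (h1.is_comm.comm ⟨a, ha⟩ ⟨b, hb⟩)
  · rintro ⟨h1, h2⟩
    refine ⟨⟨⟨fun a b => ?_⟩⟩, h2⟩
    exact Subtype.ext (h1 a a.2 b b.2)

theorem IsElementaryAbelian.mono' {p : ℕ} {A B : Subgroup G} (hB : Cfsg.IsElementaryAbelian p B) (h : A ≤ B) :
    Cfsg.IsElementaryAbelian p A := by
  rw [isElementaryAbelian_iff] at hB ⊢
  exact ⟨fun a ha b hb => hB.1 a (h ha) b (h hb), fun a ha => hB.2 a (h ha)⟩

theorem isElementaryAbelian_map {H : Type*} [Group H] {p : ℕ} {A : Subgroup G}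
    (hA : Cfsg.IsElementaryAbelian p A) (f : G →* H) :
    Cfsg.IsElementaryAbelian p (A.map f) := by
  rw [isElementaryAbelian_iff] at hA ⊢
  constructor
  · rintro _ ⟨a, ha, rfl⟩ _ ⟨b, hb, rfl⟩
    rw [← map_mul, ← map_mul, hA.1 a ha b hb]
  · rintro _ ⟨a, ha, rfl⟩
    rw [← map_pow, hA.2 a ha, map_one]

theorem isElementaryAbelian_subgroupOf {p : ℕ} {A : Subgroup G} (H : Subgroup G)
    (hA : Cfsg.IsElementaryAbelian p A) : Cfsg.IsElementaryAbelian p (A.subgroupOf H) := by
  rw [isElementaryAbelian_iff] at hA ⊢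
  constructor
  · intro a ha b hb
    exact Subtype.ext (hA.1 a ha b hb)
  · intro a ha
    exact Subtype.ext (hA.2 a ha)

/-- `PRankLE` for a subgroup, phrased with subgroups of the ambient group. -/
theorem pRankLE_subgroup_iff (p k : ℕ) (H : Subgroup G) :
    Cfsg.PRankLE p k H ↔ ∀ A : Subgroup G, A ≤ H → Cfsg.IsElementaryAbelian p A → Nat.card A ≤ p ^ k := by
  constructor
  · intro h A hA hE
    have h1 : Nat.card (A.subgroupOf H) = Nat.card A :=
      Nat.card_congr (Subgroup.subgroupOfEquivOfLe hA).toEquiv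
    rw [← h1]
    have h2 := isElementaryAbelian_subgroupOf H hE
    exact h _ h2.1 h2.2
  · intro h A hA hE
    have h1 : Nat.card (A.map H.subtype) = Nat.card A :=
      (Nat.card_congr (A.equivMapOfInjective H.subtype H.subtype_injective).toEquiv).symm
    rw [← h1]
    exact h _ (Subgroup.map_subtype_le A) (isElementaryAbelian_map ⟨hA, hE⟩ _)

theorem not_pRankLE_subgroup_iff (p k : ℕ) (H : Subgroup G) :
    ¬ Cfsg.PRankLE p k H ↔ ∃ A : Subgroup G, A ≤ H ∧ Cfsg.IsElementaryAbelian p A ∧ p ^ k < Nat.card A := by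
  rw [pRankLE_subgroup_iff]
  push Not
  rfl

theorem pRankLE_mono {p k : ℕ} {H K : Subgroup G} (h : H ≤ K) (hK : Cfsg.PRankLE p k K) :
    Cfsg.PRankLE p k H := by
  rw [pRankLE_subgroup_iff] at hK ⊢
  intro A hA hE
  exact hK A (hA.trans h) hE

theorem isElementaryAbelian_of_card_prime {p : ℕ} [Fact p.Prime] {X : Subgroup G} (hX : Nat.card X = p) :
    Cfsg.IsElementaryAbelian p X := by
  have : IsCyclic X := isCyclic_of_prime_card hX
  refine ⟨⟨⟨fun a b => ?_⟩⟩, ?_⟩
  · exact IsCyclic.isMulCommutative.is_comm.comm a b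
  · intro a ha
    have := pow_card_eq_one' (G := X) (x := ⟨a, ha⟩)
    rw [hX] at this
    simpa using congrArg Subtype.val this

/-- The join of two commuting elementary abelian subgroups. -/
theorem isElementaryAbelian_sup {p : ℕ} {A B : Subgroup G}
    (hA : Cfsg.IsElementaryAbelian p A) (hB : Cfsg.IsElementaryAbelian p B)
    (hAB : ∀ a ∈ A, ∀ b ∈ B, a * b = b * a) : Cfsg.IsElementaryAbelian p (A ⊔ B) := by
  rw [isElementaryAbelian_iff] at hA hB
  have hmem : ∀ x ∈ A ⊔ B, ∃ a ∈ A, ∃ b ∈ B, a * b = x := by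
    intro x hx
    rw [← Subgroup.mem_toSubmonoid] at hx
    have hn : A ≤ Subgroup.normalizer (B : Set G) := by
      intro a ha
      rw [Subgroup.mem_normalizer_iff]
      intro b
      constructor
      · intro hb
        rw [hAB a ha b hb]; simpa using hb
      · intro hb
        have h3 := hAB a⁻¹ (A.inv_mem ha) _ hb
        have : b = a⁻¹ * (a * b * a⁻¹) * a := by group
        rw [this, h3]; simpa [mul_assoc] using hb
    have h4 : ((A ⊔ B : Subgroup G) : Set G) = (A : Set G) * (B : Set G) :=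
      Subgroup.coe_mul_of_left_le_normalizer_right A B hn
    have hx' : x ∈ ((A ⊔ B : Subgroup G) : Set G) := hx
    rw [h4] at hx'
    obtain ⟨a, ha, b, hb, rfl⟩ := hx'
    exact ⟨a, ha, b, hb, rfl⟩
  rw [isElementaryAbelian_iff]
  constructor
  · intro x hx y hy
    obtain ⟨a, ha, b, hb, rfl⟩ := hmem x hx
    obtain ⟨c, hc, d, hd, rfl⟩ := hmem y hy
    have e1 := hAB c hc b hb
    have e2 := hAB a ha d hd
    calc a * b * (c * d) = a * (b * c) * d := by group
      _ = a * (c * b) * d := by rw [e1]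
      _ = (a * c) * (b * d) := by group
      _ = (c * a) * (d * b) := by rw [hA.1 a ha c hc, hB.1 b hb d hd]
      _ = c * (a * d) * b := by group
      _ = c * (d * a) * b := by rw [e2]
      _ = c * d * (a * b) := by group
  · intro x hx
    obtain ⟨a, ha, b, hb, rfl⟩ := hmem x hx
    have : Commute a b := hAB a ha b hb
    rw [this.mul_pow, hA.2 a ha, hB.2 b hb, one_mul]

/-- Elements of a join `A ⊔ B` where `A` normalizes `B`. -/
theorem exists_mul_of_mem_sup {A B : Subgroup G} (hAB : A ≤ Subgroup.normalizer (B : Set G)) {x : G}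
    (hx : x ∈ A ⊔ B) : ∃ a ∈ A, ∃ b ∈ B, a * b = x := by
  have hx' : x ∈ ((A ⊔ B : Subgroup G) : Set G) := hx
  rw [Subgroup.coe_mul_of_left_le_normalizer_right A B hAB] at hx'
  obtain ⟨a, ha, b, hb, rfl⟩ := hx'
  exact ⟨a, ha, b, hb, rfl⟩

theorem le_normalizer_of_commute {A B : Subgroup G} (hAB : ∀ a ∈ A, ∀ b ∈ B, a * b = b * a) :
    A ≤ Subgroup.normalizer (B : Set G) := by
  rw [Subgroup.le_normalizer_iff]
  intro a ha b hb
  rw [hAB a ha b hb]; simpa using hb

theorem card_subgroupOf_of_le {X Q : Subgroup G} (h : X ≤ Q) : Nat.card (X.subgroupOf Q) = Nat.card X :=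
  Nat.card_congr (Subgroup.subgroupOfEquivOfLe h).toEquiv

theorem card_map_subtype {Q : Subgroup G} (A : Subgroup Q) : Nat.card (A.map Q.subtype) = Nat.card A :=
  (Nat.card_congr (A.equivMapOfInjective _ (Subgroup.subtype_injective _)).toEquiv).symm

theorem card_map_conj (A : Subgroup G) (g : G) :
    Nat.card (A.map (MulAut.conj g).toMonoidHom) = Nat.card A :=
  (Nat.card_congr (A.equivMapOfInjective _ (MulAut.conj g).injective).toEquiv).symm

/-- The derived group of a group of order `p ^ 3` is central. -/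
theorem commutator_le_center_of_card_eq_prime_cube {P : Type*} [Group P] {p : ℕ} [Fact p.Prime]
    (hP : Nat.card P = p ^ 3) : commutator P ≤ Subgroup.center P := by
  have hp : p.Prime := Fact.out
  have hfin : Finite P := Nat.finite_of_card_ne_zero (by rw [hP]; exact pow_ne_zero _ hp.ne_zero)
  have hPp : IsPGroup p P := IsPGroup.of_card hP
  have hnt : Nontrivial P := by
    rw [← Finite.one_lt_card_iff_nontrivial, hP]
    exact Nat.one_lt_pow (by norm_num) hp.one_lt
  have hZ : Nontrivial (Subgroup.center P) := hPp.center_nontrivial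
  rw [← Subgroup.Normal.quotient_commutative_iff_commutator_le]
  obtain ⟨n, hn⟩ := IsPGroup.iff_card.mp (hPp.to_subgroup (Subgroup.center P))
  have hmul := Subgroup.card_eq_card_quotient_mul_card_subgroup (Subgroup.center P)
  obtain ⟨m, hm⟩ := IsPGroup.iff_card.mp (hPp.to_quotient (Subgroup.center P))
  have h1 : 1 < Nat.card (Subgroup.center P) := Finite.one_lt_card
  have hn1 : 1 ≤ n := by
    rcases Nat.eq_zero_or_pos n with h0 | h0
    · rw [hn, h0] at h1; simp at h1
    · exact h0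
  rw [hP, hm, hn, ← pow_add] at hmul
  have hmn : 3 = m + n := Nat.pow_right_injective hp.two_le hmul
  have hm2 : m ≤ 2 := by omega
  interval_cases m
  · have : Subsingleton (P ⧸ Subgroup.center P) := by
      rw [← Nat.card_eq_one_iff_unique.trans (and_iff_left ⟨1⟩)]
      simpa using hm
    exact ⟨⟨fun a b => Subsingleton.elim _ _⟩⟩
  · have hcyc : IsCyclic (P ⧸ Subgroup.center P) := isCyclic_of_prime_card (p := p) (by simpa using hm)
    exact IsCyclic.isMulCommutative
  · exact IsPGroup.isMulCommutative_of_card_eq_prime_sq hm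

/-- If `Q` is generated by commuting subgroups `P₁` of order `p ^ 3` and `P₂` abelian, then the derived
group of `Q` centralizes `Q`. -/
theorem derived_le_centralizer_of_central_product {p : ℕ} [Fact p.Prime] {Q P₁ P₂ : Subgroup G}
    (h12 : P₁ ⊔ P₂ = Q) (hcomm : ∀ a ∈ P₁, ∀ b ∈ P₂, a * b = b * a) (hP1card : Nat.card P₁ = p ^ 3)
    (hP2 : ∀ a ∈ P₂, ∀ b ∈ P₂, a * b = b * a) : ⁅Q, Q⁆ ≤ Subgroup.centralizer (Q : Set G) := by
  have h1 := commutator_le_center_of_card_eq_prime_cube hP1card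
  have h2 : ∀ a ∈ P₁, ∀ c ∈ P₁, ∀ d ∈ P₁, ⁅a, c⁆ * d = d * ⁅a, c⁆ := by
    intro a ha c hc d hd
    have h3 : (⁅(⟨a, ha⟩ : P₁), ⟨c, hc⟩⁆ : P₁) ∈ Subgroup.center P₁ := by
      apply h1
      rw [commutator_def]
      exact Subgroup.commutator_mem_commutator (Subgroup.mem_top _) (Subgroup.mem_top _)
    have h4 := Subgroup.mem_center_iff.mp h3 ⟨d, hd⟩
    have h5 := congrArg Subtype.val h4
    simpa [commutatorElement_def] using h5.symm
  have hmem : ∀ x ∈ Q, ∃ a ∈ P₁, ∃ b ∈ P₂, a * b = x := by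
    intro x hx
    rw [← h12] at hx
    exact exists_mul_of_mem_sup (le_normalizer_of_commute hcomm) hx
  rw [Subgroup.commutator_le]
  intro x hx y hy
  obtain ⟨a, ha, b, hb, rfl⟩ := hmem x hx
  obtain ⟨c, hc, d, hd, rfl⟩ := hmem y hy
  have h6 : ⁅a * b, c * d⁆ = ⁅a, c⁆ := by
    have e1 : b * c = c * b := (hcomm c hc b hb).symm
    have e2 : b * d = d * b := hP2 b hb d hd
    have e3 : Commute b c := e1
    have e4 : Commute b d := e2
    have e5 : Commute a d := hcomm a ha d hd
    have e6 : Commute b a := (hcomm a ha b hb).symm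
    have e7 : Commute d c := (hcomm c hc d hd).symm
    rw [commutatorElement_def, commutatorElement_def]
    have f1 : a * b * (c * d) = (a * c) * (d * b) := by
      calc a * b * (c * d) = a * (b * c) * d := by group
        _ = a * (c * b) * d := by rw [e1]
        _ = (a * c) * (b * d) := by group
        _ = (a * c) * (d * b) := by rw [e2]
    have f2 : (a * b)⁻¹ * (c * d)⁻¹ = (d * b)⁻¹ * (a⁻¹ * c⁻¹) := by
      rw [← mul_inv_rev, ← mul_inv_rev, ← mul_inv_rev]
      congr 1
      calc c * d * (a * b) = c * (d * a) * b := by group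
        _ = c * (a * d) * b := by rw [e5.eq]
        _ = c * a * (d * b) := by group
    calc a * b * (c * d) * (a * b)⁻¹ * (c * d)⁻¹ = (a * b * (c * d)) * ((a * b)⁻¹ * (c * d)⁻¹) := by group
      _ = (a * c) * (d * b) * ((d * b)⁻¹ * (a⁻¹ * c⁻¹)) := by rw [f1, f2]
      _ = a * c * a⁻¹ * c⁻¹ := by group
  rw [h6, Subgroup.mem_centralizer_iff]
  intro z hz
  obtain ⟨e, he, f, hf, rfl⟩ := hmem z hz
  have g1 := h2 a ha c hc e he
  have g2 : ⁅a, c⁆ * f = f * ⁅a, c⁆ :=
    hcomm _ (by rw [commutatorElement_def]; exact P₁.mul_mem (P₁.mul_mem (P₁.mul_mem ha hc) (P₁.inv_mem ha)) (P₁.inv_mem hc)) f hf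
  calc e * f * ⁅a, c⁆ = e * (f * ⁅a, c⁆) := by group
    _ = e * (⁅a, c⁆ * f) := by rw [g2]
    _ = (e * ⁅a, c⁆) * f := by group
    _ = (⁅a, c⁆ * e) * f := by rw [g1]
    _ = ⁅a, c⁆ * (e * f) := by group

end Cfsg.Agent.OddOrderLocal.RankBasics
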