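import Mathlib
import Cfsg.Prelude.Def_OddOrderLocal
import Cfsg.Agent.OddOrderLocal.MinSimpleBasic
import Cfsg.Agent.OddOrderLocal.PiCore
import Cfsg.Agent.S1405
import Cfsg.Agent.S1451

/-!
`M_F ≤ M_σ`, `M' < M` and `M_σ ≠ 1` for a maximal subgroup `M` of a minimal simple group of odd order.
(`M_σ ≠ 1` is Bender-Glauberman 10.2(e), from S1405 and S1451.)
-/

set_option autoImplicit false

namespace Cfsg.Agent.OddOrderLocal.FcoreChain

open Cfsg
open Cfsg.Agent.OddOrderLocal.MinSimpleBasic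
open Cfsg.Agent.OddOrderLocal.PiCore

variable {G : Type*} [Group G]

/-- `M` normalizes the image in `G` of a normal subgroup of `M`. -/
theorem le_normalizer_map_subtype {M : Subgroup G} {N : Subgroup M} (hN : N.Normal) :
    M ≤ Subgroup.normalizer ((N.map M.subtype : Subgroup G) : Set G) := by
  intro g hg
  rw [Subgroup.mem_normalizer_iff]
  intro h
  constructor
  · rintro ⟨y, hy, rfl⟩
    exact ⟨⟨g, hg⟩ * y * ⟨g, hg⟩⁻¹, hN.conj_mem y hy ⟨g, hg⟩, by simp⟩
  · rintro ⟨y, hy, hy2⟩
    refine ⟨⟨g, hg⟩⁻¹ * y * ⟨g, hg⟩, ?_, ?_⟩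
    · have := hN.conj_mem y hy ⟨g, hg⟩⁻¹
      rwa [inv_inv] at this
    · have : (y : G) = g * h * g⁻¹ := hy2
      simp [this, mul_assoc]

/-- A nontrivial Sylow `p`-subgroup of the maximal subgroup `M`, normal in `M`, puts `p` in `σ(M)`. -/
theorem mem_sigma_of_normal_sylow [Finite G] (hG : IsMinSimpleOddOrder G) {M : Subgroup G}
    (hM : IsCoatom M) {p : ℕ} (hp : p.Prime) (hpM : p ∣ Nat.card M) (P : Sylow p M)
    (hP : (P : Subgroup M).Normal) : p ∈ sigma M := by
  have : Fact p.Prime := ⟨hp⟩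
  refine ⟨hp, hpM, P, ?_⟩
  have h1 : ((P : Subgroup M).map M.subtype : Subgroup G) ≠ ⊥ := by
    intro h
    rw [Subgroup.map_eq_bot_iff_of_injective _ M.subtype_injective] at h
    have h2 := P.dvd_card_of_dvd_card hpM
    rw [h, Subgroup.card_bot] at h2
    exact hp.one_lt.ne' (Nat.dvd_one.mp h2)
  have h2 : ((P : Subgroup M).map M.subtype : Subgroup G) ≤ M := Subgroup.map_subtype_le _
  exact (normalizer_eq_of_le_coatom hG hM h1 h2 (le_normalizer_map_subtype hP)).le

/-- If `N` is a normal nilpotent Hall subgroup of `M`, all its prime divisors are in `σ(M)`. -/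
theorem mem_sigma_of_nilpotent_hall [Finite G] (hG : IsMinSimpleOddOrder G) {M : Subgroup G}
    (hM : IsCoatom M) {N : Subgroup M} (hN : N.Normal) (hnil : Group.IsNilpotent N)
    (hcop : (Nat.card N).Coprime N.index) {p : ℕ} (hp : p.Prime) (hpN : p ∣ Nat.card N) :
    p ∈ sigma M := by
  have : Fact p.Prime := ⟨hp⟩
  have hpM : p ∣ Nat.card M := hpN.trans (Subgroup.card_subgroup_dvd_card N)
  let P : Sylow p N := default
  have hPn : (P : Subgroup N).Normal :=
    Group.isNilpotent_of_finite_tfae.out 0 3 rfl rfl |>.mp hnil p ‹_› P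
  have hPc : (P : Subgroup N).Characteristic := P.characteristic_of_normal hPn
  have hQn : ((P : Subgroup N).map N.subtype).Normal := inferInstance
  have hcard : Nat.card ((P : Subgroup N).map N.subtype) = p ^ (Nat.card M).factorization p := by
    rw [Nat.card_congr (Subgroup.equivMapOfInjective (P : Subgroup N) _
      N.subtype_injective).toEquiv.symm, P.card_eq_multiplicity]
    congr 1
    have h1 : Nat.card M = Nat.card N * N.index := (Subgroup.card_mul_index N).symm
    have h2 : ¬ p ∣ N.index := by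
      intro h
      have := Nat.dvd_gcd hpN h
      rw [hcop] at this
      exact hp.one_lt.ne' (Nat.dvd_one.mp this)
    rw [h1, Nat.factorization_mul Nat.card_pos.ne' Subgroup.index_ne_zero_of_finite,
      Finsupp.add_apply, Nat.factorization_eq_zero_of_not_dvd h2, add_zero]
  exact mem_sigma_of_normal_sylow hG hM hp hpM (Sylow.ofCard _ hcard) (by simpa using hQn)

/-- **`M_F ≤ M_σ`**, inside `M`. -/
theorem fittingHall_le_piCore [Finite G] (hG : IsMinSimpleOddOrder G) {M : Subgroup G}
    (hM : IsCoatom M) : fittingHall M ≤ piCore (sigma M) M :=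
  sSup_le (fun _ hN => le_piCore hN.1 (fun _ hp hpN =>
    mem_sigma_of_nilpotent_hall hG hM hN.1 hN.2.1 hN.2.2 hp hpN))

/-- **`M_F ≤ M_σ`** (B & G, remark before 15.1). -/
theorem fittingHallOf_le_sigmaCore [Finite G] (hG : IsMinSimpleOddOrder G) {M : Subgroup G}
    (hM : IsCoatom M) : fittingHallOf M ≤ sigmaCore M :=
  Subgroup.map_mono (fittingHall_le_piCore hG hM)

/-- The derived subgroup of the subgroup `M` of `G`, seen in `G`. -/
theorem map_commutator_eq (M : Subgroup G) : (commutator M).map M.subtype = ⁅M, M⁆ :=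
  Subgroup.map_subtype_commutator M

/-- **`M' < M`** for a maximal subgroup `M`. -/
theorem derived_lt [Finite G] (hG : IsMinSimpleOddOrder G) {M : Subgroup G}
    (hM : IsCoatom M) : ⁅M, M⁆ < M := by
  have hs : Group.IsSolvable M := isSolvable_of_isCoatom hG hM
  have hn : Nontrivial M := (Subgroup.nontrivial_iff_ne_bot M).mpr (coatom_ne_bot hG hM)
  have h := Group.IsSolvable.commutator_lt_top_of_nontrivial (G := M)
  rw [← map_commutator_eq]
  have h2 := (Subgroup.map_lt_map_iff_of_injective (f := M.subtype) M.subtype_injective).mpr h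
  rwa [← MonoidHom.range_eq_map, Subgroup.range_subtype] at h2

/-- The rank of the quotient by a trivial subgroup. -/
theorem rankLE_of_quotient_bot {H : Type*} [Group H] {N : Subgroup H} [N.Normal] (hN : N = ⊥)
    {k : ℕ} (h : RankLE k (H ⧸ N)) : RankLE k H := by
  intro p hp A hA hA2
  have hinj : Function.Injective (QuotientGroup.mk' N) := by
    rw [← MonoidHom.ker_eq_bot_iff, QuotientGroup.ker_mk', hN]
  have h1 := h p hp (A.map (QuotientGroup.mk' N)) inferInstance (by
    rintro _ ⟨a, ha, rfl⟩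
    rw [← map_pow, hA2 a ha, map_one])
  rwa [← Nat.card_congr (Subgroup.equivMapOfInjective A _ hinj).toEquiv] at h1

/-- If `M` has rank at most 2 then it has a normal nontrivial Sylow subgroup. -/
theorem exists_mem_sigma_of_rank [Finite G] (hG : IsMinSimpleOddOrder G) {M : Subgroup G}
    (hM : IsCoatom M) (hr : RankLE 2 M) :
    ∃ (q : ℕ) (_ : q.Prime) (P : Sylow q M), q ∣ Nat.card M ∧ (P : Subgroup M).Normal := by
  have hs : Group.IsSolvable M := isSolvable_of_isCoatom hG hM
  have hn : Nontrivial M := (Subgroup.nontrivial_iff_ne_bot M).mpr (coatom_ne_bot hG hM)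
  have hc1 : Nat.card M ≠ 1 := by
    rw [Ne, Nat.card_eq_one_iff_unique]
    rintro ⟨h1, -⟩
    exact not_subsingleton M h1
  have hne : (Nat.card M).primeFactors.Nonempty := by
    rw [Nat.nonempty_primeFactors]
    have : 0 < Nat.card M := Nat.card_pos
    omega
  set q := (Nat.card M).primeFactors.max' hne with hq
  have hqmem : q ∈ (Nat.card M).primeFactors := Finset.max'_mem _ _
  have hqp : q.Prime := Nat.prime_of_mem_primeFactors hqmem
  have hqd : q ∣ Nat.card M := Nat.dvd_of_mem_primeFactors hqmem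
  have : Fact q.Prime := ⟨hqp⟩
  obtain ⟨-, -, h3⟩ := Cfsg.Agent.S1451.result (odd_card_subgroup hG M) (Or.inl hr)
  obtain ⟨N, hNc, hN1, hN2⟩ := h3 (q - 1)
  have hNq : ∀ r : ℕ, r.Prime → r ∣ Nat.card N → r = q := by
    intro r hr hrN
    have h1 := (hN1 r hr hrN).2
    have h2 : r ≤ q := Finset.le_max' _ _ (Nat.mem_primeFactors.mpr
      ⟨hr, hrN.trans (Subgroup.card_subgroup_dvd_card N), Nat.card_pos.ne'⟩)
    have h3 := hqp.one_lt
    omega
  have hNp : IsPGroup q N := by
    rw [IsPGroup.iff_card]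
    refine ⟨_, Nat.eq_prime_pow_of_unique_prime_dvd Nat.card_pos.ne' ?_⟩
    intro r hr hrd
    exact hNq r hr hrd
  have hidx : ¬ q ∣ N.index := hN2 q hqp ⟨hqp, by have := hqp.one_lt; omega⟩
  refine ⟨q, hqp, hNp.toSylow hidx, hqd, ?_⟩
  rw [hNp.toSylow_coe]
  infer_instance

/-- **`M_σ ≠ 1`** (Bender-Glauberman 10.2(e)). -/
theorem sigmaCore_ne_bot [Finite G] (hG : IsMinSimpleOddOrder G) {M : Subgroup G}
    (hM : IsCoatom M) : sigmaCore M ≠ ⊥ := by
  intro h
  obtain ⟨-, -, hle, hr, -⟩ := Cfsg.Agent.S1405.result hG M hM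
  have h1 : piCore (alpha M) M = ⊥ := by
    rw [h, le_bot_iff] at hle
    exact (Subgroup.map_eq_bot_iff_of_injective _ M.subtype_injective).mp hle
  obtain ⟨q, hq, P, hqM, hP⟩ := exists_mem_sigma_of_rank hG hM (rankLE_of_quotient_bot h1 hr)
  have : Fact q.Prime := ⟨hq⟩
  have h2 : q ∈ sigma M := mem_sigma_of_normal_sylow hG hM hq hqM P hP
  have h3 : (P : Subgroup M) ≤ piCore (sigma M) M := by
    refine le_piCore hP ?_
    intro r hr hrP
    obtain ⟨n, hn⟩ := IsPGroup.iff_card.mp P.isPGroup'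
    rw [hn] at hrP
    have := (Nat.prime_dvd_prime_iff_eq hr hq).mp (hr.dvd_of_dvd_pow hrP)
    rw [this]; exact h2
  have h4 : piCore (sigma M) M = ⊥ :=
    (Subgroup.map_eq_bot_iff_of_injective _ M.subtype_injective).mp h
  rw [h4, le_bot_iff] at h3
  have h5 := P.dvd_card_of_dvd_card hqM
  rw [h3, Subgroup.card_bot] at h5
  exact hq.one_lt.ne' (Nat.dvd_one.mp h5)

end Cfsg.Agent.OddOrderLocal.FcoreChain
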