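import Mathlib
import Cfsg.Agent.S0031
import Cfsg.Agent.S0032
import Cfsg.Agent.Lib.SolvableMinNormal
import Cfsg.Agent.Lib.NormalAbelian

/-!
A finite solvable group with a fixed-point-free automorphism of prime order is nilpotent (the solvable
case of Thompson's theorem).  The heart is the partition argument: if a group `Q` acts on an abelian
group `V` of order prime to `|Q|` and compatible fixed-point-free maps of prime order act on `Q` and `V`,
then `Q` acts trivially on `V`.
-/

set_option autoImplicit false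

namespace Cfsg.Agent.OddOrderLocal.FpfSolvable

/-- If `φ ^ p = 1` and `φ` fixes only the identity, then so does `φ ^ i` for `0 < i < p`. -/
theorem iterate_fpf {K : Type*} [One K] {φ : K → K} {p : ℕ} (hp : p.Prime)
    (hφ : ∀ x, φ^[p] x = x) (hfpf : ∀ x, φ x = x → x = 1) {i : ℕ} (hi : 0 < i) (hip : i < p)
    (x : K) (hx : φ^[i] x = x) : x = 1 := by
  apply hfpf
  have hper1 : Function.IsPeriodicPt φ i x := hx
  have hper2 : Function.IsPeriodicPt φ p x := hφ x
  have hc : Nat.Coprime i p := (Nat.coprime_of_lt_prime hi.ne' hip hp).symm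
  have := hper1.gcd hper2
  rw [Nat.Coprime] at hc
  rw [hc] at this
  exact this

theorem list_prod_range {M : Type*} [CommMonoid M] (f : ℕ → M) (n : ℕ) :
    ((List.range n).map f).prod = ∏ i ∈ Finset.range n, f i := by
  induction n with
  | zero => simp
  | succ n ih => rw [List.prod_range_succ, ih, Finset.prod_range_succ]

/-- The partition argument. -/
theorem act_trivially {Q V : Type*} [Group Q] [Finite Q] [CommGroup V] [Finite V]
    (A : Q →* MulAut V) (φQ : Q →* Q) (φV : V →* V) {p : ℕ} (hp : p.Prime)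
    (hQp : ∀ y, φQ^[p] y = y) (hVp : ∀ v, φV^[p] v = v)
    (hQ : ∀ y, φQ y = y → y = 1) (hV : ∀ v, φV v = v → v = 1)
    (hcomp : ∀ y v, φV (A y v) = A (φQ y) (φV v))
    (hcop : (Nat.card Q).Coprime (Nat.card V)) (w : Q) (v : V) : A w v = v := by
  classical
  have := Fintype.ofFinite Q
  have hcomp' : ∀ i : ℕ, ∀ y v, φV^[i] (A y v) = A (φQ^[i] y) (φV^[i] v) := by
    intro i
    induction i with
    | zero => intro y v; rfl
    | succ n ih =>
      intro y v
      rw [Function.iterate_succ_apply, Function.iterate_succ_apply, Function.iterate_succ_apply,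
        hcomp, ih]
  -- norm identity
  have hnorm : ∀ u : V, ∏ i ∈ Finset.range p, φV^[i] u = 1 := by
    intro u
    have h := MonoidHom.FixedPointFree.prod_pow_eq_one (φ := φV) hV (n := p) (funext hVp) u
    rw [← h, list_prod_range]
  have h1 : ∀ y : Q, ∏ i ∈ Finset.range p, A (y⁻¹ * φQ^[i] y) (φV^[i] v) = 1 := by
    intro y
    have h := congrArg (A y⁻¹) (hnorm (A y v))
    rw [map_one, map_prod] at h
    rw [← h]
    refine Finset.prod_congr rfl fun i _ => ?_
    rw [hcomp', map_mul, MulAut.mul_apply]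
  have h2 : ∏ i ∈ Finset.range p, ∏ y : Q, A (y⁻¹ * φQ^[i] y) (φV^[i] v) = 1 := by
    rw [Finset.prod_comm]
    exact Finset.prod_eq_one fun y _ => h1 y
  rw [Finset.prod_range_eq_mul_Ico _ hp.pos] at h2
  have h3 : ∏ y : Q, A (y⁻¹ * φQ^[0] y) (φV^[0] v) = v ^ Nat.card Q := by
    simp [Nat.card_eq_fintype_card]
  have h4 : ∀ i ∈ Finset.Ico 1 p,
      ∏ y : Q, A (y⁻¹ * φQ^[i] y) (φV^[i] v) = ∏ z : Q, A z (φV^[i] v) := by
    intro i hi
    rw [Finset.mem_Ico] at hi
    have hinj : Function.Injective (fun y : Q => y⁻¹ * φQ^[i] y) := by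
      intro y z hyz
      have hyz' : y⁻¹ * φQ^[i] y = z⁻¹ * φQ^[i] z := hyz
      have h5 : φQ^[i] (z * y⁻¹) = z * y⁻¹ := by
        rw [iterate_map_mul, iterate_map_inv]
        have h6 : φQ^[i] y = y * (z⁻¹ * φQ^[i] z) := by
          rw [← hyz', mul_inv_cancel_left]
        rw [h6]
        group
      have h7 := iterate_fpf hp hQp hQ (by omega) hi.2 _ h5
      exact (mul_inv_eq_one.mp h7).symm
    have hbij := Finite.injective_iff_bijective.mp hinj
    exact hbij.prod_comp (fun z => A z (φV^[i] v))
  rw [h3, Finset.prod_congr rfl h4] at h2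
  -- norms are fixed
  have h5 : ∀ u : V, A w (∏ z : Q, A z u) = ∏ z : Q, A z u := by
    intro u
    rw [map_prod]
    have : ∀ z : Q, A w (A z u) = A (w * z) u := fun z => by rw [map_mul, MulAut.mul_apply]
    simp_rw [this]
    exact (Group.mulLeft_bijective w).prod_comp (fun z => A z u)
  have h6 : A w (v ^ Nat.card Q) = v ^ Nat.card Q := by
    have h7 := congrArg (A w) h2
    rw [map_mul, map_prod, map_one] at h7
    simp_rw [h5] at h7
    rw [← h2] at h7
    exact mul_right_cancel h7
  have h8 : (A w v / v) ^ Nat.card Q = 1 := by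
    rw [div_pow, ← map_pow, h6, div_self']
  have h9 : (A w v / v) ^ Nat.card V = 1 := pow_card_eq_one'
  have h10 := pow_gcd_eq_one.mpr ⟨h8, h9⟩
  rw [Nat.Coprime] at hcop
  rw [hcop, pow_one] at h10
  exact div_eq_one.mp h10

/-- Restriction of an endomorphism to an invariant subgroup. -/
def res {K : Type*} [Group K] (φ : K →* K) (H : Subgroup K) (hH : ∀ x ∈ H, φ x ∈ H) : H →* H :=
  (φ.comp H.subtype).codRestrict H (fun x => hH x x.2)

theorem coe_res {K : Type*} [Group K] (φ : K →* K) (H : Subgroup K) (hH : ∀ x ∈ H, φ x ∈ H)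
    (x : H) : ((res φ H hH x : H) : K) = φ x := rfl

theorem coe_res_iterate {K : Type*} [Group K] (φ : K →* K) (H : Subgroup K)
    (hH : ∀ x ∈ H, φ x ∈ H) (n : ℕ) (x : H) :
    (((res φ H hH)^[n] x : H) : K) = φ^[n] (x : K) := by
  induction n generalizing x with
  | zero => rfl
  | succ n ih => rw [Function.iterate_succ_apply, Function.iterate_succ_apply, ih, coe_res]

/-- Nontrivial finite solvable group with a fixed-point-free automorphism of prime order has a
nontrivial centre. -/
theorem center_ne_bot {K : Type*} [Group K] [Finite K] [Nontrivial K] (hK : Group.IsSolvable K)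
    (φ : K ≃* K) {p : ℕ} (hp : p.Prime) (hφ : ∀ x, φ^[p] x = x) (hfpf : ∀ x, φ x = x → x = 1) :
    Subgroup.center K ≠ ⊥ := by
  obtain ⟨r, hr, V, hVchar, hVc, hVr, hVne⟩ :=
    Cfsg.Agent.Lib.SolvableMinNormal.exists_characteristic_pgroup (G := K)
  have : Fact r.Prime := ⟨hr⟩
  have hVn : V.Normal := inferInstance
  have hVφ : V.map (φ : K →* K) = V := Subgroup.characteristic_iff_map_eq.mp hVchar φ
  let _ : CommGroup V := IsMulCommutative.instCommGroup
  -- invariant subgroups
  have hres : ∀ H : Subgroup K, H.map (φ : K →* K) = H → ∀ x ∈ H, (φ : K →* K) x ∈ H := by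
    intro H hH x hx
    rw [← hH]
    exact Subgroup.mem_map_of_mem _ hx
  -- an invariant Sylow subgroup for a prime different from `r` centralizes `V`
  have hcent : ∀ q : ℕ, q.Prime → q ≠ r → ∃ Q : Sylow q K, (Q : Subgroup K) ≤
      Subgroup.centralizer (V : Set K) := by
    intro q hq hqr
    have : Fact q.Prime := ⟨hq⟩
    obtain ⟨Q, hQ⟩ := Cfsg.Agent.S0031.result φ hfpf q
    refine ⟨Q, ?_⟩
    have hcop : (Nat.card (Q : Subgroup K)).Coprime (Nat.card V) :=
      IsPGroup.coprime_card_of_ne q r hqr _ _ Q.2 hVr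
    intro w hw
    rw [Subgroup.mem_centralizer_iff]
    intro v hv
    have key := act_trivially (Q := (Q : Subgroup K)) (V := V)
      ((MulAut.conjNormal : K →* MulAut V).comp (Q : Subgroup K).subtype)
      (res (φ : K →* K) Q (hres _ hQ)) (res (φ : K →* K) V (hres _ hVφ)) hp
      (fun y => Subtype.ext (by rw [coe_res_iterate]; exact hφ y))
      (fun y => Subtype.ext (by rw [coe_res_iterate]; exact hφ y))
      (fun y hy => Subtype.ext (hfpf y (by
        have := congrArg Subtype.val hy
        rwa [coe_res] at this)))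
      (fun y hy => Subtype.ext (hfpf y (by
        have := congrArg Subtype.val hy
        rwa [coe_res] at this)))
      (fun y v => Subtype.ext (by
        rw [coe_res]
        simp only [MonoidHom.comp_apply, Subgroup.coe_subtype, MulAut.conjNormal_apply, map_mul,
          map_inv, coe_res]))
      hcop ⟨w, hw⟩ ⟨v, hv⟩
    have key2 := congrArg Subtype.val key
    simp only [MonoidHom.comp_apply, Subgroup.coe_subtype, MulAut.conjNormal_apply] at key2
    rw [mul_inv_eq_iff_eq_mul] at key2
    exact key2.symm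
  -- a nontrivial element of `V` central in a Sylow `r`-subgroup
  obtain ⟨R⟩ : Nonempty (Sylow r K) := inferInstance
  have hVR : V ≤ (R : Subgroup K) := by
    obtain ⟨S, hS⟩ := hVr.exists_le_sylow
    obtain ⟨g, hg⟩ := MulAction.exists_smul_eq K S R
    rw [← hg, Sylow.coe_subgroup_smul]
    intro v hv
    refine ⟨g⁻¹ * v * g, hS ?_, ?_⟩
    · have := hVn.conj_mem v hv g⁻¹
      rwa [inv_inv] at this
    · simp [MulAut.smul_def, MulAut.conj_apply]
      group
  have hRn : Group.IsNilpotent (R : Subgroup K) := R.2.isNilpotent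
  have hne : V.subgroupOf (R : Subgroup K) ≠ ⊥ := by
    intro h
    rw [Subgroup.subgroupOf_eq_bot] at h
    exact hVne (by rw [← inf_eq_left.mpr hVR]; exact h.eq_bot)
  have h1 := Cfsg.Agent.Lib.NormalAbelian.normal_inf_center_ne_bot (G := (R : Subgroup K))
    (V.subgroupOf (R : Subgroup K)) hne
  obtain ⟨x, hx⟩ := Subgroup.ne_bot_iff_exists_ne_one.mp h1
  obtain ⟨⟨x, hxV, hxc⟩, hx1⟩ : ∃ y : (V.subgroupOf (R : Subgroup K) ⊓
    Subgroup.center (R : Subgroup K) : Subgroup (R : Subgroup K)), y ≠ 1 := ⟨x, hx⟩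
  have hx2 : (x : K) ≠ 1 := by
    intro h
    apply hx1
    apply Subtype.ext
    apply Subtype.ext
    exact h
  have hxV' : (x : K) ∈ V := hxV
  have htop : Subgroup.centralizer {(x : K)} = ⊤ := by
    rw [← Subgroup.index_eq_one]
    by_contra hne1
    obtain ⟨q, hq, hqd⟩ := Nat.exists_prime_and_dvd hne1
    have : Fact q.Prime := ⟨hq⟩
    obtain ⟨S, hS⟩ : ∃ S : Sylow q K, (S : Subgroup K) ≤ Subgroup.centralizer {(x : K)} := by
      by_cases hqr : q = r
      · subst hqr
        refine ⟨R, fun y hy => ?_⟩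
        rw [Subgroup.mem_centralizer_singleton_iff]
        have := Subgroup.mem_center_iff.mp hxc ⟨y, hy⟩
        exact congrArg Subtype.val this
      · obtain ⟨Q, hQ⟩ := hcent q hq hqr
        refine ⟨Q, hQ.trans (Subgroup.centralizer_le ?_)⟩
        rw [Set.singleton_subset_iff]
        exact hxV'
    exact S.not_dvd_index (hqd.trans (Subgroup.index_dvd_of_le hS))
  intro hbot
  apply hx2
  have : (x : K) ∈ Subgroup.center K := by
    rw [Subgroup.mem_center_iff]
    intro g
    have hg : g ∈ Subgroup.centralizer {(x : K)} := htop ▸ Subgroup.mem_top g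
    rw [Subgroup.mem_centralizer_singleton_iff] at hg
    exact hg
  rwa [hbot, Subgroup.mem_bot] at this

universe u

theorem isNilpotent_of_fpf_aux (p : ℕ) (hp : p.Prime) (n : ℕ) : ∀ (K : Type u) [Group K] [Finite K],
    Nat.card K ≤ n → Group.IsSolvable K → ∀ φ : K ≃* K, (∀ x, φ^[p] x = x) →
    (∀ x, φ x = x → x = 1) → Group.IsNilpotent K := by
  induction n with
  | zero =>
    intro K _ _ hn
    have := Nat.card_pos (α := K)
    omega
  | succ n ih =>
    intro K _ _ hn hK φ hφ hfpf
    rcases subsingleton_or_nontrivial K with hs | hnt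
    · infer_instance
    have hc := center_ne_bot hK φ hp hφ hfpf
    have hZ : (Subgroup.center K).map (φ : K →* K) = Subgroup.center K :=
      Subgroup.characteristic_iff_map_eq.mp inferInstance φ
    let ψ : (K ⧸ Subgroup.center K) ≃* (K ⧸ Subgroup.center K) :=
      QuotientGroup.congr (Subgroup.center K) (Subgroup.center K) φ hZ
    have hψ : ∀ x : K, ψ (x : K ⧸ Subgroup.center K) = ((φ x : K) : K ⧸ Subgroup.center K) :=
      fun x => rfl
    have hψn : ∀ (m : ℕ) (x : K), ψ^[m] (x : K ⧸ Subgroup.center K) =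
        ((φ^[m] x : K) : K ⧸ Subgroup.center K) := by
      intro m
      induction m with
      | zero => intro x; rfl
      | succ m ihm => intro x; rw [Function.iterate_succ_apply, hψ, ihm, Function.iterate_succ_apply]
    have hcard : Nat.card (K ⧸ Subgroup.center K) < Nat.card K := by
      have h1 := Subgroup.card_eq_card_quotient_mul_card_subgroup (Subgroup.center K)
      have h2 : 1 < Nat.card (Subgroup.center K) := by
        rw [Subgroup.one_lt_card_iff_ne_bot]
        exact hc
      have h3 : 0 < Nat.card (K ⧸ Subgroup.center K) := Nat.card_pos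
      rw [h1]
      nlinarith
    have hq : Group.IsNilpotent (K ⧸ Subgroup.center K) := by
      refine ih (K ⧸ Subgroup.center K) (by omega) inferInstance ψ ?_ ?_
      · intro x
        obtain ⟨x, rfl⟩ := QuotientGroup.mk_surjective x
        rw [hψn, hφ]
      · intro x hx
        obtain ⟨x, rfl⟩ := QuotientGroup.mk_surjective x
        rw [hψ, QuotientGroup.eq] at hx
        have := Cfsg.Agent.S0032.result φ hfpf (Subgroup.center K)
          (fun n hn => by rw [← hZ]; exact Subgroup.mem_map_of_mem _ hn) x hx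
        exact (QuotientGroup.eq_one_iff x).mpr this
    exact Group.of_quotient_center_nilpotent hq

/-- A finite solvable group with a fixed-point-free automorphism of prime order is nilpotent. -/
theorem isNilpotent_of_fpf {K : Type*} [Group K] [Finite K] (hK : Group.IsSolvable K) (φ : K ≃* K)
    (p : ℕ) (hp : p.Prime) (hφ : ∀ x, φ^[p] x = x) (hfpf : ∀ x, φ x = x → x = 1) :
    Group.IsNilpotent K :=
  isNilpotent_of_fpf_aux p hp (Nat.card K) K le_rfl hK φ hφ hfpf

/-- Subgroup form: if `a` normalizes the finite solvable subgroup `K`, `a ^ p = 1` for a prime `p`, and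
`a` commutes with no nontrivial element of `K`, then `K` is nilpotent. -/
theorem isNilpotent_of_fpf_elem {G : Type*} [Group G] (K : Subgroup G) [Finite K]
    (hK : Group.IsSolvable K) (a : G) (ha : a ∈ Subgroup.normalizer (K : Set G)) {p : ℕ}
    (hp : p.Prime) (hap : a ^ p = 1) (hfpf : ∀ x ∈ K, a * x = x * a → x = 1) :
    Group.IsNilpotent K := by
  let φ : K ≃* K := Subgroup.normalizerMonoidHom K ⟨a, ha⟩
  have hφ : ∀ x : K, ((φ x : K) : G) = a * x * a⁻¹ := fun x => rfl
  have hφn : ∀ (n : ℕ) (x : K), ((φ^[n] x : K) : G) = a ^ n * x * (a ^ n)⁻¹ := by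
    intro n
    induction n with
    | zero => intro x; simp
    | succ n ih =>
      intro x
      rw [Function.iterate_succ_apply, ih, hφ]
      group
  refine isNilpotent_of_fpf hK φ p hp ?_ ?_
  · intro x
    apply Subtype.ext
    rw [hφn, hap]
    simp
  · intro x hx
    have h := congrArg Subtype.val hx
    rw [hφ, mul_inv_eq_iff_eq_mul] at h
    exact Subtype.ext (hfpf x x.2 h)

end Cfsg.Agent.OddOrderLocal.FpfSolvable
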