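import Mathlib
import Cfsg.Prelude.Def_OddOrderLocal
import Cfsg.Agent.Blocks.SylowIn
import Cfsg.Agent.OddOrderLocal.MinSimpleBasic

/-!
Sylow subgroups of intersections of subgroups, and the normalizer of a Sylow `p`-subgroup of `M` for
`p ∈ σ(M)`.
-/

set_option autoImplicit false

namespace Cfsg.Agent.OddOrderLocal.SylowInter

open Cfsg
open Cfsg.Agent.OddOrderLocal.MinSimpleBasic

universe u

variable {G : Type u} [Group G] [Finite G]

/-- If `S` is a Sylow `p`-subgroup of `A ∩ B` and `N_G(S) ≤ A` then `S` is a Sylow `p`-subgroup of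
`B`. -/
theorem exists_sylow_of_normalizer_le {p : ℕ} [Fact p.Prime] {A B P : Subgroup G}
    (hP : ∃ S : Sylow p ↥(A ⊓ B), (S : Subgroup ↥(A ⊓ B)).map (A ⊓ B).subtype = P)
    (hN : Subgroup.normalizer (P : Set G) ≤ A) :
    ∃ T : Sylow p B, (T : Subgroup B).map B.subtype = P := by
  rw [Blocks.SylowIn.exists_sylow_map_eq_iff] at hP ⊢
  obtain ⟨hPAB, hPp, hmax⟩ := hP
  refine ⟨hPAB.trans inf_le_right, hPp, ?_⟩
  intro Q hQB hQ hPQ
  apply Blocks.SylowIn.eq_of_normalizer_inf_le hQ hPQ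
  have h1 : Subgroup.normalizer (P : Set G) ⊓ Q ≤ A ⊓ B :=
    le_inf (inf_le_left.trans hN) (inf_le_right.trans hQB)
  have h2 : IsPGroup p ↥(Subgroup.normalizer (P : Set G) ⊓ Q) :=
    hQ.to_le inf_le_right
  exact (hmax _ h1 h2 (le_inf Subgroup.le_normalizer hPQ)).le

/-- A Sylow `p`-subgroup of `B` has index in `B` prime to `p`. -/
theorem not_dvd_relIndex_of_sylow {p : ℕ} [Fact p.Prime] {B P : Subgroup G}
    (hP : ∃ T : Sylow p B, (T : Subgroup B).map B.subtype = P) : ¬ p ∣ P.relIndex B := by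
  obtain ⟨T, rfl⟩ := hP
  have h := T.not_dvd_index
  have h2 : ((T : Subgroup B).map B.subtype).subgroupOf B = (T : Subgroup B) := by
    rw [Subgroup.subgroupOf, Subgroup.comap_map_eq_self_of_injective B.subtype_injective]
  rw [Subgroup.relIndex, h2]
  exact h

/-- For `p ∈ σ(M)` every Sylow `p`-subgroup of `M` has its normalizer in `M`. -/
theorem normalizer_sylow_le_of_mem_sigma {p : ℕ} [Fact p.Prime] {M P : Subgroup G}
    (hp : p ∈ sigma M) (hP : ∃ T : Sylow p M, (T : Subgroup M).map M.subtype = P) :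
    Subgroup.normalizer (P : Set G) ≤ M := by
  obtain ⟨-, -, P₀, hP₀⟩ := hp
  obtain ⟨k, hk, rfl⟩ := Blocks.SylowIn.exists_conj_of_sylow_map_eq ⟨P₀, rfl⟩ hP
  intro g hg
  rw [mem_normalizer_iff_map_conj] at hg
  have h1 : k⁻¹ * g * k ∈ Subgroup.normalizer
      (((P₀ : Subgroup M).map M.subtype : Subgroup G) : Set G) := by
    rw [mem_normalizer_iff_map_conj, map_conj_mul, map_conj_mul, hg, ← map_conj_mul,
      inv_mul_cancel, map_conj_one]
  have h2 := hP₀ h1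
  have h3 : k * (k⁻¹ * g * k) * k⁻¹ ∈ M := M.mul_mem (M.mul_mem hk h2) (M.inv_mem hk)
  have h4 : k * (k⁻¹ * g * k) * k⁻¹ = g := by group
  rwa [h4] at h3

/-- For `p ∈ σ(M)` a Sylow `p`-subgroup of `M` is a Sylow `p`-subgroup of `G`. -/
theorem exists_sylow_eq_of_mem_sigma {p : ℕ} [Fact p.Prime] {M P : Subgroup G}
    (hp : p ∈ sigma M) (hP : ∃ T : Sylow p M, (T : Subgroup M).map M.subtype = P) :
    ∃ T : Sylow p G, (T : Subgroup G) = P := by
  have hN := normalizer_sylow_le_of_mem_sigma hp hP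
  rw [Blocks.SylowIn.exists_sylow_map_eq_iff] at hP
  obtain ⟨hPM, hPp, hmax⟩ := hP
  obtain ⟨Q, hQ⟩ := hPp.exists_le_sylow
  refine ⟨Q, ?_⟩
  apply Blocks.SylowIn.eq_of_normalizer_inf_le Q.isPGroup' hQ
  have h1 : Subgroup.normalizer (P : Set G) ⊓ (Q : Subgroup G) ≤ M := inf_le_left.trans hN
  have h2 : IsPGroup p ↥(Subgroup.normalizer (P : Set G) ⊓ (Q : Subgroup G)) :=
    Q.isPGroup'.to_le inf_le_right
  exact (hmax _ h1 h2 (le_inf Subgroup.le_normalizer hQ)).le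

/-- For `p ∈ σ(M)` there is a Sylow `p`-subgroup `P ≠ 1` of `G` with `P ≤ N_G(P) ≤ M`. -/
theorem exists_sylow_of_mem_sigma {p : ℕ} [Fact p.Prime] {M : Subgroup G} (hp : p ∈ sigma M) :
    ∃ P : Sylow p G, (P : Subgroup G) ≠ ⊥ ∧ (P : Subgroup G) ≤ M ∧
      Subgroup.normalizer ((P : Subgroup G) : Set G) ≤ M := by
  obtain ⟨hpp, hdvd, P₀, hP₀⟩ := id hp
  obtain ⟨T, hT⟩ := exists_sylow_eq_of_mem_sigma hp ⟨P₀, rfl⟩
  refine ⟨T, ?_, ?_, ?_⟩
  · intro h
    have h1 : Nat.card (T : Subgroup G) = 1 := by rw [h]; simp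
    have h2 := T.card_eq_multiplicity
    rw [h1] at h2
    have h3 : p ∣ Nat.card G := hdvd.trans (Subgroup.card_subgroup_dvd_card M)
    have h4 : 0 < (Nat.card G).factorization p :=
      hpp.factorization_pos_of_dvd Nat.card_pos.ne' h3
    have h5 : 1 < p ^ (Nat.card G).factorization p := Nat.one_lt_pow h4.ne' hpp.one_lt
    omega
  · rw [hT]; exact Subgroup.map_subtype_le _
  · rw [hT]; exact hP₀

omit [Finite G] in
/-- A subgroup of a cyclic group is characteristic: normalizers version. -/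
theorem normalizer_le_of_isCyclic {S X : Subgroup G} (hS : IsCyclic S) (hXS : X ≤ S) :
    Subgroup.normalizer (S : Set G) ≤ Subgroup.normalizer (X : Set G) := by
  have key : ∀ g ∈ Subgroup.normalizer (S : Set G), ∀ x ∈ X, g * x * g⁻¹ ∈ X := by
    intro g hg x hx
    obtain ⟨s, hs⟩ := hS.exists_generator
    have h1 : g * s * g⁻¹ ∈ S := (Subgroup.mem_normalizer_iff.mp hg _).mp s.2
    obtain ⟨k, hk⟩ := Subgroup.mem_zpowers_iff.mp (hs ⟨_, h1⟩)
    obtain ⟨j, hj⟩ := Subgroup.mem_zpowers_iff.mp (hs ⟨x, hXS hx⟩)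
    have hk' : (s : G) ^ k = g * s * g⁻¹ := congrArg Subtype.val hk
    have hj' : (s : G) ^ j = x := congrArg Subtype.val hj
    have h2 : g * x * g⁻¹ = x ^ k := by
      rw [← hj', ← conj_zpow, ← hk', ← zpow_mul, ← zpow_mul, mul_comm]
    rw [h2]
    exact X.zpow_mem hx k
  intro g hg
  rw [Subgroup.mem_normalizer_iff]
  intro x
  refine ⟨key g hg x, fun hx => ?_⟩
  have h := key g⁻¹ ((Subgroup.normalizer (S : Set G)).inv_mem hg) _ hx
  have h2 : g⁻¹ * (g * x * g⁻¹) * g⁻¹⁻¹ = x := by group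
  rwa [h2] at h

end Cfsg.Agent.OddOrderLocal.SylowInter
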