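import Mathlib
import Cfsg.Prelude.Def_Local

/-!
Groups of `p`-length at most one (`Cfsg.PLengthLE p 1 G`).
-/

set_option autoImplicit false

namespace Cfsg.Agent.OddOrderLocal.PLengthOne

open Cfsg Subgroup

variable {G : Type*} [Group G]

/-- every normal subgroup of order prime to `p` is in the `p'`-core -/
theorem le_pPrimeCore {p : ℕ} {N : Subgroup G} (hN : N.Normal) (h : (Nat.card N).Coprime p) :
    N ≤ pPrimeCore p G :=
  le_sSup ⟨hN, h⟩

/-- every normal `p`-subgroup is in the `p`-core -/
theorem le_pCore {p : ℕ} {N : Subgroup G} (hN : N.Normal) (h : IsPGroup p N) :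
    N ≤ pCore p G :=
  le_sSup ⟨hN, h⟩

theorem card_mul_relIndex' {A B : Subgroup G} (h : A ≤ B) :
    Nat.card A * A.relIndex B = Nat.card B := by
  have h4 := Subgroup.relIndex_mul_relIndex ⊥ A B bot_le h
  rwa [Subgroup.relIndex_bot_left, Subgroup.relIndex_bot_left] at h4

theorem card_sup_coprime {p : ℕ} {A B : Subgroup G} (hB : B.Normal)
    (h1 : (Nat.card A).Coprime p) (h2 : (Nat.card B).Coprime p) :
    (Nat.card (A ⊔ B : Subgroup G)).Coprime p := by
  have h3 : B.relIndex (A ⊔ B) ∣ Nat.card A := by
    rw [Subgroup.relIndex_sup_right]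
    exact Subgroup.relIndex_dvd_card B A
  have h4 : Nat.card B * B.relIndex (A ⊔ B) = Nat.card (A ⊔ B : Subgroup G) :=
    card_mul_relIndex' le_sup_right
  rw [← h4]
  exact Nat.Coprime.mul_left h2 (Nat.Coprime.coprime_dvd_left h3 h1)

theorem card_pPrimeCore_coprime [Finite G] (p : ℕ) : (Nat.card (pPrimeCore p G)).Coprime p := by
  classical
  have key : ∀ s : Finset (Subgroup G), (∀ N ∈ s, N.Normal ∧ (Nat.card N).Coprime p) →
      (s.sup id).Normal ∧ (Nat.card (s.sup id : Subgroup G)).Coprime p := by
    intro s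
    induction s using Finset.induction_on with
    | empty =>
      intro _
      simp only [Finset.sup_empty]
      refine ⟨inferInstance, ?_⟩
      simp
    | insert a s ha ih =>
      intro h
      obtain ⟨h1, h2⟩ := ih (fun N hN => h N (Finset.mem_insert_of_mem hN))
      obtain ⟨h3, h4⟩ := h a (Finset.mem_insert_self a s)
      rw [Finset.sup_insert]
      refine ⟨?_, ?_⟩
      · exact @Subgroup.sup_normal _ _ _ _ h3 h1
      · exact card_sup_coprime h1 h4 h2
  have hfin : {N : Subgroup G | N.Normal ∧ (Nat.card N).Coprime p}.Finite := Set.toFinite _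
  have h := key hfin.toFinset (fun N hN => by simpa using hN)
  have heq : pPrimeCore p G = hfin.toFinset.sup id := by
    rw [Finset.sup_id_eq_sSup]
    show sSup _ = sSup _
    congr 1
    ext N
    simp
  rw [heq]
  exact h.2

theorem isPGroup_sup {p : ℕ} {A B : Subgroup G} (hB : B.Normal)
    (h1 : IsPGroup p A) (h2 : IsPGroup p B) : IsPGroup p (A ⊔ B : Subgroup G) :=
  h1.to_sup_of_normal_right h2

theorem isPGroup_pCore [Finite G] (p : ℕ) : IsPGroup p (pCore p G) := by
  classical
  have key : ∀ s : Finset (Subgroup G), (∀ N ∈ s, N.Normal ∧ IsPGroup p N) →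
      (s.sup id).Normal ∧ IsPGroup p (s.sup id : Subgroup G) := by
    intro s
    induction s using Finset.induction_on with
    | empty =>
      intro _
      simp only [Finset.sup_empty]
      exact ⟨inferInstance, IsPGroup.of_bot⟩
    | insert a s ha ih =>
      intro h
      obtain ⟨h1, h2⟩ := ih (fun N hN => h N (Finset.mem_insert_of_mem hN))
      obtain ⟨h3, h4⟩ := h a (Finset.mem_insert_self a s)
      rw [Finset.sup_insert]
      refine ⟨?_, ?_⟩
      · exact @Subgroup.sup_normal _ _ _ _ h3 h1
      · exact isPGroup_sup h1 h4 h2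
  have hfin : {N : Subgroup G | N.Normal ∧ IsPGroup p N}.Finite := Set.toFinite _
  have h := key hfin.toFinset (fun N hN => by simpa using hN)
  have heq : pCore p G = hfin.toFinset.sup id := by
    rw [Finset.sup_id_eq_sSup]
    show sSup _ = sSup _
    congr 1
    ext N
    simp
  rw [heq]
  exact h.2

theorem upperPSeries_zero (p : ℕ) : (upperPSeries p G 0).1 = ⊥ := rfl

theorem upperPSeries_succ_even (p : ℕ) {n : ℕ} (hn : Even n) :
    (upperPSeries p G (n + 1)).1 =
      (pPrimeCore p (G ⧸ (upperPSeries p G n).1)).comap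
        (QuotientGroup.mk' (upperPSeries p G n).1) := by
  show (if Even n then
      (⟨(pPrimeCore p (G ⧸ (upperPSeries p G n).1)).comap (QuotientGroup.mk' _),
        inferInstance⟩ : {H : Subgroup G // H.Normal})
    else
      ⟨(pCore p (G ⧸ (upperPSeries p G n).1)).comap (QuotientGroup.mk' _), inferInstance⟩).1 = _
  rw [if_pos hn]

theorem upperPSeries_succ_odd (p : ℕ) {n : ℕ} (hn : ¬ Even n) :
    (upperPSeries p G (n + 1)).1 =
      (pCore p (G ⧸ (upperPSeries p G n).1)).comap
        (QuotientGroup.mk' (upperPSeries p G n).1) := by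
  show (if Even n then
      (⟨(pPrimeCore p (G ⧸ (upperPSeries p G n).1)).comap (QuotientGroup.mk' _),
        inferInstance⟩ : {H : Subgroup G // H.Normal})
    else
      ⟨(pCore p (G ⧸ (upperPSeries p G n).1)).comap (QuotientGroup.mk' _), inferInstance⟩).1 = _
  rw [if_neg hn]

theorem card_comap_mk' (N : Subgroup G) [N.Normal] (H : Subgroup (G ⧸ N)) :
    Nat.card (H.comap (QuotientGroup.mk' N)) = Nat.card N * Nat.card H := by
  have h1 : N ≤ H.comap (QuotientGroup.mk' N) := by
    intro x hx
    rw [Subgroup.mem_comap]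
    have : QuotientGroup.mk' N x = 1 := (QuotientGroup.eq_one_iff x).2 hx
    rw [this]; exact one_mem _
  rw [← card_mul_relIndex' h1]
  congr 1
  have h2 : (QuotientGroup.mk' N).ker.relIndex (H.comap (QuotientGroup.mk' N)) =
      Nat.card ((H.comap (QuotientGroup.mk' N)).map (QuotientGroup.mk' N)) :=
    Subgroup.relIndex_ker _ _
  rw [QuotientGroup.ker_mk', Subgroup.map_comap_eq_self_of_surjective
    (QuotientGroup.mk'_surjective N)] at h2
  exact h2

/-- `O_{p'}(G / O_{p'}(G)) = 1` -/
theorem pPrimeCore_quotient_pPrimeCore [Finite G] (p : ℕ) :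
    pPrimeCore p (G ⧸ pPrimeCore p G) = ⊥ := by
  have h1 : (pPrimeCore p (G ⧸ pPrimeCore p G)).comap (QuotientGroup.mk' (pPrimeCore p G)) ≤
      pPrimeCore p G := by
    apply le_pPrimeCore
    · infer_instance
    · rw [card_comap_mk']
      exact Nat.Coprime.mul_left (card_pPrimeCore_coprime p) (card_pPrimeCore_coprime p)
  rw [eq_bot_iff]
  intro x hx
  obtain ⟨y, rfl⟩ := QuotientGroup.mk'_surjective _ x
  rw [Subgroup.mem_bot]
  exact (QuotientGroup.eq_one_iff y).2 (h1 hx)

/-- `upperPSeries p G 1 = O_{p'}(G)` -/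
theorem upperPSeries_one [Finite G] (p : ℕ) : (upperPSeries p G 1).1 = pPrimeCore p G := by
  have h0 : (upperPSeries p G 1).1 = _ := upperPSeries_succ_even (G := G) p (n := 0) (by decide)
  apply le_antisymm
  · apply le_pPrimeCore (upperPSeries p G 1).2
    rw [h0, card_comap_mk']
    refine Nat.Coprime.mul_left ?_ (card_pPrimeCore_coprime p)
    have : Nat.card (upperPSeries p G 0).1 = 1 := by
      rw [upperPSeries_zero]; exact Subgroup.card_bot
    rw [this]
    exact Nat.coprime_one_left p
  · rw [h0, ← Subgroup.map_le_iff_le_comap]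
    apply le_pPrimeCore
    · exact Subgroup.Normal.map inferInstance _ (QuotientGroup.mk'_surjective _)
    · exact Nat.Coprime.coprime_dvd_left (Subgroup.card_map_dvd _ _) (card_pPrimeCore_coprime p)

/-- structure of a finite group of `p`-length at most one: with `K = O_{p'}(G)` there is a normal
subgroup `M` of index prime to `p` with `M / K` a `p`-group -/
theorem exists_normal_of_pLengthLE_one [Finite G] {p : ℕ} (h : PLengthLE p 1 G) :
    ∃ M : Subgroup G, M.Normal ∧ pPrimeCore p G ≤ M ∧
      IsPGroup p (M.map (QuotientGroup.mk' (pPrimeCore p G))) ∧ M.index.Coprime p := by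
  have h3 : (upperPSeries p G 3).1 = ⊤ := h
  have h2 : (upperPSeries p G 2).1 = _ := upperPSeries_succ_odd (G := G) p (n := 1) (by decide)
  have h1 : (upperPSeries p G 3).1 = _ := upperPSeries_succ_even (G := G) p (n := 2) (by decide)
  refine ⟨(upperPSeries p G 2).1, (upperPSeries p G 2).2, ?_, ?_, ?_⟩
  · rw [h2, ← upperPSeries_one]
    intro x hx
    rw [Subgroup.mem_comap]
    have : QuotientGroup.mk' (upperPSeries p G 1).1 x = 1 := (QuotientGroup.eq_one_iff x).2 hx
    rw [this]; exact one_mem _
  · have key : ∀ (N : Subgroup G) [N.Normal], (upperPSeries p G 1).1 = N →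
        IsPGroup p ((upperPSeries p G 2).1.map (QuotientGroup.mk' N)) := by
      intro N hN hN'
      subst hN'
      rw [h2, Subgroup.map_comap_eq_self_of_surjective (QuotientGroup.mk'_surjective _)]
      exact isPGroup_pCore p
    exact key _ (upperPSeries_one p)
  · rw [h3] at h1
    have h5 : pPrimeCore p (G ⧸ (upperPSeries p G 2).1) = ⊤ := by
      rw [eq_top_iff]
      intro x _
      obtain ⟨y, rfl⟩ := QuotientGroup.mk'_surjective _ x
      have : y ∈ (⊤ : Subgroup G) := mem_top y
      rw [h1] at this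
      exact this
    have h6 := card_pPrimeCore_coprime (G := G ⧸ (upperPSeries p G 2).1) p
    rw [h5, Subgroup.card_top] at h6
    exact h6

section sylow

variable [Finite G] {p : ℕ} [Fact p.Prime]

/-- in a group of `p`-length at most one `O_{p'}(G) S` is normal of index prime to `p` -/
theorem sup_sylow_normal (h : PLengthLE p 1 G) (S : Sylow p G) :
    (pPrimeCore p G ⊔ (S : Subgroup G)).Normal := by
  obtain ⟨M, hM, hKM, hMp, hMi⟩ := exists_normal_of_pLengthLE_one h
  have hSM : (S : Subgroup G) ≤ M := by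
    have h1 : M.relIndex (S : Subgroup G) ∣ M.index := by
      exact Subgroup.relIndex_dvd_index_of_normal M S
    have h2 : M.relIndex (S : Subgroup G) ∣ Nat.card S := Subgroup.relIndex_dvd_card _ _
    rw [← Subgroup.relIndex_eq_one]
    obtain ⟨n, hn⟩ := IsPGroup.iff_card.1 S.2
    rw [hn] at h2
    exact Nat.Coprime.eq_one_of_dvd (Nat.Coprime.coprime_dvd_left h1
      (Nat.Coprime.pow_right n hMi)) h2
  have heq : pPrimeCore p G ⊔ (S : Subgroup G) = M := by
    apply le_antisymm (sup_le hKM hSM)
    -- the image of S in G/K is a Sylow subgroup contained in the p-group M/K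
    have h1 : (S : Subgroup G).map (QuotientGroup.mk' (pPrimeCore p G)) =
        M.map (QuotientGroup.mk' (pPrimeCore p G)) := by
      have h2 := (S.mapSurjective (QuotientGroup.mk'_surjective (pPrimeCore p G))).3 hMp
      have h3 : M.map (QuotientGroup.mk' (pPrimeCore p G)) = 
        ((S.mapSurjective (QuotientGroup.mk'_surjective (pPrimeCore p G)) :
          Sylow p (G ⧸ pPrimeCore p G)) : Subgroup (G ⧸ pPrimeCore p G)) :=
        h2 (Subgroup.map_mono hSM)
      rw [h3]
      rfl
    have h4 := congrArg (Subgroup.comap (QuotientGroup.mk' (pPrimeCore p G))) h1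
    rw [Subgroup.comap_map_eq, Subgroup.comap_map_eq, QuotientGroup.ker_mk'] at h4
    rw [sup_comm, h4]
    exact le_sup_left
  rw [heq]; exact hM

/-- Frattini argument: in a group of `p`-length at most one `G = O_{p'}(G) N_G(S)` -/
theorem sup_normalizer_sylow (h : PLengthLE p 1 G) (S : Sylow p G) :
    pPrimeCore p G ⊔ Subgroup.normalizer ((S : Subgroup G) : Set G) = ⊤ := by
  have h1 := sup_sylow_normal h S
  have h2 := Sylow.normalizer_sup_eq_top' (N := pPrimeCore p G ⊔ (S : Subgroup G)) S le_sup_right
  rw [eq_top_iff, ← h2]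
  refine sup_le le_sup_right (sup_le le_sup_left ?_)
  exact le_trans Subgroup.le_normalizer le_sup_right

theorem exists_mul_of_pLengthLE_one (h : PLengthLE p 1 G) (S : Sylow p G) (x : G) :
    ∃ g ∈ Subgroup.normalizer ((S : Subgroup G) : Set G), ∃ k ∈ pPrimeCore p G, g * k = x := by
  have h1 : x ∈ Subgroup.normalizer ((S : Subgroup G) : Set G) ⊔ pPrimeCore p G := by
    rw [sup_comm, sup_normalizer_sylow h S]; exact mem_top x
  exact Subgroup.mem_sup_of_normal_right.1 h1

theorem pPrimeCore_inf_sylow (S : Sylow p G) : pPrimeCore p G ⊓ (S : Subgroup G) = ⊥ := by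
  apply Disjoint.eq_bot
  apply Subgroup.disjoint_of_coprime_natCard
  obtain ⟨n, hn⟩ := IsPGroup.iff_card.1 S.2
  have h1 : Nat.card (S : Subgroup G) = p ^ n := hn
  rw [h1]
  exact Nat.Coprime.pow_right n (card_pPrimeCore_coprime p)

end sylow

end Cfsg.Agent.OddOrderLocal.PLengthOne
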