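import Mathlib
import Cfsg.Prelude.Def_Local
import Cfsg.Agent.Lib.CoprimeCommutator
import Cfsg.Agent.Lib.HallHigman
import Cfsg.Agent.Lib.Cores
import Cfsg.Agent.OddOrderLocal.PLengthOne
import Cfsg.Agent.OddOrderLocal.PLengthSub

/-!
Auxiliary lemmas for B&G Theorem 3.6 (`S1444`): ambient subgroup manipulations and `p`-length one.
-/

set_option autoImplicit false

namespace Cfsg.Agent.OddOrderLocal.Thm36Aux

open Subgroup Cfsg
open scoped commutatorElement

variable {G : Type*} [Group G]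

theorem comm_le_left {A B : Subgroup G} (h : B ≤ normalizer (A : Set G)) : ⁅A, B⁆ ≤ A :=
  Lib.CoprimeCommutator.commutator_le_left h

theorem comm_le_right {A B : Subgroup G} (h : A ≤ normalizer (B : Set G)) : ⁅A, B⁆ ≤ B := by
  rw [commutator_comm]; exact comm_le_left h

theorem le_normalizer_comm {A B : Subgroup G} : A ⊔ B ≤ normalizer ((⁅A, B⁆ : Subgroup G) : Set G) :=
  sup_le (Lib.CoprimeCommutator.left_le_normalizer_commutator A B)
    (Lib.CoprimeCommutator.right_le_normalizer_commutator A B)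

theorem le_normalizer_sup {X A B : Subgroup G} (hA : X ≤ normalizer (A : Set G))
    (hB : X ≤ normalizer (B : Set G)) : X ≤ normalizer ((A ⊔ B : Subgroup G) : Set G) :=
  (le_inf hA hB).trans (normalizer_inf_normalizer_le_normalizer_sup A B)

theorem le_normalizer_inf {X A B : Subgroup G} (hA : X ≤ normalizer (A : Set G))
    (hB : X ≤ normalizer (B : Set G)) : X ≤ normalizer ((A ⊓ B : Subgroup G) : Set G) :=
  (le_inf hA hB).trans inf_normalizer_le_normalizer_inf

theorem le_normalizer_centralizer {X A : Subgroup G} (hA : X ≤ normalizer (A : Set G)) :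
    X ≤ normalizer (centralizer (A : Set G) : Set G) := by
  rw [le_normalizer_iff] at hA ⊢
  intro x hx c hc
  rw [mem_centralizer_iff] at hc ⊢
  intro a ha
  have h1 : x⁻¹ * a * x ∈ A := by simpa using hA x⁻¹ (inv_mem hx) a ha
  have h2 := hc _ h1
  have h3 : a * (x * c * x⁻¹) = x * (x⁻¹ * a * x * c) * x⁻¹ := by group
  rw [h3, h2]; group

theorem le_normalizer_comm' {X A B : Subgroup G} (hA : X ≤ normalizer (A : Set G))
    (hB : X ≤ normalizer (B : Set G)) : X ≤ normalizer ((⁅A, B⁆ : Subgroup G) : Set G) := by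
  intro x hx
  have h1 := (mem_normalizer_iff_map_conj_eq).mp (hA hx)
  have h2 := (mem_normalizer_iff_map_conj_eq).mp (hB hx)
  rw [mem_normalizer_iff_map_conj_eq, map_commutator, h1, h2]

/-- characteristic subgroup of a subgroup: the normalizer grows -/
theorem normalizer_le_normalizer_map {A : Subgroup G} (K : Subgroup A) (hK : K.Characteristic) :
    normalizer (A : Set G) ≤ normalizer ((K.map A.subtype : Subgroup G) : Set G) := by
  rw [le_normalizer_iff]
  intro g hg x hx
  obtain ⟨k, hk, rfl⟩ := mem_map.mp hx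
  have h1 := characteristic_iff_map_eq.mp hK (A.normalizerMonoidHom ⟨g, hg⟩)
  have h2 : (A.normalizerMonoidHom ⟨g, hg⟩) k ∈ K := by
    rw [← h1]; exact mem_map_of_mem _ hk
  exact mem_map.mpr ⟨_, h2, rfl⟩

theorem le_normalizer_of_conj {X A : Subgroup G} (h : ∀ x ∈ X, ∀ a ∈ A, x * a * x⁻¹ ∈ A) :
    X ≤ normalizer (A : Set G) := le_normalizer_iff.mpr h

theorem le_normalizer_of_comm_le {X A : Subgroup G} (h : ⁅A, X⁆ ≤ A) :
    X ≤ normalizer (A : Set G) := by
  rw [le_normalizer_iff]
  intro x hx a ha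
  have h1 : ⁅a⁻¹, x⁆ ∈ A := h (commutator_mem_commutator (inv_mem ha) hx)
  have h2 : x * a * x⁻¹ = a * ⁅a⁻¹, x⁆ := by rw [commutatorElement_def]; group
  rw [h2]; exact mul_mem ha h1

theorem centralizer_le_normalizer (A : Subgroup G) :
    centralizer (A : Set G) ≤ normalizer (A : Set G) := by
  rw [le_normalizer_iff]
  intro x hx a ha
  have := mem_centralizer_iff.mp hx a ha
  rw [← this, mul_assoc, mul_inv_cancel, mul_one]; exact ha

theorem inf_bot_of_coprime {A B : Subgroup G} (h : (Nat.card A).Coprime (Nat.card B)) :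
    A ⊓ B = ⊥ := disjoint_iff.mp (disjoint_of_coprime_natCard h)

theorem pgroup_coprime' [Finite G] {p : ℕ} {A : Subgroup G} (hA : IsPGroup p A)
    (hp : p.Prime) {m : ℕ} (hB : m.Coprime p) : (Nat.card A).Coprime m := by
  have : Fact p.Prime := ⟨hp⟩
  obtain ⟨n, hn⟩ := IsPGroup.iff_card.mp hA
  rw [hn]
  exact (Nat.Coprime.pow_left n hB.symm)

theorem pgroup_coprime [Finite G] {p : ℕ} {A B : Subgroup G} (hA : IsPGroup p A)
    (hp : p.Prime) (hB : (Nat.card B).Coprime p) : (Nat.card A).Coprime (Nat.card B) :=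
  pgroup_coprime' hA hp hB

theorem qgroup_coprime [Finite G] {p q : ℕ} (hp : p.Prime) (hq : q.Prime) (hpq : p ≠ q)
    {B : Subgroup G} (hB : IsPGroup q B) : (Nat.card B).Coprime p := by
  have : Fact q.Prime := ⟨hq⟩
  obtain ⟨n, hn⟩ := IsPGroup.iff_card.mp hB
  rw [hn]
  exact Nat.Coprime.pow_left n ((Nat.coprime_primes hq hp).mpr (Ne.symm hpq))

theorem inf_eq_bot_of_pgroup [Finite G] {p : ℕ} {A B : Subgroup G} (hA : IsPGroup p A)
    (hp : p.Prime) (hB : (Nat.card B).Coprime p) : A ⊓ B = ⊥ :=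
  inf_bot_of_coprime (pgroup_coprime hA hp hB)

theorem inf_eq_bot_of_pq [Finite G] {p q : ℕ} (hp : p.Prime) (hq : q.Prime) (hpq : p ≠ q)
    {A B : Subgroup G} (hA : IsPGroup p A) (hB : IsPGroup q B) : A ⊓ B = ⊥ :=
  inf_eq_bot_of_pgroup hA hp (qgroup_coprime hp hq hpq hB)

theorem eq_bot_of_pgroup_coprime [Finite G] {p : ℕ} {A : Subgroup G} (hA : IsPGroup p A)
    (hp : p.Prime) (hB : (Nat.card A).Coprime p) : A = ⊥ := by
  have := inf_eq_bot_of_pgroup hA hp hB
  rwa [inf_idem] at this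

/-! ### `p`-length one -/

/-- `p`-length one from a quotient by a normal `p'`-subgroup (surjection form). -/
theorem pLength_of_surjective {G' : Type*} [Group G'] [Finite G] {p : ℕ} [Fact p.Prime]
    (f : G →* G') (hf : Function.Surjective f) (hk : (Nat.card f.ker).Coprime p)
    (h : PLengthLE p 1 G') : PLengthLE p 1 G := by
  have : Finite G' := Finite.of_surjective f hf
  obtain ⟨A, B, hA, hB, hAB, hAc, ⟨n, hn⟩, hBi⟩ := PLengthSub.pLengthLE_one_iff.mp h
  rw [PLengthSub.pLengthLE_one_iff]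
  refine ⟨A.comap f, B.comap f, inferInstance, inferInstance, comap_mono hAB, ?_, ⟨n, ?_⟩, ?_⟩
  · have h1 : Nat.card (A.comap f) = Nat.card A * Nat.card f.ker := by
      have h2 := Subgroup.card_mul_index (f.ker.subgroupOf (A.comap f))
      have h3 : f.ker ≤ A.comap f := by
        intro x hx; rw [mem_comap, (MonoidHom.mem_ker).mp hx]; exact one_mem _
      have h4 : Nat.card (f.ker.subgroupOf (A.comap f)) = Nat.card f.ker :=
        Nat.card_congr (Subgroup.subgroupOfEquivOfLe h3).toEquiv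
      have h5 : (f.ker.subgroupOf (A.comap f)).index = Nat.card A := by
        have := Subgroup.relIndex_ker (A.comap f) f
        rw [Subgroup.map_comap_eq_self_of_surjective hf] at this
        exact this
      rw [h4, h5] at h2
      rw [← h2, mul_comm]
    rw [h1]
    exact Nat.Coprime.mul_left hAc hk
  · rw [Subgroup.relIndex_comap, Subgroup.map_comap_eq_self_of_surjective hf, hn]
  · rw [Subgroup.index_comap_of_surjective _ hf]; exact hBi

theorem pLength_prod {G₁ G₂ : Type*} [Group G₁] [Group G₂] [Finite G₁] [Finite G₂] {p : ℕ}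
    [hp : Fact p.Prime] (h1 : PLengthLE p 1 G₁) (h2 : PLengthLE p 1 G₂) : PLengthLE p 1 (G₁ × G₂) := by
  obtain ⟨A, B, hA, hB, hAB, hAc, ⟨n, hn⟩, hBi⟩ := PLengthSub.pLengthLE_one_iff.mp h1
  obtain ⟨A', B', hA', hB', hAB', hAc', ⟨n', hn'⟩, hBi'⟩ := PLengthSub.pLengthLE_one_iff.mp h2
  rw [PLengthSub.pLengthLE_one_iff]
  refine ⟨A.prod A', B.prod B', inferInstance, inferInstance, ?_, ?_, ⟨n + n', ?_⟩, ?_⟩
  · exact Subgroup.prod_mono hAB hAB'
  · rw [Nat.card_congr (Subgroup.prodEquiv A A').toEquiv, Nat.card_prod]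
    exact Nat.Coprime.mul_left hAc hAc'
  · have e1 := Subgroup.relIndex_mul_relIndex ⊥ A B bot_le hAB
    have e2 := Subgroup.relIndex_mul_relIndex ⊥ A' B' bot_le hAB'
    have e3 := Subgroup.relIndex_mul_relIndex ⊥ (A.prod A') (B.prod B') bot_le
      (Subgroup.prod_mono hAB hAB')
    simp only [Subgroup.relIndex_bot_left] at e1 e2 e3
    rw [Nat.card_congr (Subgroup.prodEquiv A A').toEquiv, Nat.card_prod,
      Nat.card_congr (Subgroup.prodEquiv B B').toEquiv, Nat.card_prod, ← e1, ← e2, hn, hn'] at e3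
    have h3 : Nat.card A * Nat.card A' ≠ 0 := mul_ne_zero Nat.card_pos.ne' Nat.card_pos.ne'
    have h4 : Nat.card A * Nat.card A' * (A.prod A').relIndex (B.prod B') =
        Nat.card A * Nat.card A' * p ^ (n + n') := by rw [e3, pow_add]; ring
    exact Nat.eq_of_mul_eq_mul_left (Nat.pos_of_ne_zero h3) h4
  · rw [Subgroup.index_prod]
    exact Nat.Coprime.mul_left hBi hBi'

/-- `p`-length one from two normal subgroups with trivial intersection. -/
theorem pLength_of_two [Finite G] {p : ℕ} [Fact p.Prime] (H : Subgroup G) (A B : Subgroup G)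
    [A.Normal] [B.Normal] (hAB : H ⊓ A ⊓ B = ⊥)
    (hA : PLengthLE p 1 ↥(H.map (QuotientGroup.mk' A)))
    (hB : PLengthLE p 1 ↥(H.map (QuotientGroup.mk' B))) : PLengthLE p 1 H := by
  have h1 := pLength_prod hA hB
  let f : H →* ↥(H.map (QuotientGroup.mk' A)) × ↥(H.map (QuotientGroup.mk' B)) :=
    MonoidHom.prod ((QuotientGroup.mk' A).subgroupMap H) ((QuotientGroup.mk' B).subgroupMap H)
  apply PLengthSub.pLengthLE_one_of_injective f _ h1
  rw [injective_iff_map_eq_one]
  intro x hx
  have hx1 : (QuotientGroup.mk' A) (x : G) = 1 := congrArg (fun y => ((y.1 : _) : G ⧸ A)) hx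
  have hx2 : (QuotientGroup.mk' B) (x : G) = 1 := congrArg (fun y => ((y.2 : _) : G ⧸ B)) hx
  rw [QuotientGroup.mk'_apply, QuotientGroup.eq_one_iff] at hx1 hx2
  have : (x : G) ∈ H ⊓ A ⊓ B := ⟨⟨x.2, hx1⟩, hx2⟩
  rw [hAB, mem_bot] at this
  exact Subtype.ext this

/-- `p`-length one of `H` from a quotient by a normal `p'`-subgroup. -/
theorem pLength_of_quot [Finite G] {p : ℕ} [Fact p.Prime] (H X : Subgroup G) [X.Normal]
    (hX : (Nat.card X).Coprime p) (h : PLengthLE p 1 ↥(H.map (QuotientGroup.mk' X))) :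
    PLengthLE p 1 H := by
  apply pLength_of_surjective ((QuotientGroup.mk' X).subgroupMap H)
    ((QuotientGroup.mk' X).subgroupMap_surjective H) _ h
  have h1 : ((QuotientGroup.mk' X).subgroupMap H).ker.map H.subtype ≤ X := by
    intro y hy
    obtain ⟨k, hk, rfl⟩ := mem_map.mp hy
    have := congrArg (fun y : ↥(H.map (QuotientGroup.mk' X)) => (y : G ⧸ X)) (MonoidHom.mem_ker.mp hk)
    have h2 : (QuotientGroup.mk' X) (k : G) = 1 := this
    rwa [QuotientGroup.mk'_apply, QuotientGroup.eq_one_iff] at h2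
  have h2 := Subgroup.card_dvd_of_le h1
  rw [Subgroup.card_subtype] at h2
  exact Nat.Coprime.coprime_dvd_left h2 hX

/-- A group with a normal `p`-subgroup of `p'`-index has `p`-length at most one. -/
theorem pLength_of_normal_pgroup [Finite G] {p : ℕ} [Fact p.Prime] (D : Subgroup G) (hD : D.Normal)
    (hDp : IsPGroup p D) (hi : D.index.Coprime p) : PLengthLE p 1 G := by
  rw [PLengthSub.pLengthLE_one_iff]
  obtain ⟨n, hn⟩ := IsPGroup.iff_card.mp hDp
  exact ⟨⊥, D, inferInstance, hD, bot_le, by simp, ⟨n, by simpa using hn⟩, hi⟩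

/-- Ambient version: `D ≤ H` is a `p`-subgroup normalized by `H` with index in `H` prime to `p`. -/
theorem pLength_of_normal_pgroup' [Finite G] {p : ℕ} [Fact p.Prime] {D H : Subgroup G} (hDH : D ≤ H)
    (hD : H ≤ normalizer (D : Set G))
    (hDp : IsPGroup p D) (hi : (D.relIndex H).Coprime p) : PLengthLE p 1 H :=
  pLength_of_normal_pgroup (D.subgroupOf H) ((normal_subgroupOf_iff_le_normalizer hDH).mpr hD)
    (hDp.of_equiv (Subgroup.subgroupOfEquivOfLe hDH).symm) hi

/-- `p`-length one with trivial `O_{p'}`: there is a characteristic Sylow `p`-subgroup. -/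
theorem exists_sylow_char [Finite G] {p : ℕ} [Fact p.Prime] (h : PLengthLE p 1 G)
    (h1 : pPrimeCore p G = ⊥) : (pCore p G).index.Coprime p := by
  obtain ⟨A, B, hA, hB, hAB, hAc, ⟨n, hn⟩, hBi⟩ := PLengthSub.pLengthLE_one_iff.mp h
  have hA1 : A = ⊥ := by
    rw [eq_bot_iff, ← h1]
    exact PLengthOne.le_pPrimeCore hA hAc
  subst hA1
  rw [Subgroup.relIndex_bot_left] at hn
  have hBp : IsPGroup p B := IsPGroup.of_card hn
  have : B ≤ pCore p G := PLengthOne.le_pCore hB hBp
  exact Nat.Coprime.coprime_dvd_left (Subgroup.index_dvd_of_le this) hBi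

/-- A `p`-subgroup lies in a normal subgroup of index prime to `p`. -/
theorem pgroup_le_of_index [Finite G] {p : ℕ} [hp : Fact p.Prime] {B T : Subgroup G} (hB : B.Normal)
    (hi : B.index.Coprime p) (hT : IsPGroup p T) : T ≤ B := by
  have h1 : IsPGroup p (T.map (QuotientGroup.mk' B)) := hT.map _
  have h2 : T.map (QuotientGroup.mk' B) = ⊥ := by
    apply eq_bot_of_pgroup_coprime h1 hp.out
    exact Nat.Coprime.coprime_dvd_left (Subgroup.card_subgroup_dvd_card _) hi
  rw [Subgroup.map_eq_bot_iff, QuotientGroup.ker_mk'] at h2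
  exact h2

/-- Ambient version. -/
theorem pgroup_le_of_relIndex [Finite G] {p : ℕ} [hp : Fact p.Prime] {B H T : Subgroup G}
    (hBH : B ≤ H) (hB : H ≤ normalizer (B : Set G)) (hi : (B.relIndex H).Coprime p)
    (hT : IsPGroup p T) (hTH : T ≤ H) : T ≤ B := by
  have h1 := pgroup_le_of_index (B := B.subgroupOf H) (T := T.subgroupOf H)
    ((normal_subgroupOf_iff_le_normalizer hBH).mpr hB) hi
    (hT.of_equiv (Subgroup.subgroupOfEquivOfLe hTH).symm)
  intro x hx
  have : (⟨x, hTH hx⟩ : H) ∈ B.subgroupOf H := h1 (mem_subgroupOf.mpr hx)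
  exact mem_subgroupOf.mp this

theorem le_of_coprime_index [Finite G] {B T : Subgroup G} (hB : B.Normal)
    (hc : (Nat.card T).Coprime B.index) : T ≤ B := by
  have h3 : Nat.card (T.map (QuotientGroup.mk' B)) ∣ B.index := by
    rw [Subgroup.index_eq_card]
    exact Subgroup.card_subgroup_dvd_card _
  have h4 : Nat.card (T.map (QuotientGroup.mk' B)) ∣ Nat.card T :=
    T.card_map_dvd (QuotientGroup.mk' B)
  have h5 : Nat.card (T.map (QuotientGroup.mk' B)) = 1 :=
    Nat.Coprime.eq_one_of_dvd (Nat.Coprime.coprime_dvd_left h4 hc) h3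
  have h2 : T.map (QuotientGroup.mk' B) = ⊥ := Subgroup.card_eq_one.mp h5
  rw [Subgroup.map_eq_bot_iff, QuotientGroup.ker_mk'] at h2
  exact h2

/-- Ambient version. -/
theorem le_of_coprime_relIndex [Finite G] {B H T : Subgroup G}
    (hBH : B ≤ H) (hB : H ≤ normalizer (B : Set G)) (hTH : T ≤ H)
    (hc : (Nat.card T).Coprime (B.relIndex H)) : T ≤ B := by
  have h1 := le_of_coprime_index (B := B.subgroupOf H) (T := T.subgroupOf H)
    ((normal_subgroupOf_iff_le_normalizer hBH).mpr hB) (by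
      rw [Nat.card_congr (Subgroup.subgroupOfEquivOfLe hTH).toEquiv]; exact hc)
  intro x hx
  have : (⟨x, hTH hx⟩ : H) ∈ B.subgroupOf H := h1 (mem_subgroupOf.mpr hx)
  exact mem_subgroupOf.mp this

/-- Ambient Schur–Zassenhaus. -/
theorem exists_compl [Finite G] {F Y : Subgroup G} (hFY : F ≤ Y) (hn : Y ≤ normalizer (F : Set G))
    (hc : (Nat.card F).Coprime (F.relIndex Y)) :
    ∃ T : Subgroup G, T ≤ Y ∧ F ⊓ T = ⊥ ∧ F ⊔ T = Y ∧ Nat.card T = F.relIndex Y := by
  have h1 : (F.subgroupOf Y).Normal := (normal_subgroupOf_iff_le_normalizer hFY).mpr hn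
  obtain ⟨K, hK⟩ := exists_right_complement'_of_coprime (N := F.subgroupOf Y) (by
    rw [Nat.card_congr (Subgroup.subgroupOfEquivOfLe hFY).toEquiv]; exact hc)
  have e1 : (F.subgroupOf Y).map Y.subtype = F := by
    rw [Subgroup.subgroupOf_map_subtype, inf_eq_left.mpr hFY]
  refine ⟨K.map Y.subtype, map_subtype_le _, ?_, ?_, ?_⟩
  · have h2 := congrArg (Subgroup.map Y.subtype) (disjoint_iff.mp hK.disjoint)
    rwa [Subgroup.map_inf _ _ _ Y.subtype_injective, e1, Subgroup.map_bot] at h2
  · have h2 := congrArg (Subgroup.map Y.subtype) hK.sup_eq_top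
    rwa [Subgroup.map_sup, e1, ← MonoidHom.range_eq_map, Subgroup.range_subtype] at h2
  · rw [Subgroup.card_subtype]
    have h2 := hK.card_mul_card
    have h3 := Subgroup.card_mul_index (F.subgroupOf Y)
    have h4 : 0 < Nat.card (F.subgroupOf Y) := Nat.card_pos
    exact Nat.eq_of_mul_eq_mul_left h4 (h2.trans h3.symm)

/-- preimage in `G` of a subgroup of `G ⧸ F`: cardinality and relative index -/
theorem relIndex_comap_mk (F : Subgroup G) [F.Normal] (Y : Subgroup (G ⧸ F)) :
    F.relIndex (Y.comap (QuotientGroup.mk' F)) = Nat.card Y := by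
  have := Subgroup.relIndex_ker (Y.comap (QuotientGroup.mk' F)) (QuotientGroup.mk' F)
  rw [QuotientGroup.ker_mk', Subgroup.map_comap_eq_self_of_surjective
    (QuotientGroup.mk'_surjective F)] at this
  exact this

theorem le_comap_mk (F : Subgroup G) [F.Normal] (Y : Subgroup (G ⧸ F)) :
    F ≤ Y.comap (QuotientGroup.mk' F) := by
  intro x hx
  rw [mem_comap, QuotientGroup.mk'_apply, (QuotientGroup.eq_one_iff x).mpr hx]
  exact one_mem _

theorem relIndex_comap_comap_mk (F : Subgroup G) [F.Normal] (Y Z : Subgroup (G ⧸ F)) :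
    (Y.comap (QuotientGroup.mk' F)).relIndex (Z.comap (QuotientGroup.mk' F)) = Y.relIndex Z := by
  rw [Subgroup.relIndex_comap, Subgroup.map_comap_eq_self_of_surjective
    (QuotientGroup.mk'_surjective F)]

theorem comap_map_mk {F H : Subgroup G} [F.Normal] (h : F ≤ H) :
    (H.map (QuotientGroup.mk' F)).comap (QuotientGroup.mk' F) = H := by
  rw [Subgroup.comap_map_eq, QuotientGroup.ker_mk', sup_eq_left.mpr h]

theorem relIndex_map_subtype (L : Subgroup G) (K : Subgroup L) :
    (K.map L.subtype).relIndex L = K.index := by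
  show ((K.map L.subtype).comap L.subtype).index = _
  rw [Subgroup.comap_map_eq_self_of_injective L.subtype_injective]

end Cfsg.Agent.OddOrderLocal.Thm36Aux
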