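import Mathlib

/-!
B&G Theorem 3.4, part 1: linear algebra preparations.
-/

set_option autoImplicit false

namespace Cfsg.Agent.OddOrderLocal.Thm34Base

open Module

theorem sq_finrank_le {F : Type*} [Field F] [IsAlgClosed F] {V : Type*} [AddCommGroup V] [Module F V]
    [FiniteDimensional F V] (f : End F V) (r : ℕ) (hr0 : 0 < r) (hrF : (r : F) ≠ 0) (hfr : f ^ r = 1)
    (hfix : ∀ v, f v = v → v = 0) :
    (finrank F V) ^ 2 ≤ (r - 1) * finrank F (LinearMap.ker (LinearMap.mulLeft F f - LinearMap.mulRight F f)) := by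
  classical
  -- semisimple
  have hss : f.IsSemisimple := by
    have hsq : Squarefree (Polynomial.X ^ r - 1 : Polynomial F) := by
      apply Polynomial.Separable.squarefree
      have := Polynomial.separable_X_pow_sub_C (1 : F) hrF one_ne_zero
      simpa using this
    apply Module.End.isSemisimple_of_squarefree_aeval_eq_zero hsq
    simp [hfr]
  have htop := hss.iSup_eigenspace_eq_top
  set S : Finset F := (Polynomial.nthRootsFinset r (1 : F)).erase 1 with hS
  have hScard : S.card ≤ r - 1 := by
    have h1 : (1 : F) ∈ Polynomial.nthRootsFinset r (1 : F) := by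
      rw [Polynomial.mem_nthRootsFinset hr0]; simp
    have h2 : (Polynomial.nthRootsFinset r (1 : F)).card ≤ r := by
      unfold Polynomial.nthRootsFinset
      refine (Multiset.toFinset_card_le _).trans (Polynomial.card_nthRoots r 1)
    rw [hS, Finset.card_erase_of_mem h1]
    omega
  have hbot : ∀ μ : F, μ ∉ S → End.eigenspace f μ = ⊥ := by
    intro μ hμ
    rw [Submodule.eq_bot_iff]
    intro v hv
    rw [End.mem_eigenspace_iff] at hv
    by_contra hv0
    apply hμ
    rw [hS, Finset.mem_erase, Polynomial.mem_nthRootsFinset hr0]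
    constructor
    · rintro rfl
      exact hv0 (hfix v (by simpa using hv))
    · have h1 : ∀ n : ℕ, (f ^ n) v = μ ^ n • v := by
        intro n
        induction n with
        | zero => simp
        | succ n ih => rw [pow_succ', End.mul_apply, ih, map_smul, hv, smul_smul, pow_succ]
      have h2 := h1 r
      rw [hfr, End.one_apply] at h2
      have h3 : (μ ^ r - 1) • v = 0 := by rw [sub_smul, one_smul, ← h2, sub_self]
      rcases smul_eq_zero.1 h3 with h4 | h4
      · exact sub_eq_zero.1 h4
      · exact absurd h4 hv0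
  have hind : iSupIndep (fun μ : S => End.eigenspace f (μ : F)) :=
    (End.eigenspaces_iSupIndep f).comp Subtype.val_injective
  have hsup : ⨆ μ : S, End.eigenspace f (μ : F) = ⊤ := by
    rw [eq_top_iff, ← htop]
    apply iSup_le
    intro μ
    by_cases h : μ ∈ S
    · exact le_iSup (fun μ : S => End.eigenspace f (μ : F)) ⟨μ, h⟩
    · rw [hbot μ h]; exact bot_le
  have hint := DirectSum.isInternal_submodule_of_iSupIndep_of_iSup_eq_top hind hsup
  let e : (DirectSum S fun μ => End.eigenspace f (μ : F)) ≃ₗ[F] V :=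
    LinearEquiv.ofBijective (DirectSum.coeLinearMap _) hint
  have hdim : finrank F V = ∑ μ : S, finrank F (End.eigenspace f (μ : F)) := by
    rw [← e.finrank_eq, Module.finrank_directSum]
  -- the embedding
  have he : ∀ (μ : S) (v : End.eigenspace f (μ : F)),
      e (DirectSum.lof F S (fun μ : S => End.eigenspace f (μ : F)) μ v) = v := by
    intro μ v
    exact DirectSum.coeLinearMap_lof (fun μ : S => End.eigenspace f (μ : F)) μ v
  let D : (DirectSum S fun μ => End.eigenspace f (μ : F)) →ₗ[F] (DirectSum S fun μ => End.eigenspace f (μ : F)) :=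
    DirectSum.lmap (fun μ : S => (μ : F) • (LinearMap.id : End.eigenspace f (μ : F) →ₗ[F] _))
  have hfe : ∀ w, f (e w) = e (D w) := by
    intro w
    have : f ∘ₗ e.toLinearMap = e.toLinearMap ∘ₗ D := by
      apply DirectSum.linearMap_ext
      intro μ
      ext v
      simp only [D, LinearMap.coe_comp, Function.comp_apply, LinearEquiv.coe_coe, he,
        DirectSum.lmap_lof, LinearMap.smul_apply, LinearMap.id_coe, id_eq]
      rw [End.mem_eigenspace_iff.1 v.2]
      rfl
    exact LinearMap.congr_fun this w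
  let Θ : (∀ μ : S, (End.eigenspace f (μ : F) →ₗ[F] End.eigenspace f (μ : F))) →ₗ[F] End F V :=
    { toFun := fun T => e.toLinearMap ∘ₗ DirectSum.lmap T ∘ₗ e.symm.toLinearMap
      map_add' := by
        intro T T'
        ext v
        simp only [LinearMap.coe_comp, Function.comp_apply, LinearEquiv.coe_coe, LinearMap.add_apply]
        rw [← map_add]
        congr 1
        ext μ
        simp only [DirectSum.lmap_apply, DirectSum.add_apply, Pi.add_apply, LinearMap.add_apply]
      map_smul' := by
        intro c T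
        ext v
        simp only [LinearMap.coe_comp, Function.comp_apply, LinearEquiv.coe_coe, LinearMap.smul_apply,
          RingHom.id_apply]
        rw [← map_smul]
        congr 1
        ext μ
        simp only [DirectSum.lmap_apply, DirectSum.smul_apply, Pi.smul_apply, LinearMap.smul_apply] }
  have hΘinj : Function.Injective Θ := by
    intro T T' h
    funext μ
    ext v
    have h1 := LinearMap.congr_fun h (e (DirectSum.lof F S (fun μ : S => End.eigenspace f (μ : F)) μ v))
    have h2 : ∀ T'' : (∀ μ : S, (End.eigenspace f (μ : F) →ₗ[F] End.eigenspace f (μ : F))),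
        Θ T'' (e (DirectSum.lof F S (fun μ : S => End.eigenspace f (μ : F)) μ v)) = T'' μ v := by
      intro T''
      show e (DirectSum.lmap T'' (e.symm (e _))) = _
      rw [LinearEquiv.symm_apply_apply, DirectSum.lmap_lof, he]
    rw [h2, h2] at h1
    exact h1
  have hΘmem : ∀ T, Θ T ∈ LinearMap.ker (LinearMap.mulLeft F f - LinearMap.mulRight F f) := by
    intro T
    rw [LinearMap.mem_ker, LinearMap.sub_apply, sub_eq_zero]
    ext v
    obtain ⟨w, rfl⟩ := e.surjective v
    show f (e (DirectSum.lmap T (e.symm (e w)))) = e (DirectSum.lmap T (e.symm (f (e w))))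
    rw [hfe, hfe, LinearEquiv.symm_apply_apply, LinearEquiv.symm_apply_apply]
    congr 1
    ext μ
    simp only [D, DirectSum.lmap_apply, LinearMap.smul_apply, LinearMap.id_coe, id_eq, map_smul]
  have hle : finrank F (∀ μ : S, (End.eigenspace f (μ : F) →ₗ[F] End.eigenspace f (μ : F))) ≤
      finrank F (LinearMap.ker (LinearMap.mulLeft F f - LinearMap.mulRight F f)) := by
    apply LinearMap.finrank_le_finrank_of_injective (f := Θ.codRestrict _ hΘmem)
    intro a b hab
    exact hΘinj (congrArg Subtype.val hab)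
  rw [Module.finrank_pi_fintype] at hle
  simp only [Module.finrank_linearMap] at hle
  calc (finrank F V) ^ 2 = (∑ μ : S, finrank F (End.eigenspace f (μ : F))) ^ 2 := by rw [hdim]
    _ ≤ (Finset.univ : Finset S).card * ∑ μ : S, (finrank F (End.eigenspace f (μ : F))) ^ 2 := sq_sum_le_card_mul_sum_sq
    _ ≤ (r - 1) * finrank F (LinearMap.ker (LinearMap.mulLeft F f - LinearMap.mulRight F f)) := by
        apply Nat.mul_le_mul
        · simpa using hScard
        · refine le_trans (le_of_eq ?_) hle
          apply Finset.sum_congr rfl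
          intro μ _
          rw [sq]

theorem orbit_count {Q : Type*} [Finite Q] (σ : Equiv.Perm Q) {r : ℕ} (hr : r.Prime)
    (hσr : σ ^ r = 1) (q₀ : Q) (h : ∀ q, σ q = q → q = q₀) (h₀ : σ q₀ = q₀) (hσ1 : σ ≠ 1) :
    r * Nat.card (MulAction.orbitRel.Quotient (Subgroup.zpowers σ) Q) = Nat.card Q + (r - 1) := by
  classical
  have := Fintype.ofFinite Q
  have hfr : Fact r.Prime := ⟨hr⟩
  have hord : orderOf σ = r := orderOf_eq_prime hσr hσ1
  have hcard : Fintype.card (Subgroup.zpowers σ) = r := by
    rw [Fintype.card_zpowers, hord]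
  have hB := MulAction.sum_card_fixedBy_eq_card_orbits_mul_card_group (Subgroup.zpowers σ) Q
  have hfix : ∀ a : Subgroup.zpowers σ, Fintype.card (MulAction.fixedBy Q a) =
      if a = 1 then Fintype.card Q else 1 := by
    intro a
    split_ifs with ha
    · subst ha
      apply Fintype.card_congr
      refine (Equiv.subtypeUnivEquiv ?_)
      intro q
      simp
    · rw [Fintype.card_eq_one_iff]
      obtain ⟨n, hn⟩ := a.2
      have hn' : (σ ^ n : Equiv.Perm Q) = a := hn
      refine ⟨⟨q₀, ?_⟩, ?_⟩
      · rw [MulAction.mem_fixedBy]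
        show (a : Equiv.Perm Q) q₀ = q₀
        rw [← hn']
        exact Equiv.Perm.zpow_apply_eq_self_of_apply_eq_self h₀ n
      · rintro ⟨q, hq⟩
        rw [Subtype.mk.injEq]
        apply h
        rw [MulAction.mem_fixedBy] at hq
        have hq' : (a : Equiv.Perm Q) q = q := hq
        -- σ is a power of a
        have hao : orderOf (a : Equiv.Perm Q) = r := by
          have h1 : orderOf (a : Equiv.Perm Q) ∣ r := by
            rw [← hord]; rw [← hn']
            exact orderOf_dvd_of_mem_zpowers (Subgroup.zpow_mem_zpowers σ n)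
          rcases (Nat.dvd_prime hr).1 h1 with h2 | h2
          · exfalso; apply ha
            rw [orderOf_eq_one_iff] at h2
            exact Subtype.ext h2
          · exact h2
        have hmem : σ ∈ Subgroup.zpowers (a : Equiv.Perm Q) := by
          have h1 : Subgroup.zpowers (a : Equiv.Perm Q) ≤ Subgroup.zpowers σ := by
            rw [Subgroup.zpowers_le]; exact a.2
          have h2 : Subgroup.zpowers (a : Equiv.Perm Q) = Subgroup.zpowers σ := by
            apply Subgroup.eq_of_le_of_card_ge h1
            rw [Nat.card_zpowers, Nat.card_zpowers, hao, hord]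
          rw [h2]; exact Subgroup.mem_zpowers σ
        obtain ⟨m, hm⟩ := hmem
        have hm' : ((a : Equiv.Perm Q) ^ m) = σ := hm
        rw [← hm']
        exact Equiv.Perm.zpow_apply_eq_self_of_apply_eq_self hq' m
  rw [Finset.sum_congr rfl (fun a _ => hfix a), Finset.sum_ite] at hB
  rw [Finset.filter_eq' , if_pos (Finset.mem_univ _)] at hB
  rw [Finset.sum_singleton, Finset.sum_const, smul_eq_mul, mul_one] at hB
  have h3 : (Finset.univ.filter (fun a : Subgroup.zpowers σ => ¬ a = 1)).card = r - 1 := by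
    rw [Finset.filter_not, Finset.card_sdiff_of_subset (Finset.filter_subset _ _)]
    rw [Finset.filter_eq', if_pos (Finset.mem_univ _), Finset.card_univ, hcard, Finset.card_singleton]
  rw [h3, hcard] at hB
  rw [Nat.card_eq_fintype_card, Nat.card_eq_fintype_card, mul_comm, hB]

theorem arith {N M d o r : ℕ} (hr : r.Prime) (hr2 : r ≠ 2) (h1 : N ^ 2 = M) (h2 : d ≤ o)
    (h3 : r * o = M + (r - 1)) (h4 : N ^ 2 ≤ (r - 1) * d) (hodd : Odd M) (hM : M ≠ 1) : False := by
  have hr3 : 3 ≤ r := by
    rcases hr.two_le.lt_or_eq with h | h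
    · exact h
    · exact absurd h.symm hr2
  obtain ⟨s, rfl⟩ : ∃ s, r = s + 1 := ⟨r - 1, by omega⟩
  simp only [Nat.add_sub_cancel] at *
  have hNodd : Odd N := by
    rw [← h1] at hodd
    exact (Nat.odd_pow_iff two_ne_zero).1 hodd
  have hN0 : N ≠ 0 := by rintro rfl; simp at hNodd
  have hN1 : N ≠ 1 := by rintro rfl; apply hM; rw [← h1]; norm_num
  have hle : N ^ 2 ≤ s ^ 2 := by
    have h5 : (s + 1) * N ^ 2 ≤ s * (M + s) := by
      calc (s + 1) * N ^ 2 ≤ (s + 1) * (s * d) := Nat.mul_le_mul_left _ h4
        _ = s * ((s + 1) * d) := by ring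
        _ ≤ s * ((s + 1) * o) := Nat.mul_le_mul_left _ (Nat.mul_le_mul_left _ h2)
        _ = s * (M + s) := by rw [h3]
    rw [← h1] at h5
    nlinarith
  have hNs : N ≤ s := by
    by_contra hc
    push Not at hc
    have := Nat.pow_lt_pow_left hc two_ne_zero
    omega
  have hdvd : (s + 1) ∣ (N - 1) * (N + 1) := by
    have h6 : (N - 1) * (N + 1) + 1 = N ^ 2 := by
      obtain ⟨n, rfl⟩ : ∃ n, N = n + 1 := ⟨N - 1, by omega⟩
      simp only [Nat.add_sub_cancel]
      ring
    have h7 : (s + 1) * o = ((N - 1) * (N + 1)) + (s + 1) := by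
      rw [h3, ← h1, ← h6]; ring
    have h8 : (s + 1) ∣ (N - 1) * (N + 1) + (s + 1) := ⟨o, by rw [h7]⟩
    exact (Nat.dvd_add_left (dvd_refl _)).1 h8
  rcases (Nat.Prime.dvd_mul hr).1 hdvd with h | h
  · have := Nat.le_of_dvd (by omega) h
    omega
  · have h9 := Nat.le_of_dvd (by omega) h
    have h10 : N = s := by omega
    subst h10
    obtain ⟨k, hk⟩ := hNodd
    have : (2 * k + 1 + 1) = 2 * (k + 1) := by ring
    rw [hk, this] at hr
    have := (Nat.prime_mul_iff.1 hr)
    rcases this with ⟨_, h11⟩ | ⟨_, h11⟩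
    · omega
    · omega

section
variable {F : Type*} [Field F] {G : Type*} [Group G] {V : Type*} [AddCommGroup V] [Module F V]

/-- for an irreducible representation an invariant submodule is trivial -/
theorem irr_cases (ρ : Representation F G V) [hρ : ρ.IsIrreducible] (W : Submodule F V)
    (hW : ∀ g, ∀ w ∈ W, ρ g w ∈ W) : W = ⊥ ∨ W = ⊤ := by
  let S : Subrepresentation ρ := ⟨W, fun g w hw => hW g w hw⟩
  rcases eq_bot_or_eq_top S with h | h
  · left
    exact congrArg Subrepresentation.toSubmodule h
  · right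
    exact congrArg Subrepresentation.toSubmodule h

theorem nontrivial_of_irr (ρ : Representation F G V) [hρ : ρ.IsIrreducible] : Nontrivial V := by
  by_contra h
  rw [not_nontrivial_iff_subsingleton] at h
  have : (⊥ : Subrepresentation ρ) ≠ ⊤ := bot_ne_top
  apply this
  apply Subrepresentation.toSubmodule_injective
  exact Subsingleton.elim _ _

/-- invariance may be checked on generators -/
theorem inv_of_gen [Finite G] (ρ : Representation F G V) (K : Subgroup G) (x : G)
    (hG : K ⊔ Subgroup.zpowers x = ⊤) (W : Submodule F V) (hK : ∀ k ∈ K, ∀ w ∈ W, ρ k w ∈ W)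
    (hx : ∀ w ∈ W, ρ x w ∈ W) : ∀ g, ∀ w ∈ W, ρ g w ∈ W := by
  have hpow : ∀ (g : G), (∀ w ∈ W, ρ g w ∈ W) → ∀ n : ℕ, ∀ w ∈ W, ρ (g ^ n) w ∈ W := by
    intro g hg n
    induction n with
    | zero => intro w hw; simpa using hw
    | succ n ih =>
      intro w hw
      rw [pow_succ, map_mul, End.mul_apply]
      exact ih _ (hg w hw)
  let S : Subgroup G :=
    { carrier := {g | ∀ w ∈ W, ρ g w ∈ W}
      mul_mem' := by
        intro a b ha hb w hw
        rw [map_mul, End.mul_apply]
        exact ha _ (hb w hw)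
      one_mem' := by intro w hw; simpa using hw
      inv_mem' := by
        intro a ha w hw
        have h1 : a⁻¹ = a ^ (orderOf a - 1) := by
          rw [eq_comm, eq_inv_iff_mul_eq_one, ← pow_succ, Nat.sub_add_cancel (orderOf_pos a),
            pow_orderOf_eq_one]
        rw [h1]
        exact hpow a ha _ w hw }
  have h1 : K ⊔ Subgroup.zpowers x ≤ S := by
    apply sup_le
    · intro k hk; exact hK k hk
    · rw [Subgroup.zpowers_le]; exact hx
  rw [hG] at h1
  intro g
  exact h1 (Subgroup.mem_top g)

variable [IsAlgClosed F] [FiniteDimensional F V]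

/-- Schur's lemma -/
theorem schur (ρ : Representation F G V) [hρ : ρ.IsIrreducible] (T : End F V)
    (hT : ∀ g, T * ρ g = ρ g * T) : ∃ c : F, T = c • 1 := by
  have := nontrivial_of_irr ρ
  obtain ⟨c, hc⟩ := Module.End.exists_eigenvalue T
  refine ⟨c, ?_⟩
  have h1 := irr_cases ρ (End.eigenspace T c) (by
    intro g w hw
    rw [End.mem_eigenspace_iff] at hw ⊢
    have := LinearMap.congr_fun (hT g) w
    rw [End.mul_apply, End.mul_apply] at this
    rw [this, hw, map_smul])
  rcases h1 with h1 | h1
  · exact absurd h1 hc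
  · ext v
    have : v ∈ End.eigenspace T c := by rw [h1]; trivial
    rw [End.mem_eigenspace_iff] at this
    simpa using this

theorem scalar_of_comm [Finite G] (ρ : Representation F G V) [hρ : ρ.IsIrreducible]
    (K : Subgroup G) (x : G) (hG : K ⊔ Subgroup.zpowers x = ⊤) (hxK : ∀ k ∈ K, x⁻¹ * k * x ∈ K)
    {r : ℕ} (hr : r.Prime) (hrF : (r : F) ≠ 0) (hxr : x ^ r = 1) (hfix : ∀ v, ρ x v = v → v = 0)
    (T : End F V) (hT : ∀ k ∈ K, T * ρ k = ρ k * T) : ∃ c : F, T = c • 1 := by
  classical
  have := nontrivial_of_irr ρ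
  have hX1 : ρ x * ρ x⁻¹ = 1 := by rw [← map_mul, mul_inv_cancel, map_one]
  have hX2 : ρ x⁻¹ * ρ x = 1 := by rw [← map_mul, inv_mul_cancel, map_one]
  have hXr : (ρ x) ^ r = 1 := by rw [← map_pow, hxr, map_one]
  let C : End F (End F V) := LinearMap.mulLeft F (ρ x) ∘ₗ LinearMap.mulRight F (ρ x⁻¹)
  have hC : ∀ S, C S = ρ x * S * ρ x⁻¹ := by
    intro S
    show ρ x * (S * ρ x⁻¹) = _
    rw [mul_assoc]
  have hCn : ∀ (n : ℕ) S, (C ^ n) S = (ρ x) ^ n * S * (ρ x⁻¹) ^ n := by
    intro n
    induction n with
    | zero => intro S; simp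
    | succ n ih => intro S; rw [pow_succ', End.mul_apply, ih, hC, pow_succ', pow_succ]; simp only [mul_assoc]
  have hCr : C ^ r = 1 := by
    ext1 S
    rw [hCn, hXr, ← map_pow ρ x⁻¹, inv_pow, hxr]
    simp
  let B₀ : Submodule F (End F V) :=
    { carrier := {S | (∀ k ∈ K, S * ρ k = ρ k * S) ∧ ∑ j ∈ Finset.range r, (C ^ j) S = 0}
      add_mem' := by
        rintro a b ⟨ha, ha'⟩ ⟨hb, hb'⟩
        refine ⟨fun k hk => by rw [add_mul, mul_add, ha k hk, hb k hk], ?_⟩
        simp only [map_add, Finset.sum_add_distrib, ha', hb', add_zero]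
      zero_mem' := by simp
      smul_mem' := by
        rintro c a ⟨ha, ha'⟩
        refine ⟨fun k hk => by rw [smul_mul_assoc, mul_smul_comm, ha k hk], ?_⟩
        simp only [map_smul, ← Finset.smul_sum, ha', smul_zero] }
  have hKC : ∀ S : End F V, (∀ k ∈ K, S * ρ k = ρ k * S) → ∀ k ∈ K, C S * ρ k = ρ k * C S := by
    intro S hS k hk
    rw [hC]
    have h1 := hS _ (hxK k hk)
    have h2 : ρ x⁻¹ * ρ k = ρ (x⁻¹ * k * x) * ρ x⁻¹ := by
      rw [← map_mul, ← map_mul]; congr 1; group
    have h3 : ρ x * ρ (x⁻¹ * k * x) = ρ k * ρ x := by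
      rw [← map_mul, ← map_mul]; congr 1; group
    calc ρ x * S * ρ x⁻¹ * ρ k = ρ x * (S * ρ (x⁻¹ * k * x)) * ρ x⁻¹ := by
          rw [mul_assoc, h2]; simp only [mul_assoc]
      _ = ρ k * (ρ x * S * ρ x⁻¹) := by rw [h1, ← mul_assoc (ρ x), h3]; simp only [mul_assoc]
  have hB₀C : ∀ S ∈ B₀, C S ∈ B₀ := by
    rintro S ⟨hS, hS'⟩
    refine ⟨hKC S hS, ?_⟩
    have : ∀ j, (C ^ j) (C S) = C ((C ^ j) S) := by
      intro j
      rw [← End.mul_apply, ← pow_succ, pow_succ', End.mul_apply]
    simp only [this, ← map_sum, hS', map_zero]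
  have hB₀ : B₀ = ⊥ := by
    by_contra hne
    have : Nontrivial B₀ := Submodule.nontrivial_iff_ne_bot.2 hne
    obtain ⟨μ, hμ⟩ := Module.End.exists_eigenvalue (C.restrict hB₀C)
    obtain ⟨⟨S, hS⟩, hS1, hS0⟩ := hμ.exists_hasEigenvector
    rw [End.mem_eigenspace_iff] at hS1
    have hCS : C S = μ • S := congrArg Subtype.val hS1
    have hS0' : S ≠ 0 := fun h => hS0 (Subtype.ext h)
    have hCSn : ∀ n : ℕ, (C ^ n) S = μ ^ n • S := by
      intro n
      induction n with
      | zero => simp
      | succ n ih => rw [pow_succ', End.mul_apply, ih, map_smul, hCS, smul_smul, pow_succ]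
    have hμr : μ ^ r = 1 := by
      have h1 := hCSn r
      rw [hCr, End.one_apply] at h1
      have h3 : (μ ^ r - 1) • S = 0 := by rw [sub_smul, one_smul, ← h1, sub_self]
      rcases smul_eq_zero.1 h3 with h4 | h4
      · exact sub_eq_zero.1 h4
      · exact absurd h4 hS0'
    have hμ1 : μ ≠ 1 := by
      rintro rfl
      have h1 := hS.2
      simp only [hCSn, one_pow, one_smul, Finset.sum_const, Finset.card_range] at h1
      rw [← Nat.cast_smul_eq_nsmul F] at h1
      rcases smul_eq_zero.1 h1 with h4 | h4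
      · exact hrF h4
      · exact hS0' h4
    have hμ0 : μ ≠ 0 := by
      rintro rfl
      rw [zero_pow hr.ne_zero] at hμr
      exact zero_ne_one hμr
    have : Fact r.Prime := ⟨hr⟩
    have hμord : orderOf μ = r := orderOf_eq_prime hμr hμ1
    -- S commutes with x up to scalar
    have hSx : ∀ v, S (ρ x v) = μ⁻¹ • ρ x (S v) := by
      intro v
      have h1 : ρ x * S = μ • (S * ρ x) := by
        have := congrArg (· * ρ x) hCS
        simp only [hC] at this
        rw [mul_assoc, hX2, mul_one, smul_mul_assoc] at this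
        exact this
      have h2 := LinearMap.congr_fun h1 v
      simp only [End.mul_apply, LinearMap.smul_apply] at h2
      rw [h2, smul_smul, inv_mul_cancel₀ hμ0, one_smul]
    have hker : LinearMap.ker S = ⊥ := by
      rcases irr_cases ρ (LinearMap.ker S) (inv_of_gen ρ K x hG _ (by
        intro k hk w hw
        rw [LinearMap.mem_ker] at hw ⊢
        have := LinearMap.congr_fun (hS.1 k hk) w
        rw [End.mul_apply, End.mul_apply] at this
        rw [this, hw, map_zero]) (by
        intro w hw
        rw [LinearMap.mem_ker] at hw ⊢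
        rw [hSx, hw, map_zero, smul_zero])) with h | h
      · exact h
      · exact absurd (LinearMap.ker_eq_top.1 h) hS0'
    obtain ⟨α, hα⟩ := Module.End.exists_eigenvalue S
    obtain ⟨w, hw1, hw0⟩ := hα.exists_hasEigenvector
    rw [End.mem_eigenspace_iff] at hw1
    have hα0 : α ≠ 0 := by
      rintro rfl
      rw [zero_smul] at hw1
      have : w ∈ LinearMap.ker S := hw1
      rw [hker] at this
      exact hw0 (by simpa using this)
    have hxw : ∀ n : ℕ, S ((ρ x ^ n) w) = (α * μ⁻¹ ^ n) • (ρ x ^ n) w := by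
      intro n
      induction n with
      | zero => simpa using hw1
      | succ n ih =>
        rw [pow_succ', End.mul_apply, hSx, ih, map_smul, smul_smul, pow_succ]
        congr 1
        ring
    have hxn0 : ∀ n : ℕ, (ρ x ^ n) w ≠ 0 := by
      intro n h
      apply hw0
      have : (ρ x⁻¹ ^ n) ((ρ x ^ n) w) = w := by
        rw [← map_pow, ← map_pow, ← End.mul_apply, ← map_mul, inv_pow, inv_mul_cancel, map_one,
          End.one_apply]
      rw [← this, h, map_zero]
    have hli : LinearIndependent F (fun n : Fin r => (ρ x ^ (n : ℕ)) w) := by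
      apply Module.End.eigenvectors_linearIndependent' S (fun n : Fin r => α * μ⁻¹ ^ (n : ℕ))
      · intro a b hab
        have h1 : μ⁻¹ ^ (a : ℕ) = μ⁻¹ ^ (b : ℕ) := mul_left_cancel₀ hα0 hab
        rw [inv_pow, inv_pow, inv_inj] at h1
        have h2 := pow_injOn_Iio_orderOf (x := μ) (by rw [hμord]; exact a.2) (by rw [hμord]; exact b.2) h1
        exact Fin.ext h2
      · intro n
        refine ⟨?_, hxn0 n⟩
        rw [End.mem_eigenspace_iff]
        exact hxw n
    have hsum : ∑ n : Fin r, (ρ x ^ (n : ℕ)) w = 0 := by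
      apply hfix
      rw [map_sum]
      have h1 : ∀ n : ℕ, ρ x ((ρ x ^ n) w) = (ρ x ^ (n + 1)) w := by
        intro n; rw [pow_succ', End.mul_apply]
      simp only [h1]
      rw [Fin.sum_univ_eq_sum_range (fun n => (ρ x ^ n) w) r,
        Fin.sum_univ_eq_sum_range (fun n => (ρ x ^ (n + 1)) w) r]
      have h2 := Finset.sum_range_succ' (fun n => (ρ x ^ n) w) r
      have h3 := Finset.sum_range_succ (fun n => (ρ x ^ n) w) r
      rw [h3] at h2
      simp only [pow_zero, hXr, End.one_apply] at h2
      exact (add_right_cancel h2).symm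
    have h5 := Fintype.linearIndependent_iff.1 hli (fun _ => 1) (by simpa using hsum) ⟨0, hr.pos⟩
    exact one_ne_zero h5
  -- conclusion
  have hTx : C T - T ∈ B₀ := by
    refine ⟨?_, ?_⟩
    · intro k hk
      rw [sub_mul, mul_sub, hKC T hT k hk, hT k hk]
    · have h1 : ∀ j, (C ^ j) (C T - T) = (C ^ (j + 1)) T - (C ^ j) T := by
        intro j
        rw [map_sub, pow_succ, End.mul_apply]
      simp only [h1]
      rw [Finset.sum_range_sub (fun j => (C ^ j) T) r, hCr]
      simp
  rw [hB₀, Submodule.mem_bot, sub_eq_zero, hC] at hTx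
  apply schur ρ T
  -- T commutes with all of G
  have hTx' : T * ρ x = ρ x * T := by
    have := congrArg (· * ρ x) hTx
    simp only [mul_assoc, hX2, mul_one] at this
    exact this.symm
  let S : Subgroup G :=
    { carrier := {g | T * ρ g = ρ g * T}
      mul_mem' := by
        intro a b ha hb
        show T * ρ (a * b) = ρ (a * b) * T
        rw [map_mul, ← mul_assoc, ha, mul_assoc, hb, mul_assoc]
      one_mem' := by
        show T * ρ 1 = ρ 1 * T
        rw [map_one, mul_one, one_mul]
      inv_mem' := by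
        intro a ha
        show T * ρ a⁻¹ = ρ a⁻¹ * T
        have h1 : ρ a * ρ a⁻¹ = 1 := by rw [← map_mul, mul_inv_cancel, map_one]
        have h2 : ρ a⁻¹ * ρ a = 1 := by rw [← map_mul, inv_mul_cancel, map_one]
        calc T * ρ a⁻¹ = ρ a⁻¹ * (ρ a * T) * ρ a⁻¹ := by rw [← mul_assoc, h2, one_mul]
          _ = ρ a⁻¹ * T := by rw [← ha, mul_assoc, mul_assoc, h1, mul_one] }
  have h1 : K ⊔ Subgroup.zpowers x ≤ S := by
    apply sup_le
    · intro k hk; exact hT k hk
    · rw [Subgroup.zpowers_le]; exact hTx'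
  rw [hG] at h1
  intro g
  exact h1 (Subgroup.mem_top g)

end

end Cfsg.Agent.OddOrderLocal.Thm34Base
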