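import Mathlib
import Cfsg.Prelude.Def_Local
import Cfsg.Agent.OddOrderLocal.Thm36Aux
import Cfsg.Agent.OddOrderLocal.Thm36Ctx
import Cfsg.Agent.OddOrderLocal.Thm36Red
import Cfsg.Agent.OddOrderLocal.Thm36CaseI
import Cfsg.Agent.OddOrderLocal.Thm36CaseII

/-!
B&G Theorem 3.6 (`S1444`): the induction.
-/

set_option autoImplicit false
set_option linter.unusedSectionVars false

universe u

namespace Cfsg.Agent.OddOrderLocal.Thm36

open Subgroup Cfsg Thm36Aux Thm36Ctx Thm36Ctx.Ctx Thm36Red Thm36CaseI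
open scoped commutatorElement

/-- There is no minimal counterexample. -/
theorem false_of_ctx {G : Type*} [Group G] [Finite G] {p : ℕ} [Fact p.Prime] {H R R₀ : Subgroup G}
    (h : Ctx p H R R₀) : False := by
  obtain ⟨q, Q, P, hq, hqp, hQH, hPH, hQq, hPp, hPQ, hRQ, hRP, hVQ, hVP, hPR, hQP, hQ1, hmin⟩ :=
    step12 h
  have hp : p.Prime := Fact.out
  have : Fact q.Prime := ⟨hq⟩
  have hVn := h.V_normal
  have hr := h.hyp.prime
  have hrR : Nat.card R₀ ∣ Nat.card R := Subgroup.card_dvd_of_le h.hyp.le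
  set C : Subgroup G := (V p H ⊔ P) ⊓ centralizer (R₀ : Set G) with hC
  have hVPp : IsPGroup p ↥(V p H ⊔ P) := V_pgroup.to_sup_of_normal_left hPp
  have hCp : IsPGroup p C := hVPp.to_le inf_le_left
  have hCc : IsCyclic C :=
    h.hyp.cyc p hp C hCp (inf_le_left.trans (sup_le V_le hPH)) inf_le_right
  have hcase := bot_or_bot_of_cyclic hp hCc hCp
    (A := V p H ⊓ centralizer (R₀ : Set G)) (B := P ⊓ centralizer (R₀ : Set G))
    (inf_le_inf_right _ le_sup_left) (inf_le_inf_right _ le_sup_right)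
    (by rw [eq_bot_iff, ← hVP]; exact le_inf (inf_le_left.trans inf_le_left) (inf_le_right.trans inf_le_left))
  rcases hcase with hV | hCP
  · exact caseI h hq hqp hQH hQq hPQ hRQ hPR hQP hQ1 hV
  · have hr2 : Nat.card R₀ ≠ 2 := by
      intro h2
      have h3 := Odd.of_dvd_nat h.hyp.oddR hrR
      rw [h2] at h3
      exact absurd h3 (by decide)
    have hp2 : p ≠ 2 := by
      intro h2
      have h3 := Odd.of_dvd_nat h.hyp.oddH h.p_dvd
      rw [h2] at h3
      exact absurd h3 (by decide)
    have hrp : Nat.card R₀ ≠ p := by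
      intro h2
      have h3 : p ∣ Nat.gcd (Nat.card H) (Nat.card R) := Nat.dvd_gcd h.p_dvd (h2 ▸ hrR)
      rw [h.hyp.cop] at h3
      exact hp.one_lt.ne' (Nat.dvd_one.mp h3)
    have hqH : q ∣ Nat.card H := by
      obtain ⟨n, hn⟩ := IsPGroup.iff_card.mp hQq
      rcases n with _ | n
      · rw [pow_zero] at hn
        exact absurd (Subgroup.card_eq_one.mp hn) hQ1
      · exact (dvd_pow_self q n.succ_ne_zero).trans (hn ▸ Subgroup.card_dvd_of_le hQH)
    have hrq : Nat.card R₀ ≠ q := by
      intro h2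
      have h3 : q ∣ Nat.gcd (Nat.card H) (Nat.card R) := Nat.dvd_gcd hqH (h2 ▸ hrR)
      rw [h.hyp.cop] at h3
      exact hq.one_lt.ne' (Nat.dvd_one.mp h3)
    have hQp : (Nat.card Q).Coprime p := qgroup_coprime hp hq (Ne.symm hqp) hQq
    have hCQV : Q ⊓ centralizer (V p H : Set G) = ⊥ := by
      rw [eq_bot_iff, ← inf_eq_bot_of_pgroup (V_pgroup (p := p) (H := H)) hp hQp]
      exact le_inf ((le_inf (inf_le_left.trans hQH) inf_le_right).trans h.centralizer_V) inf_le_left
    have hq2 : q ≠ 2 := by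
      rintro rfl
      exact (Nat.not_even_iff_odd.mpr h.hyp.oddH) (even_iff_two_dvd.mpr hqH)
    refine Thm36CaseII.caseII (p := p) (q := q) (V p H) Q P R₀ hp2 hq2 (Ne.symm hqp) h.V_elem.1
      h.V_elem.2 hQq hQ1 hPp hr hr2 hrp hrq le_normalizer_of_normal le_normalizer_of_normal
      le_normalizer_of_normal hPQ (h.hyp.le.trans hRQ) (h.hyp.le.trans hRP) hVQ hCQV hQP ?_ hCP ?_ ?_
    · intro Q₁ h1 h2 h3
      exact hmin Q₁ h1 h2 (hPQ.trans h3) (hRQ.trans h3)
    · exact h.hyp.cyc q hq _ (hQq.to_le inf_le_left) (inf_le_left.trans hQH) inf_le_right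
    · exact h.hyp.cyc p hp _ (V_pgroup.to_le inf_le_left) (inf_le_left.trans V_le) inf_le_right

/-- Restriction of the hypotheses to a subgroup. -/
theorem Hyp.restrict {G : Type*} [Group G] [Finite G] {H R R₀ : Subgroup G} (h : Hyp H R R₀)
    (K : Subgroup G) (hHK : H ≤ K) (hRK : R ≤ K) :
    Hyp (H.subgroupOf K) (R.subgroupOf K) (R₀.subgroupOf K) where
  norm := by
    intro x hx
    rw [mem_normalizer_iff]
    intro y
    rw [mem_subgroupOf, mem_subgroupOf]
    exact mem_normalizer_iff.mp (h.norm (mem_subgroupOf.mp hx)) (y : G)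
  solv := by
    have := h.solv
    exact Group.isSolvable_of_isSolvable_injective
      (f := (subgroupOfEquivOfLe hHK).toMonoidHom) (subgroupOfEquivOfLe hHK).injective
  oddH := by rw [Nat.card_congr (subgroupOfEquivOfLe hHK).toEquiv]; exact h.oddH
  oddR := by rw [Nat.card_congr (subgroupOfEquivOfLe hRK).toEquiv]; exact h.oddR
  cop := by
    rw [Nat.card_congr (subgroupOfEquivOfLe hHK).toEquiv,
      Nat.card_congr (subgroupOfEquivOfLe hRK).toEquiv]
    exact h.cop
  le := fun x hx => mem_subgroupOf.mpr (h.le (mem_subgroupOf.mp hx))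
  prime := by
    rw [Nat.card_congr (subgroupOfEquivOfLe (h.le.trans hRK)).toEquiv]; exact h.prime
  cyc := by
    intro q hq T hT hTH hTR
    have h1 : IsCyclic (T.map K.subtype) := by
      apply h.cyc q hq _ (hT.map _)
      · rw [map_le_iff_le_comap]; exact hTH
      · rintro _ ⟨t, ht, rfl⟩
        rw [mem_centralizer_iff]
        intro y hy
        have h2 := mem_centralizer_iff.mp (hTR ht) ⟨y, hRK (h.le hy)⟩ (mem_subgroupOf.mpr hy)
        exact congrArg Subtype.val h2
    have e := T.equivMapOfInjective K.subtype K.subtype_injective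
    exact isCyclic_of_surjective e.symm e.symm.surjective

theorem main_aux (p : ℕ) [Fact p.Prime] : ∀ (n : ℕ) (G : Type u) [Group G] [Finite G]
    (H R R₀ : Subgroup G), Nat.card H = n → Hyp H R R₀ → PLengthLE p 1 ↥⁅H, R⁆ := by
  intro n
  induction n using Nat.strong_induction_on with
  | _ n ih =>
  intro G _ _ H R R₀ hn h
  by_contra hnpl
  have hHR : ⁅⁅H, R⁆, R⁆ = ⁅H, R⁆ :=
    Lib.CoprimeCommutator.commutator_commutator_eq R H h.norm h.cop.symm
  have hle : ⁅H, R⁆ ≤ H := comm_le_left h.norm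
  have hcomm : ⁅H, R⁆ = H := by
    by_contra hne
    apply hnpl
    have h1 : Nat.card ↥⁅H, R⁆ < n := by
      rw [← hn]
      exact lt_of_le_of_ne (Subgroup.card_le_of_le hle)
        fun hc => hne (Subgroup.eq_of_le_of_card_ge hle hc.ge)
    have h2 := ih _ h1 G ⁅H, R⁆ R R₀ rfl
      (h.mono hle (le_sup_right.trans le_normalizer_comm))
    rwa [hHR] at h2
  set K : Subgroup G := H ⊔ R with hK
  have hHK : H ≤ K := le_sup_left
  have hRK : R ≤ K := le_sup_right
  have h' := Hyp.restrict h K hHK hRK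
  have hcard : Nat.card (H.subgroupOf K) = n := by
    rw [Nat.card_congr (subgroupOfEquivOfLe hHK).toEquiv]; exact hn
  have hcomm' : ⁅H.subgroupOf K, R.subgroupOf K⁆ = H.subgroupOf K := by
    apply Subgroup.map_injective K.subtype_injective
    rw [map_commutator, subgroupOf_map_subtype, subgroupOf_map_subtype,
      inf_eq_left.mpr hHK, inf_eq_left.mpr hRK, hcomm]
  have hctx : Ctx p (H.subgroupOf K) (R.subgroupOf K) (R₀.subgroupOf K) := by
    refine ⟨h', ?_, hcomm', ?_, ?_, ?_⟩
    · apply Subgroup.map_injective K.subtype_injective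
      rw [Subgroup.map_sup, subgroupOf_map_subtype, subgroupOf_map_subtype,
        inf_eq_left.mpr hHK, inf_eq_left.mpr hRK, ← MonoidHom.range_eq_map, K.range_subtype]
    · intro hc
      apply hnpl
      rw [hcomm]
      exact (PLengthSub.pLengthLE_one_congr (subgroupOfEquivOfLe hHK)).mp hc
    · intro H₁ h1 hne hR1
      have h2 : Nat.card H₁ < n := by
        rw [← hcard]
        exact lt_of_le_of_ne (Subgroup.card_le_of_le h1)
          fun hc => hne (Subgroup.eq_of_le_of_card_ge h1 hc.ge)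
      exact ih _ h2 K H₁ (R.subgroupOf K) (R₀.subgroupOf K) rfl (h'.mono h1 hR1)
    · intro X _ hX hX1
      have h1 := h'.quot X hX
      have h2 : Nat.card ((H.subgroupOf K).map (QuotientGroup.mk' X)) < n := by
        rw [← hcard]
        have h3 : Nat.card ((H.subgroupOf K).map (QuotientGroup.mk' X)) * Nat.card X =
            Nat.card (H.subgroupOf K) := by
          have h4 := relIndex_comap_mk X ((H.subgroupOf K).map (QuotientGroup.mk' X))
          rw [comap_map_mk hX] at h4
          have h5 := relIndex_mul_relIndex ⊥ X (H.subgroupOf K) bot_le hX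
          rw [relIndex_bot_left, relIndex_bot_left, h4] at h5
          rw [mul_comm]; exact h5
        have h5 : 1 < Nat.card X := by
          have : Nat.card X ≠ 1 := fun hc => hX1 (Subgroup.card_eq_one.mp hc)
          have := Nat.card_pos (α := X)
          omega
        rw [← h3]
        have h6 : 0 < Nat.card ((H.subgroupOf K).map (QuotientGroup.mk' X)) := Nat.card_pos
        exact lt_mul_of_one_lt_right h6 h5
      have h7 := ih _ h2 (K ⧸ X) _ _ _ rfl h1
      rwa [← map_commutator, hcomm'] at h7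
  exact false_of_ctx hctx

/-- **B&G Theorem 3.6**, in terms of `Hyp`. -/
theorem main {p : ℕ} [Fact p.Prime] {G : Type u} [Group G] [Finite G] {H R R₀ : Subgroup G}
    (h : Hyp H R R₀) : PLengthLE p 1 ↥⁅H, R⁆ :=
  main_aux p _ G H R R₀ rfl h

end Cfsg.Agent.OddOrderLocal.Thm36
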