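import Mathlib
import Cfsg.Prelude.Def_OddOrderLocal
import Cfsg.Prelude.Def_PLocal
import Cfsg.Agent.OddOrderLocal.Metacyclic
import Cfsg.Agent.S0638
import Cfsg.Agent.S0026
import Cfsg.Agent.S0027
import Cfsg.Agent.S0055
import Cfsg.Agent.S0660

set_option autoImplicit false

namespace Cfsg.Agent.OddOrderLocal.MetacyclicCoprime

open Cfsg.Agent.OddOrderLocal.Metacyclic
open scoped commutatorElement

/-! ### Commutator calculus with central commutators -/

section Calculus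

variable {G : Type*} [Group G]

theorem commutator_pow_left {x y : G} (h : Commute x ⁅x, y⁆) (n : ℕ) : ⁅x ^ n, y⁆ = ⁅x, y⁆ ^ n := by
  induction n with
  | zero => simp
  | succ n ih =>
    rw [pow_succ', commutatorElement_mul_left_eq_conj_mul, ih,
      (h.pow_right n).eq, mul_inv_cancel_right, pow_succ]

theorem commutator_pow_right {x y : G} (h : Commute y ⁅x, y⁆) (n : ℕ) : ⁅x, y ^ n⁆ = ⁅x, y⁆ ^ n := by
  have h2 : Commute y ⁅y, x⁆ := by
    rw [← commutatorElement_inv]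
    exact h.inv_right
  rw [← commutatorElement_inv, commutator_pow_left h2, ← inv_pow, commutatorElement_inv]

/-- `(xy)^n = x^n y^n [y,x]^(n choose 2)` when `[y,x]` commutes with `x` and `y`. -/
theorem mul_pow_of_commute_commutator {x y : G} (hx : Commute x ⁅y, x⁆) (hy : Commute y ⁅y, x⁆)
    (n : ℕ) : (x * y) ^ n = x ^ n * y ^ n * ⁅y, x⁆ ^ (n.choose 2) := by
  induction n with
  | zero => simp
  | succ n ih =>
    have h1 : y ^ n * x = ⁅y, x⁆ ^ n * (x * y ^ n) := by
      have := commutator_pow_left hy n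
      rw [commutatorElement_def] at this
      rw [← this]
      group
    have hxn : Commute (x ^ n) (⁅y, x⁆ ^ n) := (hx.pow_pow n n)
    have hc : Commute ⁅y, x⁆ (x * y) := (hx.mul_left hy).symm
    rw [pow_succ, ih, Nat.choose_succ_succ' n 1, Nat.choose_one_right]
    calc x ^ n * y ^ n * ⁅y, x⁆ ^ n.choose 2 * (x * y)
        = x ^ n * y ^ n * (⁅y, x⁆ ^ n.choose 2 * (x * y)) := by group
      _ = x ^ n * y ^ n * ((x * y) * ⁅y, x⁆ ^ n.choose 2) := by rw [(hc.pow_left _).eq]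
      _ = x ^ n * (y ^ n * x) * y * ⁅y, x⁆ ^ n.choose 2 := by group
      _ = x ^ n * (⁅y, x⁆ ^ n * (x * y ^ n)) * y * ⁅y, x⁆ ^ n.choose 2 := by rw [h1]
      _ = (x ^ n * ⁅y, x⁆ ^ n) * (x * y ^ n * y) * ⁅y, x⁆ ^ n.choose 2 := by group
      _ = (⁅y, x⁆ ^ n * x ^ n) * (x * y ^ n * y) * ⁅y, x⁆ ^ n.choose 2 := by rw [hxn.eq]
      _ = (⁅y, x⁆ ^ n * (x ^ (n+1) * y ^ (n+1))) * ⁅y, x⁆ ^ n.choose 2 := by
          rw [pow_succ x n, pow_succ y n]; group
      _ = ((x ^ (n+1) * y ^ (n+1)) * ⁅y, x⁆ ^ n) * ⁅y, x⁆ ^ n.choose 2 := by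
          have : Commute (⁅y, x⁆ ^ n) (x ^ (n+1) * y ^ (n+1)) :=
            ((hx.pow_pow _ _).mul_left (hy.pow_pow _ _)).symm
          rw [this.eq]
      _ = x ^ (n + 1) * y ^ (n + 1) * ⁅y, x⁆ ^ (n + n.choose 2) := by
          rw [pow_add]; group

theorem mul_pow_prime_of_commute_commutator {p : ℕ} [hpf : Fact p.Prime] (hp : p ≠ 2) {x y : G}
    (hx : Commute x ⁅y, x⁆) (hy : Commute y ⁅y, x⁆) (hc : ⁅y, x⁆ ^ p = 1) :
    (x * y) ^ p = x ^ p * y ^ p := by
  rw [mul_pow_of_commute_commutator hx hy]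
  have h2 : 2 < p := lt_of_le_of_ne hpf.out.two_le (Ne.symm hp)
  obtain ⟨k, hk⟩ := hpf.out.dvd_choose_self (k := 2) (by norm_num) h2
  rw [hk, pow_mul, hc, one_pow, mul_one]

end Calculus

/-- In a metacyclic `p`-group (`p` odd) every noncyclic subgroup contains all elements of order
dividing `p`. -/
theorem mem_of_pow_eq_one {G : Type*} [Group G] [Finite G] {p : ℕ} [Fact p.Prime] (hp : p ≠ 2)
    {R H : Subgroup G} (hR : IsPGroup p R) (hRm : Cfsg.IsMetacyclic R) (hHR : H ≤ R)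
    (hH : ¬ IsCyclic H) {x : G} (hx : x ∈ R) (hxp : x ^ p = 1) : x ∈ H := by
  have hHp : IsPGroup p H := hR.to_le hHR
  have hHm : Cfsg.IsMetacyclic H := isMetacyclic_of_le hRm hHR
  have hRc : ¬ IsCyclic R := fun h => hH
    (isCyclic_of_injective (Subgroup.inclusion hHR) (Subgroup.inclusion_injective hHR))
  have h1 := (Cfsg.Agent.S0638.result hp hR hRm hRc).2
  have h2 := (Cfsg.Agent.S0638.result hp hHp hHm hH).2
  set ΩR := Cfsg.omegaOne p (⊤ : Subgroup R) with hΩR
  set ΩH := Cfsg.omegaOne p (⊤ : Subgroup H) with hΩH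
  have hle : ΩH.map (Subgroup.inclusion hHR) ≤ ΩR := by
    rw [Subgroup.map_le_iff_le_comap]
    refine (Subgroup.closure_le _).2 ?_
    rintro y ⟨-, hy⟩
    refine Subgroup.subset_closure ⟨Subgroup.mem_top _, ?_⟩
    rw [← map_pow, hy, map_one]
  have hcard : Nat.card (ΩH.map (Subgroup.inclusion hHR)) = p ^ 2 := by
    rw [← h2]
    exact (Nat.card_congr (ΩH.equivMapOfInjective _ (Subgroup.inclusion_injective hHR)).toEquiv).symm
  have heq : ΩH.map (Subgroup.inclusion hHR) = ΩR := Subgroup.eq_of_le_of_card_ge hle (by rw [hcard, h1])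
  have hxΩ : (⟨x, hx⟩ : R) ∈ ΩR := Subgroup.subset_closure ⟨Subgroup.mem_top _, by
    apply Subtype.ext; simpa using hxp⟩
  rw [← heq] at hxΩ
  obtain ⟨y, -, hy⟩ := hxΩ
  have : (y : G) = x := congrArg Subtype.val hy
  rw [← this]
  exact y.2


/-- Elements fixed modulo `N` lie in `N`, when `R / N` is abelian and `[R, A] = R`. -/
theorem mem_of_fixed_mod {G : Type*} [Group G] [Finite G] {p : ℕ} [Fact p.Prime]
    (R A N : Subgroup G) [R.Normal] [N.Normal] (hN : ⁅R, R⁆ ≤ N) (hR : IsPGroup p R)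
    (hcop : (Nat.card A).Coprime p) (hcomm : ⁅R, A⁆ = R) {h : G} (hh : h ∈ R)
    (hfix : ∀ a ∈ A, ⁅h, a⁆ ∈ N) : h ∈ N := by
  set f := QuotientGroup.mk' N with hf
  have hfs : Function.Surjective f := QuotientGroup.mk'_surjective N
  have hVn : (R.map f).Normal := Subgroup.Normal.map inferInstance f hfs
  have hVc : IsMulCommutative (R.map f) := by
    have : ⁅R.map f, R.map f⁆ = ⊥ := by
      rw [← Subgroup.map_commutator, eq_bot_iff, Subgroup.map_le_iff_le_comap]
      intro x hx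
      rw [Subgroup.mem_comap, Subgroup.mem_bot]
      exact (QuotientGroup.eq_one_iff x).2 (hN hx)
    rw [Subgroup.commutator_eq_bot_iff_le_centralizer] at this
    exact Subgroup.le_centralizer_iff_isMulCommutative.1 this
  have hVp : IsPGroup p (R.map f) := hR.map f
  have hc : (Nat.card (A.map f)).Coprime (Nat.card (R.map f)) := by
    obtain ⟨n, hn⟩ := IsPGroup.iff_card.1 hVp
    rw [hn]
    exact Nat.Coprime.pow_right n (Nat.Coprime.coprime_dvd_left (Subgroup.card_map_dvd A f) hcop)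
  have key := (Cfsg.Agent.S0055.result (A.map f) (R.map f)
    (by rw [Subgroup.normalizer_eq_top]; exact le_top) hc).1
  rw [← Subgroup.map_commutator, hcomm] at key
  have hmem : f h ∈ (R.map f ⊓ Subgroup.centralizer (A.map f : Set (G ⧸ N))) ⊓ R.map f := by
    have h1 : f h ∈ R.map f := Subgroup.mem_map_of_mem f hh
    refine Subgroup.mem_inf.2 ⟨Subgroup.mem_inf.2 ⟨h1, ?_⟩, h1⟩
    rw [Subgroup.mem_centralizer_iff]
    rintro _ ⟨a, ha, rfl⟩
    have h2 : ⁅f h, f a⁆ = 1 := by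
      rw [← map_commutatorElement]
      exact (QuotientGroup.eq_one_iff _).2 (hfix a ha)
    rw [commutatorElement_eq_one_iff_mul_comm] at h2
    exact h2.symm
  rw [key, Subgroup.mem_bot] at hmem
  exact (QuotientGroup.eq_one_iff h).1 hmem

/-- Power structure of a nonabelian metacyclic `p`-group whose commutators are central of order
dividing `p`. -/
theorem power_structure {R : Type*} [Group R] [Finite R] {p : ℕ} [hpf : Fact p.Prime] (hp : p ≠ 2)
    (hR : IsPGroup p R) (hm : Cfsg.IsMetacyclic R) (hnc : ¬ IsMulCommutative R)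
    (hcen : ∀ x y z : R, Commute z ⁅x, y⁆) (hexp : ∀ x y : R, ⁅x, y⁆ ^ p = 1) :
    ∃ π : R →* R, (∀ x, π x = x ^ p) ∧ Nat.card π.ker = p ^ 2 ∧ π.range = Subgroup.center R := by
  let π : R →* R :=
    { toFun := fun x => x ^ p
      map_one' := one_pow p
      map_mul' := fun x y => mul_pow_prime_of_commute_commutator hp (hcen _ _ _) (hcen _ _ _) (hexp _ _) }
  have hπ : ∀ x, π x = x ^ p := fun x => rfl
  refine ⟨π, hπ, ?_⟩
  have hcyc : ¬ IsCyclic R := fun h => hnc inferInstance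
  have hΩ := (Cfsg.Agent.S0638.result hp hR hm hcyc).2
  have hker : π.ker = Cfsg.omegaOne p (⊤ : Subgroup R) := by
    apply le_antisymm
    · intro x hx
      exact Subgroup.subset_closure ⟨Subgroup.mem_top _, hx⟩
    · refine (Subgroup.closure_le _).2 ?_
      rintro x ⟨-, hx⟩
      exact hx
  have hkc : Nat.card π.ker = p ^ 2 := by rw [hker, hΩ]
  refine ⟨hkc, ?_⟩
  have hrc : π.range ≤ Subgroup.center R := by
    rintro _ ⟨x, rfl⟩
    rw [Subgroup.mem_center_iff]
    intro y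
    have h1 : ⁅x ^ p, y⁆ = 1 := by rw [commutator_pow_left (hcen _ _ _), hexp]
    rw [commutatorElement_eq_one_iff_mul_comm] at h1
    rw [hπ]
    exact h1.symm
  have hpp := hpf.out.pos
  have hidx : p ^ 2 ≤ (Subgroup.center R).index := by
    obtain ⟨n, hn⟩ := hR.index (Subgroup.center R)
    rw [hn]
    apply Nat.pow_le_pow_right hpp
    by_contra hlt
    apply hnc
    have hcq : IsCyclic (R ⧸ Subgroup.center R) := by
      have hcard : Nat.card (R ⧸ Subgroup.center R) = p ^ n := hn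
      interval_cases n
      · rw [pow_zero] at hcard
        have : Subsingleton (R ⧸ Subgroup.center R) := (Nat.card_eq_one_iff_unique.1 hcard).1
        infer_instance
      · rw [pow_one] at hcard
        exact isCyclic_of_prime_card hcard
    exact isMulCommutative_of_isCyclic_quotient_center_self R
  have h1 : Nat.card π.ker * Nat.card π.range = Nat.card R := by
    rw [← Subgroup.index_ker, Subgroup.card_mul_index]
  have h2 := Subgroup.card_mul_index (Subgroup.center R)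
  refine Subgroup.eq_of_le_of_card_ge hrc ?_
  rw [hkc] at h1
  have h3 : Nat.card (Subgroup.center R) * p ^ 2 ≤ Nat.card π.range * p ^ 2 := by
    calc Nat.card (Subgroup.center R) * p ^ 2
        ≤ Nat.card (Subgroup.center R) * (Subgroup.center R).index := Nat.mul_le_mul_left _ hidx
      _ = Nat.card π.range * p ^ 2 := by rw [h2, ← h1, mul_comm]
  exact Nat.le_of_mul_le_mul_right h3 (by positivity)


/-- The minimal situation: every nontrivial normal subgroup of `G = RA` inside `R` contains `R'`. -/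
theorem minimal_situation {G : Type*} [Group G] [Finite G] {p : ℕ} [hpf : Fact p.Prime] (hp : p ≠ 2)
    (R A : Subgroup G) [R.Normal] (hRA : R ⊔ A = ⊤) (hR : IsPGroup p R)
    (hRm : Cfsg.IsMetacyclic R) (hcop : (Nat.card A).Coprime p) (hcomm : ⁅R, A⁆ = R)
    (hmin : ∀ Y : Subgroup G, Y.Normal → Y ≤ R → Y ≠ ⊥ → ⁅R, R⁆ ≤ Y) : IsMulCommutative R := by
  by_contra hnc
  have hpp := hpf.out.pos
  -- `R` is nontrivial
  have hRnt : Nontrivial R := by
    by_contra h
    rw [not_nontrivial_iff_subsingleton] at h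
    exact hnc ⟨⟨fun a b => Subsingleton.elim _ _⟩⟩
  -- the centre of `R`
  set Z : Subgroup G := (Subgroup.center R).map R.subtype with hZ
  have hZR : Z ≤ R := Subgroup.map_subtype_le _
  have hZn : Z.Normal := inferInstance
  have hZne : Z ≠ ⊥ := by
    intro h
    rw [hZ, Subgroup.map_eq_bot_iff_of_injective _ R.subtype_injective] at h
    have := hR.bot_lt_center
    rw [h] at this
    exact lt_irrefl _ this
  have hZmem : ∀ z, z ∈ Z ↔ z ∈ R ∧ ∀ y ∈ R, z * y = y * z := by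
    intro z
    constructor
    · rintro ⟨w, hw, rfl⟩
      refine ⟨w.2, fun y hy => ?_⟩
      have := Subgroup.mem_center_iff.1 hw ⟨y, hy⟩
      exact (congrArg Subtype.val this).symm
    · rintro ⟨hz, h⟩
      refine ⟨⟨z, hz⟩, ?_, rfl⟩
      rw [SetLike.mem_coe, Subgroup.mem_center_iff]
      rintro ⟨y, hy⟩
      exact Subtype.ext (h y hy).symm
  -- `R' ≤ Z(R)`
  have hR'Z : ⁅R, R⁆ ≤ Z := hmin Z hZn hZR hZne
  have hR'R : ⁅R, R⁆ ≤ R := hR'Z.trans hZR
  have hR'ne : ⁅R, R⁆ ≠ ⊥ := by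
    intro h
    rw [Subgroup.commutator_eq_bot_iff_le_centralizer] at h
    exact hnc (Subgroup.le_centralizer_iff_isMulCommutative.1 h)
  -- elements of order dividing `p` of the centre
  have hexpR' : ∀ x ∈ ⁅R, R⁆, x ^ p = 1 := by
    let Y : Subgroup G :=
      { carrier := {x | x ∈ Z ∧ x ^ p = 1}
        one_mem' := ⟨Z.one_mem, one_pow p⟩
        mul_mem' := by
          rintro a b ⟨ha, ha'⟩ ⟨hb, hb'⟩
          refine ⟨Z.mul_mem ha hb, ?_⟩
          have hc : Commute a b := ((hZmem a).1 ha).2 b (hZR hb)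
          rw [hc.mul_pow, ha', hb', one_mul]
        inv_mem' := by
          rintro a ⟨ha, ha'⟩
          exact ⟨Z.inv_mem ha, by rw [inv_pow, ha', inv_one]⟩ }
    have hYn : Y.Normal := by
      constructor
      rintro x ⟨hx, hx'⟩ g
      refine ⟨hZn.conj_mem x hx g, ?_⟩
      rw [conj_pow, hx', mul_one, mul_inv_cancel]
    have hYne : Y ≠ ⊥ := by
      have hZp : IsPGroup p Z := hR.to_le hZR
      have hZnt : Nontrivial Z := (Subgroup.nontrivial_iff_ne_bot Z).2 hZne
      obtain ⟨n, hn0, hn⟩ := (IsPGroup.nontrivial_iff_card hZp).1 hZnt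
      have hdvd : p ∣ Nat.card Z := by rw [hn]; exact dvd_pow_self p (by omega)
      obtain ⟨z, hz⟩ := exists_prime_orderOf_dvd_card' p hdvd
      intro hY
      have : (z : G) ∈ Y := ⟨z.2, by
        have := pow_orderOf_eq_one z
        rw [hz] at this
        exact congrArg Subtype.val this⟩
      rw [hY, Subgroup.mem_bot] at this
      have hz1 : z = 1 := Subtype.ext this
      rw [hz1, orderOf_one] at hz
      exact hpf.out.one_lt.ne hz
    have := hmin Y hYn (fun x hx => hZR hx.1) hYne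
    intro x hx
    exact (this hx).2
  -- transfer to the type `R`
  have hcen : ∀ x y z : R, Commute z ⁅x, y⁆ := by
    intro x y z
    have h1 : ⁅(x : G), (y : G)⁆ ∈ Z := hR'Z (Subgroup.commutator_mem_commutator x.2 y.2)
    have h2 := ((hZmem _).1 h1).2 z z.2
    apply Subtype.ext
    exact h2.symm
  have hexp : ∀ x y : R, ⁅x, y⁆ ^ p = 1 := by
    intro x y
    apply Subtype.ext
    exact hexpR' _ (Subgroup.commutator_mem_commutator x.2 y.2)
  obtain ⟨π, hπ, hkc, hrange⟩ := power_structure hp hR hRm hnc hcen hexp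
  -- `R'` is cyclic of order `p`
  have hR'card : Nat.card ↥⁅R, R⁆ = p := by
    obtain ⟨N, hN, hNc, hq⟩ := hRm
    have h1 : _root_.commutator R ≤ N := by
      let _ : CommGroup (R ⧸ N) := hq.commGroup
      have h0 := Abelianization.commutator_subset_ker (QuotientGroup.mk' N)
      rwa [QuotientGroup.ker_mk'] at h0
    have h2 : ⁅R, R⁆ ≤ N.map R.subtype := by
      rw [← Subgroup.map_subtype_commutator]
      exact Subgroup.map_mono h1
    have h3 : IsCyclic (N.map R.subtype) :=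
      isCyclic_of_surjective (R.subtype.subgroupMap N) (R.subtype.subgroupMap_surjective N)
    have h4 : IsCyclic ↥⁅R, R⁆ :=
      isCyclic_of_injective (Subgroup.inclusion h2) (Subgroup.inclusion_injective h2)
    obtain ⟨g, hg⟩ := h4.exists_generator
    have h5 : orderOf g = Nat.card ↥⁅R, R⁆ := orderOf_eq_card_of_forall_mem_zpowers hg
    have h6 : orderOf g ∣ p := orderOf_dvd_of_pow_eq_one (Subtype.ext (hexpR' _ g.2))
    rw [h5, Nat.dvd_prime hpf.out] at h6
    rcases h6 with h6 | h6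
    · exact absurd (Subgroup.card_eq_one.1 h6) hR'ne
    · exact h6
  -- the subgroup of elements of order dividing `p`
  set Ω : Subgroup G := π.ker.map R.subtype with hΩ
  have hΩmem : ∀ x, x ∈ Ω ↔ x ∈ R ∧ x ^ p = 1 := by
    intro x
    constructor
    · rintro ⟨w, hw, rfl⟩
      refine ⟨w.2, ?_⟩
      have h1 : w ^ p = 1 := by rw [← hπ]; exact hw
      exact congrArg Subtype.val h1
    · rintro ⟨hx, h⟩
      refine ⟨⟨x, hx⟩, ?_, rfl⟩
      rw [SetLike.mem_coe, MonoidHom.mem_ker, hπ]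
      exact Subtype.ext h
  have hΩR : Ω ≤ R := Subgroup.map_subtype_le _
  have hΩcard : Nat.card Ω = p ^ 2 := by
    rw [← hkc]
    exact (Nat.card_congr (π.ker.equivMapOfInjective _ R.subtype_injective).toEquiv).symm
  have hΩn : Ω.Normal := by
    constructor
    intro x hx g
    rw [hΩmem] at hx ⊢
    refine ⟨Subgroup.Normal.conj_mem inferInstance x hx.1 g, ?_⟩
    rw [conj_pow, hx.2, mul_one, mul_inv_cancel]
  have hR'Ω : ⁅R, R⁆ ≤ Ω := fun x hx => (hΩmem x).2 ⟨hR'R hx, hexpR' x hx⟩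
  have hΩcomm : IsMulCommutative Ω := IsPGroup.isMulCommutative_of_card_eq_prime_sq hΩcard
  have hΩp : IsPGroup p Ω := hR.to_le hΩR
  have hne : Ω ≠ ⁅R, R⁆ := by
    intro h
    rw [h, hR'card] at hΩcard
    have h1 : 1 < p := hpf.out.one_lt
    nlinarith
  obtain ⟨h, hhΩ, hhR'⟩ : ∃ h ∈ Ω, h ∉ ⁅R, R⁆ := by
    by_contra hcon
    push Not at hcon
    exact hne (le_antisymm hcon hR'Ω)
  by_cases hcase : Ω ≤ Z
  · -- Case: `Ω` central
    have hhne : h ≠ 1 := fun h0 => hhR' (h0 ▸ Subgroup.one_mem _)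
    have hlt : ⁅R, R⁆ < ⁅R, R⁆ ⊔ Subgroup.zpowers h := by
      refine lt_of_le_of_ne le_sup_left ?_
      intro heq
      apply hhR'
      rw [heq]
      exact (le_sup_right : Subgroup.zpowers h ≤ _) (Subgroup.mem_zpowers h)
    have hzΩ : Subgroup.zpowers h ≤ Ω := by
      rw [Subgroup.zpowers_le]; exact hhΩ
    have hsupΩ : ⁅R, R⁆ ⊔ Subgroup.zpowers h ≤ Ω := sup_le hR'Ω hzΩ
    have hsup : ⁅R, R⁆ ⊔ Subgroup.zpowers h = Ω := by
      refine Subgroup.eq_of_le_of_card_ge hsupΩ ?_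
      rw [hΩcard]
      have h1 := Subgroup.card_dvd_of_le hsupΩ
      rw [hΩcard, Nat.dvd_prime_pow hpf.out] at h1
      obtain ⟨k, hk, hk'⟩ := h1
      have h2 : Nat.card ↥⁅R, R⁆ < Nat.card ↥(⁅R, R⁆ ⊔ Subgroup.zpowers h) := by
        refine lt_of_le_of_ne (Subgroup.card_le_of_le hlt.le) ?_
        intro heq
        exact hlt.ne (Subgroup.eq_of_le_of_card_ge hlt.le heq.ge)
      rw [hR'card, hk'] at h2
      have h3 : 1 < k := by
        by_contra h4
        push Not at h4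
        have : p ^ k ≤ p ^ 1 := Nat.pow_le_pow_right hpp h4
        rw [pow_one] at this
        omega
      rw [hk']
      exact Nat.pow_le_pow_right hpp h3
    have hzord : orderOf h = p := by
      have h1 : orderOf h ∣ p := orderOf_dvd_of_pow_eq_one ((hΩmem h).1 hhΩ).2
      rcases (Nat.dvd_prime hpf.out).1 h1 with h2 | h2
      · exact absurd (orderOf_eq_one_iff.1 h2) hhne
      · exact h2
    have hinf : ⁅R, R⁆ ⊓ Subgroup.zpowers h = ⊥ := by
      have h1 : Nat.card (Subgroup.zpowers h) = p := by rw [Nat.card_zpowers, hzord]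
      have h2 : Nat.card ↥(⁅R, R⁆ ⊓ Subgroup.zpowers h) ∣ p := by
        rw [← h1]
        exact Subgroup.card_dvd_of_le inf_le_right
      rcases (Nat.dvd_prime hpf.out).1 h2 with h3 | h3
      · exact Subgroup.card_eq_one.1 h3
      · exfalso
        have h4 : ⁅R, R⁆ ⊓ Subgroup.zpowers h = Subgroup.zpowers h :=
          Subgroup.eq_of_le_of_card_ge inf_le_right (by rw [h3, h1])
        apply hhR'
        have h5 : h ∈ ⁅R, R⁆ ⊓ Subgroup.zpowers h := by
          rw [h4]; exact Subgroup.mem_zpowers h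
        exact h5.1
    have hcopΩ : (Nat.card A).Coprime (Nat.card Ω) := by
      rw [hΩcard]; exact Nat.Coprime.pow_right 2 hcop
    obtain ⟨W', hW'Ω, hAW', hinf', hsup'⟩ := Cfsg.Agent.S0660.result Ω A ⁅R, R⁆ hΩcomm
      (by rw [Subgroup.normalizer_eq_top]; exact le_top) hcopΩ hR'Ω
      (by rw [Subgroup.normalizer_eq_top]; exact le_top) (Subgroup.zpowers h) hzΩ hinf hsup
    have hW'n : W'.Normal := by
      rw [← Subgroup.normalizer_eq_top_iff, eq_top_iff, ← hRA]
      refine sup_le ?_ hAW'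
      rw [Subgroup.le_normalizer_iff]
      intro r hr w hw
      have h1 : w * r = r * w := ((hZmem w).1 (hcase (hW'Ω hw))).2 r hr
      rw [← h1, mul_inv_cancel_right]
      exact hw
    have hW'ne : W' ≠ ⊥ := by
      rintro rfl
      rw [sup_bot_eq] at hsup'
      exact hne hsup'.symm
    have h1 := hmin W' hW'n (hW'Ω.trans hΩR) hW'ne
    rw [inf_eq_left.2 h1] at hinf'
    exact hR'ne hinf'
  · -- Case: `Ω` not central, so `Z` is cyclic
    have hZc : IsCyclic Z := by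
      by_contra hZnc
      apply hcase
      intro x hx
      exact mem_of_pow_eq_one hp hR hRm hZR hZnc ((hΩmem x).1 hx).1 ((hΩmem x).1 hx).2
    have hinfeq : Ω ⊓ Z = ⁅R, R⁆ := by
      symm
      refine Subgroup.eq_of_le_of_card_ge (le_inf hR'Ω hR'Z) ?_
      rw [hR'card]
      have h1 : Nat.card ↥(Ω ⊓ Z) ∣ p ^ 2 := by
        rw [← hΩcard]; exact Subgroup.card_dvd_of_le inf_le_left
      obtain ⟨k, hk, hk'⟩ := (Nat.dvd_prime_pow hpf.out).1 h1
      rw [hk']
      have h2 : k ≠ 2 := by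
        rintro rfl
        apply hcase
        have h3 : Ω ⊓ Z = Ω := Subgroup.eq_of_le_of_card_ge inf_le_left (by rw [hk', hΩcard])
        exact inf_eq_left.1 h3
      calc p ^ k ≤ p ^ 1 := Nat.pow_le_pow_right hpp (by omega)
        _ = p := pow_one p
    have hhZ : h ∉ Z := by
      intro hhZ
      apply hhR'
      rw [← hinfeq]
      exact ⟨hhΩ, hhZ⟩
    have hhR : h ∈ R := hΩR hhΩ
    have hZcen : ∀ z ∈ Z, ∀ y ∈ R, Commute z y := fun z hz => ((hZmem z).1 hz).2
    have hmulpow : ∀ x ∈ R, ∀ y ∈ R, (x * y) ^ p = x ^ p * y ^ p := by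
      intro x hx y hy
      have h1 := π.map_mul ⟨x, hx⟩ ⟨y, hy⟩
      rw [hπ, hπ, hπ] at h1
      exact congrArg Subtype.val h1
    have hpowZ : ∀ x ∈ R, x ^ p ∈ Z := by
      intro x hx
      have h1 : π ⟨x, hx⟩ ∈ Subgroup.center R := by rw [← hrange]; exact ⟨_, rfl⟩
      rw [hπ] at h1
      exact ⟨_, h1, rfl⟩
    obtain ⟨c', hc'⟩ := hZc.exists_generator
    obtain ⟨c, hc⟩ : ∃ c : G, c = c' := ⟨_, rfl⟩
    have hcZ : c ∈ Z := hc ▸ c'.2
    have hcgen : ∀ z ∈ Z, ∃ k : ℕ, c ^ k = z := by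
      intro z hz
      have h1 : (⟨z, hz⟩ : Z) ∈ Submonoid.powers c' := mem_powers_iff_mem_zpowers.2 (hc' _)
      obtain ⟨k, hk⟩ := h1
      refine ⟨k, ?_⟩
      rw [hc]
      exact congrArg Subtype.val hk
    obtain ⟨g, hgR, hgc⟩ : ∃ g ∈ R, g ^ p = c := by
      obtain ⟨w, hw, hwc⟩ := hcZ
      have h1 : w ∈ Subgroup.center R := hw
      rw [← hrange] at h1
      obtain ⟨g, hg⟩ := h1
      refine ⟨g, g.2, ?_⟩
      rw [hπ] at hg
      rw [← hwc, ← hg]
      rfl
    -- `R = <g> Ω`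
    have hRgen : ∀ r ∈ R, ∃ k : ℕ, r * (g ^ k)⁻¹ ∈ Ω := by
      intro r hr
      obtain ⟨k, hk⟩ := hcgen _ (hpowZ r hr)
      refine ⟨k, ?_⟩
      have hgk : g ^ k ∈ R := R.pow_mem hgR k
      rw [hΩmem]
      refine ⟨R.mul_mem hr (R.inv_mem hgk), ?_⟩
      rw [hmulpow _ hr _ (R.inv_mem hgk), ← hk, ← hgc, inv_pow, ← pow_mul, ← pow_mul,
        mul_comm p k, mul_inv_cancel]
    have hΩΩ : ∀ x ∈ Ω, ∀ y ∈ Ω, Commute x y := by
      intro x hx y hy
      exact congrArg Subtype.val (hΩcomm.is_comm.comm (⟨x, hx⟩ : Ω) ⟨y, hy⟩)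
    have hΩcen : ∀ x ∈ Ω, Commute x g → x ∈ Z := by
      intro x hx hxg
      rw [hZmem]
      refine ⟨hΩR hx, ?_⟩
      intro r hr
      obtain ⟨k, hk⟩ := hRgen r hr
      have h1 : Commute x (r * (g ^ k)⁻¹ * g ^ k) :=
        (hΩΩ x hx _ hk).mul_right (hxg.pow_right k)
      rw [inv_mul_cancel_right] at h1
      exact h1
    have hgh : ⁅g, h⁆ ≠ 1 := by
      intro h1
      exact hhZ (hΩcen h hhΩ (commutatorElement_eq_one_iff_commute.1 h1).symm)
    have hcenG : ∀ x ∈ R, ∀ y ∈ R, ∀ z ∈ R, Commute z ⁅x, y⁆ := by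
      intro x hx y hy z hz
      exact (hZcen _ (hR'Z (Subgroup.commutator_mem_commutator hx hy)) z hz).symm
    apply hhR'
    refine mem_of_fixed_mod R A ⁅R, R⁆ le_rfl hR hcop hcomm hhR ?_
    intro a ha
    have hRn : R.Normal := inferInstance
    set ga := a * g * a⁻¹ with hga
    set ha' := a * h * a⁻¹ with hha
    have hgaR : ga ∈ R := hRn.conj_mem g hgR a
    have hhaΩ : ha' ∈ Ω := hΩn.conj_mem h hhΩ a
    have hhaR : ha' ∈ R := hΩR hhaΩ
    obtain ⟨k, hk⟩ := hcgen _ (hZn.conj_mem c hcZ a)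
    have hgkR : g ^ k ∈ R := R.pow_mem hgR k
    have hω : ga * (g ^ k)⁻¹ ∈ Ω := by
      rw [hΩmem]
      refine ⟨R.mul_mem hgaR (R.inv_mem hgkR), ?_⟩
      rw [hmulpow _ hgaR _ (R.inv_mem hgkR), hga, conj_pow, hgc, ← hk, ← hgc, inv_pow, ← pow_mul,
        ← pow_mul, mul_comm p k, mul_inv_cancel]
    set ω := ga * (g ^ k)⁻¹ with hωdef
    have hgaeq : ga = ω * g ^ k := by rw [hωdef, inv_mul_cancel_right]
    -- the commutator `z = [g, h]`
    have hzR' : ⁅g, h⁆ ∈ ⁅R, R⁆ := Subgroup.commutator_mem_commutator hgR hhR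
    obtain ⟨j, hj⟩ := hcgen _ (hR'Z hzR')
    have hz1 : a * ⁅g, h⁆ * a⁻¹ = ⁅g, h⁆ ^ k := by
      rw [← hj, ← conj_pow, ← hk, ← pow_mul, ← pow_mul, mul_comm]
    have hz2 : a * ⁅g, h⁆ * a⁻¹ = ⁅g, ha'⁆ ^ k := by
      rw [conjugate_commutatorElement, ← hga, ← hha, hgaeq, commutatorElement_mul_left_eq_conj_mul,
        commutatorElement_eq_one_iff_commute.2 (hΩΩ ω hω ha' hhaΩ), mul_one,
        commutator_pow_left (hcenG g hgR ha' hhaR g hgR)]
      have h1 : Commute ω (⁅g, ha'⁆ ^ k) := (hcenG g hgR ha' hhaR ω (hΩR hω)).pow_right k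
      rw [h1.eq, mul_inv_cancel_right]
    have hkp : k.Coprime p := by
      rw [Nat.coprime_comm, hpf.out.coprime_iff_not_dvd]
      rintro ⟨l, rfl⟩
      rw [pow_mul, hexpR' _ hzR', one_pow] at hz1
      apply hgh
      have h1 : a⁻¹ * (a * ⁅g, h⁆ * a⁻¹) * a = 1 := by rw [hz1]; group
      rw [← h1]
      group
    have hz'R' : ⁅g, ha'⁆ ∈ ⁅R, R⁆ := Subgroup.commutator_mem_commutator hgR hhaR
    have hzz : ⁅g, ha'⁆ = ⁅g, h⁆ := by
      have h1 : ⁅g, ha'⁆ ^ k = ⁅g, h⁆ ^ k := by rw [← hz1, hz2]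
      have h2 : Commute ⁅g, ha'⁆ ⁅g, h⁆ := hZcen _ (hR'Z hz'R') _ (hR'R hzR')
      have h3 : (⁅g, ha'⁆ * ⁅g, h⁆⁻¹) ^ k = 1 := by
        rw [(h2.inv_right).mul_pow, inv_pow, h1, mul_inv_cancel]
      have h4 : (⁅g, ha'⁆ * ⁅g, h⁆⁻¹) ^ p = 1 :=
        hexpR' _ (Subgroup.mul_mem _ hz'R' (Subgroup.inv_mem _ hzR'))
      have h5 : orderOf (⁅g, ha'⁆ * ⁅g, h⁆⁻¹) ∣ 1 := by
        rw [← hkp]
        exact Nat.dvd_gcd (orderOf_dvd_of_pow_eq_one h3) (orderOf_dvd_of_pow_eq_one h4)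
      have h6 := orderOf_eq_one_iff.1 (Nat.dvd_one.1 h5)
      exact mul_inv_eq_one.1 h6
    have hfin : ha' * h⁻¹ ∈ ⁅R, R⁆ := by
      rw [← hinfeq]
      have hmemΩ : ha' * h⁻¹ ∈ Ω := Ω.mul_mem hhaΩ (Ω.inv_mem hhΩ)
      refine ⟨hmemΩ, hΩcen _ hmemΩ ?_⟩
      have h1 : ⁅g, ha' * h⁻¹⁆ = 1 := by
        rw [commutatorElement_mul_right_eq_mul_conj, hzz, commutatorElement_inv_right]
        have h2 : Commute h⁻¹ ⁅h, g⁆ := (hcenG h hhR g hgR h hhR).inv_left
        have h3 : Commute ha' ⁅h, g⁆ := hcenG h hhR g hgR ha' hhaR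
        rw [h2.eq, inv_mul_cancel_right, mul_assoc ⁅g, h⁆ ha' ⁅h, g⁆, h3.eq, ← mul_assoc,
          mul_inv_cancel_right, ← commutatorElement_inv g h, mul_inv_cancel]
      exact (commutatorElement_eq_one_iff_commute.1 h1).symm
    rw [← commutatorElement_inv, commutatorElement_def]
    exact Subgroup.inv_mem _ hfin


/-- If a `p'`-group `A` acts on a metacyclic `p`-group `R`, `p` odd, with `[R, A] = R`, then `R` is
abelian. -/
theorem isMulCommutative_of_commutator_eq {G : Type*} [Group G] [Finite G] {p : ℕ}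
    [hpf : Fact p.Prime] (hp : p ≠ 2) (R A : Subgroup G) (hR : IsPGroup p R)
    (hRm : Cfsg.IsMetacyclic R) (hA : A ≤ Subgroup.normalizer (R : Set G))
    (hcop : (Nat.card A).Coprime p) (hcomm : ⁅R, A⁆ = R) : IsMulCommutative R := by
  by_contra hnc
  set M := R ⊔ A with hM
  have hRM : R ≤ M := le_sup_left
  have hAM : A ≤ M := le_sup_right
  set R₁ := R.subgroupOf M with hR₁
  set A₁ := A.subgroupOf M with hA₁
  have hR₁n : R₁.Normal := by
    rw [hR₁, Subgroup.normal_subgroupOf_iff_le_normalizer hRM]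
    exact sup_le Subgroup.le_normalizer hA
  have hsup₁ : R₁ ⊔ A₁ = ⊤ := by
    rw [hR₁, hA₁, ← Subgroup.subgroupOf_sup hRM hAM, ← hM, Subgroup.subgroupOf_self]
  have hmapR : R₁.map M.subtype = R := by
    rw [hR₁, Subgroup.subgroupOf_map_subtype, inf_eq_left.2 hRM]
  have hmapA : A₁.map M.subtype = A := by
    rw [hA₁, Subgroup.subgroupOf_map_subtype, inf_eq_left.2 hAM]
  have hcomm₁ : ⁅R₁, A₁⁆ = R₁ := by
    apply Subgroup.map_injective M.subtype_injective
    rw [Subgroup.map_commutator, hmapR, hmapA, hcomm]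
  have hRR₁ : ¬ ⁅R₁, R₁⁆ ≤ ⊥ := by
    intro h
    apply hnc
    have h1 : ⁅R, R⁆ = ⊥ := by
      rw [← hmapR, ← Subgroup.map_commutator, le_bot_iff.1 h, Subgroup.map_bot]
    rw [Subgroup.commutator_eq_bot_iff_le_centralizer] at h1
    exact Subgroup.le_centralizer_iff_isMulCommutative.1 h1
  let eR : R₁ ≃* R := Subgroup.subgroupOfEquivOfLe hRM
  have hR₁p : IsPGroup p R₁ := hR.of_equiv eR.symm
  have hR₁m : Cfsg.IsMetacyclic R₁ := isMetacyclic_of_injective eR.toMonoidHom eR.injective hRm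
  have hA₁c : (Nat.card A₁).Coprime p := by
    rw [Nat.card_congr (Subgroup.subgroupOfEquivOfLe hAM).toEquiv]
    exact hcop
  -- a maximal normal subgroup of `M` inside `R₁` not containing `R₁'`
  obtain ⟨N, ⟨hNn, hNR, hNc⟩, hNmax⟩ := (Set.toFinite
    {N : Subgroup M | N.Normal ∧ N ≤ R₁ ∧ ¬ ⁅R₁, R₁⁆ ≤ N}).exists_maximal
    ⟨⊥, Subgroup.normal_bot, bot_le, hRR₁⟩
  set f := QuotientGroup.mk' N with hf
  have hfs : Function.Surjective f := QuotientGroup.mk'_surjective N
  have hfk : f.ker = N := QuotientGroup.ker_mk' N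
  have hR₂n : (R₁.map f).Normal := hR₁n.map f hfs
  have hsup₂ : R₁.map f ⊔ A₁.map f = ⊤ := by
    rw [← Subgroup.map_sup, hsup₁, Subgroup.map_top_of_surjective f hfs]
  have hR₂p : IsPGroup p (R₁.map f) := hR₁p.map f
  have hR₂m : Cfsg.IsMetacyclic (R₁.map f) :=
    isMetacyclic_of_surjective (f.subgroupMap R₁) (f.subgroupMap_surjective R₁) hR₁m
  have hA₂c : (Nat.card (A₁.map f)).Coprime p :=
    Nat.Coprime.coprime_dvd_left (Subgroup.card_map_dvd A₁ f) hA₁c
  have hcomm₂ : ⁅R₁.map f, A₁.map f⁆ = R₁.map f := by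
    rw [← Subgroup.map_commutator, hcomm₁]
  have hfin := minimal_situation hp (R₁.map f) (A₁.map f) hsup₂ hR₂p hR₂m hA₂c hcomm₂ ?_
  · apply hNc
    rw [← Subgroup.le_centralizer_iff_isMulCommutative,
      ← Subgroup.commutator_eq_bot_iff_le_centralizer, ← Subgroup.map_commutator,
      Subgroup.map_eq_bot_iff, hfk] at hfin
    exact hfin
  · intro Y hY hYR hYne
    by_contra hYc
    apply hYne
    have h1 : Y.comap f ≤ N := by
      refine hNmax ⟨hY.comap f, ?_, ?_⟩ ?_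
      · calc Y.comap f ≤ (R₁.map f).comap f := Subgroup.comap_mono hYR
          _ = R₁ := by rw [Subgroup.comap_map_eq, hfk, sup_eq_left.2 hNR]
      · intro h2
        apply hYc
        rw [← Subgroup.map_commutator, Subgroup.map_le_iff_le_comap]
        exact h2
      · intro x hx
        rw [Subgroup.mem_comap]
        have : f x = 1 := (QuotientGroup.eq_one_iff x).2 hx
        rw [this]
        exact Y.one_mem
    rw [eq_bot_iff]
    intro y hy
    obtain ⟨x, rfl⟩ := hfs y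
    exact (QuotientGroup.eq_one_iff x).2 (h1 hy)

end Cfsg.Agent.OddOrderLocal.MetacyclicCoprime
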