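import Cfsg.Prelude.Def_OddOrderLocal

/-!
# Exceptional maximal subgroups (B&G, Hypothesis 11.1)

`IsExceptional p M A₀ A`: `p ∉ σ(M)`, `A` is an elementary abelian subgroup of `M` of order `p ^ 2`,
`A₀ ≤ A` has order `p` and `N_G(A₀) ≤ M`.
-/

set_option autoImplicit false

namespace Cfsg.Agent.OddOrderLocal.Sec11

/-- The hypothesis of B&G, Section 11. -/
structure IsExceptional {G : Type*} [Group G] (p : ℕ) (M A₀ A : Subgroup G) : Prop where
  notMem_sigma : p ∉ Cfsg.sigma M
  le : A ≤ M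
  elem : Cfsg.IsElementaryAbelian p A
  card : Nat.card A = p ^ 2
  sub_le : A₀ ≤ A
  sub_card : Nat.card A₀ = p
  norm_le : Subgroup.normalizer (A₀ : Set G) ≤ M

end Cfsg.Agent.OddOrderLocal.Sec11
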