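import Mathlib
import Cfsg.Prelude.Def_OddOrderLocal
import Cfsg.Agent.OddOrderLocal.Rank
import Cfsg.Agent.OddOrderLocal.MinSimple

/-!
Small elementary facts about `sigmaCore M` and complements (`IsComplIn`).
-/

set_option autoImplicit false

namespace Cfsg.Agent.OddOrderLocal.SigmaCoreBasic808

open Subgroup

variable {G : Type*} [Group G]

theorem map_subtype_le_normalizer {M : Subgroup G} (N : Subgroup M) [N.Normal] :
    M ≤ Subgroup.normalizer ((N.map M.subtype : Subgroup G) : Set G) := by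
  intro g hg
  rw [Subgroup.mem_normalizer_iff]
  have key : ∀ (g : M) (x : G), x ∈ N.map M.subtype → (g : G) * x * (g : G)⁻¹ ∈ N.map M.subtype := by
    rintro g x ⟨y, hy, rfl⟩
    exact ⟨g * y * g⁻¹, Subgroup.Normal.conj_mem inferInstance y hy g, by simp⟩
  intro x
  constructor
  · intro hx
    exact key ⟨g, hg⟩ x hx
  · intro hx
    have := key (⟨g, hg⟩⁻¹) _ hx
    simpa [mul_assoc] using this

theorem sigmaCore_le (M : Subgroup G) : Cfsg.sigmaCore M ≤ M := Subgroup.map_subtype_le _

theorem le_normalizer_sigmaCore (M : Subgroup G) :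
    M ≤ Subgroup.normalizer (Cfsg.sigmaCore M : Set G) := by
  unfold Cfsg.sigmaCore
  exact map_subtype_le_normalizer _

/-- conjugation form of normality -/
theorem conj_mem_of_le_normalizer {H K : Subgroup G} (h : K ≤ Subgroup.normalizer (H : Set G))
    {k x : G} (hk : k ∈ K) (hx : x ∈ H) : k * x * k⁻¹ ∈ H :=
  (Subgroup.mem_normalizer_iff.mp (h hk) x).mp hx

/-- two subgroups normalizing each other with trivial intersection commute -/
theorem commute_of_normalize_inf_eq_bot {A B : Subgroup G}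
    (hAB : A ≤ Subgroup.normalizer (B : Set G)) (hBA : B ≤ Subgroup.normalizer (A : Set G))
    (hI : A ⊓ B = ⊥) {a b : G} (ha : a ∈ A) (hb : b ∈ B) : a * b = b * a := by
  have h1 : a * b * a⁻¹ * b⁻¹ ∈ A ⊓ B := by
    constructor
    · have : a * (b * a⁻¹ * b⁻¹) ∈ A :=
        A.mul_mem ha (conj_mem_of_le_normalizer hBA hb (A.inv_mem ha))
      simpa [mul_assoc] using this
    · exact B.mul_mem (conj_mem_of_le_normalizer hAB ha hb) (B.inv_mem hb)
  rw [hI, Subgroup.mem_bot] at h1
  have h2 : a * b * a⁻¹ = b := by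
    rw [mul_inv_eq_one] at h1
    exact h1
  rw [mul_inv_eq_iff_eq_mul] at h2
  exact h2

/-- a `p`-subgroup of `M` lies in (the image of) a Sylow `p`-subgroup of `M` -/
theorem exists_sylow_ge {p : ℕ} [Fact p.Prime] {M A : Subgroup G} (hA : IsPGroup p A) (hAM : A ≤ M) :
    ∃ P : Sylow p M, A ≤ (P : Subgroup M).map M.subtype := by
  have h1 : IsPGroup p (A.subgroupOf M) :=
    hA.of_equiv (Subgroup.subgroupOfEquivOfLe hAM).symm
  obtain ⟨P, hP⟩ := h1.exists_le_sylow
  refine ⟨P, fun x hx => ⟨⟨x, hAM hx⟩, hP ?_, rfl⟩⟩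
  rw [Subgroup.mem_subgroupOf]
  exact hx

theorem isPGroup_of_card {p n : ℕ} [Fact p.Prime] {A : Subgroup G} (h : Nat.card A = p ^ n) :
    IsPGroup p A := IsPGroup.of_card h

end Cfsg.Agent.OddOrderLocal.SigmaCoreBasic808
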