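import Mathlib
import Cfsg.Prelude.Def_OddOrderLocal
import Cfsg.Agent.OddOrderLocal.SylowInter
import Cfsg.Agent.OddOrderLocal.SigmaCompl
import Cfsg.Agent.OddOrderLocal.Rank
import Cfsg.Agent.OddOrderLocal.MinSimple
import Cfsg.Agent.OddOrderLocal.PiCoreOf
import Cfsg.Agent.S1403
import Cfsg.Agent.S1350

/-!
B&G Lemma 10.12: for non-conjugate maximal subgroups `M`, `H`, the sets `α(M)` and `σ(H)` are disjoint, and
`σ(M)` and `σ(H)` are disjoint if `M_σ` is nilpotent.
-/

set_option autoImplicit false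
set_option linter.style.haveILetI false

namespace Cfsg.Agent.OddOrderLocal.SigmaDisjoint

open Cfsg
open Cfsg.Agent.OddOrderLocal.MinSimpleBasic

universe u

variable {G : Type u} [Group G] [Finite G]

/-- A commutative subgroup of exponent dividing `p` and order greater than `p ^ 2` is a uniqueness
subgroup (special case of the Uniqueness Theorem). -/
theorem inUniqueMaximal_of_elemAb (hG : IsMinSimpleOddOrder G) {p : ℕ} (hp : p.Prime)
    {A : Subgroup G} (hA : IsElementaryAbelian p A) (hc : p ^ 2 < Nat.card A) :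
    InUniqueMaximal A := by
  have h1 : ¬ RankLE 2 A := fun h =>
    Rank.not_pRankLE_of_elemAb le_rfl hA hc (h p hp)
  have h2 : ¬ RankLE 1 A := fun h => h1 (Rank.rankLE_le (by norm_num) h)
  exact S1403.result hG A (ne_top_of_isMulCommutative hG hA.1) h2 (Or.inl h1)

/-- B&G 10.12(a): non-conjugate maximal subgroups `M`, `H` have `α(M) ∩ σ(H) = ∅`. -/
theorem alpha_sigma_disjoint (hG : IsMinSimpleOddOrder G) {M H : Subgroup G} (hM : IsCoatom M)
    (hH : IsCoatom H) (hnc : ∀ g : G, H ≠ M.map (MulAut.conj g).toMonoidHom) {p : ℕ}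
    (hp : p ∈ alpha M) : p ∉ sigma H := by
  intro hpH
  obtain ⟨hpp, hr⟩ := hp
  haveI : Fact p.Prime := ⟨hpp⟩
  obtain ⟨P, -, hPH, -⟩ := SylowInter.exists_sylow_of_mem_sigma hpH
  have hA : ∃ A : Subgroup G, A ≤ M ∧ IsElementaryAbelian p A ∧ p ^ 2 < Nat.card A := by
    by_contra hcon
    apply hr
    rw [Rank.pRankLE_iff]
    intro A hAM hA
    by_contra hlt
    exact hcon ⟨A, hAM, hA, not_le.mp hlt⟩
  obtain ⟨A, hAM, hA, hAc⟩ := hA
  obtain ⟨g, hg⟩ := exists_map_conj_le_sylow P (Rank.elemAb_isPGroup hA)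
  have hAg : IsElementaryAbelian p (A.map (MulAut.conj g).toMonoidHom) :=
    Rank.elemAb_map _ hA
  have hu : InUniqueMaximal (A.map (MulAut.conj g).toMonoidHom) :=
    inUniqueMaximal_of_elemAb hG hpp hAg (by rw [card_map_conj]; exact hAc)
  exact hnc g (MinSimple.eq_of_inUniqueMaximal hu (isCoatom_map_conj hM g) (Subgroup.map_mono hAM)
    hH (hg.trans hPH))

/-- If `M_σ` is nilpotent and `p ∈ σ(M)` then `M` is the normalizer of a Sylow `p`-subgroup of `G`. -/
theorem exists_sylow_normalizer_eq_of_nilpotent (hG : IsMinSimpleOddOrder G) {M : Subgroup G}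
    (hM : IsCoatom M) (hnil : Group.IsNilpotent (sigmaCore M)) {p : ℕ} [Fact p.Prime]
    (hp : p ∈ sigma M) :
    ∃ P : Sylow p G, Subgroup.normalizer ((P : Subgroup G) : Set G) = M := by
  obtain ⟨P, hP1, hPM, hPN⟩ := SylowInter.exists_sylow_of_mem_sigma hp
  refine ⟨P, le_antisymm hPN ?_⟩
  have hHall := (S1350.result hG M hM).1
  have hle : (P : Subgroup G) ≤ sigmaCore M := by
    apply SigmaCompl.le_of_isPiHallOf_normal hHall (FitAux.le_normalizer_sigmaCore M) hPM
    intro r hr hrd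
    obtain ⟨n, hn⟩ := IsPGroup.iff_card.mp P.isPGroup'
    rw [hn] at hrd
    have := (Nat.prime_dvd_prime_iff_eq hr Fact.out).mp (hr.dvd_of_dvd_pow hrd)
    rwa [this]
  intro m hm
  rw [mem_normalizer_iff_map_conj]
  -- both `P` and `P ^ m` are Sylow in `M_σ`
  have hQle : ((m • P : Sylow p G) : Subgroup G) ≤ sigmaCore M := by
    have h1 := Subgroup.map_mono (f := (MulAut.conj m).toMonoidHom) hle
    rwa [mem_normalizer_iff_map_conj.mp (FitAux.le_normalizer_sigmaCore M hm)] at h1
  haveI := hnil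
  let P₁ : Sylow p (sigmaCore M) := P.subtype hle
  let P₂ : Sylow p (sigmaCore M) := (m • P).subtype hQle
  have hnorm : ∀ Q : Sylow p (sigmaCore M), (Q : Subgroup (sigmaCore M)).Normal := by
    intro Q
    exact Q.normal_of_normalizerCondition Group.normalizerCondition_of_isNilpotent
  haveI := hnorm P₁
  haveI : Unique (Sylow p (sigmaCore M)) := P₁.unique_of_normal (hnorm P₁)
  have h12 : P₂ = P₁ := Subsingleton.elim _ _
  have h3 := congrArg (fun Q : Sylow p (sigmaCore M) =>
    (Q : Subgroup (sigmaCore M)).map (sigmaCore M).subtype) h12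
  simp only [P₁, P₂, Sylow.coe_subtype, Subgroup.subgroupOf_map_subtype] at h3
  rw [inf_eq_left.mpr hle, inf_eq_left.mpr hQle] at h3
  exact h3

/-- B&G 10.12(b): non-conjugate maximal subgroups `M`, `H` with `M_σ` nilpotent have
`σ(M) ∩ σ(H) = ∅`. -/
theorem sigma_disjoint_of_nilpotent (hG : IsMinSimpleOddOrder G) {M H : Subgroup G}
    (hM : IsCoatom M) (hH : IsCoatom H)
    (hnc : ∀ g : G, H ≠ M.map (MulAut.conj g).toMonoidHom)
    (hnil : Group.IsNilpotent (sigmaCore M)) {p : ℕ} (hp : p ∈ sigma M) : p ∉ sigma H := by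
  intro hpH
  haveI : Fact p.Prime := ⟨hp.1⟩
  obtain ⟨P, hP⟩ := exists_sylow_normalizer_eq_of_nilpotent hG hM hnil hp
  obtain ⟨Q, -, hQH, hQN⟩ := SylowInter.exists_sylow_of_mem_sigma hpH
  obtain ⟨g, hg⟩ := MulAction.exists_smul_eq G P Q
  have h1 : M.map (MulAut.conj g).toMonoidHom ≤ H := by
    intro x hx
    apply hQN
    rw [mem_map_conj_iff, ← hP, mem_normalizer_iff_map_conj] at hx
    rw [mem_normalizer_iff_map_conj, ← hg]
    change ((P : Subgroup G).map (MulAut.conj g).toMonoidHom).map (MulAut.conj x).toMonoidHom =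
      (P : Subgroup G).map (MulAut.conj g).toMonoidHom
    have h2 := congrArg (Subgroup.map (MulAut.conj g).toMonoidHom) hx
    rw [← map_conj_mul] at h2
    rw [← map_conj_mul, ← h2]
    congr 3
    group
  have h3 := (isCoatom_map_conj hM g).le_iff.mp h1
  rcases h3 with h3 | h3
  · exact hH.1 h3
  · exact hnc g h3

end Cfsg.Agent.OddOrderLocal.SigmaDisjoint
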