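import Mathlib
import Cfsg.Prelude.Def_Transfer

/-!
If every prime divisor of the order of a finite group `X` outside the set `B` has a normal
`p`-complement, then `X` has a normal Hall `B`-subgroup with a nilpotent complement.
-/

set_option autoImplicit false
set_option linter.style.haveILetI false

namespace Cfsg.Agent.OddOrderLocal.NilpotentQuotient

open Cfsg

/-- A finite family of normal subgroups: the quotient by the intersection embeds in the product. -/
theorem exists_injective_pi {X : Type*} [Group X] {ι : Type*}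
    (N : ι → Subgroup X) [hN : ∀ i, (N i).Normal] (K : Subgroup X) [K.Normal] (hK : K = ⨅ i, N i) :
    ∃ f : X ⧸ K →* (∀ i, X ⧸ N i), Function.Injective f := by
  classical
  let f : X →* (∀ i, X ⧸ N i) := MonoidHom.pi (fun i => QuotientGroup.mk' (N i))
  have hker : f.ker = K := by
    ext x
    rw [MonoidHom.mem_ker, hK, Subgroup.mem_iInf]
    constructor
    · intro hx i
      have := congrFun hx i
      exact (QuotientGroup.eq_one_iff x).mp this
    · intro hx
      funext i
      exact (QuotientGroup.eq_one_iff x).mpr (hx i)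
  refine ⟨(QuotientGroup.kerLift f).comp
    (QuotientGroup.quotientMulEquivOfEq hker.symm).toMonoidHom, ?_⟩
  exact (QuotientGroup.kerLift_injective f).comp
    (QuotientGroup.quotientMulEquivOfEq hker.symm).injective

/-- A group with an injective homomorphism into a nilpotent group is nilpotent. -/
theorem isNilpotent_of_injective {A B : Type*} [Group A] [Group B] [Group.IsNilpotent B]
    (f : A →* B) (hf : Function.Injective f) : Group.IsNilpotent A :=
  (Group.isNilpotent_congr (MonoidHom.ofInjective hf)).mpr inferInstance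

/-- A finite family of normal subgroups with nilpotent quotients: the intersection has a
nilpotent quotient. -/
theorem isNilpotent_quotient_iInf {X : Type*} [Group X] {ι : Type*} [Finite ι]
    (N : ι → Subgroup X) [hN : ∀ i, (N i).Normal]
    (h : ∀ i, Group.IsNilpotent (X ⧸ N i)) (K : Subgroup X) [K.Normal] (hK : K = ⨅ i, N i) :
    Group.IsNilpotent (X ⧸ K) := by
  obtain ⟨f, hf⟩ := exists_injective_pi N K hK
  exact isNilpotent_of_injective f hf

/-- primes dividing the index of a finite intersection of normal subgroups divide one of the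
indices. -/
theorem exists_dvd_index_of_dvd_index_iInf {X : Type*} [Group X] [Finite X] {ι : Type*} [Finite ι]
    (N : ι → Subgroup X) [hN : ∀ i, (N i).Normal] (K : Subgroup X) [K.Normal] (hK : K = ⨅ i, N i)
    {q : ℕ} (hq : q.Prime) (h : q ∣ K.index) : ∃ i, q ∣ (N i).index := by
  classical
  obtain ⟨f, hf⟩ := exists_injective_pi N K hK
  haveI := Fintype.ofFinite ι
  have h1 : Nat.card (X ⧸ K) ∣ Nat.card (∀ i, X ⧸ N i) := Subgroup.card_dvd_of_injective f hf
  rw [Nat.card_pi] at h1
  have h2 : q ∣ ∏ i, Nat.card (X ⧸ N i) := (show q ∣ Nat.card (X ⧸ K) from h).trans h1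
  obtain ⟨i, _, hi⟩ := (Prime.dvd_finsetProd_iff hq.prime _).mp h2
  exact ⟨i, hi⟩

/-- A group with a normal `p`-complement, in terms of a normal subgroup of order prime to `p`
with `p`-group quotient. -/
theorem exists_of_hasNormalPComplement {X : Type*} [Group X] [Finite X] {p : ℕ} [hp : Fact p.Prime]
    (h : HasNormalPComplement p X) :
    ∃ N : Subgroup X, N.Normal ∧ ¬ p ∣ Nat.card N ∧ ∃ k : ℕ, N.index = p ^ k := by
  obtain ⟨P, N, hN, hc⟩ := h
  refine ⟨N, hN, ?_, ?_⟩
  · have h1 : Nat.card N = (P : Subgroup X).index := by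
      exact hc.index_eq_card.symm
    rw [h1]
    exact P.not_dvd_index
  · obtain ⟨k, hk⟩ := P.isPGroup'.exists_card_eq
    exact ⟨k, by rw [hc.symm.index_eq_card, hk]⟩

/-- conversely. -/
theorem hasNormalPComplement_of_index {X : Type*} [Group X] [Finite X] {p : ℕ} [hp : Fact p.Prime]
    (N : Subgroup X) (hN : N.Normal) (h1 : ¬ p ∣ Nat.card N) {k : ℕ} (h2 : N.index = p ^ k) :
    HasNormalPComplement p X := by
  classical
  let P : Sylow p X := default
  refine ⟨P, N, hN, ?_⟩
  apply Subgroup.isComplement'_of_coprime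
  · -- card N * card P = card X
    have h3 : Nat.card N * N.index = Nat.card X := N.card_mul_index
    have h4 : Nat.card P = p ^ k := by
      rw [P.card_eq_multiplicity, ← h3, h2, Nat.factorization_mul Nat.card_pos.ne'
        (pow_pos hp.out.pos k).ne', Nat.Prime.factorization_pow hp.out]
      simp [Nat.factorization_eq_zero_of_not_dvd h1]
    rw [h4, ← h2, h3]
  · obtain ⟨j, hj⟩ := P.isPGroup'.exists_card_eq
    rw [hj]
    exact Nat.Coprime.pow_right _ ((Nat.Prime.coprime_iff_not_dvd hp.out).mpr h1).symm

/-- If every prime divisor of the order of a finite group `X` outside the set `B` has a normal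
`p`-complement, then `X` has a normal Hall `B`-subgroup with nilpotent quotient. -/
theorem exists_normal_hall {X : Type*} [Group X] [Finite X] (B : Set ℕ)
    (h : ∀ p : ℕ, p.Prime → p ∣ Nat.card X → p ∉ B → HasNormalPComplement p X) :
    ∃ (K : Subgroup X) (_ : K.Normal), (∀ q : ℕ, q.Prime → q ∣ Nat.card K → q ∈ B) ∧
      (∀ q : ℕ, q.Prime → q ∣ K.index → q ∉ B) ∧ Group.IsNilpotent (X ⧸ K) := by
  classical
  let ι : Type := {p : ℕ // p ∈ (Nat.card X).primeFactors ∧ p ∉ B}
  haveI : Finite ι := by
    apply Finite.of_injective (fun i : ι => (⟨i.1, i.2.1⟩ : {p : ℕ // p ∈ (Nat.card X).primeFactors}))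
    intro a b hab
    have := congrArg Subtype.val hab
    exact Subtype.ext this
  have hι : ∀ i : ι, ∃ N : Subgroup X, N.Normal ∧ ¬ i.1 ∣ Nat.card N ∧ ∃ k : ℕ, N.index = i.1 ^ k := by
    intro i
    have hp := Nat.prime_of_mem_primeFactors i.2.1
    haveI : Fact (i.1).Prime := ⟨hp⟩
    exact exists_of_hasNormalPComplement (h i.1 hp (Nat.dvd_of_mem_primeFactors i.2.1) i.2.2)
  choose N hN hN1 hN2 using hι
  haveI : ∀ i, (N i).Normal := hN
  let K : Subgroup X := ⨅ i, N i
  haveI hKn : K.Normal := Subgroup.normal_iInf_normal hN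
  refine ⟨K, hKn, ?_, ?_, ?_⟩
  · intro q hq hqK
    by_contra hqB
    have hqX : q ∈ (Nat.card X).primeFactors := by
      rw [Nat.mem_primeFactors]
      exact ⟨hq, hqK.trans (Subgroup.card_subgroup_dvd_card K), Nat.card_pos.ne'⟩
    let i : ι := ⟨q, hqX, hqB⟩
    exact hN1 i (hqK.trans (Subgroup.card_dvd_of_le (iInf_le N i)))
  · intro q hq hqK
    obtain ⟨i, hi⟩ := exists_dvd_index_of_dvd_index_iInf N K rfl hq hqK
    obtain ⟨k, hk⟩ := hN2 i
    rw [hk] at hi
    have hp := Nat.prime_of_mem_primeFactors i.2.1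
    have : q = i.1 := (Nat.prime_dvd_prime_iff_eq hq hp).mp (hq.dvd_of_dvd_pow hi)
    rw [this]
    exact i.2.2
  · apply isNilpotent_quotient_iInf N _ K rfl
    intro i
    have hp := Nat.prime_of_mem_primeFactors i.2.1
    haveI : Fact (i.1).Prime := ⟨hp⟩
    obtain ⟨k, hk⟩ := hN2 i
    have : IsPGroup i.1 (X ⧸ N i) := by
      apply IsPGroup.of_card (n := k)
      rw [← hk]; rfl
    exact this.isNilpotent

/-- If every prime divisor of the order of a finite group `X` outside the set `B` has a normal
`p`-complement, then `X` has a normal Hall `B`-subgroup with nilpotent complement. -/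
theorem exists_normal_hall_and_nilpotent_complement {X : Type*} [Group X] [Finite X] (B : Set ℕ)
    (h : ∀ p : ℕ, p.Prime → p ∣ Nat.card X → p ∉ B → HasNormalPComplement p X) :
    ∃ K H : Subgroup X, K.Normal ∧ (∀ q : ℕ, q.Prime → q ∣ Nat.card K → q ∈ B) ∧
      (∀ q : ℕ, q.Prime → q ∣ K.index → q ∉ B) ∧ K.IsComplement' H ∧ Group.IsNilpotent H := by
  obtain ⟨K, hKn, h1, h2, h3⟩ := exists_normal_hall B h
  have hcop : (Nat.card K).Coprime K.index := by
    apply Nat.Coprime.symm
    apply Nat.coprime_of_dvd
    intro q hq hqi hqK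
    exact h2 q hq hqi (h1 q hq hqK)
  obtain ⟨H, hH⟩ := Subgroup.exists_right_complement'_of_coprime hcop
  refine ⟨K, H, hKn, h1, h2, hH, ?_⟩
  exact (Group.isNilpotent_congr hH.symm.QuotientMulEquiv).mp h3

end Cfsg.Agent.OddOrderLocal.NilpotentQuotient
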