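import Mathlib
import Cfsg.Prelude.Def_OddOrderLocal
import Cfsg.Agent.Lib.Cores
import Cfsg.Agent.OddOrderLocal.PiCore
import Cfsg.Agent.S1350

/-!
`M_σ ≤ M'` for a maximal subgroup `M` of a minimal simple group of odd order (B & G, Theorem 10.2 (c)).
-/

set_option autoImplicit false
set_option linter.style.haveILetI false

namespace Cfsg.Agent.OddOrderLocal.SigmaDer

open Cfsg

variable {G : Type*} [Group G]

/-- `M' = [M, M]` as a subgroup of `G` is the image of the commutator subgroup of the group `M`. -/
theorem map_subtype_commutator (M : Subgroup G) : (commutator M).map M.subtype = ⁅M, M⁆ := by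
  rw [commutator_def, Subgroup.map_commutator, ← MonoidHom.range_eq_map, Subgroup.range_subtype]

/-- The derived subgroup of the group `M` is isomorphic to the subgroup `[M, M]` of `G`. -/
noncomputable def commutatorEquiv (M : Subgroup G) : commutator M ≃* (⁅M, M⁆ : Subgroup G) :=
  ((commutator M).equivMapOfInjective M.subtype (Subgroup.subtype_injective M)).trans
    (MulEquiv.subgroupCongr (map_subtype_commutator M))

theorem piCore_sigma_le_commutator [Finite G] (hG : IsMinSimpleOddOrder G) (M : Subgroup G) (hM : IsCoatom M) :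
    piCore (sigma M) M ≤ commutator M := by
  have key : (commutator M).subgroupOf (piCore (sigma M) M) = ⊤ := by
    apply Cfsg.Agent.Lib.Cores.eq_top_of_sylow_le
    intro p hp
    refine ⟨default, ?_⟩
    set P : Sylow p (piCore (sigma M) M) := default with hP
    by_cases hb : (P : Subgroup (piCore (sigma M) M)) = ⊥
    · rw [hb]; exact bot_le
    have hps : p ∈ sigma M := by
      apply OddOrderLocal.PiCore.piCore_isPi (G := M) (sigma M) p hp.out
      haveI : Nontrivial (P : Subgroup (piCore (sigma M) M)) :=
        (Subgroup.nontrivial_iff_ne_bot _).mpr hb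
      obtain ⟨n, hn, hc⟩ := P.isPGroup'.nontrivial_iff_card.mp inferInstance
      exact (dvd_pow_self p hn.ne').trans (hc ▸ Subgroup.card_subgroup_dvd_card _)
    have hQ : IsPGroup p ((P : Subgroup (piCore (sigma M) M)).map (piCore (sigma M) M).subtype) :=
      P.isPGroup'.map _
    obtain ⟨S, hS⟩ := IsPGroup.exists_le_sylow (G := M) hQ
    have h1 := hS.trans (Cfsg.Agent.S1350.sylow_le_commutator hG M hM p hps S)
    rw [Subgroup.map_le_iff_le_comap] at h1
    exact h1
  rwa [Subgroup.subgroupOf_eq_top] at key

/-- **B & G, Theorem 10.2 (c).** `M_σ ≤ M'`. -/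
theorem sigmaCore_le_commutator [Finite G] (hG : IsMinSimpleOddOrder G) (M : Subgroup G) (hM : IsCoatom M) :
    sigmaCore M ≤ ⁅M, M⁆ := by
  rw [← map_subtype_commutator]
  exact Subgroup.map_mono (piCore_sigma_le_commutator hG M hM)

end Cfsg.Agent.OddOrderLocal.SigmaDer
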