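import Mathlib
import Cfsg.Prelude.Def_OddOrderLocal
import Cfsg.Agent.OddOrderLocal.Rank
import Cfsg.Agent.OddOrderLocal.OmegaCritical
import Cfsg.Agent.S1453

/-!
# Narrow `p`-groups of rank at least three (B&G Theorem 5.3(d) and the rank three case of 5.5)
-/

set_option autoImplicit false
set_option linter.style.haveILetI false

namespace Cfsg.Agent.OddOrderLocal.NarrowAut

open Subgroup Cfsg.Agent.OddOrderLocal.Rank
open scoped commutatorElement

/-- In a finite cyclic group at most `n` elements satisfy `x ^ n = 1`. -/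
theorem card_pow_eq_one_le {C : Type*} [Group C] [Finite C] (h : IsCyclic C) {n : ℕ} (hn : 0 < n) :
    Nat.card {x : C // x ^ n = 1} ≤ n := by
  classical
  haveI := Fintype.ofFinite C
  rw [Nat.card_eq_fintype_card, Fintype.card_subtype]
  exact IsCyclic.card_pow_eq_one_le hn

/-- If `C` is generated by a subgroup `R₀` of order `p` and a cyclic subgroup `R₁` commuting with
it, then elementary abelian subgroups of `C` have order at most `p ^ 2`. -/
theorem card_le_of_sup {R : Type*} [Group R] [Finite R] {p : ℕ} [hp : Fact p.Prime]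
    {R₀ R₁ : Subgroup R} (h0 : Nat.card R₀ = p) (h1 : IsCyclic R₁)
    (hc : ∀ a ∈ R₀, ∀ b ∈ R₁, a * b = b * a) {A : Subgroup R} (hA : Cfsg.IsElementaryAbelian p A)
    (hle : A ≤ R₀ ⊔ R₁) : Nat.card A ≤ p ^ 2 ∧ (A ⊓ R₀ = ⊥ → Nat.card A ≤ p) := by
  have hn : R₀ ≤ normalizer (R₁ : Set R) := by
    rw [le_normalizer_iff]
    intro a ha b hb
    rw [hc a ha b hb, mul_inv_cancel_right]
    exact hb
  have key : ∀ a : A, ∃ r : R₀, ∃ c : {c : R₁ // c ^ p = 1}, (a : R) = r * (c : R₁) := by
    intro a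
    have h2 : (a : R) ∈ ((R₀ ⊔ R₁ : Subgroup R) : Set R) := hle a.2
    rw [coe_mul_of_left_le_normalizer_right R₀ R₁ hn] at h2
    obtain ⟨r, hr, c, hc', hrc⟩ := h2
    have h3 : (r * c) ^ p = 1 := by
      have h4 := hA.2 a a.2
      have h5 : r * c = a := hrc
      rw [h5]; exact h4
    have h4 : Commute r c := hc r hr c hc'
    rw [h4.mul_pow] at h3
    have h5 : r ^ p = 1 := by
      have h6 : (⟨r, hr⟩ : R₀) ^ p = 1 := by
        rw [← h0]; exact pow_card_eq_one'
      exact congrArg Subtype.val h6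
    rw [h5, one_mul] at h3
    exact ⟨⟨r, hr⟩, ⟨⟨c, hc'⟩, Subtype.ext h3⟩, hrc.symm⟩
  choose f g hfg using key
  have hcard := card_pow_eq_one_le h1 hp.out.pos (n := p)
  constructor
  · have h2 : Function.Injective (fun a : A => (f a, g a)) := by
      intro a b hab
      simp only [Prod.mk.injEq] at hab
      apply Subtype.ext
      rw [hfg a, hfg b, hab.1, hab.2]
    have h3 := Nat.card_le_card_of_injective _ h2
    rw [Nat.card_prod, h0] at h3
    calc Nat.card A ≤ p * Nat.card {c : R₁ // c ^ p = 1} := h3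
      _ ≤ p * p := Nat.mul_le_mul_left _ hcard
      _ = p ^ 2 := by ring
  · intro hbot
    have h2 : Function.Injective g := by
      intro a b hab
      have h3 : (a : R) * (b : R)⁻¹ = (f a : R) * (f b : R)⁻¹ := by
        rw [hfg a, hfg b, hab]; group
      have h4 : (a : R) * (b : R)⁻¹ ∈ A ⊓ R₀ :=
        ⟨A.mul_mem a.2 (A.inv_mem b.2), by rw [h3]; exact R₀.mul_mem (f a).2 (R₀.inv_mem (f b).2)⟩
      rw [hbot, mem_bot, mul_inv_eq_one] at h4
      exact Subtype.ext h4
    exact (Nat.card_le_card_of_injective _ h2).trans hcard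

/-- Subgroups of prime order meet any subgroup trivially or lie in it. -/
theorem inf_eq_bot_or_le {R : Type*} [Group R] {p : ℕ} [hp : Fact p.Prime] {S : Subgroup R}
    (hS : Nat.card S = p) (X : Subgroup R) : S ⊓ X = ⊥ ∨ S ≤ X := by
  haveI : Finite S := Nat.finite_of_card_ne_zero (by rw [hS]; exact hp.out.ne_zero)
  have h1 : Nat.card (S ⊓ X : Subgroup R) ∣ p := hS ▸ card_dvd_of_le inf_le_left
  rcases (Nat.dvd_prime hp.out).mp h1 with h | h
  · exact Or.inl (card_eq_one.mp h)
  · right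
    have h2 : (S ⊓ X : Subgroup R) = S := eq_of_le_of_card_ge inf_le_left (by rw [h, hS])
    exact h2 ▸ inf_le_right

/-- B&G Theorem 5.3(d): in a narrow `p`-group of rank at least 3, there are a subgroup `S` of order
`p` and a characteristic subgroup `T` of index `p` with `S ∩ T = 1` and `C_T(S)` cyclic. -/
theorem exists_narrow_structure {R : Type*} [Group R] [Finite R] (p : ℕ) [hp : Fact p.Prime]
    (hp2 : p ≠ 2) (hR : IsPGroup p R) (hn : Cfsg.IsNarrow p R) (hr : ¬ Cfsg.PRankLE p 2 R) :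
    ∃ S T : Subgroup R, Nat.card S = p ∧ T.Characteristic ∧ T.index = p ∧ S ⊓ T = ⊥ ∧ S ⊔ T = ⊤ ∧
      IsCyclic ↥(T ⊓ centralizer (S : Set R)) := by
  obtain ⟨R₀, R₁, h0, h1, h01, hc, hcent⟩ := hn.resolve_left hr
  have hlt : p ^ 2 < Nat.card R := by
    by_contra hcon
    apply hr
    rw [pRankLE_def]
    intro A _
    exact (card_le_card_group A).trans (not_lt.mp hcon)
  haveI : Nontrivial R := Finite.one_lt_card_iff_nontrivial.mp
    (lt_of_le_of_lt (Nat.one_le_pow _ _ hp.out.pos) hlt)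
  -- a central subgroup of order `p`
  obtain ⟨Z₀, hZ₀c, hZ₀⟩ : ∃ Z₀ : Subgroup R, Z₀ ≤ center R ∧ Nat.card Z₀ = p := by
    have hcn : Nontrivial (center R) := hR.center_nontrivial
    have h2 : p ∣ Nat.card (center R) := by
      obtain ⟨n, hn⟩ := IsPGroup.iff_card.mp (hR.to_subgroup (center R))
      rw [hn]
      refine dvd_pow_self p ?_
      rintro rfl
      have := Finite.one_lt_card (α := center R)
      rw [hn, pow_zero] at this
      exact lt_irrefl _ this
    obtain ⟨z, hz⟩ := exists_prime_orderOf_dvd_card' p h2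
    refine ⟨zpowers (z : R), ?_, ?_⟩
    · rw [zpowers_le]; exact z.2
    · rw [Nat.card_zpowers, orderOf_coe, hz]
  -- `R₀` is not central
  have hR₀c : ¬ R₀ ≤ center R := by
    intro hle
    apply hr
    rw [pRankLE_def]
    intro A hA
    have h2 : centralizer (R₀ : Set R) = ⊤ := by
      rw [eq_top_iff]
      intro x _
      rw [mem_centralizer_iff]
      intro a ha
      exact (mem_center_iff.mp (hle ha) x).symm
    refine (card_le_of_sup h0 h1 hc hA ?_).1
    rw [hcent, h2]
    exact le_top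
  have hR₀Z₀ : R₀ ⊓ Z₀ = ⊥ := by
    rcases inf_eq_bot_or_le h0 Z₀ with h | h
    · exact h
    · exact absurd (h.trans hZ₀c) hR₀c
  have hR₀e : Cfsg.IsElementaryAbelian p R₀ := by
    haveI := isCyclic_of_prime_card h0
    refine ⟨inferInstance, fun a ha => ?_⟩
    have h6 : (⟨a, ha⟩ : R₀) ^ p = 1 := by
      rw [← h0]; exact pow_card_eq_one'
    exact congrArg Subtype.val h6
  have hZ₀e : Cfsg.IsElementaryAbelian p Z₀ := by
    haveI := isCyclic_of_prime_card hZ₀
    refine ⟨inferInstance, fun a ha => ?_⟩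
    have h6 : (⟨a, ha⟩ : Z₀) ^ p = 1 := by
      rw [← hZ₀]; exact pow_card_eq_one'
    exact congrArg Subtype.val h6
  set E := R₀ ⊔ Z₀ with hE
  have hEe : Cfsg.IsElementaryAbelian p E := elemAb_sup hR₀e hZ₀e
    (fun a _ b hb => mem_center_iff.mp (hZ₀c hb) a)
  have hEC : ∀ B : Subgroup R, Cfsg.IsElementaryAbelian p B → R₀ ≤ B →
      B ≤ centralizer (R₀ : Set R) := by
    intro B hB hle x hx
    rw [mem_centralizer_iff]
    intro a ha
    exact (elemAb_def.mp hB).1 a (hle ha) x hx
  have hEcard : Nat.card E = p ^ 2 := by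
    apply le_antisymm
    · exact (card_le_of_sup h0 h1 hc hEe (hcent ▸ hEC E hEe le_sup_left)).1
    · obtain ⟨n, hn⟩ := IsPGroup.iff_card.mp (elemAb_isPGroup hEe)
      rw [hn]
      refine Nat.pow_le_pow_right hp.out.pos ?_
      by_contra hlt2
      have h2 : n ≤ 1 := by omega
      have h3 : Nat.card E ≤ p := by
        rw [hn]
        exact (Nat.pow_le_pow_right hp.out.pos h2).trans (pow_one p).le
      have h4 : R₀ = E := eq_of_le_of_card_ge le_sup_left (by rw [h0]; exact h3)
      have h5 : Z₀ ≤ R₀ := h4 ▸ le_sup_right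
      have h6 : R₀ ⊓ Z₀ = Z₀ := inf_eq_right.mpr h5
      rw [hR₀Z₀] at h6
      rw [← h6, card_bot] at hZ₀
      exact hp.out.one_lt.ne hZ₀
  obtain ⟨hET, -, -, hTchar, hTidx⟩ := Cfsg.Agent.S1453.result p hp2 hR hr E hEe hEcard (by
    intro B hB hle
    have h2 := (card_le_of_sup h0 h1 hc hB (hcent ▸ hEC B hB (le_sup_left.trans hle))).1
    exact (eq_of_le_of_card_ge hle (by rw [hEcard]; exact h2)).symm)
  set T := centralizer ((Subgroup.closure {x : R | x ∈ Subgroup.upperCentralSeries R 2 ∧ x ^ p = 1} :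
    Subgroup R) : Set R) with hT
  have hZ₀T : Z₀ ≤ T := hZ₀c.trans (center_le_centralizer _)
  have hR₀T : ¬ R₀ ≤ T := fun h => hET (sup_le h hZ₀T)
  have hinf : R₀ ⊓ T = ⊥ := (inf_eq_bot_or_le h0 T).resolve_right hR₀T
  have hTn : T.Normal := inferInstance
  have hsup : R₀ ⊔ T = ⊤ := by
    have h2 : (R₀ ⊔ T).index ∣ p := hTidx ▸ index_dvd_of_le le_sup_right
    rcases (Nat.dvd_prime hp.out).mp h2 with h | h
    · exact index_eq_one.mp h
    · exfalso
      have h3 : T.relIndex (R₀ ⊔ T) = 1 := by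
        have h4 := relIndex_mul_index (H := T) (K := R₀ ⊔ T) le_sup_right
        rw [h, hTidx] at h4
        exact Nat.eq_of_mul_eq_mul_right hp.out.pos (by rw [h4, one_mul])
      exact hR₀T (le_sup_left.trans (relIndex_eq_one.mp h3))
  refine ⟨R₀, T, h0, hTchar, hTidx, hinf, hsup, ?_⟩
  -- `C_T(R₀)` embeds in `R₁`
  haveI := h1
  have hcomm : ∀ (a : R₀) (b : R₁), Commute (R₀.subtype a) (R₁.subtype b) :=
    fun a b => hc a a.2 b b.2
  let ψ : R₀ × R₁ →* R := MonoidHom.noncommCoprod R₀.subtype R₁.subtype hcomm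
  have hψ : ∀ a : R₀, ∀ b : R₁, ψ (a, b) = a * b := fun a b => rfl
  have hψinj : Function.Injective ψ := by
    rw [injective_iff_map_eq_one]
    rintro ⟨a, b⟩ hab
    rw [hψ] at hab
    have h2 : (b : R) ∈ R₀ ⊓ R₁ := by
      refine ⟨?_, b.2⟩
      have h3 : (b : R) = (a : R)⁻¹ := (inv_eq_of_mul_eq_one_right hab).symm
      rw [h3]
      exact R₀.inv_mem a.2
    rw [h01, mem_bot] at h2
    rw [h2, mul_one] at hab
    exact Prod.ext (Subtype.ext hab) (Subtype.ext h2)
  have hψr : centralizer (R₀ : Set R) ≤ ψ.range := by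
    rw [← hcent, sup_le_iff]
    exact ⟨fun a ha => ⟨(⟨a, ha⟩, 1), by rw [hψ]; simp⟩, fun b hb => ⟨(1, ⟨b, hb⟩), by rw [hψ]; simp⟩⟩
  let φ : ↥(T ⊓ centralizer (R₀ : Set R)) →* R₁ :=
    (MonoidHom.snd R₀ R₁).comp ((MonoidHom.ofInjective hψinj).symm.toMonoidHom.comp
      (inclusion (inf_le_right.trans hψr)))
  refine isCyclic_of_injective φ ?_
  rw [injective_iff_map_eq_one]
  intro x hx
  set y := (MonoidHom.ofInjective hψinj).symm (inclusion (inf_le_right.trans hψr) x) with hy
  have hy2 : y.2 = 1 := hx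
  have hy3 : ψ y = x := by
    have h2 : (MonoidHom.ofInjective hψinj) y = inclusion (inf_le_right.trans hψr) x := by
      rw [hy, MulEquiv.apply_symm_apply]
    exact congrArg Subtype.val h2
  have hxR : (x : R) ∈ R₀ ⊓ T := by
    refine ⟨?_, x.2.1⟩
    rw [← hy3]
    have h2 : ψ y = (y.1 : R) * (y.2 : R) := rfl
    rw [h2, hy2]
    simp
  rw [hinf, mem_bot] at hxR
  exact Subtype.ext hxR

/-! ### Automorphisms acting trivially on characteristic factors -/

/-- The automorphisms of `R` acting trivially on `X / Y`. -/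
def factorKer {R : Type*} [Group R] (X Y : Subgroup R) [hX : X.Characteristic] :
    Subgroup (MulAut R) where
  carrier := {a | ∀ x ∈ X, x⁻¹ * a x ∈ Y}
  one_mem' := by
    intro x _
    simp
  mul_mem' := by
    intro a b ha hb x hx
    have hbx : b x ∈ X := (characteristic_iff_le_comap.mp hX b) hx
    have h1 := Y.mul_mem (hb x hx) (ha (b x) hbx)
    have h2 : x⁻¹ * b x * ((b x)⁻¹ * a (b x)) = x⁻¹ * (a * b) x := by
      rw [MulAut.mul_apply]; group
    rwa [h2] at h1
  inv_mem' := by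
    intro a ha x hx
    have hax : a⁻¹ x ∈ X := (characteristic_iff_le_comap.mp hX a⁻¹) hx
    have h1 := Y.inv_mem (ha _ hax)
    have h2 : ((a⁻¹ x)⁻¹ * a (a⁻¹ x))⁻¹ = x⁻¹ * a⁻¹ x := by
      rw [MulAut.apply_inv_self]; group
    rwa [h2] at h1

theorem mem_factorKer {R : Type*} [Group R] {X Y : Subgroup R} [X.Characteristic]
    {a : MulAut R} : a ∈ factorKer X Y ↔ ∀ x ∈ X, x⁻¹ * a x ∈ Y := Iff.rfl

/-- On a characteristic factor of prime order an automorphism acts as a power map. -/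
theorem exists_power_map {R : Type*} [Group R] {p : ℕ} [hp : Fact p.Prime] {X Y : Subgroup R}
    [hX : X.Characteristic] [hY : Y.Characteristic] (hXY : Y.relIndex X ∣ p) (a : MulAut R) :
    ∃ m : ℤ, ∀ x ∈ X, QuotientGroup.mk' Y (a x) = (QuotientGroup.mk' Y x) ^ m := by
  set Y' := Y.subgroupOf X with hY'
  have hcard : Nat.card (X ⧸ Y') ∣ p := hXY
  haveI : IsCyclic (X ⧸ Y') := by
    rcases (Nat.dvd_prime hp.out).mp hcard with h | h
    · haveI : Subsingleton (X ⧸ Y') := (Nat.card_eq_one_iff_unique.mp h).1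
      infer_instance
    · exact isCyclic_of_prime_card h
  have haX : ∀ x ∈ X, a x ∈ X := fun x hx => (characteristic_iff_le_comap.mp hX a) hx
  have haY : ∀ x ∈ Y, a x ∈ Y := fun x hx => (characteristic_iff_le_comap.mp hY a) hx
  let r : X →* X := (a.toMonoidHom.comp X.subtype).codRestrict X (fun x => haX x x.2)
  have hr : ∀ x : X, ((r x : X) : R) = a x := fun x => rfl
  have hle : Y' ≤ Y'.comap r := by
    intro x hx
    rw [mem_comap, hY', mem_subgroupOf, hr]
    exact haY _ hx
  obtain ⟨m, hm⟩ := MonoidHom.map_cyclic (QuotientGroup.map Y' Y' r hle)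
  refine ⟨m, fun x hx => ?_⟩
  have h1 := hm (QuotientGroup.mk ⟨x, hx⟩)
  rw [QuotientGroup.map_mk, ← QuotientGroup.mk_zpow, QuotientGroup.eq, hY', mem_subgroupOf] at h1
  rw [← map_zpow, QuotientGroup.mk'_apply, QuotientGroup.mk'_apply, QuotientGroup.eq]
  exact h1

theorem commutator_le_factorKer {R : Type*} [Group R] {p : ℕ} [hp : Fact p.Prime]
    {X Y : Subgroup R} [hX : X.Characteristic] [hY : Y.Characteristic]
    (hXY : Y.relIndex X ∣ p) : commutator (MulAut R) ≤ factorKer X Y := by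
  rw [_root_.commutator_def, commutator_le]
  intro a _ b _
  obtain ⟨m, hm⟩ := exists_power_map hXY a
  obtain ⟨l, hl⟩ := exists_power_map hXY b
  rw [mem_factorKer]
  intro x hx
  have haX : ∀ a : MulAut R, ∀ x ∈ X, a x ∈ X :=
    fun a x hx => (characteristic_iff_le_comap.mp hX a) hx
  set y := (b * a)⁻¹ x with hy
  have hyX : y ∈ X := haX _ x hx
  have h1 : (⁅a, b⁆ : MulAut R) x = a (b y) := by
    have : (⁅a, b⁆ : MulAut R) = a * b * (b * a)⁻¹ := by
      rw [commutatorElement_def]; group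
    rw [this, MulAut.mul_apply, MulAut.mul_apply]
  have h2 : x = b (a y) := by
    rw [hy, ← MulAut.mul_apply, MulAut.apply_inv_self]
  have h3 : QuotientGroup.mk' Y x = QuotientGroup.mk' Y (⁅a, b⁆ x) := by
    rw [h1, hm _ (haX b y hyX), hl y hyX, ← zpow_mul, mul_comm, zpow_mul, ← hm y hyX,
      ← hl _ (haX a y hyX), ← h2]
  rw [QuotientGroup.mk'_apply, QuotientGroup.mk'_apply, QuotientGroup.eq] at h3
  exact h3

theorem pow_sub_one_mem_factorKer {R : Type*} [Group R] {p : ℕ} [hp : Fact p.Prime]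
    {X Y : Subgroup R} [hX : X.Characteristic] [hY : Y.Characteristic]
    (hXY : Y.relIndex X ∣ p) (a : MulAut R) : a ^ (p - 1) ∈ factorKer X Y := by
  obtain ⟨m, hm⟩ := exists_power_map hXY a
  have haX : ∀ a : MulAut R, ∀ x ∈ X, a x ∈ X :=
    fun a x hx => (characteristic_iff_le_comap.mp hX a) hx
  have hpow : ∀ n : ℕ, ∀ x ∈ X, QuotientGroup.mk' Y ((a ^ n) x) = (QuotientGroup.mk' Y x) ^ (m ^ n) := by
    intro n
    induction n with
    | zero => intro x _; simp
    | succ n ih =>
      intro x hx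
      rw [pow_succ', MulAut.mul_apply, hm _ (haX _ x hx), ih x hx, ← zpow_mul, ← pow_succ]
  have hp1 : ∀ x ∈ X, (QuotientGroup.mk' Y x) ^ p = 1 := by
    intro x hx
    rw [← map_pow, QuotientGroup.mk'_apply, QuotientGroup.eq_one_iff]
    have h1 : x ^ (Y.relIndex X) ∈ Y := by
      have h2 := pow_index_mem (Y.subgroupOf X) ⟨x, hx⟩
      exact h2
    obtain ⟨k, hk⟩ := hXY
    rw [hk, pow_mul]
    exact Y.pow_mem h1 k
  rw [mem_factorKer]
  intro x hx
  have h3 : QuotientGroup.mk' Y x = QuotientGroup.mk' Y ((a ^ (p - 1)) x) := by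
    rw [hpow _ x hx]
    by_cases hpm : (p : ℤ) ∣ m
    · -- then `a x ∈ Y` hence `x ∈ Y`
      obtain ⟨k, hk⟩ := hpm
      have h4 : QuotientGroup.mk' Y (a x) = 1 := by
        rw [hm x hx, hk, zpow_mul, zpow_natCast, hp1 x hx, one_zpow]
      rw [QuotientGroup.mk'_apply, QuotientGroup.eq_one_iff] at h4
      have h5 : x ∈ Y := by
        have h6 := (characteristic_iff_le_comap.mp hY a⁻¹) h4
        have h7 : a⁻¹ (a x) = x := MulAut.inv_apply_self R a x
        have h8 : a⁻¹ (a x) ∈ Y := h6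
        rwa [h7] at h8
      have h9 : QuotientGroup.mk' Y x = 1 := (QuotientGroup.eq_one_iff x).mpr h5
      rw [h9, one_zpow]
    · have h4 : (m : ZMod p) ≠ 0 := by
        rwa [Ne, ZMod.intCast_zmod_eq_zero_iff_dvd]
      have h5 : ((m ^ (p - 1) : ℤ) : ZMod p) = ((1 : ℤ) : ZMod p) := by
        push_cast
        exact ZMod.pow_card_sub_one_eq_one h4
      rw [ZMod.intCast_eq_intCast_iff_dvd_sub] at h5
      obtain ⟨k, hk⟩ := h5
      have h6 : (m ^ (p - 1) : ℤ) = 1 - p * k := by linarith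
      rw [h6, zpow_sub, zpow_one, zpow_mul, zpow_natCast, hp1 x hx, one_zpow, inv_one, mul_one]
  rw [QuotientGroup.mk'_apply, QuotientGroup.mk'_apply, QuotientGroup.eq] at h3
  exact h3

/-- Counting commutators with a fixed element. -/
theorem card_le_mul_of_commutator_mem {R : Type*} [Group R] [Finite R] (X K : Subgroup R) (s : R)
    (h : ∀ x ∈ X, x * s * x⁻¹ * s⁻¹ ∈ K) :
    Nat.card X ≤ Nat.card (X ⊓ centralizer {s} : Subgroup R) * Nat.card K := by
  set C := (centralizer ({s} : Set R)).subgroupOf X with hC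
  have h1 : Nat.card X = Nat.card C * C.index := (card_mul_index C).symm
  have h2 : Nat.card C = Nat.card (X ⊓ centralizer {s} : Subgroup R) := by
    rw [inf_comm, ← subgroupOf_map_subtype]
    exact (card_map_of_injective X.subtype_injective).symm
  rw [h1, h2]
  refine Nat.mul_le_mul_left _ ?_
  have hkey : ∀ x y : X, x⁻¹ * y ∈ C ↔ (x : R) * s * (x : R)⁻¹ * s⁻¹ = y * s * (y : R)⁻¹ * s⁻¹ := by
    intro x y
    rw [hC, mem_subgroupOf, mem_centralizer_singleton_iff]
    push_cast
    constructor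
    · intro h3
      have h4 : (x : R) * (((x : R)⁻¹ * y) * s) * (y : R)⁻¹ = x * (s * ((x : R)⁻¹ * y)) * (y : R)⁻¹ := by
        rw [h3]
      have h5 : (y : R) * s * (y : R)⁻¹ = x * s * (x : R)⁻¹ := by
        calc (y : R) * s * (y : R)⁻¹ = (x : R) * (((x : R)⁻¹ * y) * s) * (y : R)⁻¹ := by group
          _ = x * (s * ((x : R)⁻¹ * y)) * (y : R)⁻¹ := h4
          _ = x * s * (x : R)⁻¹ := by group
      rw [h5]
    · intro h3
      have h4 : (x : R) * s * (x : R)⁻¹ = y * s * (y : R)⁻¹ := mul_right_cancel h3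
      calc (x : R)⁻¹ * y * s = (x : R)⁻¹ * (y * s * (y : R)⁻¹) * y := by group
        _ = (x : R)⁻¹ * (x * s * (x : R)⁻¹) * y := by rw [h4]
        _ = s * ((x : R)⁻¹ * y) := by group
  let f : X ⧸ C → K := Quotient.lift (fun x : X => (⟨(x : R) * s * (x : R)⁻¹ * s⁻¹, h x x.2⟩ : K))
    (by
      intro x y hxy
      have h3 : x⁻¹ * y ∈ C := QuotientGroup.leftRel_apply.mp hxy
      exact Subtype.ext ((hkey x y).mp h3))
  have hf : Function.Injective f := by
    intro u v
    induction u using QuotientGroup.induction_on with | H x =>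
    induction v using QuotientGroup.induction_on with | H y =>
    intro huv
    rw [QuotientGroup.eq, hkey x y]
    exact congrArg Subtype.val huv
  exact Nat.card_le_card_of_injective f hf

/-! ### The chain -/

/-- `X ⊇ [X, R] ⊇ [X, R, R] ⊇ ⋯`. -/
def chain {R : Type*} [Group R] (X : Subgroup R) : ℕ → Subgroup R
  | 0 => X
  | n + 1 => ⁅chain X n, (⊤ : Subgroup R)⁆

theorem chain_zero {R : Type*} [Group R] (X : Subgroup R) : chain X 0 = X := rfl

theorem chain_succ {R : Type*} [Group R] (X : Subgroup R) (n : ℕ) :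
    chain X (n + 1) = ⁅chain X n, (⊤ : Subgroup R)⁆ := rfl

theorem chain_characteristic {R : Type*} [Group R] (X : Subgroup R) [hX : X.Characteristic] (n : ℕ) :
    (chain X n).Characteristic := by
  induction n with
  | zero => exact hX
  | succ n ih =>
    rw [chain_succ]
    haveI := ih
    infer_instance

theorem chain_succ_le {R : Type*} [Group R] (X : Subgroup R) [hX : X.Characteristic] (n : ℕ) :
    chain X (n + 1) ≤ chain X n := by
  haveI := chain_characteristic X n
  exact commutator_le_left _ _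

theorem chain_le {R : Type*} [Group R] (X : Subgroup R) [hX : X.Characteristic] (n : ℕ) :
    chain X n ≤ X := by
  induction n with
  | zero => exact le_rfl
  | succ n ih => exact (chain_succ_le X n).trans ih

theorem exists_chain_eq_bot {R : Type*} [Group R] [Group.IsNilpotent R] (X : Subgroup R) :
    ∃ n, chain X n = ⊥ := by
  obtain ⟨n, hn⟩ := Subgroup.nilpotent_iff_lowerCentralSeries.mp (inferInstance : Group.IsNilpotent R)
  refine ⟨n, ?_⟩
  rw [eq_bot_iff, ← hn]
  clear hn
  induction n with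
  | zero => exact le_top
  | succ n ih => exact commutator_mono ih le_rfl

theorem inf_characteristic {R : Type*} [Group R] {X Y : Subgroup R} (hX : X.Characteristic)
    (hY : Y.Characteristic) : (X ⊓ Y).Characteristic := by
  rw [characteristic_iff_le_comap] at *
  intro a x hx
  exact ⟨hX a hx.1, hY a hx.2⟩

/-- In a narrow `p`-group of rank at least three, the factors of the chain are of order `1` or `p`. -/
theorem relIndex_chain_dvd {R : Type*} [Group R] [Finite R] {p : ℕ} [hp : Fact p.Prime]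
    (hR : IsPGroup p R) {S T X : Subgroup R} (hS : Nat.card S = p)
    (hcyc : IsCyclic ↥(T ⊓ centralizer (S : Set R))) [hX : X.Characteristic] (hXT : X ≤ T)
    (hXp : ∀ x ∈ X, x ^ p = 1) (n : ℕ) : (chain X (n + 1)).relIndex (chain X n) ∣ p := by
  haveI := chain_characteristic X n
  -- a generator of `S`
  obtain ⟨s, hs⟩ : ∃ s : R, centralizer ({s} : Set R) ≤ centralizer (S : Set R) := by
    haveI := isCyclic_of_prime_card hS
    obtain ⟨g, hg⟩ := IsCyclic.exists_generator (α := S)
    refine ⟨g, fun x hx => ?_⟩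
    rw [mem_centralizer_singleton_iff] at hx
    rw [mem_centralizer_iff]
    intro t ht
    obtain ⟨k, hk⟩ := hg ⟨t, ht⟩
    have hk' : (g : R) ^ k = t := congrArg Subtype.val hk
    rw [← hk']
    have h1 : Commute (g : R) x := hx.symm
    exact (h1.zpow_left k).eq
  have h1 : Nat.card (chain X n ⊓ centralizer {s} : Subgroup R) ≤ p := by
    refine le_trans ?_ (card_pow_eq_one_le hcyc hp.out.pos)
    refine Nat.card_le_card_of_injective (fun x => ⟨⟨x, hXT (chain_le X n x.2.1), hs x.2.2⟩,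
      Subtype.ext (hXp x (chain_le X n x.2.1))⟩) ?_
    intro x y hxy
    have h2 := congrArg (fun z => ((z : ↥(T ⊓ centralizer (S : Set R))) : R)) (Subtype.mk.inj hxy)
    exact Subtype.ext h2
  have h2 := card_le_mul_of_commutator_mem (chain X n) (chain X (n + 1)) s (fun x hx => by
    rw [chain_succ]
    exact commutator_mem_commutator hx (mem_top s))
  have h3 : Nat.card (chain X (n + 1)) * (chain X (n + 1)).relIndex (chain X n) =
      Nat.card (chain X n) := by
    have := relIndex_mul_relIndex ⊥ _ _ bot_le (chain_succ_le X n)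
    rwa [relIndex_bot_left, relIndex_bot_left] at this
  have h4 : (chain X (n + 1)).relIndex (chain X n) ≤ p := by
    have h5 : Nat.card (chain X (n + 1)) * (chain X (n + 1)).relIndex (chain X n) ≤
        Nat.card (chain X (n + 1)) * p := by
      rw [h3]
      exact h2.trans (by rw [mul_comm]; exact Nat.mul_le_mul_left _ h1)
    exact Nat.le_of_mul_le_mul_left h5 Nat.card_pos
  have h5 : (chain X (n + 1)).relIndex (chain X n) ∣ Nat.card (chain X n) :=
    relIndex_dvd_card _ _
  obtain ⟨m, hm⟩ := IsPGroup.iff_card.mp (hR.to_subgroup (chain X n))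
  rw [hm] at h5
  obtain ⟨k, -, hk⟩ := (Nat.dvd_prime_pow hp.out).mp h5
  rw [hk] at h4 ⊢
  have h6 : k ≤ 1 := by
    by_contra hcon
    have h7 : p ^ 2 ≤ p ^ k := Nat.pow_le_pow_right hp.out.pos (by omega)
    have h8 : p ^ 2 ≤ p ^ 1 := by rw [pow_one]; exact h7.trans h4
    have h9 := (Nat.pow_le_pow_iff_right hp.out.one_lt).mp h8
    omega
  calc p ^ k ∣ p ^ 1 := pow_dvd_pow p h6
    _ = p := pow_one p

/-- `a` fixes `H` if it stabilizes the chain and has order prime to `p`. -/
theorem fix_of_mem_chain {R : Type*} [Group R] {p : ℕ} (hR : IsPGroup p R) {X : Subgroup R}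
    {n : ℕ} (hn : chain X n = ⊥) {a : MulAut R}
    (ha : (orderOf a).Coprime p) (hfix : ∀ n, ∀ x ∈ chain X n, x⁻¹ * a x ∈ chain X (n + 1)) :
    ∀ x ∈ X, a x = x := by
  have key : ∀ k ≤ n, ∀ x ∈ chain X (n - k), a x = x := by
    intro k
    induction k with
    | zero =>
      intro _ x hx
      rw [Nat.sub_zero, hn, mem_bot] at hx
      rw [hx, map_one]
    | succ k ih =>
      intro hk x hx
      apply OmegaCritical.fix_of_fix_div hR a ha
      apply ih (by omega)
      have h1 := hfix _ x hx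
      have h2 : n - (k + 1) + 1 = n - k := by omega
      rwa [h2] at h1
  intro x hx
  exact key n le_rfl x (by rwa [Nat.sub_self])

/-- The main construction: a `p`-subgroup of `Aut R` containing all commutators and all
`(p - 1)`-st powers. -/
theorem exists_pGroup_ge {R : Type*} [Group R] [Finite R] (p : ℕ) [hp : Fact p.Prime]
    (hp2 : p ≠ 2) (hR : IsPGroup p R) (hn : Cfsg.IsNarrow p R) (hr : ¬ Cfsg.PRankLE p 2 R) :
    ∃ K : Subgroup (MulAut R), IsPGroup p K ∧ commutator (MulAut R) ≤ K ∧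
      ∀ a : MulAut R, a ^ (p - 1) ∈ K := by
  obtain ⟨S, T, hS, hT, hTi, hST, -, hcyc⟩ := exists_narrow_structure p hp2 hR hn hr
  obtain ⟨H, hH, hHp, -, hcrit⟩ := OmegaCritical.exists_omega_critical hp2 hR
  haveI := hR.isNilpotent
  set X := H ⊓ T with hXdef
  haveI hX : X.Characteristic := inf_characteristic hH hT
  haveI hXc : ∀ n, (chain X n).Characteristic := chain_characteristic X
  obtain ⟨n, hn⟩ := exists_chain_eq_bot X
  have hidx : ∀ n, (chain X (n + 1)).relIndex (chain X n) ∣ p :=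
    relIndex_chain_dvd hR hS hcyc inf_le_right (fun x hx => hHp x hx.1)
  have hidx0 : X.relIndex H ∣ p := by
    rw [hXdef, inf_relIndex_left, ← hTi]
    haveI : T.Normal := inferInstance
    exact relIndex_dvd_index_of_normal T H
  set K : Subgroup (MulAut R) := factorKer H X ⊓ ⨅ n, factorKer (chain X n) (chain X (n + 1))
    with hKdef
  have hKmem : ∀ a ∈ K, (∀ x ∈ H, x⁻¹ * a x ∈ X) ∧
      ∀ n, ∀ x ∈ chain X n, x⁻¹ * a x ∈ chain X (n + 1) := by
    intro a ha
    refine ⟨ha.1, fun n => ?_⟩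
    exact (mem_iInf.mp ha.2 n)
  have hKfix : ∀ a ∈ K, (orderOf a).Coprime p → a = 1 := by
    intro a ha hac
    obtain ⟨h1, h2⟩ := hKmem a ha
    refine hcrit a hac fun x hx => ?_
    apply OmegaCritical.fix_of_fix_div hR a hac
    exact fix_of_mem_chain hR hn hac h2 _ (h1 x hx)
  refine ⟨K, ?_, ?_, ?_⟩
  · rintro ⟨a, ha⟩
    obtain ⟨k, m, hm, hkm⟩ := Nat.exists_eq_pow_mul_and_not_dvd (orderOf_pos a).ne' p hp.out.ne_one
    refine ⟨k, Subtype.ext ?_⟩
    show a ^ p ^ k = 1
    apply hKfix _ (K.pow_mem ha _)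
    rw [orderOf_pow, hkm]
    have hpk : 0 < p ^ k := pow_pos hp.out.pos k
    rw [Nat.gcd_eq_right (Dvd.intro _ rfl), Nat.mul_div_cancel_left _ hpk]
    exact ((Nat.Prime.coprime_iff_not_dvd hp.out).mpr hm).symm
  · refine le_inf (commutator_le_factorKer hidx0) (le_iInf fun n => commutator_le_factorKer (hidx n))
  · intro a
    refine ⟨pow_sub_one_mem_factorKer hidx0 a, mem_iInf.mpr fun n => pow_sub_one_mem_factorKer (hidx n) a⟩

/-- B&G Theorem 5.5(a), rank at least three: `Aut(R)'` is a `p`-group. -/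
theorem commutator_mulAut_isPGroup {R : Type*} [Group R] [Finite R] (p : ℕ) [hp : Fact p.Prime]
    (hp2 : p ≠ 2) (hR : IsPGroup p R) (hn : Cfsg.IsNarrow p R) (hr : ¬ Cfsg.PRankLE p 2 R) :
    IsPGroup p (commutator (MulAut R)) := by
  obtain ⟨K, hK, hK1, -⟩ := exists_pGroup_ge p hp2 hR hn hr
  exact hK.to_le hK1

/-- B&G Theorem 5.5(b), rank at least three: `p'`-automorphisms have order dividing `p - 1`. -/
theorem mulAut_pow_sub_one_eq_one {R : Type*} [Group R] [Finite R] (p : ℕ) [hp : Fact p.Prime]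
    (hp2 : p ≠ 2) (hR : IsPGroup p R) (hn : Cfsg.IsNarrow p R) (hr : ¬ Cfsg.PRankLE p 2 R)
    (a : MulAut R) (ha : (orderOf a).Coprime p) : a ^ (p - 1) = 1 := by
  obtain ⟨K, hK, -, hK2⟩ := exists_pGroup_ge p hp2 hR hn hr
  obtain ⟨k, hk⟩ := hK ⟨_, hK2 a⟩
  have hk' : (a ^ (p - 1)) ^ p ^ k = 1 := congrArg Subtype.val hk
  have h1 : orderOf (a ^ (p - 1)) ∣ p ^ k := orderOf_dvd_of_pow_eq_one hk'
  have h2 : orderOf (a ^ (p - 1)) ∣ orderOf a := orderOf_pow_dvd _
  have h3 := Nat.eq_one_of_dvd_coprimes (Nat.Coprime.pow_right k ha) h2 h1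
  exact orderOf_eq_one_iff.mp h3

end Cfsg.Agent.OddOrderLocal.NarrowAut
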