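import Mathlib
import Cfsg.Prelude.Def_OddOrderLocal
import Cfsg.Prelude.Def_Local
import Cfsg.Agent.OddOrderLocal.MinSimpleBasic
import Cfsg.Agent.OddOrderLocal.Rank
import Cfsg.Agent.OddOrderLocal.Narrow
import Cfsg.Agent.OddOrderLocal.NilpotentQuotient
import Cfsg.Agent.Lib.NormalHall
import Cfsg.Agent.OddOrderLocal.PiCore
import Cfsg.Agent.OddOrderLocal.SigmaDer
import Cfsg.Agent.S1350
import Cfsg.Agent.S1405
import Cfsg.Agent.S1410
import Cfsg.Agent.S1455

/-!
B & G, Lemma 10.8.
-/

set_option autoImplicit false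
set_option linter.style.haveILetI false

namespace Cfsg.Agent.OddOrderLocal.Sec10_8

open Cfsg Cfsg.Agent.OddOrderLocal

universe u

variable {G : Type u} [Group G]

/-- a prime of `α(M)` divides the order of `M`. -/
theorem dvd_card_of_mem_alpha [Finite G] {M : Subgroup G} {p : ℕ} (hp : p ∈ alpha M) : p ∣ Nat.card M := by
  haveI : Fact p.Prime := ⟨hp.1⟩
  exact Rank.dvd_card_of_not_pRankLE hp.2

/-- `α(M) ⊆ σ(M)`. -/
theorem alpha_subset_sigma [Finite G] (hG : IsMinSimpleOddOrder G) {M : Subgroup G} (hM : IsCoatom M) :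
    alpha M ⊆ sigma M := by
  intro p hp
  obtain ⟨h1, -, h3, -, -⟩ := Cfsg.Agent.S1405.result hG M hM
  have hd : p ∣ Nat.card M := dvd_card_of_mem_alpha hp
  have h4 : p ∣ Nat.card (alphaCore M) := by
    have h5 : Nat.card (alphaCore M) * (alphaCore M).relIndex M = Nat.card M := by
      have := Subgroup.relIndex_mul_relIndex (⊥ : Subgroup G) (alphaCore M) M bot_le h1.1
      simpa using this
    rw [← h5] at hd
    rcases (hp.1.dvd_mul).mp hd with h | h
    · exact h
    · exact absurd h (h1.2.2 p hp.1 hp)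
  exact (Cfsg.Agent.S1350.result hG M hM).1.2.1 p hp.1 (h4.trans (Subgroup.card_dvd_of_le h3))

theorem beta_subset_alpha (M : Subgroup G) : beta M ⊆ alpha M := fun _ hp => hp.1

theorem beta_subset_sigma [Finite G] (hG : IsMinSimpleOddOrder G) {M : Subgroup G} (hM : IsCoatom M) :
    beta M ⊆ sigma M := (beta_subset_alpha M).trans (alpha_subset_sigma hG hM)

theorem prime_of_mem_beta {M : Subgroup G} {p : ℕ} (hp : p ∈ beta M) : p.Prime := hp.1.1

/-- Two Sylow subgroups of `G` are isomorphic; version with a Sylow subgroup of `M` whose order is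
the full power of `p`. -/
theorem nonempty_mulEquiv_of_not_dvd_index [Finite G] {M : Subgroup G} {p : ℕ} [hp : Fact p.Prime]
    (hi : ¬ p ∣ M.index) (S : Sylow p M) (P : Sylow p G) : Nonempty ((P : Subgroup G) ≃* (S : Subgroup M)) := by
  have hSp : IsPGroup p ((S : Subgroup M).map M.subtype) := S.isPGroup'.map _
  have hSi : ¬ p ∣ ((S : Subgroup M).map M.subtype).index := by
    rw [Subgroup.index_map_subtype]
    intro h
    rcases (hp.out.dvd_mul).mp h with h | h
    · exact S.not_dvd_index h
    · exact hi h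
  let T : Sylow p G := hSp.toSylow hSi
  have e1 : (P : Subgroup G) ≃* (T : Subgroup G) := P.equiv T
  have e2 : (S : Subgroup M) ≃* ((S : Subgroup M).map M.subtype : Subgroup G) :=
    (S : Subgroup M).equivMapOfInjective M.subtype (Subgroup.subtype_injective M)
  exact ⟨e1.trans e2.symm⟩

/-- For `p ∉ β(M)` the Sylow `p`-subgroups of `M` are narrow. -/
theorem isNarrow_sylow [Finite G] (hG : IsMinSimpleOddOrder G) {M : Subgroup G} (hM : IsCoatom M) {p : ℕ}
    [hp : Fact p.Prime] (hpM : p ∣ Nat.card M) (hpb : p ∉ beta M) (S : Sylow p M) :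
    IsNarrow p (S : Subgroup M) := by
  by_cases hr : PRankLE p 2 M
  · exact Or.inl ((Rank.pRankLE_sylow S).mpr hr)
  have hpa : p ∈ alpha M := ⟨hp.out, hr⟩
  have hni : ¬ IsIdealPrime p G := fun h => hpb ⟨hpa, h⟩
  have hrG : ¬ PRankLE p 2 G := fun h => hr (Rank.pRankLE_subgroup h)
  have hp2 : p ≠ 2 := MinSimpleBasic.prime_ne_two_of_dvd hG (hpM.trans (Subgroup.card_subgroup_dvd_card M))
  -- a maximal elementary abelian subgroup of order p² of a Sylow subgroup
  have h1 : ∃ (P : Sylow p G) (A : Subgroup G), A ≤ (P : Subgroup G) ∧ IsElementaryAbelian p A ∧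
      Nat.card A = p ^ 2 ∧ ∀ B : Subgroup G, B ≤ (P : Subgroup G) → IsElementaryAbelian p B → ¬ A < B := by
    by_contra hcon
    apply hni
    refine ⟨hp.out, hrG, ?_⟩
    intro P A hAP hA hA2
    by_contra hcon2
    apply hcon
    refine ⟨P, A, hAP, hA, hA2, ?_⟩
    intro B hBP hB hAB
    exact hcon2 ⟨B, hBP, hB, hAB⟩
  obtain ⟨P, A, hAP, hA, hA2, hAmax⟩ := h1
  have hPn : IsNarrow p (P : Subgroup G) := by
    have hcard : Nat.card (A.subgroupOf (P : Subgroup G)) = Nat.card A :=
      Nat.card_congr (Subgroup.subgroupOfEquivOfLe hAP).toEquiv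
    refine Narrow.isNarrow_of_maximal_elementary p hp2 P.isPGroup' (A.subgroupOf (P : Subgroup G))
      (Rank.elemAb_comap _ (Subgroup.subtype_injective _) hA) (by rw [hcard, hA2]) ?_
    intro B hB hAB
    have h2 : A ≤ B.map (P : Subgroup G).subtype := by
      have := Subgroup.map_mono (f := (P : Subgroup G).subtype) hAB
      rwa [Subgroup.map_subgroupOf_eq_of_le hAP] at this
    have h3 : A = B.map (P : Subgroup G).subtype := by
      by_contra hne
      exact hAmax _ (Subgroup.map_subtype_le B) (Rank.elemAb_map _ hB) (lt_of_le_of_ne h2 hne)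
    rw [h3, Subgroup.subgroupOf, Subgroup.comap_map_eq_self_of_injective
        (Subgroup.subtype_injective _)]
  -- transfer to M
  have hi : ¬ p ∣ M.index := SigmaBasic.not_dvd_index (alpha_subset_sigma hG hM hpa)
  obtain ⟨e⟩ := nonempty_mulEquiv_of_not_dvd_index hi S P
  exact Narrow.isNarrow_congr e hPn

theorem structure_of_not_mem_beta [Finite G] (hG : IsMinSimpleOddOrder G) {M : Subgroup G} (hM : IsCoatom M)
    {p : ℕ} [hp : Fact p.Prime] (hpM : p ∣ Nat.card M) (hpb : p ∉ beta M) :
    (∀ q : ℕ, q.Prime → q ∣ (pPrimeCore p M).index → q ≤ p) ∧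
      ((p = 3 ∨ ∀ q : ℕ, q.Prime → q ∣ Nat.card M → p ≤ q) → HasNormalPComplement p M) ∧
      HasNormalPComplement p ↥(commutator M) ∧
      (∀ L : Subgroup ↥(commutator M), (Nat.card L).Coprime p → L ≤ pPrimeCore p ↥(commutator M)) ∧
      commutator M ≤ pPrimePCore p M ∧ ((pPrimePCore p M).index).Coprime p := by
  haveI : Group.IsSolvable M := MinSimpleBasic.isSolvable_of_isCoatom hG hM
  exact Cfsg.Agent.S1455.result (MinSimpleBasic.odd_card_subgroup hG M) p hpM default
    (isNarrow_sylow hG hM hpM hpb _) (fun _ => Cfsg.Agent.S1410.result hG p M hM.1)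

/-- normal p-complements are inherited by subgroups and isomorphic groups. -/
theorem hasNormalPComplement_of_injective {X Y : Type*} [Group X] [Finite X] [Group Y] [Finite Y]
    {p : ℕ} [hp : Fact p.Prime] (f : Y →* X) (hf : Function.Injective f)
    (h : HasNormalPComplement p X) : HasNormalPComplement p Y := by
  obtain ⟨N, hN, h1, k, h2⟩ := NilpotentQuotient.exists_of_hasNormalPComplement h
  have h3 : (N.comap f).index ∣ p ^ k := by
    rw [Subgroup.index_comap, ← h2]
    exact Subgroup.relIndex_dvd_index_of_normal N f.range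
  obtain ⟨j, _, hj⟩ := (Nat.dvd_prime_pow hp.out).mp h3
  refine NilpotentQuotient.hasNormalPComplement_of_index (N.comap f) (hN.comap f) ?_ hj
  intro h4
  apply h1
  refine h4.trans ?_
  have h5 : Nat.card (N.comap f) = Nat.card ((N.comap f).map f) :=
    (Subgroup.card_map_of_injective hf).symm
  rw [h5]
  exact Subgroup.card_dvd_of_le (Subgroup.map_comap_le f N)

theorem hasNormalPComplement_derived [Finite G] (hG : IsMinSimpleOddOrder G) {M : Subgroup G}
    (hM : IsCoatom M) {p : ℕ} [hp : Fact p.Prime] (hpM : p ∣ Nat.card M) (hpb : p ∉ beta M) :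
    HasNormalPComplement p ↥⁅M, M⁆ :=
  hasNormalPComplement_of_injective (SigmaDer.commutatorEquiv M).symm.toMonoidHom
    (SigmaDer.commutatorEquiv M).symm.injective (structure_of_not_mem_beta hG hM hpM hpb).2.2.1

theorem hasNormalPComplement_sigmaCore [Finite G] (hG : IsMinSimpleOddOrder G) {M : Subgroup G}
    (hM : IsCoatom M) {p : ℕ} [hp : Fact p.Prime] (hpM : p ∣ Nat.card M) (hpb : p ∉ beta M) :
    HasNormalPComplement p ↥(sigmaCore M) :=
  hasNormalPComplement_of_injective
    (Subgroup.inclusion (SigmaDer.sigmaCore_le_commutator hG M hM))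
    (Subgroup.inclusion_injective _) (hasNormalPComplement_derived hG hM hpM hpb)

/-- Any subgroup `X` of `M` all of whose `p`-complements exist, as subgroups of `G`. -/
theorem exists_hall_of_le [Finite G] {X : Subgroup G} (B : Set ℕ)
    (h : ∀ p : ℕ, p.Prime → p ∣ Nat.card X → p ∉ B → HasNormalPComplement p X) :
    ∃ K H : Subgroup G, K ≤ X ∧ X ≤ Subgroup.normalizer (K : Set G) ∧ IsPiHallOf B K X ∧
      (K.subgroupOf X).Characteristic ∧
      IsPiHallOf {q | q.Prime ∧ q ∉ B} H X ∧ Group.IsNilpotent H := by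
  obtain ⟨K, H, hK, h1, h2, h3, h4⟩ :=
    NilpotentQuotient.exists_normal_hall_and_nilpotent_complement B h
  have hcK : Nat.card (K.map X.subtype) = Nat.card K :=
    Subgroup.card_map_of_injective (Subgroup.subtype_injective X)
  have hcH : Nat.card (H.map X.subtype) = Nat.card H :=
    Subgroup.card_map_of_injective (Subgroup.subtype_injective X)
  have hrK : (K.map X.subtype).relIndex X = K.index := by
    rw [Subgroup.relIndex, Subgroup.subgroupOf, Subgroup.comap_map_eq_self_of_injective
        (Subgroup.subtype_injective _)]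
  have hrH : (H.map X.subtype).relIndex X = H.index := by
    rw [Subgroup.relIndex, Subgroup.subgroupOf, Subgroup.comap_map_eq_self_of_injective
        (Subgroup.subtype_injective _)]
  have hcop : (Nat.card K).Coprime K.index := by
    apply Nat.Coprime.symm
    apply Nat.coprime_of_dvd
    intro q hq hqi hqK
    exact h2 q hq hqi (h1 q hq hqK)
  refine ⟨K.map X.subtype, H.map X.subtype, Subgroup.map_subtype_le _, ?_, ?_, ?_, ?_, ?_⟩
  · intro x hx
    rw [Subgroup.mem_normalizer_iff]
    intro g
    constructor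
    · rintro ⟨k, hk, rfl⟩
      exact ⟨(⟨x, hx⟩ : X) * k * (⟨x, hx⟩ : X)⁻¹, hK.conj_mem k hk _, rfl⟩
    · rintro ⟨k, hk, hkg⟩
      refine ⟨(⟨x, hx⟩ : X)⁻¹ * k * (⟨x, hx⟩ : X), ?_, ?_⟩
      · have := hK.conj_mem k hk (⟨x, hx⟩ : X)⁻¹
        simpa using this
      · have hkg' : (k : G) = x * g * x⁻¹ := hkg
        simp [hkg', mul_assoc]
  · refine ⟨Subgroup.map_subtype_le _, ?_, ?_⟩
    · intro q hq hd
      rw [hcK] at hd
      exact h1 q hq hd
    · intro q hq hqB hd
      rw [hrK] at hd
      exact h2 q hq hd hqB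
  · rw [Subgroup.subgroupOf, Subgroup.comap_map_eq_self_of_injective (Subgroup.subtype_injective _)]
    exact Cfsg.Agent.Lib.NormalHall.characteristic_of_coprime K hcop
  · refine ⟨Subgroup.map_subtype_le _, ?_, ?_⟩
    · intro q hq hd
      rw [hcH, ← h3.symm.index_eq_card] at hd
      exact ⟨hq, h2 q hq hd⟩
    · intro q hq hqB hd
      rw [hrH, h3.index_eq_card] at hd
      exact hqB.2 (h1 q hq hd)
  · haveI := h4
    exact (Group.isNilpotent_congr
      (H.equivMapOfInjective X.subtype (Subgroup.subtype_injective X))).mp h4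

/-- the index of `O_{β(M)}(M)` in `M` is prime to every prime of `β(M)`. -/
theorem not_dvd_index_piCore_beta [Finite G] (hG : IsMinSimpleOddOrder G) {M : Subgroup G}
    (hM : IsCoatom M) {p : ℕ} (hp : p ∈ beta M) : ¬ p ∣ (piCore (beta M) M).index := by
  have h : ∀ q : ℕ, q.Prime → q ∣ Nat.card (piCore (sigma M) M) → q ∉ beta M →
      HasNormalPComplement q ↥(piCore (sigma M) M) := by
    intro q hq hqd hqb
    haveI : Fact q.Prime := ⟨hq⟩
    exact hasNormalPComplement_of_injective
      (Subgroup.inclusion (SigmaDer.piCore_sigma_le_commutator hG M hM))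
      (Subgroup.inclusion_injective _)
      (structure_of_not_mem_beta hG hM (hqd.trans (Subgroup.card_subgroup_dvd_card _)) hqb).2.2.1
  obtain ⟨K, hK, h1, h2, -⟩ := NilpotentQuotient.exists_normal_hall (beta M) h
  have hcop : (Nat.card K).Coprime K.index := by
    apply Nat.Coprime.symm
    apply Nat.coprime_of_dvd
    intro q hq hqi hqK
    exact h2 q hq hqi (h1 q hq hqK)
  have hKn := Cfsg.Agent.Lib.NormalHall.normal_map_subtype_of_coprime (piCore (sigma M) M) K hcop
  have hcK : Nat.card (K.map (piCore (sigma M) M).subtype) = Nat.card K :=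
    Subgroup.card_map_of_injective (Subgroup.subtype_injective _)
  have hle : K.map (piCore (sigma M) M).subtype ≤ piCore (beta M) M :=
    PiCore.le_piCore hKn (fun q hq hd => h1 q hq (hcK ▸ hd))
  intro hd
  have hpp := prime_of_mem_beta hp
  have h3 := hd.trans (Subgroup.index_dvd_of_le hle)
  rw [Subgroup.index_map_subtype] at h3
  rcases (hpp.dvd_mul).mp h3 with h4 | h4
  · exact h2 p hpp h4 hp
  · have h5 := (Cfsg.Agent.S1350.result hG M hM).1.2.2 p hpp (beta_subset_sigma hG hM hp)
    apply h5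
    have h6 : (sigmaCore M).relIndex M = (piCore (sigma M) M).index := by
      have h7 : sigmaCore M = (piCore (sigma M) M).map M.subtype := rfl
      rw [Subgroup.relIndex, h7, Subgroup.subgroupOf, Subgroup.comap_map_eq_self_of_injective
        (Subgroup.subtype_injective M)]
    rw [h6]
    exact h4

/-- **B & G, Lemma 10.8 (a).** -/
theorem isPiHallOf_piCoreOf_beta [Finite G] (hG : IsMinSimpleOddOrder G) {M : Subgroup G}
    (hM : IsCoatom M) : IsPiHallOf (beta M) (piCoreOf (beta M) M) M := by
  have hc : Nat.card (piCoreOf (beta M) M) = Nat.card (piCore (beta M) M) :=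
    Subgroup.card_map_of_injective (Subgroup.subtype_injective M)
  refine ⟨Subgroup.map_subtype_le _, ?_, ?_⟩
  · intro q hq hd
    rw [hc] at hd
    exact PiCore.piCore_isPi _ q hq hd
  · intro q hq hqb hd
    apply not_dvd_index_piCore_beta hG hM hqb
    have h7 : piCoreOf (beta M) M = (piCore (beta M) M).map M.subtype := rfl
    rwa [Subgroup.relIndex, h7, Subgroup.subgroupOf, Subgroup.comap_map_eq_self_of_injective
        (Subgroup.subtype_injective M)] at hd

/-- **B & G, Lemma 10.8 (a).** -/
theorem isPiHall_piCoreOf_beta [Finite G] (hG : IsMinSimpleOddOrder G) {M : Subgroup G}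
    (hM : IsCoatom M) : IsPiHall (beta M) (piCoreOf (beta M) M) := by
  have hc : Nat.card (piCoreOf (beta M) M) = Nat.card (piCore (beta M) M) :=
    Subgroup.card_map_of_injective (Subgroup.subtype_injective M)
  refine ⟨(isPiHallOf_piCoreOf_beta hG hM).2.1, ?_⟩
  intro q hq hqb hd
  have h1 : (piCoreOf (beta M) M).index = (piCore (beta M) M).index * M.index :=
    Subgroup.index_map_subtype _
  rw [h1] at hd
  rcases (hq.dvd_mul).mp hd with h | h
  · exact not_dvd_index_piCore_beta hG hM hqb h
  · exact SigmaBasic.not_dvd_index (beta_subset_sigma hG hM hqb) h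

/-- **B & G, Lemma 10.8 (b).** -/
theorem exists_nilpotent_hall_derived [Finite G] (hG : IsMinSimpleOddOrder G) {M : Subgroup G}
    (hM : IsCoatom M) :
    ∃ H : Subgroup G, IsPiHallOf {q | q.Prime ∧ q ∉ beta M} H ⁅M, M⁆ ∧ Group.IsNilpotent H := by
  obtain ⟨K, H, -, -, -, -, h5, h6⟩ := exists_hall_of_le (X := ⁅M, M⁆) (beta M)
    (fun q hq hqd hqb => by
      haveI : Fact q.Prime := ⟨hq⟩
      exact hasNormalPComplement_derived hG hM (hqd.trans (Subgroup.card_dvd_of_le
        (Subgroup.commutator_le_self M))) hqb)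
  exact ⟨H, h5, h6⟩

/-- **B & G, Lemma 10.8 (b).** -/
theorem exists_nilpotent_hall_sigmaCore [Finite G] (hG : IsMinSimpleOddOrder G) {M : Subgroup G}
    (hM : IsCoatom M) :
    ∃ H : Subgroup G, IsPiHallOf {q | q.Prime ∧ q ∉ beta M} H (sigmaCore M) ∧
      Group.IsNilpotent H := by
  obtain ⟨K, H, -, -, -, -, h5, h6⟩ := exists_hall_of_le (X := sigmaCore M) (beta M)
    (fun q hq hqd hqb => by
      haveI : Fact q.Prime := ⟨hq⟩
      exact hasNormalPComplement_sigmaCore hG hM (hqd.trans (Subgroup.card_dvd_of_le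
        (Subgroup.map_subtype_le _))) hqb)
  exact ⟨H, h5, h6⟩

end Cfsg.Agent.OddOrderLocal.Sec10_8
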