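import Mathlib
import Cfsg.Prelude.Def_OddOrderLocal
import Cfsg.Agent.S1350
import Cfsg.Agent.S1392
import Cfsg.Agent.S1405
import Cfsg.Agent.S1409
import Cfsg.Agent.S1410
import Cfsg.Agent.S1414
import Cfsg.Agent.S1415
import Cfsg.Agent.OddOrderLocal.Thm34
import Cfsg.Agent.OddOrderLocal.FcoreChain
import Cfsg.Agent.OddOrderLocal.Sec11
import Cfsg.Agent.OddOrderLocal.IdealPrime
import Cfsg.Agent.OddOrderLocal.PLengthOne
import Cfsg.Agent.OddOrderLocal.AlphaCore
import Cfsg.Agent.OddOrderLocal.Transitivity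
import Cfsg.Agent.Lib.CoprimeAbelian
import Cfsg.Agent.Lib.NormalAbelian
import Cfsg.Agent.Lib.Cores
import Cfsg.Agent.S1442

/-!
# B&G, Theorem 11.7: `M_σ A ⊴ M` for an exceptional maximal subgroup `M`
-/

set_option autoImplicit false
set_option linter.unusedSectionVars false
set_option linter.style.haveILetI false

namespace Cfsg.Agent.OddOrderLocal.Sec11b

open Cfsg
open Subgroup (normalizer centralizer)
open Cfsg.Agent.OddOrderLocal.MinSimpleBasic
open Cfsg.Agent.OddOrderLocal.Sec11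

local notation:max M "^^[" g "]" => Subgroup.map (MulEquiv.toMonoidHom (MulAut.conj g)) M

universe u

variable {G : Type u} [Group G] [Finite G]

/-- `O_{p'}(E)` as a subgroup of the ambient group. -/
def core' (p : ℕ) (E : Subgroup G) : Subgroup G := (pPrimeCore p E).map E.subtype

theorem core'_def (p : ℕ) (E : Subgroup G) : core' p E = (pPrimeCore p E).map E.subtype := rfl

theorem core'_le (p : ℕ) (E : Subgroup G) : core' p E ≤ E := Subgroup.map_subtype_le _

theorem le_normalizer_core' (p : ℕ) (E : Subgroup G) : E ≤ normalizer (core' p E : Set G) := by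
  haveI : (pPrimeCore p E).Normal := Lib.Cores.pPrimeCore_normal p
  exact HallPi.le_normalizer_map_subtype (pPrimeCore p E)

theorem coprime_core' (p : ℕ) (E : Subgroup G) : (Nat.card (core' p E)).Coprime p := by
  rw [core'_def, Subgroup.card_map_of_injective E.subtype_injective]
  exact Lib.Cores.pPrimeCore_coprime p

theorem le_core' {p : ℕ} {E N : Subgroup G} (hNE : N ≤ E) (hEN : E ≤ normalizer (N : Set G))
    (hN : (Nat.card N).Coprime p) : N ≤ core' p E := by
  have h1 : (N.subgroupOf E).Normal := (Subgroup.normal_subgroupOf_iff_le_normalizer hNE).mpr hEN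
  have h2 : Nat.card (N.subgroupOf E) = Nat.card N :=
    Nat.card_congr (Subgroup.subgroupOfEquivOfLe hNE).toEquiv
  have h3 : N.subgroupOf E ≤ pPrimeCore p E := Lib.Cores.le_pPrimeCore h1 (by rwa [h2])
  have h4 := Subgroup.map_mono (f := E.subtype) h3
  rwa [Subgroup.map_subgroupOf_eq_of_le hNE] at h4

/-- A normal `r`-subgroup of `M` lies in every Sylow `r`-subgroup of `M`. -/
theorem le_sylow_of_le_normalizer {r : ℕ} [Fact r.Prime] {M R : Subgroup G} (hRM : R ≤ M)
    (hMR : M ≤ normalizer (R : Set G)) (hR : IsPGroup r R) (T : Sylow r M) :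
    R ≤ (T : Subgroup M).map M.subtype := by
  have h1 : (R.subgroupOf M).Normal := (Subgroup.normal_subgroupOf_iff_le_normalizer hRM).mpr hMR
  have h2 : IsPGroup r (R.subgroupOf M) :=
    hR.of_equiv (Subgroup.subgroupOfEquivOfLe hRM).symm
  have h3 : R.subgroupOf M ≤ (T : Subgroup M) :=
    (Lib.Cores.le_pCore h1 h2).trans (Lib.Cores.pCore_le_sylow T)
  have h4 := Subgroup.map_mono (f := M.subtype) h3
  rwa [Subgroup.map_subgroupOf_eq_of_le hRM] at h4

/-- `p`-length one factorization inside a subgroup `E`. -/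
theorem exists_factor {p : ℕ} [Fact p.Prime] {E : Subgroup G} (hE : PLengthLE p 1 E)
    (P : Sylow p E) {x : G} (hx : x ∈ E) :
    ∃ n ∈ normalizer (((P : Subgroup E).map E.subtype : Subgroup G) : Set G), n ∈ E ∧
      ∃ k ∈ core' p E, x = n * k := by
  obtain ⟨n, hn, k, hk, hnk⟩ := PLengthOne.exists_mul_of_pLengthLE_one hE P ⟨x, hx⟩
  refine ⟨n, ?_, n.2, k, Subgroup.mem_map_of_mem _ hk, ?_⟩
  · rw [Subgroup.mem_normalizer_iff] at hn ⊢
    intro y
    constructor
    · rintro ⟨y, hy, rfl⟩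
      exact ⟨n * y * n⁻¹, (hn y).mp hy, rfl⟩
    · intro hy
      obtain ⟨z, hz, hzy⟩ := hy
      have hyE : y ∈ E := by
        have h1 : (n : G) * y * (n : G)⁻¹ ∈ E := hzy ▸ z.2
        have h2 := E.mul_mem (E.mul_mem (E.inv_mem n.2) h1) n.2
        simpa [mul_assoc] using h2
      refine ⟨⟨y, hyE⟩, (hn ⟨y, hyE⟩).mpr ?_, rfl⟩
      have : (n * ⟨y, hyE⟩ * n⁻¹ : E) = z := Subtype.ext hzy.symm
      rw [this]; exact hz
  · exact (congrArg Subtype.val hnk).symm

theorem alpha_subset (hG : IsMinSimpleOddOrder G) {M : Subgroup G} (hM : IsCoatom M) {r : ℕ}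
    (hr : r ∈ alpha M) : r ∈ sigma M := by
  haveI : Fact r.Prime := ⟨hr.1⟩
  have h1 : r ∣ Nat.card M := Rank.dvd_card_of_not_pRankLE hr.2
  obtain ⟨h2, -, h3, -⟩ := Cfsg.Agent.S1405.result hG M hM
  have h4 := HallPi.prime_dvd_card h2 hr.1 hr h1
  exact prime_dvd_sigmaCore hG hM hr.1 (h4.trans (Subgroup.card_dvd_of_le h3))

theorem pRankLE_two_of_notMem (hG : IsMinSimpleOddOrder G) {M : Subgroup G} (hM : IsCoatom M)
    {r : ℕ} [hr : Fact r.Prime] (hrσ : r ∉ sigma M) : PRankLE r 2 M := by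
  by_contra hcon
  exact hrσ (alpha_subset hG hM ⟨hr.out, hcon⟩)

/-- If the `p'`-core of `E` is centralized by `A` then `A` is normal in `E`. -/
theorem le_normalizer_of_le_centralizer_core (hG : IsMinSimpleOddOrder G) {M A₀ A : Subgroup G}
    (hM : IsCoatom M) {p : ℕ} [hpf : Fact p.Prime] (h : IsExceptional p M A₀ A) {E : Subgroup G}
    (hEM : E ≤ M) (hAE : A ≤ E) (hc : A ≤ centralizer (core' p E : Set G)) :
    E ≤ normalizer (A : Set G) := by
  have hE : E ≠ ⊤ := fun ht => hM.1 (top_le_iff.mp (ht ▸ hEM))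
  have hlen : PLengthLE p 1 E := Cfsg.Agent.S1410.result hG p E hE
  obtain ⟨P, hAP⟩ := SigmaCoreBasic808.exists_sylow_ge (isPGroup h) hAE
  set P' : Subgroup G := (P : Subgroup E).map E.subtype with hP'
  have hP'p : IsPGroup p P' := P.isPGroup'.map _
  have hP'E : P' ≤ E := Subgroup.map_subtype_le _
  obtain ⟨PM, hPM⟩ := SigmaCoreBasic808.exists_sylow_ge hP'p (hP'E.trans hEM)
  have hmem := mem_iff_pow_eq_one hG hM h PM (hAP.trans hPM)
  intro e he
  obtain ⟨n, hn, hnE, k, hk, rfl⟩ := exists_factor hlen P he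
  have hkA : k ∈ normalizer (A : Set G) := by
    apply Subgroup.centralizer_le_normalizer
    rw [Subgroup.mem_centralizer_iff]
    intro a ha
    exact (Subgroup.mem_centralizer_iff.mp (hc ha) k hk).symm
  refine Subgroup.mul_mem _ ?_ hkA
  rw [mem_normalizer_iff_map_conj]
  apply Subgroup.eq_of_le_of_card_ge _ (by rw [card_map_conj])
  rintro _ ⟨a, ha, rfl⟩
  rw [← hP', mem_normalizer_iff_map_conj] at hn
  have h1 : (MulAut.conj n).toMonoidHom a ∈ P' := by
    rw [← hn]; exact Subgroup.mem_map_of_mem _ (hAP ha)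
  exact (hmem _ (hPM h1)).mp (by rw [← map_pow, h.elem.2 a ha, map_one])

/-! ### A normal subgroup of order `r` -/

/-- If `r ∉ σ(M)` then a nontrivial normal `r`-subgroup of `M` contains a normal subgroup of `M` of
order `r`, and it is central in it. -/
theorem exists_normal_order (hG : IsMinSimpleOddOrder G) {M : Subgroup G} (hM : IsCoatom M)
    {r : ℕ} [hr : Fact r.Prime] (hrσ : r ∉ sigma M) {R₀ : Subgroup G} (hR₀M : R₀ ≤ M)
    (hMR₀ : M ≤ normalizer (R₀ : Set G)) (hR₀ : IsPGroup r R₀) (hne : R₀ ≠ ⊥) :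
    ∃ X : Subgroup G, X ≤ R₀ ∧ Nat.card X = r ∧ M ≤ normalizer (X : Set G) ∧
      X ≤ centralizer (R₀ : Set G) := by
  have hlen : PLengthLE r 1 M := Cfsg.Agent.S1410.result hG r M hM.1
  have hrk := pRankLE_two_of_notMem hG hM hrσ
  obtain ⟨T⟩ : Nonempty (Sylow r M) := inferInstance
  set T₀ : Subgroup G := (T : Subgroup M).map M.subtype with hT₀
  have hT₀M : T₀ ≤ M := Subgroup.map_subtype_le _
  have hT₀r : IsPGroup r T₀ := T.isPGroup'.map _
  have hRT : R₀ ≤ T₀ := le_sylow_of_le_normalizer hR₀M hMR₀ hR₀ T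
  have hT₀ne : T₀ ≠ ⊥ := by
    intro hb
    exact hne (le_bot_iff.mp (hb ▸ hRT))
  set Ω : Subgroup G := IdealPrime.omegaCenter r T₀ ⊓ R₀ with hΩ
  have hmemΩ : ∀ x, x ∈ Ω ↔ (x ∈ T₀ ∧ x ∈ centralizer (T₀ : Set G) ∧ x ^ r = 1) ∧ x ∈ R₀ := by
    intro x
    rw [hΩ, Subgroup.mem_inf, IdealPrime.mem_omegaCenter]
  have hΩne : Ω ≠ ⊥ := by
    haveI := hT₀r.isNilpotent
    haveI : (R₀.subgroupOf T₀).Normal :=
      (Subgroup.normal_subgroupOf_iff_le_normalizer hRT).mpr (hT₀M.trans hMR₀)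
    have h1 : R₀.subgroupOf T₀ ⊓ Subgroup.center T₀ ≠ ⊥ := by
      apply Lib.NormalAbelian.normal_inf_center_ne_bot
      rwa [Ne, Subgroup.subgroupOf_eq_bot, disjoint_iff, inf_eq_left.mpr hRT]
    haveI : Nontrivial ↥(R₀.subgroupOf T₀ ⊓ Subgroup.center T₀) :=
      (Subgroup.nontrivial_iff_ne_bot _).mpr h1
    have h2 : IsPGroup r ↥(R₀.subgroupOf T₀ ⊓ Subgroup.center T₀) :=
      (hT₀r.to_subgroup _)
    obtain ⟨n, hn, hc⟩ := h2.nontrivial_iff_card.mp inferInstance
    obtain ⟨x, hx⟩ := exists_prime_orderOf_dvd_card' r (hc ▸ dvd_pow_self r hn.ne')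
    have hxr : x ^ r = 1 := hx ▸ pow_orderOf_eq_one x
    have hx1 : x ≠ 1 := by
      rintro rfl
      rw [orderOf_one] at hx
      exact hr.out.one_lt.ne hx
    have hxΩ : (((x : T₀)) : G) ∈ Ω := by
      rw [hmemΩ]
      refine ⟨⟨(x : T₀).2, ?_, ?_⟩, Subgroup.mem_subgroupOf.mp x.2.1⟩
      · rw [Subgroup.mem_centralizer_iff]
        intro y hy
        exact congrArg Subtype.val ((Subgroup.mem_center_iff.mp x.2.2) ⟨y, hy⟩)
      · exact_mod_cast congrArg (fun z : ↥(R₀.subgroupOf T₀ ⊓ Subgroup.center T₀) =>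
          ((z : T₀) : G)) hxr
    intro hb
    rw [hb, Subgroup.mem_bot] at hxΩ
    exact hx1 (Subtype.ext (Subtype.ext hxΩ))
  have hΩM : Ω ≤ M := inf_le_right.trans hR₀M
  have hMΩ : M ≤ normalizer (Ω : Set G) := by
    intro m hm
    obtain ⟨n, hn, hnM, k, hk, rfl⟩ := exists_factor hlen T hm
    refine Subgroup.mul_mem _ ?_ ?_
    · have h1 := IdealPrime.normalizer_le_normalizer_omegaCenter r T₀ hn
      have h2 := hMR₀ hnM
      rw [mem_normalizer_iff_map_conj] at h1 h2 ⊢
      rw [hΩ, Equivariance.map_inf_equiv, h1, h2]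
    · have hdis : core' r M ⊓ R₀ = ⊥ := by
        apply Disjoint.eq_bot
        apply Subgroup.disjoint_of_coprime_natCard
        obtain ⟨n, hn⟩ := hR₀.exists_card_eq
        rw [hn]
        exact Nat.Coprime.pow_right n (coprime_core' r M)
      apply Subgroup.centralizer_le_normalizer
      rw [Subgroup.mem_centralizer_iff]
      intro w hw
      exact (SigmaCoreBasic808.commute_of_normalize_inf_eq_bot
        ((core'_le r M).trans hMR₀) (hR₀M.trans (le_normalizer_core' r M)) hdis hk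
        ((inf_le_right : Ω ≤ R₀) hw)).symm
  have hNΩ : normalizer (Ω : Set G) = M := normalizer_eq_of_le_coatom hG hM hΩne hΩM hMΩ
  have hOel : IsElementaryAbelian r (IdealPrime.omegaCenter r T₀) := by
    rw [Rank.elemAb_def]
    refine ⟨fun a ha b hb => ?_, fun a ha => (IdealPrime.mem_omegaCenter.mp ha).2.2⟩
    exact ((Subgroup.mem_centralizer_iff.mp (IdealPrime.mem_omegaCenter.mp ha).2.1) b
      (IdealPrime.mem_omegaCenter.mp hb).1).symm
  have hOM : IdealPrime.omegaCenter r T₀ ≤ M := fun x hx =>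
    hT₀M (IdealPrime.mem_omegaCenter.mp hx).1
  have hΩel : IsElementaryAbelian r Ω := Rank.elemAb_mono hOel inf_le_left
  have hc1 := Rank.pRankLE_iff.mp hrk Ω hΩM hΩel
  have hc2 := Rank.pRankLE_iff.mp hrk _ hOM hOel
  obtain ⟨n, hn⟩ := (Rank.elemAb_isPGroup hΩel).exists_card_eq
  have hn0 : n ≠ 0 := by
    rintro rfl
    rw [pow_zero] at hn
    exact hΩne (Subgroup.card_eq_one.mp hn)
  have hn2 : n ≤ 2 := by
    rw [hn] at hc1
    exact (Nat.pow_le_pow_iff_right hr.out.one_lt).mp hc1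
  have hn1 : n ≠ 2 := by
    rintro rfl
    apply hrσ
    have h1 : Ω = IdealPrime.omegaCenter r T₀ :=
      Subgroup.eq_of_le_of_card_ge inf_le_left (by rw [hn]; exact hc2)
    have hd : r ∣ Nat.card M :=
      (dvd_pow_self r two_ne_zero).trans (hn ▸ Subgroup.card_dvd_of_le hΩM)
    refine ⟨hr.out, hd, T, ?_⟩
    have h2 := IdealPrime.normalizer_le_normalizer_omegaCenter r T₀
    rw [← h1, hNΩ] at h2
    exact h2
  have hn' : n = 1 := by omega
  refine ⟨Ω, inf_le_right, by rw [hn, hn', pow_one], hMΩ, ?_⟩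
  intro x hx
  exact Subgroup.centralizer_le hRT ((hmemΩ x).mp hx).1.2.1

/-- A normal subgroup of order `r ∉ σ(M)` of `M` makes `M` exceptional. -/
theorem exists_isExceptional (hG : IsMinSimpleOddOrder G) {M : Subgroup G} (hM : IsCoatom M)
    {r : ℕ} [hr : Fact r.Prime] (hrσ : r ∉ sigma M) {X : Subgroup G} (hXM : X ≤ M)
    (hX : Nat.card X = r) (hMX : M ≤ normalizer (X : Set G)) :
    ∃ B : Subgroup G, IsExceptional r M X B := by
  have hXne : X ≠ ⊥ := by
    rintro rfl
    rw [Subgroup.card_bot] at hX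
    exact hr.out.one_lt.ne hX
  have hNX : normalizer (X : Set G) = M := normalizer_eq_of_le_coatom hG hM hXne hXM hMX
  obtain ⟨-, -, B, hB, hBc, hXB⟩ := Cfsg.Agent.S1409.result hG M hM r hrσ X hX hNX.le
  refine ⟨B, hrσ, ?_, hB, hBc, hXB, hX, hNX.le⟩
  rw [← hNX]
  refine le_trans ?_ (Subgroup.centralizer_le_normalizer _)
  intro b hb
  rw [Subgroup.mem_centralizer_iff]
  intro x hx
  exact (Rank.elemAb_def.mp hB).1 x (hXB hx) b hb

theorem elemAb_of_card_prime {r : ℕ} [hr : Fact r.Prime] {X : Subgroup G} (hX : Nat.card X = r) :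
    IsElementaryAbelian r X := by
  obtain ⟨a, ha, -, -, har⟩ := exists_zpowers_of_card_prime hX
  rw [ha]
  exact Rank.elemAb_zpowers har

/-- If moreover `M_σ` centralizes `R₀` then the elements of order `r` of `R₀` lie in `X`. -/
theorem mem_of_pow_eq_one_of_centralizes (hG : IsMinSimpleOddOrder G) {M : Subgroup G}
    (hM : IsCoatom M) {r : ℕ} [hr : Fact r.Prime] (hrσ : r ∉ sigma M) {R₀ : Subgroup G}
    (hR₀M : R₀ ≤ M) (hσ : sigmaCore M ≤ centralizer (R₀ : Set G)) {X : Subgroup G} (hXR : X ≤ R₀)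
    (hX : Nat.card X = r) (hMX : M ≤ normalizer (X : Set G))
    (hXc : X ≤ centralizer (R₀ : Set G)) {x : G} (hx : x ∈ R₀) (hxr : x ^ r = 1) : x ∈ X := by
  by_contra hxX
  have hWR : X ⊔ Subgroup.zpowers x ≤ R₀ := sup_le hXR (by rwa [Subgroup.zpowers_le])
  have hW : IsElementaryAbelian r (X ⊔ Subgroup.zpowers x) := by
    refine Rank.elemAb_sup (elemAb_of_card_prime hX) (Rank.elemAb_zpowers hxr) ?_
    rintro a ha b ⟨n, rfl⟩
    have h2 : Commute x a := Subgroup.mem_centralizer_iff.mp (hXc ha) x hx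
    exact (h2.symm.zpow_right n)
  have hlt : X < X ⊔ Subgroup.zpowers x := by
    refine lt_of_le_of_ne le_sup_left fun he => hxX ?_
    rw [he]
    exact (le_sup_right : Subgroup.zpowers x ≤ _) (Subgroup.mem_zpowers x)
  have hc : Nat.card ↥(X ⊔ Subgroup.zpowers x) = r ^ 2 := by
    have h1 := Rank.pRankLE_iff.mp (pRankLE_two_of_notMem hG hM hrσ) _ (hWR.trans hR₀M) hW
    obtain ⟨n, hn⟩ := (Rank.elemAb_isPGroup hW).exists_card_eq
    rw [hn] at h1 ⊢
    have h2 : n ≤ 2 := (Nat.pow_le_pow_iff_right hr.out.one_lt).mp h1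
    have h3 : r ^ 1 < r ^ n := by
      rw [← hn, pow_one, ← hX]
      exact lt_of_le_of_ne (Subgroup.card_le_of_le hlt.le)
        (fun he => hlt.ne (Subgroup.eq_of_le_of_card_ge hlt.le he.ge))
    have h4 : 1 < n := (Nat.pow_lt_pow_iff_right hr.out.one_lt).mp h3
    have : n = 2 := by omega
    rw [this]
  have hXne : X ≠ ⊥ := by
    rintro rfl
    rw [Subgroup.card_bot] at hX
    exact hr.out.one_lt.ne hX
  have hNX : normalizer (X : Set G) = M :=
    normalizer_eq_of_le_coatom hG hM hXne (hXR.trans hR₀M) hMX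
  have hexc : IsExceptional r M X (X ⊔ Subgroup.zpowers x) :=
    ⟨hrσ, hWR.trans hR₀M, hW, hc, le_sup_left, hX, hNX.le⟩
  apply FcoreChain.sigmaCore_ne_bot hG hM
  rw [eq_bot_iff, ← inf_centralizer_eq_bot hG hM hexc]
  exact le_inf le_rfl (hσ.trans (Subgroup.centralizer_le hWR))

/-- A `p`-group acting nontrivially on a group of prime order `r ≠ p`: then `p < r`. -/
theorem lt_of_not_le_centralizer {p : ℕ} [hp : Fact p.Prime] {r : ℕ} [hr : Fact r.Prime]
    {A X : Subgroup G} (hA : IsPGroup p A) (hX : Nat.card X = r)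
    (hAX : A ≤ normalizer (X : Set G)) (hnc : ¬ A ≤ centralizer (X : Set G)) : p < r := by
  letI : MulAction A X := MulAction.compHom X (Lib.CoprimeHyperplane.conjHom hAX)
  have h1 := hA.card_modEq_card_fixedPoints X
  have h2 : Nat.card (MulAction.fixedPoints A X) = 1 := by
    have hbot : X ⊓ centralizer (A : Set G) = ⊥ := by
      by_contra hne
      have hle : X ⊓ centralizer (A : Set G) ≤ X := inf_le_left
      have hd : Nat.card ↥(X ⊓ centralizer (A : Set G)) ∣ r := hX ▸ Subgroup.card_dvd_of_le hle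
      rcases (Nat.dvd_prime hr.out).mp hd with h3 | h3
      · exact hne (Subgroup.card_eq_one.mp h3)
      · have h4 : X ⊓ centralizer (A : Set G) = X :=
          Subgroup.eq_of_le_of_card_ge hle (by rw [hX, h3])
        apply hnc
        rw [Subgroup.le_centralizer_iff]
        exact inf_eq_left.mp h4
    have hsub : ∀ x : MulAction.fixedPoints A X, x = ⟨1, fun a => by
        change (Lib.CoprimeHyperplane.conjHom hAX a) 1 = 1
        exact map_one _⟩ := by
      rintro ⟨x, hx⟩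
      apply Subtype.ext
      apply Subtype.ext
      have h5 : (x : G) ∈ X ⊓ centralizer (A : Set G) := by
        refine Subgroup.mem_inf.mpr ⟨x.2, ?_⟩
        rw [Subgroup.mem_centralizer_iff]
        intro a ha
        have h6 : (Lib.CoprimeHyperplane.conjHom hAX ⟨a, ha⟩) x = x := hx ⟨a, ha⟩
        have h7 := congrArg Subtype.val h6
        rw [Lib.CoprimeHyperplane.conjHom_apply] at h7
        exact mul_inv_eq_iff_eq_mul.mp h7
      rw [hbot, Subgroup.mem_bot] at h5
      exact h5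
    rw [Nat.card_eq_one_iff_exists]
    exact ⟨_, hsub⟩
  rw [h2, hX] at h1
  have h3 : p ∣ r - 1 := (Nat.modEq_iff_dvd' hr.out.one_lt.le).mp h1.symm
  have h4 := Nat.le_of_dvd (Nat.sub_pos_of_lt hr.out.one_lt) h3
  have := hr.out.one_lt
  omega

/-- The kernel of the action of `A` on a normal subgroup of prime order. -/
theorem exists_kernel {M A₀ A : Subgroup G} {p : ℕ} [hpf : Fact p.Prime]
    (h : IsExceptional p M A₀ A) {r : ℕ} [hr : Fact r.Prime] (hrp : r ≠ p) {X : Subgroup G}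
    (hX : Nat.card X = r) (hAX : A ≤ normalizer (X : Set G))
    (hnc : ¬ A ≤ centralizer (X : Set G)) :
    Nat.card ↥(A ⊓ centralizer (X : Set G)) = p := by
  have hXne : X ≠ ⊥ := by
    rintro rfl
    rw [Subgroup.card_bot] at hX
    exact hr.out.one_lt.ne hX
  have hpX : ¬ p ∣ Nat.card X := by
    rw [hX]
    exact fun hd => hrp ((Nat.prime_dvd_prime_iff_eq hpf.out hr.out).mp hd).symm
  obtain ⟨A₃, hA₃, hA₃c, hne⟩ := exists_fixed h hpX hAX hXne
  have hle : X ⊓ centralizer (A₃ : Set G) ≤ X := inf_le_left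
  have hd : Nat.card ↥(X ⊓ centralizer (A₃ : Set G)) ∣ r := hX ▸ Subgroup.card_dvd_of_le hle
  have hXA₃ : X ≤ centralizer (A₃ : Set G) := by
    rcases (Nat.dvd_prime hr.out).mp hd with h3 | h3
    · exact absurd (Subgroup.card_eq_one.mp h3) hne
    · have h4 : X ⊓ centralizer (A₃ : Set G) = X :=
        Subgroup.eq_of_le_of_card_ge hle (by rw [hX, h3])
      exact inf_eq_left.mp h4
  have h1 : A₃ ≤ A ⊓ centralizer (X : Set G) :=
    le_inf hA₃ (Subgroup.le_centralizer_iff.mp hXA₃)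
  have h2 : Nat.card ↥(A ⊓ centralizer (X : Set G)) ∣ p ^ 2 :=
    h.card ▸ Subgroup.card_dvd_of_le inf_le_left
  obtain ⟨n, hn, hcn⟩ := (Nat.dvd_prime_pow hpf.out).mp h2
  have h3 : p ∣ p ^ n := by
    rw [← hcn, ← hA₃c]; exact Subgroup.card_dvd_of_le h1
  have hn0 : n ≠ 0 := by
    rintro rfl
    rw [pow_zero] at h3
    exact hpf.out.one_lt.ne' (Nat.dvd_one.mp h3)
  have hn2 : n ≠ 2 := by
    rintro rfl
    apply hnc
    have : A ⊓ centralizer (X : Set G) = A :=
      Subgroup.eq_of_le_of_card_ge inf_le_left (by rw [hcn, h.card])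
    exact inf_eq_left.mp this
  have : n = 1 := by omega
  rw [hcn, this, pow_one]

/-! ### General commutator facts -/

theorem commutator_le_of_le_normalizer {U A : Subgroup G} (hA : A ≤ normalizer (U : Set G)) :
    ⁅U, A⁆ ≤ U := by
  rw [Subgroup.commutator_le]
  intro u hu a ha
  have h1 : a * u⁻¹ * a⁻¹ ∈ U := by
    have := (Subgroup.mem_normalizer_iff.mp (hA ha) u⁻¹).mp (U.inv_mem hu)
    exact this
  rw [commutatorElement_def, mul_assoc u a, mul_assoc u]
  exact U.mul_mem hu h1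

theorem commutator_le_of_le_normalizer' {U A : Subgroup G} (hA : A ≤ normalizer (U : Set G)) :
    ⁅A, U⁆ ≤ U := by
  rw [Subgroup.commutator_comm]
  exact commutator_le_of_le_normalizer hA

theorem normalizer_le_normalizer_centralizer (V : Subgroup G) :
    normalizer (V : Set G) ≤ normalizer (centralizer (V : Set G) : Set G) := by
  intro g hg
  rw [mem_normalizer_iff_map_conj] at hg ⊢
  rw [Equivariance.map_centralizer_subgroup, hg]

theorem le_normalizer_commutator (E : Subgroup G) :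
    E ≤ normalizer ((⁅E, E⁆ : Subgroup G) : Set G) := by
  intro g hg
  rw [mem_normalizer_iff_map_conj, Equivariance.map_commutator_equiv, map_conj_of_mem hg]

theorem mem_normalizer_inf {U V : Subgroup G} {g : G} (h1 : g ∈ normalizer (U : Set G))
    (h2 : g ∈ normalizer (V : Set G)) : g ∈ normalizer ((U ⊓ V : Subgroup G) : Set G) := by
  rw [mem_normalizer_iff_map_conj] at h1 h2 ⊢
  rw [Equivariance.map_inf_equiv, h1, h2]

/-- If `[R, A₁]` and `[R, A₂]` centralize `V` then so does `[R, A₁ A₂]`. -/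
theorem commutator_sup_le_centralizer {M R A₁ A₂ V : Subgroup G}
    (hM : M ≤ normalizer (V : Set G)) (hA₁ : A₁ ≤ M) (hA₂ : A₂ ≤ M)
    (h₁ : ⁅R, A₁⁆ ≤ centralizer (V : Set G)) (h₂ : ⁅R, A₂⁆ ≤ centralizer (V : Set G)) :
    ⁅R, A₁ ⊔ A₂⁆ ≤ centralizer (V : Set G) := by
  have hC : M ≤ normalizer (centralizer (V : Set G) : Set G) :=
    hM.trans (normalizer_le_normalizer_centralizer V)
  let K : Subgroup G :=
    { carrier := {a | a ∈ M ∧ ∀ x ∈ R, x * a * x⁻¹ * a⁻¹ ∈ centralizer (V : Set G)}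
      mul_mem' := by
        rintro a b ⟨ha, ha'⟩ ⟨hb, hb'⟩
        refine ⟨M.mul_mem ha hb, fun x hx => ?_⟩
        have h3 := (Subgroup.mem_normalizer_iff.mp (hC ha) _).mp (hb' x hx)
        have h4 := Subgroup.mul_mem _ (ha' x hx) h3
        have h5 : x * (a * b) * x⁻¹ * (a * b)⁻¹ =
            x * a * x⁻¹ * a⁻¹ * (a * (x * b * x⁻¹ * b⁻¹) * a⁻¹) := by group
        rw [h5]; exact h4
      one_mem' := by
        refine ⟨M.one_mem, fun x hx => ?_⟩
        have : x * 1 * x⁻¹ * 1⁻¹ = 1 := by group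
        rw [this]; exact Subgroup.one_mem _
      inv_mem' := by
        rintro a ⟨ha, ha'⟩
        refine ⟨M.inv_mem ha, fun x hx => ?_⟩
        have h3 := (Subgroup.mem_normalizer_iff.mp (hC (M.inv_mem ha)) _).mp
          (Subgroup.inv_mem _ (ha' x hx))
        have h5 : x * a⁻¹ * x⁻¹ * a⁻¹⁻¹ = a⁻¹ * (x * a * x⁻¹ * a⁻¹)⁻¹ * a⁻¹⁻¹ := by group
        rw [h5]; exact h3 }
  have hK : ∀ B : Subgroup G, B ≤ M → ⁅R, B⁆ ≤ centralizer (V : Set G) → B ≤ K := by
    intro B hB h b hb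
    exact ⟨hB hb, fun x hx => h (Subgroup.commutator_mem_commutator hx hb)⟩
  have h3 : A₁ ⊔ A₂ ≤ K := sup_le (hK _ hA₁ h₁) (hK _ hA₂ h₂)
  rw [Subgroup.commutator_le]
  intro x hx a ha
  exact (h3 ha).2 x hx

/-! ### The configuration if `A` does not centralize `O_{p'}(E)` -/

theorem sup_eq_of_card {p : ℕ} [hpf : Fact p.Prime] {A A₁ A₂ : Subgroup G} (hA : Nat.card A = p ^ 2)
    (h₁ : A₁ ≤ A) (h₂ : A₂ ≤ A) (hc₁ : Nat.card A₁ = p) (hc₂ : Nat.card A₂ = p) (hne : A₁ ≠ A₂) :
    A₁ ⊔ A₂ = A := by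
  have hle : A₁ ⊔ A₂ ≤ A := sup_le h₁ h₂
  obtain ⟨n, hn, hcn⟩ := (Nat.dvd_prime_pow hpf.out).mp (hA ▸ Subgroup.card_dvd_of_le hle)
  have hlt : A₁ < A₁ ⊔ A₂ := by
    refine lt_of_le_of_ne le_sup_left fun he => hne ?_
    exact (Subgroup.eq_of_le_of_card_ge (he ▸ le_sup_right : A₂ ≤ A₁) (by rw [hc₁, hc₂])).symm
  have h3 : p ^ 1 < p ^ n := by
    rw [← hcn, pow_one, ← hc₁]
    exact lt_of_le_of_ne (Subgroup.card_le_of_le hlt.le)
      (fun he => hlt.ne (Subgroup.eq_of_le_of_card_ge hlt.le he.ge))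
  have h4 : 1 < n := (Nat.pow_lt_pow_iff_right hpf.out.one_lt).mp h3
  have h5 : n = 2 := by omega
  exact Subgroup.eq_of_le_of_card_ge hle (by rw [hcn, h5, hA])

theorem coprime_of_isPGroup {r : ℕ} [hr : Fact r.Prime] {R : Subgroup G} (hR : IsPGroup r R)
    {n : ℕ} (hn : ¬ r ∣ n) : n.Coprime (Nat.card R) := by
  obtain ⟨k, hk⟩ := hR.exists_card_eq
  rw [hk]
  exact Nat.Coprime.pow_right k ((Nat.Prime.coprime_iff_not_dvd hr.out).mpr hn).symm

theorem exists_R (hG : IsMinSimpleOddOrder G) {M A₀ A : Subgroup G} (hM : IsCoatom M) {p : ℕ}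
    [hpf : Fact p.Prime] (h : IsExceptional p M A₀ A) {E : Subgroup G}
    (hE : IsComplIn E (sigmaCore M) M) (hAE : A ≤ E)
    (hnc : ¬ A ≤ centralizer (core' p E : Set G)) :
    ∃ (r : ℕ) (_ : Fact r.Prime) (R : Subgroup G), r ∉ sigma M ∧ r ≠ p ∧ R ≤ E ∧ IsPGroup r R ∧
      (∀ Q : Subgroup G, Q ≤ core' p E ⊓ ⁅E, E⁆ → IsPGroup r Q → Q ≤ R) ∧
      A ≤ normalizer (R : Set G) ∧
      ⁅R, A⁆ ≤ R ⊓ centralizer (sigmaCore M : Set G) ∧
      M ≤ normalizer ((R ⊓ centralizer (sigmaCore M : Set G) : Subgroup G) : Set G) ∧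
      ¬ A ≤ centralizer ((R ⊓ centralizer (sigmaCore M : Set G) : Subgroup G) : Set G) := by
  have hEM : E ≤ M := hE.1
  have hσM : sigmaCore M ≤ M := hE.2.1
  have hMσ : M ≤ normalizer (sigmaCore M : Set G) := HallPi.le_normalizer_sigmaCore M
  set U : Subgroup G := core' p E with hU
  have hUE : U ≤ E := core'_le p E
  have hEU : E ≤ normalizer (U : Set G) := le_normalizer_core' p E
  have hUp : (Nat.card U).Coprime p := coprime_core' p E
  set D : Subgroup G := U ⊓ ⁅E, E⁆ with hD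
  have hDU : D ≤ U := inf_le_left
  have hED : E ≤ normalizer (D : Set G) := fun e he =>
    mem_normalizer_inf (hEU he) (le_normalizer_commutator E he)
  have hDnil : Group.IsNilpotent D := by
    haveI := (Cfsg.Agent.S1415.result hG M hM E hE).1
    exact Group.nilpotent_of_mulEquiv
      (Subgroup.subgroupOfEquivOfLe (inf_le_right : D ≤ ⁅E, E⁆))
  have hAc : ∀ W : Subgroup G, W ≤ U → (Nat.card A).Coprime (Nat.card W) := by
    intro W hW
    rw [h.card]
    exact Nat.Coprime.pow_left 2 (hUp.coprime_dvd_left (Subgroup.card_dvd_of_le hW)).symm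
  have hDA : ¬ A ≤ centralizer (D : Set G) := by
    intro hcon
    apply hnc
    rw [Subgroup.le_centralizer_iff, ← Subgroup.commutator_eq_bot_iff_le_centralizer]
    apply Lib.ThompsonPQ.commutator_eq_bot_of_coprime (hAc U le_rfl) (hAE.trans hEU)
    rw [Subgroup.le_centralizer_iff, ← Subgroup.commutator_eq_bot_iff_le_centralizer] at hcon
    rw [eq_bot_iff, ← hcon]
    refine Subgroup.commutator_mono ?_ le_rfl
    exact le_inf (commutator_le_of_le_normalizer (hAE.trans hEU))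
      (Subgroup.commutator_mono hUE hAE)
  obtain ⟨r, hr, hrS⟩ : ∃ (r : ℕ) (_ : Fact r.Prime), ∀ S : Sylow r D,
      ¬ A ≤ centralizer (((S : Subgroup D).map D.subtype : Subgroup G) : Set G) := by
    by_contra hcon
    push Not at hcon
    apply hDA
    have h1 : (centralizer (A : Set G)).subgroupOf D = ⊤ := by
      refine Lib.Cores.eq_top_of_sylow_le fun q hq => ?_
      obtain ⟨S, hS⟩ := hcon q hq
      refine ⟨S, ?_⟩
      rw [Subgroup.le_centralizer_iff, Subgroup.map_le_iff_le_comap] at hS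
      exact hS
    rw [Subgroup.subgroupOf_eq_top] at h1
    rwa [Subgroup.le_centralizer_iff]
  obtain ⟨S, hS⟩ := exists_normal_sylow hDnil r
  set R : Subgroup G := (S : Subgroup D).map D.subtype with hR
  have hRD : R ≤ D := Subgroup.map_subtype_le _
  have hRE : R ≤ E := (hRD.trans hDU).trans hUE
  have hER : E ≤ normalizer (R : Set G) := hED.trans hS
  have hRr : IsPGroup r R := S.isPGroup'.map _
  have hAR : ¬ A ≤ centralizer (R : Set G) := hrS S
  have hRne : R ≠ ⊥ := by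
    intro hb
    apply hAR
    rw [Subgroup.le_centralizer_iff, hb]
    exact bot_le
  have hrR : r ∣ Nat.card R := by
    haveI : Nontrivial R := (Subgroup.nontrivial_iff_ne_bot _).mpr hRne
    obtain ⟨n, hn, hc⟩ := hRr.nontrivial_iff_card.mp inferInstance
    rw [hc]
    exact dvd_pow_self r hn.ne'
  have hHall := (Cfsg.Agent.S1350.result hG M hM).1
  have hrσ : r ∉ sigma M := by
    have h1 := (HallPi.isPiHallOf_compl_iff hHall).mp hE
    exact (h1.2.1 r hr.out (hrR.trans (Subgroup.card_dvd_of_le hRE))).2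
  have hrp : r ≠ p := by
    rintro rfl
    have h1 : r ∣ Nat.card U := hrR.trans (Subgroup.card_dvd_of_le (hRD.trans hDU))
    exact hr.out.one_lt.ne' (Nat.Coprime.eq_one_of_dvd hUp.symm h1)
  have hmax : ∀ Q : Subgroup G, Q ≤ D → IsPGroup r Q → Q ≤ R := by
    intro Q hQD hQ
    have hSn : (S : Subgroup D).Normal :=
      ((Group.isNilpotent_of_finite_tfae (G := D)).out 0 3 rfl rfl).mp hDnil r inferInstance S
    have h1 := AlphaCore.le_of_isPGroup_of_not_dvd_index hSn S.not_dvd_index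
      (hQ.of_equiv (Subgroup.subgroupOfEquivOfLe hQD).symm)
    have h2 := Subgroup.map_mono (f := D.subtype) h1
    rwa [Subgroup.map_subgroupOf_eq_of_le hQD] at h2
  have hAnR : A ≤ normalizer (R : Set G) := hAE.trans hER
  have hrVσ : ¬ r ∣ Nat.card (sigmaCore M) := fun hd =>
    hrσ (prime_dvd_sigmaCore hG hM hr.out hd)
  have hpV := not_dvd_card_sigmaCore hG hM h
  have hpR : ¬ p ∣ Nat.card R := by
    intro hd
    obtain ⟨k, hk⟩ := hRr.exists_card_eq
    rw [hk] at hd
    exact hrp ((Nat.prime_dvd_prime_iff_eq hpf.out hr.out).mp (hpf.out.dvd_of_dvd_pow hd)).symm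
  have hRodd : Odd (Nat.card R) := Odd.of_dvd_nat hG.1 (Subgroup.card_subgroup_dvd_card R)
  have hRsol : Group.IsSolvable R := by
    haveI := hRr.isNilpotent
    infer_instance
  have hVsol : Group.IsSolvable (sigmaCore M) := by
    haveI := isNilpotent_sigmaCore hG hM h
    infer_instance
  have hcomm : ⁅R, A⁆ ≤ centralizer (sigmaCore M : Set G) := by
    obtain ⟨A₁, A₂, hA₁, hA₂, hc₁, hc₂, hne, hf₁, hf₂⟩ := exists_two hG hM h
    have key : ∀ B : Subgroup G, B ≤ A → Nat.card B = p →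
        sigmaCore M ⊓ centralizer (B : Set G) = ⊥ →
        ⁅R, B⁆ ≤ centralizer (sigmaCore M : Set G) := by
      intro B hB hBc hf
      refine Thm34.commutator_le_centralizer_of_fixedFree R B (sigmaCore M) hRsol hRodd
        (hBc ▸ hpf.out) (hBc ▸ ne_two hG h) (hB.trans hAnR) ?_ ((hRE.trans hEM).trans hMσ)
        ((hB.trans h.le).trans hMσ) hVsol (coprime_of_isPGroup hRr hrVσ) ?_ hf
      · rw [hBc]
        exact ((Nat.Prime.coprime_iff_not_dvd hpf.out).mpr hpR).symm
      · rw [hBc]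
        exact ((Nat.Prime.coprime_iff_not_dvd hpf.out).mpr hpV).symm
    rw [← sup_eq_of_card h.card hA₁ hA₂ hc₁ hc₂ hne]
    exact commutator_sup_le_centralizer hMσ (hA₁.trans h.le) (hA₂.trans h.le)
      (key A₁ hA₁ hc₁ hf₁) (key A₂ hA₂ hc₂ hf₂)
  have hRA : ⁅R, A⁆ ≤ R ⊓ centralizer (sigmaCore M : Set G) :=
    le_inf (commutator_le_of_le_normalizer hAnR) hcomm
  refine ⟨r, hr, R, hrσ, hrp, hRE, hRr, hmax, hAnR, hRA, ?_, ?_⟩
  · intro m hm
    obtain ⟨e, he, s, hs, rfl⟩ := hE.2.2.2 m hm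
    refine Subgroup.mul_mem _ (mem_normalizer_inf (hER he)
      (normalizer_le_normalizer_centralizer _ (hMσ (hEM he)))) ?_
    apply Subgroup.centralizer_le_normalizer
    rw [Subgroup.mem_centralizer_iff]
    intro w hw
    exact (Subgroup.mem_centralizer_iff.mp (Subgroup.mem_inf.mp hw).2 s hs).symm
  · intro hcon
    apply hAR
    rw [Subgroup.le_centralizer_iff, ← Subgroup.commutator_eq_bot_iff_le_centralizer]
    apply Lib.ThompsonPQ.commutator_eq_bot_of_coprime (hAc R (hRD.trans hDU)) hAnR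
    rw [Subgroup.le_centralizer_iff, ← Subgroup.commutator_eq_bot_iff_le_centralizer] at hcon
    rw [eq_bot_iff, ← hcon]
    exact Subgroup.commutator_mono hRA le_rfl

/-- Conjugating an exceptional configuration by an element of `M`. -/
theorem isExceptional_conj {M A₀ A : Subgroup G} {p : ℕ} (h : IsExceptional p M A₀ A) {m : G}
    (hm : m ∈ M) : IsExceptional p M (A₀^^[m]) (A^^[m]) := by
  have hMm : M^^[m] = M := map_conj_of_mem hm
  refine ⟨h.notMem_sigma, ?_, ?_, ?_, Subgroup.map_mono h.sub_le, ?_, ?_⟩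
  · rw [← hMm]; exact Subgroup.map_mono h.le
  · rw [Rank.elemAb_def]
    refine ⟨?_, ?_⟩
    · rintro _ ⟨a, ha, rfl⟩ _ ⟨b, hb, rfl⟩
      rw [← map_mul, ← map_mul, (Rank.elemAb_def.mp h.elem).1 a ha b hb]
    · rintro _ ⟨a, ha, rfl⟩
      rw [← map_pow, (Rank.elemAb_def.mp h.elem).2 a ha, map_one]
  · rw [card_map_conj, h.card]
  · rw [card_map_conj, h.sub_card]
  · rw [← Equivariance.map_normalizer, ← hMm]
    exact Subgroup.map_mono h.norm_le

theorem not_dvd_index_core' (hG : IsMinSimpleOddOrder G) {M A₀ A : Subgroup G} (hM : IsCoatom M)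
    {p : ℕ} [hpf : Fact p.Prime] (h : IsExceptional p M A₀ A) {r : ℕ} (hr : r.Prime)
    (hpr : p < r) : ¬ r ∣ (pPrimeCore p M).index := by
  intro hd
  have h1 := (Cfsg.Agent.S1414.result hG M hM).2.2.2.2 p hpf.out (dvd_card_coatom h)
    (fun hβ => h.notMem_sigma (alpha_subset hG hM hβ.1))
  exact absurd (h1.2.2 r hr hd) (not_le.mpr hpr)

/-- The configuration: an `A`-invariant Sylow `r`-subgroup `T` of `M` with `r > p`, abelian, such
that `A` does not centralize the normal subgroup `X` of order `r` of `M`, but a subgroup of order `p`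
of `A` centralizes `T`. -/
theorem exists_config (hG : IsMinSimpleOddOrder G) {M A₀ A : Subgroup G} (hM : IsCoatom M) {p : ℕ}
    [hpf : Fact p.Prime] (h : IsExceptional p M A₀ A) {E : Subgroup G}
    (hE : IsComplIn E (sigmaCore M) M) (hAE : A ≤ E)
    (hnc : ¬ A ≤ centralizer (core' p E : Set G)) :
    ∃ (r : ℕ) (_ : Fact r.Prime) (X B : Subgroup G) (T : Sylow r M), p < r ∧
      IsExceptional r M X B ∧ M ≤ normalizer (X : Set G) ∧
      B ≤ (T : Subgroup M).map M.subtype ∧
      A ≤ normalizer (((T : Subgroup M).map M.subtype : Subgroup G) : Set G) ∧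
      ¬ A ≤ centralizer (X : Set G) ∧
      A ⊓ centralizer (X : Set G) ≤
        centralizer (((T : Subgroup M).map M.subtype : Subgroup G) : Set G) ∧
      (T : Subgroup M).map M.subtype ⊓ centralizer (A : Set G) ≠ ⊥ := by
  obtain ⟨r, hr, R, hrσ, hrp, hRE, hRr, hmax, hAnR, hRA, hMR₀, hAR₀⟩ :=
    exists_R hG hM h hE hAE hnc
  set R₀ : Subgroup G := R ⊓ centralizer (sigmaCore M : Set G) with hR₀
  have hEM : E ≤ M := hE.1
  have hR₀M : R₀ ≤ M := (inf_le_left.trans hRE).trans hEM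
  have hR₀r : IsPGroup r R₀ := hRr.to_le inf_le_left
  have hR₀ne : R₀ ≠ ⊥ := by
    intro hb
    apply hAR₀
    rw [Subgroup.le_centralizer_iff, hb]
    exact bot_le
  have hr2 : r ≠ 2 := by
    rintro rfl
    haveI : Nontrivial R₀ := (Subgroup.nontrivial_iff_ne_bot _).mpr hR₀ne
    obtain ⟨n, hn, hc⟩ := hR₀r.nontrivial_iff_card.mp inferInstance
    have h1 : Odd (Nat.card R₀) := Odd.of_dvd_nat hG.1 (Subgroup.card_subgroup_dvd_card R₀)
    rw [hc] at h1
    exact absurd h1 (Nat.not_odd_iff_even.mpr ((Nat.even_pow.mpr ⟨even_two, hn.ne'⟩)))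
  obtain ⟨X, hXR, hX, hMX, hXc⟩ := exists_normal_order hG hM hrσ hR₀M hMR₀ hR₀r hR₀ne
  have hσ : sigmaCore M ≤ centralizer (R₀ : Set G) := by
    rw [Subgroup.le_centralizer_iff]; exact inf_le_right
  have hΩ : ∀ x ∈ R₀, x ^ r = 1 → x ∈ X := fun x hx hxr =>
    mem_of_pow_eq_one_of_centralizes hG hM hrσ hR₀M hσ hXR hX hMX hXc hx hxr
  have hcA : (Nat.card A).Coprime r := by
    rw [h.card]
    exact Nat.Coprime.pow_left 2 ((Nat.coprime_primes hpf.out hr.out).mpr hrp.symm)
  have hXA : ¬ A ≤ centralizer (X : Set G) := by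
    intro hcon
    apply hAR₀
    refine Lib.CoprimeStab.le_centralizer_of_omega r hr2 A hcA R₀ hR₀r (h.le.trans hMR₀) ?_
    intro x hx hxr a ha
    exact Subgroup.mem_centralizer_iff.mp (hcon ha) x (hΩ x hx hxr)
  have hAX : A ≤ normalizer (X : Set G) := h.le.trans hMX
  have hpr : p < r := lt_of_not_le_centralizer (isPGroup h) hX hAX hXA
  obtain ⟨B₁, hB₁⟩ := exists_isExceptional hG hM hrσ (hXR.trans hR₀M) hX hMX
  -- the Sylow subgroup
  set U : Subgroup G := core' p E with hU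
  have hUE : U ≤ E := core'_le p E
  have hUM : U ≤ M := hUE.trans hEM
  have hEU : E ≤ normalizer (U : Set G) := le_normalizer_core' p E
  have hUp : (Nat.card U).Coprime p := coprime_core' p E
  have hUr : ∀ Q : Subgroup G, Q ≤ E → IsPGroup r Q → Q ≤ U := by
    intro Q hQE hQ
    have h1 : Q ≤ core' p M := by
      have h2 := AlphaCore.le_of_isPGroup_of_not_dvd_index (Lib.Cores.pPrimeCore_normal p)
        (not_dvd_index_core' hG hM h hr.out hpr)
        (hQ.of_equiv (Subgroup.subgroupOfEquivOfLe (hQE.trans hEM)).symm)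
      have h3 := Subgroup.map_mono (f := M.subtype) h2
      rwa [Subgroup.map_subgroupOf_eq_of_le (hQE.trans hEM)] at h3
    refine (le_inf h1 hQE).trans (le_core' inf_le_right ?_ ?_)
    · intro e he
      exact mem_normalizer_inf (le_normalizer_core' p M (hEM he)) (Subgroup.le_normalizer he)
    · exact (coprime_core' p M).coprime_dvd_left (Subgroup.card_dvd_of_le inf_le_left)
  have hAUc : (Nat.card A).Coprime (Nat.card U) := by
    rw [h.card]
    exact Nat.Coprime.pow_left 2 hUp.symm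
  have hAsol : Group.IsSolvable A := by
    haveI := (isPGroup h).isNilpotent
    infer_instance
  obtain ⟨T₁, hT₁⟩ := Cfsg.Agent.S0025.exists_invariant_sylow A U (hAE.trans hEU) hAUc
    (Or.inl hAsol) r
  set T' : Subgroup G := (T₁ : Subgroup U).map U.subtype with hT'
  have hT'U : T' ≤ U := Subgroup.map_subtype_le _
  have hT'r : IsPGroup r T' := T₁.isPGroup'.map _
  obtain ⟨T, hT⟩ : ∃ T : Sylow r M, (T : Subgroup M).map M.subtype = T' := by
    obtain ⟨T, hTle⟩ := SigmaCoreBasic808.exists_sylow_ge hT'r (hT'U.trans hUM)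
    refine ⟨T, (Subgroup.eq_of_le_of_card_ge hTle ?_).symm⟩
    have hTr : IsPGroup r ((T : Subgroup M).map M.subtype) := T.isPGroup'.map _
    obtain ⟨m, hm, hmE⟩ := HallPi.exists_conj_le_of_isComplIn
      (isSolvable_of_isCoatom hG hM) (Cfsg.Agent.S1350.result hG M hM).1 hE
      (Subgroup.map_subtype_le (T : Subgroup M)) (by
        intro q hq hd
        obtain ⟨k, hk⟩ := hTr.exists_card_eq
        rw [hk] at hd
        rwa [(Nat.prime_dvd_prime_iff_eq hq hr.out).mp (hq.dvd_of_dvd_pow hd)])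
    have hmr : IsPGroup r (((T : Subgroup M).map M.subtype)^^[m]) := hTr.map _
    obtain ⟨T₂, hT₂⟩ := SigmaCoreBasic808.exists_sylow_ge hmr (hUr _ hmE hmr)
    have h2 := Subgroup.card_le_of_le hT₂
    rw [card_map_conj, Blocks.SylowIn.card_of_sylow_map_eq ⟨T₂, rfl⟩,
      ← Blocks.SylowIn.card_of_sylow_map_eq ⟨T₁, rfl⟩] at h2
    exact h2
  -- move `B` into it
  obtain ⟨m, hm, hmB⟩ : ∃ m ∈ M, B₁^^[m] ≤ T' := by
    obtain ⟨T₃, hT₃⟩ := SigmaCoreBasic808.exists_sylow_ge (Sec11.isPGroup hB₁) hB₁.le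
    obtain ⟨m, hm, hmT⟩ := Blocks.SylowIn.exists_conj_of_sylow_map_eq ⟨T₃, rfl⟩ ⟨T, hT⟩
    exact ⟨m, hm, hmT ▸ Subgroup.map_mono hT₃⟩
  have hB := isExceptional_conj hB₁ hm
  rw [mem_normalizer_iff_map_conj.mp (hMX hm)] at hB
  set B : Subgroup G := B₁^^[m] with hBdef
  have hTcomm := fun (x y : G) hx hy => sylow_comm' hG hM hB T (x := x) (y := y) hx hy
  have hTB := mem_iff_pow_eq_one hG hM hB T (by rw [hT]; exact hmB)
  rw [hT] at hTcomm hTB
  have hAB : A ≤ normalizer (B : Set G) := by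
    intro a ha
    rw [mem_normalizer_iff_map_conj]
    apply Subgroup.eq_of_le_of_card_ge _ (card_map_conj B a).ge
    rintro _ ⟨b, hb, rfl⟩
    have h1 : (MulAut.conj a).toMonoidHom b ∈ T' := by
      rw [← mem_normalizer_iff_map_conj.mp (hT₁ ha)]
      exact Subgroup.mem_map_of_mem _ (hmB hb)
    exact (hTB _ h1).mp (by rw [← map_pow, hB.elem.2 b hb, map_one])
  have hABc : (Nat.card A).Coprime (Nat.card B) := by
    rw [hB.card]; exact Nat.Coprime.pow_right 2 hcA
  have hsup := Lib.CoprimeAbelian.sup_commutator_eq A B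
    (Rank.elemAb_def.mp hB.elem).1 hAB hABc
  set Y : Subgroup G := B ⊓ centralizer (A : Set G) with hY
  have hYne : Y ≠ ⊥ := by
    intro hb
    rw [hb, bot_sup_eq] at hsup
    have hBE : B ≤ E := hmB.trans (hT'U.trans hUE)
    have h1 : B ≤ R := by
      apply hmax _ _ (Sec11.isPGroup hB)
      refine le_inf (hmB.trans hT'U) ?_
      rw [← hsup]
      exact Subgroup.commutator_mono hBE hAE
    have h2 : B ≤ R₀ := by
      rw [← hsup]
      exact (Subgroup.commutator_mono h1 le_rfl).trans hRA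
    have h3 : B ≤ X := fun b hb => hΩ b (h2 hb) (hB.elem.2 b hb)
    have h4 := Subgroup.card_le_of_le h3
    rw [hB.card, hX] at h4
    have := hr.out.one_lt
    nlinarith
  have hXB : X ≤ B := hB.sub_le
  have hXY : X ⊔ Y = B := by
    have hle : X ⊔ Y ≤ B := sup_le hXB inf_le_left
    obtain ⟨n, hn, hcn⟩ := (Nat.dvd_prime_pow hr.out).mp (hB.card ▸ Subgroup.card_dvd_of_le hle)
    have hlt : X < X ⊔ Y := by
      refine lt_of_le_of_ne le_sup_left fun he => hYne ?_
      have hYX : Y ≤ X := he ▸ le_sup_right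
      by_contra hne
      have hd : Nat.card Y ∣ r := hX ▸ Subgroup.card_dvd_of_le hYX
      rcases (Nat.dvd_prime hr.out).mp hd with h3 | h3
      · exact hne (Subgroup.card_eq_one.mp h3)
      · have h4 : Y = X := Subgroup.eq_of_le_of_card_ge hYX (by rw [hX, h3])
        apply hXA
        rw [Subgroup.le_centralizer_iff, ← h4]
        exact inf_le_right
    have h3 : r ^ 1 < r ^ n := by
      rw [← hcn, pow_one, ← hX]
      exact lt_of_le_of_ne (Subgroup.card_le_of_le hlt.le)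
        (fun he => hlt.ne (Subgroup.eq_of_le_of_card_ge hlt.le he.ge))
    have h4 : 1 < n := (Nat.pow_lt_pow_iff_right hr.out.one_lt).mp h3
    have h5 : n = 2 := by omega
    exact Subgroup.eq_of_le_of_card_ge hle (by rw [hcn, h5, hB.card])
  have hA₃ : A ⊓ centralizer (X : Set G) ≤ centralizer (B : Set G) := by
    rw [Subgroup.le_centralizer_iff, ← hXY, sup_le_iff]
    refine ⟨?_, ?_⟩
    · rw [Subgroup.le_centralizer_iff]; exact inf_le_right
    · exact (inf_le_right : Y ≤ _).trans (Subgroup.centralizer_le inf_le_left)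
  refine ⟨r, hr, X, B, T, hpr, hB, hMX, by rw [hT]; exact hmB, by rw [hT]; exact hT₁, hXA, ?_,
    fun hb => hYne (le_bot_iff.mp (hb ▸ inf_le_inf_right _ (by rw [hT]; exact hmB)))⟩
  rw [hT]
  refine Lib.CoprimeStab.le_centralizer_of_omega r hr2 _ (hcA.coprime_dvd_left
    (Subgroup.card_dvd_of_le inf_le_left)) T' hT'r (inf_le_left.trans hT₁) ?_
  intro x hx hxr a ha
  exact Subgroup.mem_centralizer_iff.mp (hA₃ ha) x ((hTB x hx).mp hxr)

section Final

variable (hG : IsMinSimpleOddOrder G) {M A₀ A : Subgroup G} (hM : IsCoatom M) {p : ℕ}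
  [hpf : Fact p.Prime] (h : IsExceptional p M A₀ A) {r : ℕ} [hr : Fact r.Prime] {X B : Subgroup G}
  (T : Sylow r M) (hpr : p < r) (hB : IsExceptional r M X B) (hMX : M ≤ normalizer (X : Set G))
  (hBT : B ≤ (T : Subgroup M).map M.subtype)
  (hAT : A ≤ normalizer (((T : Subgroup M).map M.subtype : Subgroup G) : Set G))
  (hXA : ¬ A ≤ centralizer (X : Set G))
  (hA₃ : A ⊓ centralizer (X : Set G) ≤
    centralizer (((T : Subgroup M).map M.subtype : Subgroup G) : Set G))
  (hTA : (T : Subgroup M).map M.subtype ⊓ centralizer (A : Set G) ≠ ⊥)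

include hG hM h hpr hB hMX hBT hAT hXA hA₃ hTA in
theorem normalizer_le_normalizer_kernel :
    normalizer (A : Set G) ≤ normalizer ((A ⊓ centralizer (X : Set G) : Subgroup G) : Set G) := by
  set T' : Subgroup G := (T : Subgroup M).map M.subtype with hT'
  have hT'M : T' ≤ M := Subgroup.map_subtype_le _
  have hT'r : IsPGroup r T' := T.isPGroup'.map _
  have hXT : X ≤ T' := hB.sub_le.trans hBT
  have hrA : ¬ r ∣ Nat.card A := by
    rw [h.card]
    intro hd
    exact hpr.ne' ((Nat.prime_dvd_prime_iff_eq hr.out hpf.out).mp (hr.out.dvd_of_dvd_pow hd))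
  have hinv : T' ∈ invSubgroups ⊤ A {r} := by
    refine ⟨le_top, ?_, hAT⟩
    intro q hq hd
    obtain ⟨k, hk⟩ := hT'r.exists_card_eq
    rw [hk] at hd
    exact (Nat.prime_dvd_prime_iff_eq hq hr.out).mp (hq.dvd_of_dvd_pow hd)
  obtain ⟨Q, hQ, hTQ⟩ := Transitivity.exists_maxInv_ge hinv
  have hQr : IsPGroup r Q := by
    rw [IsPGroup.iff_card]
    refine ⟨_, Nat.eq_prime_pow_of_unique_prime_dvd Nat.card_pos.ne' (fun {q} hq hd => ?_)⟩
    exact hQ.1.2.1 q hq hd
  have hAQ : A ≤ normalizer (Q : Set G) := hQ.1.2.2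
  have hMQ : M ⊓ Q = T' :=
    (Blocks.SylowIn.exists_sylow_map_eq_iff.mp ⟨T, rfl⟩).2.2 _ inf_le_left
      (hQr.to_le inf_le_right) (le_inf hT'M hTQ)
  have hXne : X ≠ ⊥ := ne_bot₀ hB
  have hNX : normalizer (X : Set G) = M := normalizer_eq_of_le_coatom hG hM hXne (hXT.trans hT'M) hMX
  set A₃ : Subgroup G := A ⊓ centralizer (X : Set G) with hA₃def
  have hA₃Q : A₃ ≤ centralizer (Q : Set G) := by
    have hcop : (Nat.card A₃).Coprime (Nat.card Q) :=
      (coprime_of_isPGroup hQr hrA).coprime_dvd_left (Subgroup.card_dvd_of_le inf_le_left)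
    refine Cfsg.Agent.S1442.result Q A₃ hQr.isNilpotent (inf_le_left.trans hAQ) hcop ?_
    have h1 : T' ≤ Q ⊓ centralizer (A₃ : Set G) := le_inf hTQ (Subgroup.le_centralizer_iff.mp hA₃)
    refine le_trans ?_ h1
    rw [← hMQ]
    refine le_inf ?_ inf_le_left
    rw [← hNX]
    exact (inf_le_right.trans (Subgroup.centralizer_le (hXT.trans h1))).trans
      (Subgroup.centralizer_le_normalizer _)
  have hA₃eq : A ⊓ centralizer (Q : Set G) = A₃ :=
    le_antisymm (inf_le_inf_left _ (Subgroup.centralizer_le (hXT.trans hTQ)))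
      (le_inf inf_le_left hA₃Q)
  intro g hg
  have hQg := Transitivity.conj_mem_maxInv_top hQ hg
  have hCne : centralizer (A : Set G) ⊓ Q ≠ ⊥ := fun hb =>
    hTA (le_bot_iff.mp (hb ▸ le_inf inf_le_right (inf_le_left.trans hTQ)))
  have hCg : (centralizer (A : Set G))^^[g] = centralizer (A : Set G) := by
    rw [Equivariance.map_centralizer_subgroup, mem_normalizer_iff_map_conj.mp hg]
  have hCneg : centralizer (A : Set G) ⊓ Q^^[g] ≠ ⊥ := by
    rw [← hCg, ← Equivariance.map_inf_equiv]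
    rw [Ne, Equivariance.map_eq_bot_iff']
    exact hCne
  obtain ⟨k, hk, hkQ⟩ := Cfsg.Agent.S1392.result hG A (transitivity hG hM h) r hr.out hrA Q _ hQ hQg
    (centralizer (A : Set G)) (centralizer_ne_top hG (ne_bot h))
    (le_centralizer_of_le h le_rfl) hCne hCneg
  have hkA : k ∈ centralizer (A : Set G) := Subgroup.map_subtype_le _ hk
  rw [mem_normalizer_iff_map_conj]
  have h1 : A^^[k] = A := mem_normalizer_iff_map_conj.mp (Subgroup.centralizer_le_normalizer _ hkA)
  have h2 : A₃^^[k] = A₃ := by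
    apply mem_normalizer_iff_map_conj.mp
    exact Subgroup.centralizer_le_normalizer _
      (Subgroup.centralizer_le (inf_le_left : A₃ ≤ A) hkA)
  rw [← h2]
  conv_lhs => rw [h2]
  rw [← hA₃eq, Equivariance.map_inf_equiv, Equivariance.map_inf_equiv,
    Equivariance.map_centralizer_subgroup, Equivariance.map_centralizer_subgroup, h1,
    mem_normalizer_iff_map_conj.mp hg, hkQ]

include hG hM h hpr hB hMX hBT hAT hXA hA₃ hTA in
theorem exists_coatom_mem_sigma : ∃ L : Subgroup G, IsCoatom L ∧ A ≤ L ∧ X ≤ L ∧ p ∈ sigma L := by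
  have hXne : X ≠ ⊥ := ne_bot₀ hB
  have hNA := normalizer_le_normalizer_kernel hG hM h T hpr hB hMX hBT hAT hXA hA₃ hTA
  have hrp : r ≠ p := hpr.ne'
  have hcA₃ := exists_kernel h hrp hB.sub_card (h.le.trans hMX) hXA
  set A₃ : Subgroup G := A ⊓ centralizer (X : Set G) with hA₃def
  have hA₃A : A₃ ≤ A := inf_le_left
  have hA₃ne : A₃ ≠ ⊥ := by
    intro hb
    rw [hb, Subgroup.card_bot] at hcA₃
    exact hpf.out.one_lt.ne hcA₃
  have hA₃top : A₃ ≠ ⊤ := fun ht => hM.1 (top_le_iff.mp (ht ▸ hA₃A.trans h.le))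
  obtain ⟨L, hL, hNL⟩ := exists_coatom_normalizer_le hG hA₃ne hA₃top
  have hAL : A ≤ L := (Subgroup.le_normalizer.trans hNA).trans hNL
  have hXL : X ≤ L := by
    refine le_trans ?_ hNL
    refine le_trans ?_ (Subgroup.centralizer_le_normalizer _)
    rw [Subgroup.le_centralizer_iff]
    exact inf_le_right
  refine ⟨L, hL, hAL, hXL, ?_⟩
  obtain ⟨P, hAP⟩ := Sec11.exists_sylow_ge hG hM h
  set P' : Subgroup G := (P : Subgroup M).map M.subtype with hP'
  have hP'M : P' ≤ M := Subgroup.map_subtype_le _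
  have hP'p : IsPGroup p P' := P.isPGroup'.map _
  have hNP : normalizer (P' : Set G) ≤ normalizer (A : Set G) :=
    normalizer_sylow_le_normalizer hG hM h P hAP
  obtain ⟨S, hPS⟩ := hP'p.exists_le_sylow
  have hSne : (S : Subgroup G) ≠ ⊥ := by
    intro hb
    exact ne_bot h (le_bot_iff.mp (hb ▸ hAP.trans hPS))
  apply mem_sigma_of_normalizer_le S hSne
  by_cases hSP : (S : Subgroup G) = P'
  · rw [hSP]
    exact (hNP.trans hNA).trans hNL
  have hSM : (S : Subgroup G) ⊓ M = P' :=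
    (Blocks.SylowIn.exists_sylow_map_eq_iff.mp ⟨P, rfl⟩).2.2 _ inf_le_right
      (S.isPGroup'.to_le inf_le_left) (le_inf hPS hP'M)
  obtain ⟨x, hx, hxP⟩ : ∃ x ∈ normalizer (P' : Set G) ⊓ (S : Subgroup G), x ∉ P' := by
    by_contra hcon
    push Not at hcon
    exact hSP (Blocks.SylowIn.eq_of_normalizer_inf_le S.isPGroup' hPS hcon)
  obtain ⟨hxN, hxS⟩ := Subgroup.mem_inf.mp hx
  have hxM : x ∉ M := fun hxM => hxP (hSM ▸ Subgroup.mem_inf.mpr ⟨hxS, hxM⟩)
  have hZne := IdealPrime.omegaCenter_ne_bot S.isPGroup' hSne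
  set Z : Subgroup G := IdealPrime.omegaCenter p (S : Subgroup G) with hZ
  have hAS : A ≤ (S : Subgroup G) := hAP.trans hPS
  have hZA : Z ≤ A := by
    intro z hz
    obtain ⟨hzS, hzc, hzp⟩ := IdealPrime.mem_omegaCenter.mp hz
    have h1 : z ∈ M := centralizer_le h (Subgroup.centralizer_le hAS hzc)
    have h2 : z ∈ P' := by rw [← hSM]; exact Subgroup.mem_inf.mpr ⟨hzS, h1⟩
    exact (mem_iff_pow_eq_one hG hM h P hAP z h2).mp hzp
  have hZA₃ : Z ≤ A₃ := by
    by_contra hcon
    have hle : A₃ ⊔ Z ≤ A := sup_le hA₃A hZA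
    have hlt : A₃ < A₃ ⊔ Z :=
      lt_of_le_of_ne le_sup_left fun he => hcon (he ▸ le_sup_right)
    obtain ⟨n, hn, hcn⟩ := (Nat.dvd_prime_pow hpf.out).mp (h.card ▸ Subgroup.card_dvd_of_le hle)
    have h3 : p ^ 1 < p ^ n := by
      rw [← hcn, pow_one, ← hcA₃]
      exact lt_of_le_of_ne (Subgroup.card_le_of_le hlt.le)
        (fun he => hlt.ne (Subgroup.eq_of_le_of_card_ge hlt.le he.ge))
    have h4 : 1 < n := (Nat.pow_lt_pow_iff_right hpf.out.one_lt).mp h3
    have h5 : n = 2 := by omega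
    have h6 : A₃ ⊔ Z = A := Subgroup.eq_of_le_of_card_ge hle (by rw [hcn, h5, h.card])
    apply hxM
    apply centralizer_le h
    have h7 : Subgroup.zpowers x ≤ centralizer (A₃ : Set G) := by
      by_contra hnot
      refine absurd (lt_of_not_le_centralizer (S.isPGroup'.to_le ?_) hcA₃ ?_ hnot) (lt_irrefl p)
      · rwa [Subgroup.zpowers_le]
      · rw [Subgroup.zpowers_le]
        exact hNA (hNP hxN)
    have h8 : Subgroup.zpowers x ≤ centralizer (Z : Set G) := by
      rw [Subgroup.le_centralizer_iff]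
      intro z hz
      refine Subgroup.centralizer_le ?_ (IdealPrime.mem_omegaCenter.mp hz).2.1
      exact (by rwa [Subgroup.zpowers_le] : Subgroup.zpowers x ≤ (S : Subgroup G))
    rw [Subgroup.le_centralizer_iff] at h7 h8
    have h9 : A ≤ centralizer (Subgroup.zpowers x : Set G) := by
      rw [← h6]; exact sup_le h7 h8
    rw [Subgroup.le_centralizer_iff] at h9
    exact h9 (Subgroup.mem_zpowers x)
  have hZeq : Z = A₃ := by
    have hd : Nat.card Z ∣ p := hcA₃ ▸ Subgroup.card_dvd_of_le hZA₃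
    rcases (Nat.dvd_prime hpf.out).mp hd with h3 | h3
    · exact absurd (Subgroup.card_eq_one.mp h3) hZne
    · exact Subgroup.eq_of_le_of_card_ge hZA₃ (by rw [hcA₃, h3])
  have h5 := IdealPrime.normalizer_le_normalizer_omegaCenter p (S : Subgroup G)
  rw [← hZ, hZeq] at h5
  exact h5.trans hNL

include hG hM h hpr hB hMX hBT hAT hXA hA₃ hTA in
theorem false_of_config : False := by
  obtain ⟨L, hL, hAL, hXL, hpL⟩ :=
    exists_coatom_mem_sigma hG hM h T hpr hB hMX hBT hAT hXA hA₃ hTA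
  have hLσ : L ≤ normalizer (sigmaCore L : Set G) := HallPi.le_normalizer_sigmaCore L
  have hHall := (Cfsg.Agent.S1350.result hG L hL).1
  have hAσ : A ≤ sigmaCore L := by
    refine HallPi.le_of_normal_isPiHallOf hHall hLσ hAL ?_
    intro q hq hd
    rw [h.card] at hd
    rwa [(Nat.prime_dvd_prime_iff_eq hq hpf.out).mp (hq.dvd_of_dvd_pow hd)]
  have hXcomm : ⁅X, A⁆ = X := by
    have hle : ⁅X, A⁆ ≤ X := commutator_le_of_le_normalizer (h.le.trans hMX)
    have hd : Nat.card ↥⁅X, A⁆ ∣ r := hB.sub_card ▸ Subgroup.card_dvd_of_le hle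
    rcases (Nat.dvd_prime hr.out).mp hd with h3 | h3
    · exfalso
      apply hXA
      rw [Subgroup.le_centralizer_iff, ← Subgroup.commutator_eq_bot_iff_le_centralizer]
      exact Subgroup.card_eq_one.mp h3
    · exact Subgroup.eq_of_le_of_card_ge hle (by rw [hB.sub_card, h3])
  have hXσ : X ≤ sigmaCore L := by
    rw [← hXcomm]
    exact (Subgroup.commutator_mono le_rfl hAσ).trans
      (commutator_le_of_le_normalizer' (hXL.trans hLσ))
  have hrβ : r ∉ beta L := fun hβ => not_isIdealPrime hG hM hB hβ.2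
  have hrL : r ∣ Nat.card L := hB.sub_card ▸ Subgroup.card_dvd_of_le hXL
  obtain ⟨S, N, hN, hNS⟩ := ((Cfsg.Agent.S1414.result hG L hL).2.2.2.2 r hr.out hrL hrβ).2.1
  have hidx : ¬ p ∣ N.index := by
    rw [hNS.symm.index_eq_card]
    intro hd
    obtain ⟨k, hk⟩ := S.isPGroup'.exists_card_eq
    rw [hk] at hd
    exact hpr.ne ((Nat.prime_dvd_prime_iff_eq hpf.out hr.out).mp (hpf.out.dvd_of_dvd_pow hd))
  have hcN : ¬ r ∣ Nat.card N := by
    rw [← hNS.index_eq_card]
    exact S.not_dvd_index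
  set N' : Subgroup G := N.map (sigmaCore L).subtype with hN'
  have hAN : A ≤ N' := by
    have h1 := AlphaCore.le_of_isPGroup_of_not_dvd_index hN hidx
      ((isPGroup h).of_equiv (Subgroup.subgroupOfEquivOfLe hAσ).symm)
    have h2 := Subgroup.map_mono (f := (sigmaCore L).subtype) h1
    rwa [Subgroup.map_subgroupOf_eq_of_le hAσ] at h2
  have hXN : X ≤ N' := by
    rw [← hXcomm]
    exact (Subgroup.commutator_mono le_rfl hAN).trans
      (commutator_le_of_le_normalizer' (hXσ.trans (HallPi.le_normalizer_map_subtype N)))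
  apply hcN
  rw [← Subgroup.card_map_of_injective (K := N) (sigmaCore L).subtype_injective, ← hN', ← hB.sub_card]
  exact Subgroup.card_dvd_of_le hXN

end Final

/-- B&G, Theorem 11.7: `M_σ A` is normal in `M`. -/
theorem le_normalizer_sup (hG : IsMinSimpleOddOrder G) {M A₀ A : Subgroup G} (hM : IsCoatom M)
    {p : ℕ} [hpf : Fact p.Prime] (h : IsExceptional p M A₀ A) :
    M ≤ normalizer ((sigmaCore M ⊔ A : Subgroup G) : Set G) := by
  have hHall := (Cfsg.Agent.S1350.result hG M hM).1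
  obtain ⟨E, hE, hAE⟩ := HallPi.exists_isComplIn_ge (isSolvable_of_isCoatom hG hM) hHall h.le (by
    intro q hq hd
    rw [h.card] at hd
    rw [(Nat.prime_dvd_prime_iff_eq hq hpf.out).mp (hq.dvd_of_dvd_pow hd)]
    exact h.notMem_sigma)
  have hMσ : M ≤ normalizer (sigmaCore M : Set G) := HallPi.le_normalizer_sigmaCore M
  have hEA : E ≤ normalizer (A : Set G) := by
    apply le_normalizer_of_le_centralizer_core hG hM h hE.1 hAE
    by_contra hcon
    obtain ⟨r, hr, X, B, T, hpr, hB, hMX, hBT, hAT, hXA, hA₃, hTA⟩ :=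
      exists_config hG hM h hE hAE hcon
    exact false_of_config hG hM h T hpr hB hMX hBT hAT hXA hA₃ hTA
  intro m hm
  obtain ⟨e, he, s, hs, rfl⟩ := hE.2.2.2 m hm
  refine Subgroup.mul_mem _ ?_ ?_
  · rw [mem_normalizer_iff_map_conj, Subgroup.map_sup,
      mem_normalizer_iff_map_conj.mp (hMσ (hE.1 he)), mem_normalizer_iff_map_conj.mp (hEA he)]
  · exact Subgroup.le_normalizer ((le_sup_left : sigmaCore M ≤ _) hs)

end Cfsg.Agent.OddOrderLocal.Sec11b
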