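import Mathlib
import Cfsg.Prelude.Def_OddOrderLocal
import Cfsg.Agent.OddOrderLocal.Rank
import Cfsg.Agent.OddOrderLocal.ZGroup
import Cfsg.Agent.OddOrderLocal.MinSimple
import Cfsg.Agent.OddOrderLocal.MinSimpleBasic
import Cfsg.Agent.OddOrderLocal.SylowInter
import Cfsg.Agent.OddOrderLocal.SigmaCoreBasic808
import Cfsg.Agent.OddOrderLocal.Equivariance
import Cfsg.Agent.S1404

/-!
B&G Lemma 12.2(a): a maximal subgroup containing the normalizer of a `p`-subgroup `X` of `M` is not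
conjugate to `M` when `p ∈ σ(M)` and it is not `M`, or `p ∈ τ₁(M) ∪ τ₃(M)`.
-/

set_option autoImplicit false
set_option linter.style.haveILetI false

namespace Cfsg.Agent.OddOrderLocal.Sec12_2

open Cfsg Cfsg.Agent Cfsg.Agent.OddOrderLocal

variable {G : Type*} [Group G] [Finite G]

theorem not_conj_of_mem_sigma (hG : Cfsg.IsMinSimpleOddOrder G)
    {M Mstar : Subgroup G} (hM : IsCoatom M) {p : ℕ} [Fact p.Prime]
    (hp : p ∈ Cfsg.sigma M) {X : Subgroup G} (hXp : IsPGroup p X) (hX1 : X ≠ ⊥) (hXM : X ≤ M)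
    (hN : Subgroup.normalizer (X : Set G) ≤ Mstar) (hne : M ≠ Mstar) (g : G) :
    Mstar ≠ M.map (MulAut.conj g).toMonoidHom := by
  intro heq
  have h1 : X.map (MulAut.conj g⁻¹).toMonoidHom ≤ M := by
    rw [MinSimpleBasic.map_conj_inv_le_iff, inv_inv, ← heq]
    exact Subgroup.le_normalizer.trans hN
  obtain ⟨m, hm, c, hc, hmc⟩ := (S1404.result hG M hM p hp X hXp hX1 hXM).1 g⁻¹ h1
  have hcN : c ∈ Mstar := hN (Subgroup.centralizer_le_normalizer _ hc)
  have hg : g = c⁻¹ * m⁻¹ := by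
    rw [← mul_inv_rev, ← hmc, inv_inv]
  have h2 : Mstar = M.map (MulAut.conj c⁻¹).toMonoidHom := by
    rw [heq, hg, MinSimpleBasic.map_conj_mul, MinSimpleBasic.map_conj_of_mem (inv_mem hm)]
  have h3 : Mstar.map (MulAut.conj c).toMonoidHom = M := by
    rw [h2, ← MinSimpleBasic.map_conj_mul, mul_inv_cancel, MinSimpleBasic.map_conj_one]
  rw [MinSimpleBasic.map_conj_of_mem hcN] at h3
  exact hne h3.symm

/-- If `M` has `p`-rank at most one, `p ∉ σ(M)` and `X` is a nontrivial `p`-subgroup of `M`, then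
no conjugate of `M` contains `N_G(X)`. -/
theorem not_conj_of_pRankLE_one (hG : Cfsg.IsMinSimpleOddOrder G)
    {M Mstar : Subgroup G} {p : ℕ} [hp : Fact p.Prime]
    (hpσ : p ∉ Cfsg.sigma M) (hr : Cfsg.PRankLE p 1 M) {X : Subgroup G} (hXp : IsPGroup p X)
    (hX1 : X ≠ ⊥) (hXM : X ≤ M)
    (hN : Subgroup.normalizer (X : Set G) ≤ Mstar) (g : G) :
    Mstar ≠ M.map (MulAut.conj g).toMonoidHom := by
  intro heq
  obtain ⟨P, hXP⟩ := SigmaCoreBasic808.exists_sylow_ge hXp hXM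
  set Q : Subgroup G := (P : Subgroup M).map M.subtype with hQ
  have hQp : IsPGroup p Q := P.isPGroup'.map _
  have hpM : p ∣ Nat.card M := by
    obtain ⟨n, hn⟩ := IsPGroup.iff_card.mp hXp
    refine dvd_trans ?_ (Subgroup.card_dvd_of_le hXM)
    rw [hn]
    refine dvd_pow_self p ?_
    rintro rfl
    rw [pow_zero] at hn
    exact hX1 (Subgroup.card_eq_one.mp hn)
  haveI hPc : IsCyclic P :=
    (ZGroup.sylow_isCyclic_iff (MinSimpleBasic.odd_card_subgroup hG M) P).mpr hr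
  have hQc : IsCyclic Q := isCyclic_of_surjective
    ((P : Subgroup M).equivMapOfInjective M.subtype M.subtype_injective).toMonoidHom
    ((P : Subgroup M).equivMapOfInjective M.subtype M.subtype_injective).surjective
  have hNQ : Subgroup.normalizer (Q : Set G) ≤ Mstar :=
    (SylowInter.normalizer_le_of_isCyclic hQc hXP).trans hN
  have hQM : Q ≤ Mstar := Subgroup.le_normalizer.trans hNQ
  have hcard : Nat.card Mstar = Nat.card M := by rw [heq, MinSimpleBasic.card_map_conj]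
  have hQcard : Nat.card (Q.subgroupOf Mstar) = p ^ (Nat.card Mstar).factorization p := by
    rw [Nat.card_congr (Subgroup.subgroupOfEquivOfLe hQM).toEquiv, hcard, hQ,
      Subgroup.card_map_of_injective M.subtype_injective]
    exact P.card_eq_multiplicity
  have hσ : p ∈ Cfsg.sigma Mstar := by
    refine ⟨hp.out, by rw [hcard]; exact hpM, Sylow.ofCard _ hQcard, ?_⟩
    rw [Sylow.coe_ofCard, Subgroup.map_subgroupOf_eq_of_le hQM]
    exact hNQ
  rw [heq, Equivariance.sigma_map] at hσ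
  exact hpσ hσ

/-- B&G Lemma 12.2(a). -/
theorem not_conj_of_normalizer_le {G : Type*} [Group G] [Finite G]
    (hG : Cfsg.IsMinSimpleOddOrder G) (M Mstar : Subgroup G) (hM : IsCoatom M)
    (_hMs : IsCoatom Mstar) (p : ℕ) [Fact p.Prime] (X : Subgroup G) (hXp : IsPGroup p X)
    (hX1 : X ≠ ⊥) (hXM : X ≤ M) (hN : Subgroup.normalizer (X : Set G) ≤ Mstar)
    (h : (p ∈ Cfsg.sigma M ∧ M ≠ Mstar) ∨ p ∈ Cfsg.tau1 M ∨ p ∈ Cfsg.tau3 M) :
    ∀ g : G, Mstar ≠ M.map (MulAut.conj g).toMonoidHom := by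
  intro g
  rcases h with ⟨hp, hne⟩ | hp | hp
  · exact not_conj_of_mem_sigma hG hM hp hXp hX1 hXM hN hne g
  · exact not_conj_of_pRankLE_one hG hp.2.1 hp.2.2.2.2 hXp hX1 hXM hN g
  · exact not_conj_of_pRankLE_one hG hp.2.1 hp.2.2.2 hXp hX1 hXM hN g

end Cfsg.Agent.OddOrderLocal.Sec12_2
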