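import Mathlib
import Cfsg.Prelude.Def_OddOrderLocal
import Cfsg.Agent.S1350
import Cfsg.Agent.S1404
import Cfsg.Agent.OddOrderLocal.MinSimple
import Cfsg.Agent.OddOrderLocal.SigmaBasic

/-!
B&G Theorem 10.2(c): `M_σ ≤ M'` for a maximal subgroup `M` of a minimal simple group of odd order.
-/

set_option autoImplicit false

namespace Cfsg.Agent.OddOrderLocal.SigmaDerived

open Cfsg.Agent.OddOrderLocal
open scoped commutatorElement

theorem commutator_eq_top {G : Type*} [Group G] (hG : Cfsg.IsMinSimpleOddOrder G) :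
    commutator G = ⊤ := by
  rcases MinSimple.eq_bot_or_eq_top_of_normal hG (inferInstance : (commutator G).Normal) with h | h
  · exfalso
    apply MinSimple.not_comm hG
    refine ⟨⟨fun a b => ?_⟩⟩
    have h1 : ⁅a, b⁆ ∈ commutator G := Subgroup.commutator_mem_commutator (Subgroup.mem_top a) (Subgroup.mem_top b)
    rw [h, Subgroup.mem_bot] at h1
    exact commutatorElement_eq_one_iff_mul_comm.mp h1
  · exact h

/-- B&G Theorem 10.2(c), inside `M`. -/
theorem piCore_sigma_le_commutator {G : Type*} [Group G] [Finite G] (hG : Cfsg.IsMinSimpleOddOrder G)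
    (M : Subgroup G) (hM : IsCoatom M) : Cfsg.piCore (Cfsg.sigma M) M ≤ commutator M := by
  have hcardH : Nat.card (Cfsg.piCore (Cfsg.sigma M) M) = Nat.card (Cfsg.sigmaCore M) :=
    (Nat.card_congr (Subgroup.equivMapOfInjective _ M.subtype M.subtype_injective).toEquiv)
  rw [← Subgroup.relIndex_eq_one]
  by_contra hne
  obtain ⟨p, hp, hpd⟩ := Nat.exists_prime_and_dvd hne
  have := Fact.mk hp
  have h1 : p ∈ Cfsg.sigma M := by
    apply (S1350.result hG M hM).1.2.1 p hp
    rw [← hcardH]
    exact hpd.trans (Subgroup.relIndex_dvd_card _ _)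
  have h2 : p ∣ (commutator M).index := hpd.trans (Subgroup.relIndex_dvd_index_of_normal _ _)
  obtain ⟨P⟩ : Nonempty (Sylow p M) := inferInstance
  have h3 := SigmaBasic.sylow_le_commutator (commutator_eq_top hG) h1
    (fun X hX hX1 hXM => (S1404.result hG M hM p h1 X hX hX1 hXM).1) P
  exact P.not_dvd_index (h2.trans (Subgroup.index_dvd_of_le h3))

/-- `(commutator M).map M.subtype = ⁅M, M⁆`. -/
theorem map_subtype_commutator {G : Type*} [Group G] (M : Subgroup G) :
    (commutator M).map M.subtype = ⁅M, M⁆ := by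
  rw [commutator_def, Subgroup.map_commutator, ← MonoidHom.range_eq_map, Subgroup.range_subtype]

/-- B&G Theorem 10.2(c): `M_σ ≤ M'`. -/
theorem sigmaCore_le_commutator {G : Type*} [Group G] [Finite G] (hG : Cfsg.IsMinSimpleOddOrder G)
    (M : Subgroup G) (hM : IsCoatom M) : Cfsg.sigmaCore M ≤ ⁅M, M⁆ := by
  rw [← map_subtype_commutator]
  exact Subgroup.map_mono (piCore_sigma_le_commutator hG M hM)

end Cfsg.Agent.OddOrderLocal.SigmaDerived
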