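import Mathlib
import Cfsg.Prelude.Def_OddOrderLocal
import Cfsg.Agent.OddOrderLocal.Rank
import Cfsg.Agent.OddOrderLocal.HallPi
import Cfsg.Agent.OddOrderLocal.MinSimple
import Cfsg.Agent.OddOrderLocal.MinSimpleBasic
import Cfsg.Agent.OddOrderLocal.SylowInter
import Cfsg.Agent.OddOrderLocal.SigmaCoreBasic808
import Cfsg.Agent.OddOrderLocal.AlphaCore
import Cfsg.Agent.OddOrderLocal.PiCoreOf
import Cfsg.Agent.OddOrderLocal.Equivariance
import Cfsg.Agent.OddOrderLocal.SigmaElements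
import Cfsg.Agent.OddOrderLocal.SigmaDerived
import Cfsg.Agent.OddOrderLocal.SigmaDisjoint
import Cfsg.Agent.OddOrderLocal.FittingHall
import Cfsg.Agent.OddOrderLocal.Sec12_2
import Cfsg.Agent.OddOrderLocal.Sec11
import Cfsg.Agent.OddOrderLocal.Sec11b
import Cfsg.Agent.Lib.CoprimeStab
import Cfsg.Agent.Lib.CoprimeCommutator
import Cfsg.Agent.S1350
import Cfsg.Agent.S1405

/-!
B&G Lemma 12.3.
-/

set_option autoImplicit false
set_option linter.style.haveILetI false

namespace Cfsg.Agent.OddOrderLocal.Sec12_3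

open Cfsg Cfsg.Agent Cfsg.Agent.OddOrderLocal
open scoped commutatorElement

variable {G : Type*} [Group G] [Finite G]

theorem isPi_alphaCore (M : Subgroup G) :
    ∀ p : ℕ, p.Prime → p ∣ Nat.card (Cfsg.alphaCore M) → p ∈ Cfsg.alpha M :=
  PiCoreOf.piCoreOf_isPi (Cfsg.alpha M) M

theorem isPi_sigmaCore (M : Subgroup G) :
    ∀ p : ℕ, p.Prime → p ∣ Nat.card (Cfsg.sigmaCore M) → p ∈ Cfsg.sigma M :=
  PiCoreOf.piCoreOf_isPi (Cfsg.sigma M) M

/-- The exceptional case. -/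
theorem exceptional_case (hG : Cfsg.IsMinSimpleOddOrder G) {M H : Subgroup G} (hM : IsCoatom M)
    (hH : IsCoatom H) (hne : H ≠ M) {p : ℕ} [hp : Fact p.Prime] {A₀ A : Subgroup G}
    (hexc : Sec11.IsExceptional p H A₀ A) (hAM : A ≤ M) {N : Subgroup G}
    (hN : N ≤ Cfsg.sigmaCore M) (hMN : M ≤ Subgroup.normalizer (N : Set G))
    (hpN : ¬ p ∣ Nat.card N) : A ≤ Subgroup.centralizer ((N ⊓ H : Subgroup G) : Set G) := by
  have hinf : Cfsg.sigmaCore M ⊓ Cfsg.sigmaCore H = ⊥ := by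
    by_contra h
    exact hne (Sec11.eq_of_sigmaCore_inf_ne_bot hG hH hexc M hM hAM h).symm
  have hHσA : H ≤ Subgroup.normalizer ((Cfsg.sigmaCore H ⊔ A : Subgroup G) : Set G) :=
    Sec11b.le_normalizer_sup hG hH hexc
  have hσH : Cfsg.sigmaCore H ≤ H := HallPi.sigmaCore_le H
  have hHσ := HallPi.le_normalizer_sigmaCore H
  have hAσ : A ≤ Subgroup.normalizer (Cfsg.sigmaCore H : Set G) := hexc.le.trans hHσ
  -- `H_σ` is the normal Hall `p'`-subgroup of `H_σ A`
  have hHall : Cfsg.IsPiHallOf {q | q ≠ p} (Cfsg.sigmaCore H) (Cfsg.sigmaCore H ⊔ A) := by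
    refine ⟨le_sup_left, ?_, ?_⟩
    · intro q hq hd hqp
      exact hexc.notMem_sigma (hqp ▸ isPi_sigmaCore H q hq hd)
    · intro q hq hqp hd
      have h1 : (Cfsg.sigmaCore H).relIndex (Cfsg.sigmaCore H ⊔ A) ∣ Nat.card A := by
        have h2 : Nat.card ↥(A ⊔ Cfsg.sigmaCore H) ∣ Nat.card A * Nat.card (Cfsg.sigmaCore H) :=
          PiCoreOf.card_sup_dvd_of_le_normalizer hAσ
        have h3 := HallPi.card_mul_relIndex (H := Cfsg.sigmaCore H) (M := Cfsg.sigmaCore H ⊔ A)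
          le_sup_left
        rw [sup_comm, ← h3, mul_comm (Nat.card A)] at h2
        exact Nat.dvd_of_mul_dvd_mul_left Nat.card_pos h2
      rw [hexc.card] at h1
      exact hqp ((Nat.prime_dvd_prime_iff_eq hq hp.out).mp (hq.dvd_of_dvd_pow (hd.trans h1)))
  -- `A` normalizes `K = N ∩ H`
  have hAK : A ≤ Subgroup.normalizer ((N ⊓ H : Subgroup G) : Set G) :=
    (le_inf (hAM.trans hMN) (hexc.le.trans Subgroup.le_normalizer)).trans
      Subgroup.inf_normalizer_le_normalizer_inf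
  have hcomm : ⁅N ⊓ H, A⁆ = ⊥ := by
    rw [eq_bot_iff]
    have h1 : ⁅N ⊓ H, A⁆ ≤ N ⊓ H := Lib.CoprimeCommutator.commutator_le_left hAK
    have h2 : ⁅N ⊓ H, A⁆ ≤ Cfsg.sigmaCore H ⊔ A := by
      rw [Subgroup.commutator_comm]
      exact (Subgroup.commutator_mono le_sup_right inf_le_right).trans
        (Lib.CoprimeCommutator.commutator_le_left hHσA)
    have h3 : ⁅N ⊓ H, A⁆ ≤ Cfsg.sigmaCore H := by
      refine HallPi.le_of_normal_isPiHallOf hHall ?_ h2 ?_
      · exact sup_le Subgroup.le_normalizer hAσ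
      · intro q hq hd hqp
        apply hpN
        rw [← hqp]
        exact hd.trans (Subgroup.card_dvd_of_le (h1.trans inf_le_left))
    rw [← hinf]
    exact le_inf (h1.trans (inf_le_left.trans hN)) h3
  rw [Subgroup.commutator_comm] at hcomm
  exact Subgroup.commutator_eq_bot_iff_le_centralizer.mp hcomm

/-- Nonconjugacy. -/
theorem not_conj (hG : Cfsg.IsMinSimpleOddOrder G) {M H : Subgroup G} (hM : IsCoatom M)
    (hne : H ≠ M) {p : ℕ} [hp : Fact p.Prime] {A₀ : Subgroup G}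
    (hA₀c : Nat.card A₀ = p) (hA₀M : A₀ ≤ M)
    (hN : Subgroup.normalizer (A₀ : Set G) ≤ H) (hpH : p ∈ Cfsg.sigma H) (g : G) :
    H ≠ M.map (MulAut.conj g).toMonoidHom := by
  by_cases hpM : p ∈ Cfsg.sigma M
  · have hA₀p : IsPGroup p A₀ := IsPGroup.of_card (n := 1) (by rw [hA₀c, pow_one])
    have hA₀1 : A₀ ≠ ⊥ := by
      rintro rfl
      rw [Subgroup.card_bot] at hA₀c
      exact hp.out.one_lt.ne hA₀c
    exact Sec12_2.not_conj_of_mem_sigma hG hM hpM hA₀p hA₀1 hA₀M hN hne.symm g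
  · intro heq
    rw [heq, Equivariance.sigma_map] at hpH
    exact hpM hpH

theorem not_conj_symm {M H : Subgroup G}
    (h : ∀ g : G, H ≠ M.map (MulAut.conj g).toMonoidHom) (g : G) :
    M ≠ H.map (MulAut.conj g).toMonoidHom := by
  intro heq
  apply h g⁻¹
  rw [heq, ← MinSimpleBasic.map_conj_mul, inv_mul_cancel, MinSimpleBasic.map_conj_one]

/-- `M_α ∩ H_σ = 1` for non-conjugate maximal subgroups `M`, `H`. -/
theorem alphaCore_inf_sigmaCore (hG : Cfsg.IsMinSimpleOddOrder G) {M H : Subgroup G}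
    (hM : IsCoatom M) (hH : IsCoatom H)
    (hnc : ∀ g : G, H ≠ M.map (MulAut.conj g).toMonoidHom) :
    Cfsg.alphaCore M ⊓ Cfsg.sigmaCore H = ⊥ :=
  HallPi.inf_eq_bot_of_pi (π := Cfsg.alpha M) (isPi_alphaCore M) (fun p hp hd hα =>
    SigmaDisjoint.alpha_sigma_disjoint hG hM hH hnc hα (isPi_sigmaCore H p hp hd))

/-- The case `p ∈ σ(H)`, for `M_α ∩ H`. -/
theorem sigma_case_alpha (hG : Cfsg.IsMinSimpleOddOrder G) {M H : Subgroup G} (hM : IsCoatom M)
    (hH : IsCoatom H) (hnc : ∀ g : G, H ≠ M.map (MulAut.conj g).toMonoidHom)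
    {A : Subgroup G} (hAM : A ≤ M) (hAH : A ≤ Cfsg.sigmaCore H) :
    A ≤ Subgroup.centralizer ((Cfsg.alphaCore M ⊓ H : Subgroup G) : Set G) := by
  have hAH' : A ≤ H := hAH.trans (HallPi.sigmaCore_le H)
  have hAK : A ≤ Subgroup.normalizer ((Cfsg.alphaCore M ⊓ H : Subgroup G) : Set G) :=
    (le_inf (hAM.trans (HallPi.le_normalizer_alphaCore M))
      (hAH'.trans Subgroup.le_normalizer)).trans Subgroup.inf_normalizer_le_normalizer_inf
  have hcomm : ⁅Cfsg.alphaCore M ⊓ H, A⁆ = ⊥ := by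
    rw [eq_bot_iff, ← alphaCore_inf_sigmaCore hG hM hH hnc]
    refine le_inf ((Lib.CoprimeCommutator.commutator_le_left hAK).trans inf_le_left) ?_
    rw [Subgroup.commutator_comm]
    exact (Subgroup.commutator_mono hAH inf_le_right).trans
        (Lib.CoprimeCommutator.commutator_le_left (HallPi.le_normalizer_sigmaCore H))
  rw [Subgroup.commutator_comm] at hcomm
  exact Subgroup.commutator_eq_bot_iff_le_centralizer.mp hcomm

/-- Coprime subgroups of `H'` commute modulo `H_α`. -/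
theorem commutator_le_alphaCore (hG : Cfsg.IsMinSimpleOddOrder G) {H : Subgroup G}
    (hH : IsCoatom H) {L A : Subgroup G} (hL : L ≤ ⁅H, H⁆) (hA : A ≤ ⁅H, H⁆)
    (hcop : (Nat.card L).Coprime (Nat.card A)) : ⁅L, A⁆ ≤ Cfsg.alphaCore H := by
  obtain ⟨-, -, -, -, hnil⟩ := S1405.result hG H hH
  rw [Subgroup.commutator_le]
  intro l hl a ha
  have hmem : ∀ x ∈ ⁅H, H⁆, ∃ y : H, y ∈ commutator H ∧ (y : G) = x := by
    intro x hx
    rw [← Subgroup.map_subtype_commutator] at hx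
    obtain ⟨y, hy, hyx⟩ := hx
    exact ⟨y, hy, hyx⟩
  obtain ⟨l', hl', rfl⟩ := hmem l (hL hl)
  obtain ⟨a', ha', rfl⟩ := hmem a (hA ha)
  set f := QuotientGroup.mk' (Cfsg.piCore (Cfsg.alpha H) H) with hf
  have h1 : Commute (f l') (f a') := by
    refine FittingHall.commute_of_mem_of_coprime_orderOf hnil ⟨l', hl', rfl⟩ ⟨a', ha', rfl⟩ ?_
    have h2 : orderOf (f l') ∣ Nat.card L := by
      refine (orderOf_map_dvd _ _).trans ?_
      rw [← Subgroup.orderOf_coe]
      exact Lib.CoprimeStab.orderOf_dvd_natCard_of_mem hl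
    have h3 : orderOf (f a') ∣ Nat.card A := by
      refine (orderOf_map_dvd _ _).trans ?_
      rw [← Subgroup.orderOf_coe]
      exact Lib.CoprimeStab.orderOf_dvd_natCard_of_mem ha
    exact Nat.Coprime.of_dvd h2 h3 hcop
  have h4 : f ⁅l', a'⁆ = 1 := by
    rw [map_commutatorElement]
    exact commutatorElement_eq_one_iff_commute.mpr h1
  rw [← MonoidHom.mem_ker, hf, QuotientGroup.ker_mk'] at h4
  exact ⟨⁅l', a'⁆, h4, map_commutatorElement _ _ _⟩

/-- The case `p ∈ σ(H)`, for `M_σ ∩ H`. -/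
theorem sigma_case_sigma (hG : Cfsg.IsMinSimpleOddOrder G) {M H : Subgroup G} (hM : IsCoatom M)
    (hH : IsCoatom H) (hnc : ∀ g : G, H ≠ M.map (MulAut.conj g).toMonoidHom)
    {p : ℕ} [hp : Fact p.Prime] (hpM : p ∉ Cfsg.sigma M)
    {A : Subgroup G} (hAp : IsPGroup p A) (hAM : A ≤ M) (hAH : A ≤ Cfsg.sigmaCore H) :
    A ≤ Subgroup.centralizer ((Cfsg.sigmaCore M ⊓ H : Subgroup G) : Set G) := by
  have hAH' : A ≤ H := hAH.trans (HallPi.sigmaCore_le H)
  set K : Subgroup G := Cfsg.sigmaCore M ⊓ H with hK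
  set L : Subgroup G := K ⊓ Cfsg.sigmaCore H with hL
  have hAK : A ≤ Subgroup.normalizer (K : Set G) :=
    (le_inf (hAM.trans (HallPi.le_normalizer_sigmaCore M))
      (hAH'.trans Subgroup.le_normalizer)).trans Subgroup.inf_normalizer_le_normalizer_inf
  have hAL : A ≤ Subgroup.normalizer (L : Set G) :=
    (le_inf hAK (hAH'.trans (HallPi.le_normalizer_sigmaCore H))).trans
      Subgroup.inf_normalizer_le_normalizer_inf
  have hpK : ¬ p ∣ Nat.card K := fun hd =>
    hpM (isPi_sigmaCore M p hp.out (hd.trans (Subgroup.card_dvd_of_le inf_le_left)))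
  have hcop : (Nat.card A).Coprime (Nat.card K) := by
    obtain ⟨n, hn⟩ := IsPGroup.iff_card.mp hAp
    rw [hn]
    exact Nat.Coprime.pow_left n ((Nat.Prime.coprime_iff_not_dvd hp.out).mpr hpK)
  have hKA : ⁅K, A⁆ ≤ L := by
    refine le_inf (Lib.CoprimeCommutator.commutator_le_left hAK) ?_
    rw [Subgroup.commutator_comm]
    exact (Subgroup.commutator_mono hAH inf_le_right).trans
        (Lib.CoprimeCommutator.commutator_le_left (HallPi.le_normalizer_sigmaCore H))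
  have hder : Cfsg.sigmaCore H ≤ ⁅H, H⁆ := SigmaDerived.sigmaCore_le_commutator hG H hH
  have hLA : ⁅L, A⁆ = ⊥ := by
    rw [eq_bot_iff, ← alphaCore_inf_sigmaCore hG hH hM (not_conj_symm hnc)]
    refine le_inf ?_ ?_
    · refine commutator_le_alphaCore hG hH (inf_le_right.trans hder) (hAH.trans hder) ?_
      exact (hcop.coprime_dvd_right (Subgroup.card_dvd_of_le inf_le_left)).symm
    · exact (Lib.CoprimeCommutator.commutator_le_left hAL).trans (inf_le_left.trans inf_le_left)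
  rw [Subgroup.commutator_comm] at hLA
  exact Lib.CoprimeStab.le_centralizer_of_commutator_le hcop inf_le_left hKA
    (Subgroup.commutator_eq_bot_iff_le_centralizer.mp hLA)

/-- B&G Lemma 12.3. -/
theorem le_centralizer_of_p2Elem {G : Type*} [Group G] [Finite G]
    (hG : Cfsg.IsMinSimpleOddOrder G) (M Mstar : Subgroup G) (hM : IsCoatom M)
    (hMs : IsCoatom Mstar) (hne : Mstar ≠ M) (p : ℕ) [hp : Fact p.Prime] (A A₀ : Subgroup G)
    (hAM : A ≤ M) (hA : Cfsg.IsElementaryAbelian p A) (hAc : Nat.card A = p ^ 2) (hA₀ : A₀ ≤ A)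
    (hA₀c : Nat.card A₀ = p) (hN : Subgroup.normalizer (A₀ : Set G) ≤ Mstar) :
    (p ∉ Cfsg.sigma M →
      A ≤ Subgroup.centralizer ((Cfsg.sigmaCore M ⊓ Mstar : Subgroup G) : Set G)) ∧
    (p ∉ Cfsg.alpha M →
      A ≤ Subgroup.centralizer ((Cfsg.alphaCore M ⊓ Mstar : Subgroup G) : Set G)) := by
  have hAp : IsPGroup p A := Rank.elemAb_isPGroup hA
  have hAA₀ : A ≤ Subgroup.normalizer (A₀ : Set G) := by
    refine le_trans ?_ (Subgroup.centralizer_le_normalizer _)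
    intro a ha
    rw [Subgroup.mem_centralizer_iff]
    intro b hb
    exact congrArg Subtype.val (hA.1.is_comm.comm (⟨b, hA₀ hb⟩ : A) ⟨a, ha⟩)
  have hAMs : A ≤ Mstar := hAA₀.trans hN
  by_cases hps : p ∈ Cfsg.sigma Mstar
  · have hnc : ∀ g : G, Mstar ≠ M.map (MulAut.conj g).toMonoidHom :=
      not_conj hG hM hne hA₀c (hA₀.trans hAM) hN hps
    have hAσ : A ≤ Cfsg.sigmaCore Mstar :=
      AlphaCore.le_of_isPGroup_of_not_dvd_relIndex (HallPi.sigmaCore_le Mstar)
        (HallPi.le_normalizer_sigmaCore Mstar)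
        ((S1350.result hG Mstar hMs).1.2.2 p hp.out hps) hAp hAMs
    exact ⟨fun hpM => sigma_case_sigma hG hM hMs hnc hpM hAp hAM hAσ,
      fun _ => sigma_case_alpha hG hM hMs hnc hAM hAσ⟩
  · have hexc : Sec11.IsExceptional p Mstar A₀ A := ⟨hps, hAMs, hA, hAc, hA₀, hA₀c, hN⟩
    refine ⟨fun hpM => ?_, fun hpM => ?_⟩
    · exact exceptional_case hG hM hMs hne hexc hAM le_rfl (HallPi.le_normalizer_sigmaCore M)
        (fun hd => hpM (isPi_sigmaCore M p hp.out hd))
    · exact exceptional_case hG hM hMs hne hexc hAM (S1405.result hG M hM).2.2.1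
        (HallPi.le_normalizer_alphaCore M) (fun hd => hpM (isPi_alphaCore M p hp.out hd))

end Cfsg.Agent.OddOrderLocal.Sec12_3
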