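import Mathlib
import Cfsg.Prelude.Def_OddOrderLocal
import Cfsg.Agent.OddOrderLocal.Rank
import Cfsg.Agent.OddOrderLocal.RankOneCyclic
import Cfsg.Agent.OddOrderLocal.FreeCyclic
import Cfsg.Agent.OddOrderLocal.MinSimple
import Cfsg.Agent.S1417
import Cfsg.Agent.S1418

/-!
For `p ∈ τ₂(M)`, a Sylow `p`-subgroup `S` of `M` contained in a complement `E` of `M_σ` contains an element of order
`exp S` all of whose nontrivial powers act freely on `M_σ`. Also: if every nontrivial
`τ₁(M) ∪ τ₃(M)`-element of the complement acts freely (for instance if `κ(M)` is empty).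
-/

set_option autoImplicit false

namespace Cfsg.Agent.OddOrderLocal.FreeCyclicTau

open Subgroup
open scoped Pointwise
open Cfsg.Agent.OddOrderLocal.FreeCyclic

variable {G : Type*} [Group G] [Finite G]

/-- For `p ∈ τ₂(M)` and `S ≤ E` a Sylow `p`-subgroup of `M`, there is an element of `S` of maximal order acting
freely on `M_σ` together with all its nontrivial powers. -/
theorem exists_free_of_tau2 (hG : Cfsg.IsMinSimpleOddOrder G) {M : Subgroup G} (hM : IsCoatom M)
    {E : Subgroup G} (hE : Cfsg.IsComplIn E (Cfsg.sigmaCore M) M) {p : ℕ} [hp : Fact p.Prime]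
    (hpt : p ∈ Cfsg.tau2 M) (P : Sylow p M) (hPE : (P : Subgroup M).map M.subtype ≤ E)
    {a : ℕ} {g : G} (hg : g ∈ (P : Subgroup M).map M.subtype) (hga : orderOf g = p ^ a)
    (hexp : ∀ x ∈ (P : Subgroup M).map M.subtype, x ^ p ^ a = 1) :
    ∃ x ∈ (P : Subgroup M).map M.subtype, orderOf x = p ^ a ∧
      ∀ e ∈ Subgroup.zpowers x, e ≠ 1 →
        Cfsg.sigmaCore M ⊓ Subgroup.centralizer ({e} : Set G) = ⊥ := by
  set S : Subgroup G := (P : Subgroup M).map M.subtype with hS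
  have hpp : p.Prime := hp.out
  have hSp : IsPGroup p S := P.isPGroup'.map _
  -- an elementary abelian subgroup of order `p ^ 2` of `S`
  have hrk : ¬ Cfsg.PRankLE p 1 S := fun h => hpt.2.2.2 ((Rank.pRankLE_map_sylow P).mp h)
  obtain ⟨A, hAS, hA, hAc⟩ := Rank.exists_elemAb_of_not_pRankLE hrk
  have hSM : S ≤ M := Subgroup.map_subtype_le _
  obtain ⟨-, hb, -, -, -, A₁, hA₁A, hA₁c, hA₁f⟩ :=
    Cfsg.Agent.S1417.result hG M hM p hpt A ⟨hAS.trans hSM, hA, hAc⟩
  obtain ⟨hPab, hb2⟩ := hb P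
  obtain ⟨hbA, hbN⟩ := hb2 hAS
  obtain ⟨-, -, h18⟩ := Cfsg.Agent.S1418.result hG M hM E hE p hpt A ⟨hAS.trans hPE, hA, hAc⟩
  -- `S` is abelian
  have hcomm : ∀ x ∈ S, ∀ y ∈ S, x * y = y * x := by
    rintro _ ⟨x, hx, rfl⟩ _ ⟨y, hy, rfl⟩
    have := isMulCommutative_iff_of_setLike.mp hPab x hx y hy
    exact congrArg Subtype.val this
  -- it suffices to find `x ∈ S` with `x ^ p ^ (a - 1) ≠ 1` acting freely
  have ha : a ≠ 0 := by
    rintro rfl
    -- then `S` is trivial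
    have h1 : A ≤ ⊥ := by
      intro x hx
      have := hexp x (hAS hx)
      rwa [pow_zero, pow_one] at this
    have h2 : A = ⊥ := le_bot_iff.mp h1
    rw [h2, Subgroup.card_bot] at hAc
    have := Nat.one_lt_pow (n := 1 + 1) (by norm_num) hpp.one_lt
    omega
  obtain ⟨b, rfl⟩ : ∃ b, a = b + 1 := ⟨a - 1, by omega⟩
  suffices H : ∃ x ∈ S, x ^ p ^ b ≠ 1 ∧
      Cfsg.sigmaCore M ⊓ Subgroup.centralizer ({x ^ p ^ b} : Set G) = ⊥ by
    obtain ⟨x, hxS, hx1, hxf⟩ := H
    have hox : orderOf x = p ^ (b + 1) := orderOf_eq_prime_pow hx1 (hexp x hxS)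
    refine ⟨x, hxS, hox, ?_⟩
    intro e he he1
    by_contra hne
    obtain ⟨q, hq, hqe, e', he', hoe', hne'⟩ := exists_prime_power_mem he1 hne
    have hqp : q = p := by
      have h1 : q ∣ p ^ (b + 1) := by
        rw [← hox]; exact hqe.trans (orderOf_dvd_of_mem_zpowers he)
      exact (Nat.prime_dvd_prime_iff_eq hq hpp).mp (hq.dvd_of_dvd_pow h1)
    subst hqp
    have he'x : e' ∈ Subgroup.zpowers x :=
      (Subgroup.zpowers_le.mpr he) he'
    have h2 : orderOf (x ^ q ^ b) = q := by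
      rw [orderOf_pow' _ (pow_pos hpp.pos b).ne', hox,
        Nat.gcd_eq_right (pow_dvd_pow q (Nat.le_succ b)), pow_succ,
        Nat.mul_div_cancel_left _ (pow_pos hpp.pos b)]
    have h3 : x ^ q ^ b ∈ Subgroup.zpowers e' :=
      mem_zpowers_of_mem_zpowers (Subgroup.pow_mem _ (Subgroup.mem_zpowers x) _) he'x
        (by rw [h2, hoe'])
    exact hne' (le_bot_iff.mp (hxf ▸ inf_centralizer_le_of_mem_zpowers _ h3))
  -- the image `B` of the power map
  let B : Subgroup G :=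
    { carrier := {y | ∃ x ∈ S, y = x ^ p ^ b}
      one_mem' := ⟨1, one_mem _, by rw [one_pow]⟩
      mul_mem' := by
        rintro _ _ ⟨x, hx, rfl⟩ ⟨y, hy, rfl⟩
        refine ⟨x * y, mul_mem hx hy, ?_⟩
        rw [(show Commute x y from hcomm x hx y hy).mul_pow]
      inv_mem' := by
        rintro _ ⟨x, hx, rfl⟩
        exact ⟨x⁻¹, inv_mem hx, by rw [inv_pow]⟩ }
  have hBA : B ≤ A := by
    rintro _ ⟨x, hx, rfl⟩
    rw [← hbA _ (Subgroup.pow_mem _ hx _), ← pow_mul, ← pow_succ]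
    exact hexp x hx
  have hB1 : B ≠ ⊥ := by
    intro h
    have h1 : g ^ p ^ b ∈ B := ⟨g, hg, rfl⟩
    rw [h, Subgroup.mem_bot] at h1
    have h2 := orderOf_dvd_of_pow_eq_one h1
    rw [hga, Nat.pow_dvd_pow_iff_le_right hpp.one_lt] at h2
    omega
  have hBdvd : Nat.card B ∣ p ^ 2 := by
    rw [← hAc]; exact Subgroup.card_dvd_of_le hBA
  obtain ⟨k, hk2, hk⟩ := (Nat.dvd_prime_pow hpp).mp hBdvd
  have hk0 : k ≠ 0 := by
    rintro rfl
    rw [pow_zero] at hk
    exact hB1 (Subgroup.card_eq_one.mp hk)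
  have hk12 : k = 1 ∨ k = 2 := by omega
  rcases hk12 with rfl | rfl
  · -- `|B| = p`: `N_G(S) ≤ N_G(B)`
    rw [pow_one] at hk
    obtain ⟨⟨y, hyB⟩, hy1⟩ := Subgroup.ne_bot_iff_exists_ne_one.mp hB1
    obtain ⟨x, hxS, hxy⟩ := hyB
    have hy1' : y ≠ 1 := fun h => hy1 (Subtype.ext h)
    have hBz : B = Subgroup.zpowers y := by
      symm
      apply Subgroup.eq_of_le_of_card_ge
      · rw [Subgroup.zpowers_le]; exact ⟨x, hxS, hxy⟩
      · rw [hk, Nat.card_zpowers]
        have : orderOf y = p := by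
          apply orderOf_eq_prime _ hy1'
          exact hA.2 y (hBA ⟨x, hxS, hxy⟩)
        rw [this]
    refine ⟨x, hxS, by rw [← hxy]; exact hy1', ?_⟩
    rw [← hxy]
    by_contra hne
    have hne' : Cfsg.sigmaCore M ⊓ Subgroup.centralizer (B : Set G) ≠ ⊥ := by
      intro h
      apply hne
      rw [← h, hBz, Subgroup.zpowers_eq_closure, Subgroup.centralizer_closure]
    obtain ⟨-, huniq⟩ := h18 B hBA hk hne'
    apply hbN
    have hNSB : Subgroup.normalizer (S : Set G) ≤ Subgroup.normalizer (B : Set G) := by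
      rw [Subgroup.le_normalizer_iff]
      rintro n hn _ ⟨z, hz, rfl⟩
      refine ⟨n * z * n⁻¹, (Subgroup.mem_normalizer_iff.mp hn z).mp hz, ?_⟩
      rw [conj_pow]
    have hBtop : B ≠ ⊤ := by
      intro h
      have h1 : (⊤ : Subgroup G) ≤ M := by rw [← h]; exact hBA.trans (hAS.trans hSM)
      exact hM.1 (top_le_iff.mp h1)
    obtain ⟨L, hL, hNL⟩ := MinSimple.exists_isCoatom_ge (MinSimple.normalizer_ne_top hG hB1 hBtop)
    have hLM : L = M := huniq L hL
      ((Subgroup.centralizer_le_normalizer (B : Set G)).trans hNL)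
    exact (hNSB.trans hNL).trans hLM.le
  · -- `|B| = p ^ 2`: `B = A`
    have hBA' : B = A := Subgroup.eq_of_le_of_card_ge hBA (by rw [hk, hAc])
    have hA₁1 : A₁ ≠ ⊥ := by
      rintro rfl
      rw [Subgroup.card_bot] at hA₁c
      exact hpp.one_lt.ne hA₁c
    obtain ⟨⟨y, hyA⟩, hy1⟩ := Subgroup.ne_bot_iff_exists_ne_one.mp hA₁1
    have hy1' : y ≠ 1 := fun h => hy1 (Subtype.ext h)
    have hyB : y ∈ B := by rw [hBA']; exact hA₁A hyA
    obtain ⟨x, hxS, hxy⟩ := hyB
    have hAz : A₁ = Subgroup.zpowers y := by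
      symm
      apply Subgroup.eq_of_le_of_card_ge
      · rw [Subgroup.zpowers_le]; exact hyA
      · rw [hA₁c, Nat.card_zpowers]
        have : orderOf y = p := by
          apply orderOf_eq_prime _ hy1'
          exact hA.2 y (hA₁A hyA)
        rw [this]
    refine ⟨x, hxS, by rw [← hxy]; exact hy1', ?_⟩
    rw [← hxy, ← hA₁f, hAz, Subgroup.zpowers_eq_closure, Subgroup.centralizer_closure]

end Cfsg.Agent.OddOrderLocal.FreeCyclicTau
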