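import Mathlib
import Cfsg.Prelude.Def_OddOrderLocal
import Cfsg.Agent.Solvable.Hall
import Cfsg.Agent.OddOrderLocal.PiCore

/-!
Complements `E` of `M_σ` in a subgroup `M`: order, conjugacy (as Hall `σ(M)'`-subgroups of a solvable
`M`), and commuting elements of coprime orders in nilpotent groups.
-/

set_option autoImplicit false

namespace Cfsg.Agent.OddOrderLocal.SigmaCompl809

open Pointwise

variable {G : Type*} [Group G]

theorem mem_map_conj {H : Subgroup G} {g x : G} :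
    x ∈ H.map (MulAut.conj g).toMonoidHom ↔ g⁻¹ * x * g ∈ H := by
  constructor
  · rintro ⟨y, hy, rfl⟩
    simpa [mul_assoc] using hy
  · intro h
    refine ⟨g⁻¹ * x * g, h, ?_⟩
    simp [mul_assoc]

/-- `|A| |B| = |M|` for `M = A B`, `A ∩ B = 1`. -/
theorem card_mul_card {A B M : Subgroup G} (h : Cfsg.IsComplIn A B M) :
    Nat.card A * Nat.card B = Nat.card M := by
  obtain ⟨hA, hB, hAB, hM⟩ := h
  rw [← Nat.card_prod]
  apply Nat.card_congr
  refine Equiv.ofBijective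
    (fun x : A × B => (⟨(x.1 : G) * x.2, M.mul_mem (hA x.1.2) (hB x.2.2)⟩ : M)) ⟨?_, ?_⟩
  · rintro ⟨⟨a, ha⟩, ⟨b, hb⟩⟩ ⟨⟨c, hc⟩, ⟨d, hd⟩⟩ h
    have h1 : a * b = c * d := congrArg Subtype.val h
    have h2 : c⁻¹ * a = d * b⁻¹ := by
      rw [eq_mul_inv_iff_mul_eq, mul_assoc, h1, inv_mul_cancel_left]
    have h3 : c⁻¹ * a ∈ A ⊓ B :=
      ⟨A.mul_mem (A.inv_mem hc) ha, by rw [h2]; exact B.mul_mem hd (B.inv_mem hb)⟩
    rw [hAB, Subgroup.mem_bot] at h3
    have h4 : a = c := (inv_mul_eq_one.mp h3).symm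
    subst h4
    have h5 : b = d := mul_left_cancel h1
    subst h5
    rfl
  · rintro ⟨m, hm⟩
    obtain ⟨a, ha, b, hb, rfl⟩ := hM m hm
    exact ⟨(⟨a, ha⟩, ⟨b, hb⟩), rfl⟩

theorem card_eq_relIndex [Finite G] {A B M : Subgroup G} (h : Cfsg.IsComplIn A B M) :
    Nat.card A = B.relIndex M := by
  have h1 := card_mul_card h
  have h2 := Subgroup.relIndex_mul_relIndex (⊥ : Subgroup G) B M bot_le h.2.1
  rw [Subgroup.relIndex_bot_left, Subgroup.relIndex_bot_left, mul_comm] at h2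
  rw [← h1] at h2
  exact (Nat.eq_of_mul_eq_mul_right Nat.card_pos h2).symm

/-- The primes dividing the order of a complement to a Hall `π`-subgroup are outside `π`. -/
theorem not_mem_of_dvd_card [Finite G] {π : Set ℕ} {A B M : Subgroup G}
    (h : Cfsg.IsComplIn A B M) (hB : Cfsg.IsPiHallOf π B M) {p : ℕ} (hp : p.Prime)
    (hd : p ∣ Nat.card A) : p ∉ π := by
  intro hpi
  apply hB.2.2 p hp hpi
  rwa [← card_eq_relIndex h]

theorem coprime_card [Finite G] {π : Set ℕ} {A B M : Subgroup G}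
    (h : Cfsg.IsComplIn A B M) (hB : Cfsg.IsPiHallOf π B M) :
    (Nat.card A).Coprime (Nat.card B) := by
  by_contra hc
  obtain ⟨p, hp, hp1, hp2⟩ := Nat.Prime.not_coprime_iff_dvd.mp hc
  exact not_mem_of_dvd_card h hB hp hp1 (hB.2.1 p hp hp2)

/-- A subgroup `K` of the solvable group `M`, of order prime to `|B|`, is `M`-conjugate into a
complement `A` to the normal Hall subgroup `B`. -/
theorem exists_conj_le [Finite G] {π : Set ℕ} {A B M : Subgroup G} (hs : Group.IsSolvable M)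
    (h : Cfsg.IsComplIn A B M) (hB : Cfsg.IsPiHallOf π B M) (K : Subgroup G) (hKM : K ≤ M)
    (hK : ∀ p : ℕ, p.Prime → p ∣ Nat.card K → p ∉ π) :
    ∃ g ∈ M, K.map (MulAut.conj g).toMonoidHom ≤ A := by
  have hcop : (Nat.card A).Coprime (Nat.card B) := coprime_card h hB
  have hKB : (Nat.card K).Coprime (Nat.card B) := by
    by_contra hc
    obtain ⟨p, hp, hp1, hp2⟩ := Nat.Prime.not_coprime_iff_dvd.mp hc
    exact hK p hp hp1 (hB.2.1 p hp hp2)
  have h1 : Nat.card (A.subgroupOf M) = Nat.card A :=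
    Nat.card_congr (Subgroup.subgroupOfEquivOfLe h.1).toEquiv
  have h2 : Nat.card (K.subgroupOf M) = Nat.card K :=
    Nat.card_congr (Subgroup.subgroupOfEquivOfLe hKM).toEquiv
  obtain ⟨g, hg⟩ := Cfsg.Agent.Solvable.Hall.hall_conj_le (G := M) (Nat.card A) (Nat.card B)
    (card_mul_card h).symm hcop (A.subgroupOf M) (K.subgroupOf M) h1 (by rwa [h2])
  refine ⟨g, g.2, ?_⟩
  rintro _ ⟨x, hx, rfl⟩
  have h3 : (MulAut.conj g) • (⟨x, hKM hx⟩ : M) ∈ A.subgroupOf M := by
    apply hg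
    exact Subgroup.smul_mem_pointwise_smul _ _ _ (Subgroup.mem_subgroupOf.mpr hx)
  rw [Subgroup.mem_subgroupOf] at h3
  simpa using h3

/-- Conjugates of complements of a normal subgroup are complements. -/
theorem isComplIn_conj {A B M : Subgroup G} (h : Cfsg.IsComplIn A B M)
    (hn : M ≤ Subgroup.normalizer (B : Set G)) {g : G} (hg : g ∈ M) :
    Cfsg.IsComplIn (A.map (MulAut.conj g).toMonoidHom) B M := by
  obtain ⟨hA, hB, hAB, hM⟩ := h
  have hgB : ∀ b : G, b ∈ B → g⁻¹ * b * g ∈ B := by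
    intro b hb
    have := (Subgroup.mem_normalizer_iff.mp (hn (M.inv_mem hg)) b).mp hb
    simpa using this
  have hgB' : ∀ b : G, b ∈ B → g * b * g⁻¹ ∈ B := fun b hb =>
    (Subgroup.mem_normalizer_iff.mp (hn hg) b).mp hb
  refine ⟨?_, hB, ?_, ?_⟩
  · rintro _ ⟨x, hx, rfl⟩
    simp only [MulEquiv.coe_toMonoidHom, MulAut.conj_apply]
    exact M.mul_mem (M.mul_mem hg (hA hx)) (M.inv_mem hg)
  · rw [eq_bot_iff]
    intro x hx
    obtain ⟨hx1, hx2⟩ := Subgroup.mem_inf.mp hx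
    rw [mem_map_conj] at hx1
    have h3 : g⁻¹ * x * g ∈ A ⊓ B := ⟨hx1, hgB x hx2⟩
    rw [hAB, Subgroup.mem_bot] at h3
    rw [Subgroup.mem_bot]
    have : x = g * (g⁻¹ * x * g) * g⁻¹ := by group
    rw [this, h3]
    simp
  · intro m hm
    obtain ⟨a, ha, b, hb, hab⟩ := hM (g⁻¹ * m * g)
      (M.mul_mem (M.mul_mem (M.inv_mem hg) hm) hg)
    refine ⟨g * a * g⁻¹, ?_, g * b * g⁻¹, hgB' b hb, ?_⟩
    · rw [mem_map_conj]
      have : g⁻¹ * (g * a * g⁻¹) * g = a := by group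
      rwa [this]
    · have : m = g * (g⁻¹ * m * g) * g⁻¹ := by group
      rw [this, hab]
      group

/-- `|HK|` divides `|H| |K|` if `H` normalizes `K`. -/
theorem card_sup_dvd_of_le_normalizer (H K : Subgroup G)
    (h : H ≤ Subgroup.normalizer (K : Set G)) :
    Nat.card ↥(H ⊔ K) ∣ Nat.card H * Nat.card K := by
  have hn : (K.subgroupOf (H ⊔ K)).Normal := by
    rw [Subgroup.normal_subgroupOf_iff_le_normalizer le_sup_right]
    exact sup_le h Subgroup.le_normalizer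
  have h1 := Cfsg.Agent.OddOrderLocal.PiCore.card_sup_dvd (H.subgroupOf (H ⊔ K))
    (K.subgroupOf (H ⊔ K))
  rw [← Subgroup.subgroupOf_sup le_sup_left le_sup_right, Subgroup.subgroupOf_self,
    Subgroup.card_top, Nat.card_congr (Subgroup.subgroupOfEquivOfLe (le_sup_left : H ≤ H ⊔ K)).toEquiv,
    Nat.card_congr (Subgroup.subgroupOfEquivOfLe (le_sup_right : K ≤ H ⊔ K)).toEquiv] at h1
  exact h1

/-- `M_σ` is normalized by `M`. -/
theorem le_normalizer_sigmaCore (M : Subgroup G) :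
    M ≤ Subgroup.normalizer (Cfsg.sigmaCore M : Set G) := by
  rw [Subgroup.le_normalizer_iff]
  rintro m hm _ ⟨x, hx, rfl⟩
  refine ⟨⟨m, hm⟩ * x * ⟨m, hm⟩⁻¹, ?_, by simp⟩
  exact (inferInstance : (Cfsg.piCore (Cfsg.sigma M) M).Normal).conj_mem x hx ⟨m, hm⟩

theorem sigmaCore_le (M : Subgroup G) : Cfsg.sigmaCore M ≤ M := Subgroup.map_subtype_le _

/-- In a finite nilpotent group elements of prime power orders for distinct primes commute. -/
theorem commute_of_nilpotent {H : Type*} [Group H] [Finite H] [Group.IsNilpotent H] {p q : ℕ}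
    [Fact p.Prime] [Fact q.Prime] (hpq : p ≠ q) {a b : H} {m n : ℕ} (ha : a ^ p ^ m = 1)
    (hb : b ^ q ^ n = 1) : Commute a b := by
  have hnil : Group.IsNilpotent H := inferInstance
  have hsyl : ∀ (r : ℕ) (_ : Fact r.Prime) (P : Sylow r H), (P : Subgroup H).Normal :=
    ((Group.isNilpotent_of_finite_tfae (G := H)).out 0 3).mp hnil
  have ha' : IsPGroup p (Subgroup.zpowers a) := by
    rintro ⟨_, k, rfl⟩
    refine ⟨m, Subtype.ext ?_⟩
    change (a ^ k) ^ p ^ m = 1
    rw [← zpow_natCast, ← zpow_mul, mul_comm, zpow_mul, zpow_natCast, ha, one_zpow]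
  have hb' : IsPGroup q (Subgroup.zpowers b) := by
    rintro ⟨_, k, rfl⟩
    refine ⟨n, Subtype.ext ?_⟩
    change (b ^ k) ^ q ^ n = 1
    rw [← zpow_natCast, ← zpow_mul, mul_comm, zpow_mul, zpow_natCast, hb, one_zpow]
  obtain ⟨P, hP⟩ := ha'.exists_le_sylow
  obtain ⟨Q, hQ⟩ := hb'.exists_le_sylow
  have hPn := hsyl p inferInstance P
  have hQn := hsyl q inferInstance Q
  have hdis : Disjoint (P : Subgroup H) (Q : Subgroup H) :=
    IsPGroup.disjoint_of_ne p q hpq _ _ P.isPGroup' Q.isPGroup'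
  exact Subgroup.commute_of_normal_of_disjoint _ _ hPn hQn hdis a b
    (hP (Subgroup.mem_zpowers a)) (hQ (Subgroup.mem_zpowers b))

/-- A finite nilpotent group all of whose Sylow subgroups are commutative is commutative. -/
theorem isMulCommutative_of_nilpotent {H : Type*} [Group H] [Finite H] [Group.IsNilpotent H]
    (h : ∀ (p : ℕ) (_ : Fact p.Prime) (P : Sylow p H), p ∣ Nat.card H →
      IsMulCommutative (P : Subgroup H)) :
    IsMulCommutative H := by
  have hnil : Group.IsNilpotent H := inferInstance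
  obtain ⟨e⟩ : Nonempty ((∀ p : (Nat.card H).primeFactors, ∀ P : Sylow p H, P) ≃* H) :=
    ((Group.isNilpotent_of_finite_tfae (G := H)).out 0 4).mp hnil
  refine ⟨⟨fun x y => ?_⟩⟩
  apply e.symm.injective
  rw [map_mul, map_mul]
  funext p P
  have hp : Fact (p : ℕ).Prime := ⟨Nat.prime_of_mem_primeFactors p.2⟩
  have := (h p hp P (Nat.dvd_of_mem_primeFactors p.2)).is_comm.comm (e.symm x p P) (e.symm y p P)
  exact this

end Cfsg.Agent.OddOrderLocal.SigmaCompl809
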