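import Mathlib
import Cfsg.Prelude.Def_OddOrderLocal
import Cfsg.Agent.OddOrderLocal.PiCore

set_option autoImplicit false

/-!
Element-level facts on `Cfsg.sigmaCore` and coprime decompositions of elements.
-/

namespace Cfsg.Agent.OddOrderLocal.SigmaElements

open Cfsg

variable {G : Type*} [Group G]

/-- If `x r = y s` with `x, r` commuting, `y, s` commuting, and the orders of `x, y` are coprime to the
orders of `r, s`, then `x = y`. -/
theorem eq_of_mul_eq_mul {x r y s : G} (hxr : Commute x r) (hys : Commute y s)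
    (hcop : (orderOf x * orderOf y).Coprime (orderOf r * orderOf s)) (h : x * r = y * s) :
    x = y := by
  obtain ⟨e, he1, he0⟩ := Nat.chineseRemainder hcop 1 0
  have hx : x ^ e = x := by
    have : e ≡ 1 [MOD orderOf x] := he1.of_dvd (dvd_mul_right _ _)
    simpa using (pow_eq_pow_iff_modEq (x := x)).mpr this
  have hy : y ^ e = y := by
    have : e ≡ 1 [MOD orderOf y] := he1.of_dvd (dvd_mul_left _ _)
    simpa using (pow_eq_pow_iff_modEq (x := y)).mpr this
  have hr : r ^ e = 1 := by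
    have : e ≡ 0 [MOD orderOf r] := he0.of_dvd (dvd_mul_right _ _)
    simpa using (pow_eq_pow_iff_modEq (x := r)).mpr this
  have hs : s ^ e = 1 := by
    have : e ≡ 0 [MOD orderOf s] := he0.of_dvd (dvd_mul_left _ _)
    simpa using (pow_eq_pow_iff_modEq (x := s)).mpr this
  have h1 : (x * r) ^ e = (y * s) ^ e := by rw [h]
  rw [hxr.mul_pow, hys.mul_pow, hx, hy, hr, hs, mul_one, mul_one] at h1
  exact h1

theorem sigmaCore_le (M : Subgroup G) : sigmaCore M ≤ M := Subgroup.map_subtype_le _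

theorem card_sigmaCore (M : Subgroup G) : Nat.card (sigmaCore M) = Nat.card (piCore (sigma M) M) :=
  Nat.card_congr (Subgroup.equivMapOfInjective _ _ M.subtype_injective).toEquiv.symm

theorem mem_sigma_of_dvd_card_sigmaCore [Finite G] {M : Subgroup G} {p : ℕ} (hp : p.Prime)
    (h : p ∣ Nat.card (sigmaCore M)) : p ∈ sigma M := by
  rw [card_sigmaCore] at h
  exact PiCore.piCore_isPi (sigma M) p hp h

/-- The prime divisors of the order of an element of `M_σ` lie in `σ(M)`. -/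
theorem mem_sigma_of_dvd_orderOf [Finite G] {M : Subgroup G} {x : G} (hx : x ∈ sigmaCore M)
    {p : ℕ} (hp : p.Prime) (h : p ∣ orderOf x) : p ∈ sigma M := by
  refine mem_sigma_of_dvd_card_sigmaCore hp (h.trans ?_)
  have : orderOf (⟨x, hx⟩ : sigmaCore M) ∣ Nat.card (sigmaCore M) := orderOf_dvd_natCard _
  rwa [Subgroup.orderOf_mk] at this

/-- `M` normalizes `M_σ`. -/
theorem le_normalizer_sigmaCore (M : Subgroup G) :
    M ≤ Subgroup.normalizer (sigmaCore M : Set G) := by
  intro m hm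
  rw [Subgroup.mem_normalizer_iff]
  intro h
  have key : ∀ m ∈ M, ∀ h ∈ sigmaCore M, m * h * m⁻¹ ∈ sigmaCore M := by
    rintro m hm _ ⟨k, hk, rfl⟩
    exact ⟨⟨m, hm⟩ * k * ⟨m, hm⟩⁻¹, (piCore_normal (sigma M) M).conj_mem k hk _, rfl⟩
  constructor
  · exact key m hm h
  · intro h1
    have := key m⁻¹ (M.inv_mem hm) _ h1
    simpa [mul_assoc] using this

/-- A normal Hall `π`-subgroup `N` of `M` contains every element of `M` whose order has only prime
divisors in `π`. -/
theorem mem_of_isPiHallOf [Finite G] {π : Set ℕ} {N M : Subgroup G} (hN : IsPiHallOf π N M)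
    (hnorm : M ≤ Subgroup.normalizer (N : Set G)) {x : G} (hx : x ∈ M)
    (hπ : ∀ p : ℕ, p.Prime → p ∣ orderOf x → p ∈ π) : x ∈ N := by
  obtain ⟨hNM, -, hidx⟩ := hN
  have : (N.subgroupOf M).Normal := by
    rw [Subgroup.normal_subgroupOf_iff_le_normalizer hNM]; exact hnorm
  have hcop : (orderOf x).Coprime (N.relIndex M) := by
    rw [Nat.coprime_iff_gcd_eq_one]
    by_contra hne
    obtain ⟨p, hp, hpd⟩ := Nat.exists_prime_and_dvd hne
    exact hidx p hp (hπ p hp (hpd.trans (Nat.gcd_dvd_left _ _))) (hpd.trans (Nat.gcd_dvd_right _ _))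
  have h1 : (QuotientGroup.mk ⟨x, hx⟩ : M ⧸ N.subgroupOf M) = 1 := by
    rw [← orderOf_eq_one_iff]
    have ha : orderOf (QuotientGroup.mk ⟨x, hx⟩ : M ⧸ N.subgroupOf M) ∣ orderOf x := by
      have := orderOf_map_dvd (QuotientGroup.mk' (N.subgroupOf M)) (⟨x, hx⟩ : M)
      rwa [Subgroup.orderOf_mk] at this
    have hb : orderOf (QuotientGroup.mk ⟨x, hx⟩ : M ⧸ N.subgroupOf M) ∣ N.relIndex M := by
      have : orderOf (QuotientGroup.mk ⟨x, hx⟩ : M ⧸ N.subgroupOf M) ∣
          Nat.card (M ⧸ N.subgroupOf M) := orderOf_dvd_natCard _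
      exact this
    exact Nat.eq_one_of_dvd_one ((Nat.Coprime.gcd_eq_one hcop) ▸ Nat.dvd_gcd ha hb)
  rw [QuotientGroup.eq_one_iff, Subgroup.mem_subgroupOf] at h1
  exact h1

/-- If `M_σ` is a Hall `σ(M)`-subgroup of `M` then it contains every `σ(M)`-element of `M`. -/
theorem mem_sigmaCore_of_orderOf [Finite G] {M : Subgroup G}
    (hH : IsPiHallOf (sigma M) (sigmaCore M) M) {x : G} (hx : x ∈ M)
    (hπ : ∀ p : ℕ, p.Prime → p ∣ orderOf x → p ∈ sigma M) : x ∈ sigmaCore M :=
  mem_of_isPiHallOf hH (le_normalizer_sigmaCore M) hx hπ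

/-- If `M_σ` is a Hall `σ(M)`-subgroup of `M` then it contains every `σ(M)`-subgroup of `M`. -/
theorem le_sigmaCore_of_card [Finite G] {M : Subgroup G}
    (hH : IsPiHallOf (sigma M) (sigmaCore M) M) {Y : Subgroup G} (hY : Y ≤ M)
    (hπ : ∀ p : ℕ, p.Prime → p ∣ Nat.card Y → p ∈ sigma M) : Y ≤ sigmaCore M := by
  intro x hx
  refine mem_sigmaCore_of_orderOf hH (hY hx) fun p hp hpx => hπ p hp (hpx.trans ?_)
  have : orderOf (⟨x, hx⟩ : Y) ∣ Nat.card Y := orderOf_dvd_natCard _
  rwa [Subgroup.orderOf_mk] at this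

/-- Nontrivial elements have a prime dividing the order. -/
theorem exists_prime_dvd_orderOf [Finite G] {x : G} (hx : x ≠ 1) : ∃ p : ℕ, p.Prime ∧ p ∣ orderOf x := by
  apply Nat.exists_prime_and_dvd
  rwa [Ne, orderOf_eq_one_iff]

/-- Two products of naturals are coprime if the sets of prime divisors are separated by sets of
primes. -/
theorem coprime_of_disjoint {π ρ : Set ℕ} {a b : ℕ} (ha : ∀ p : ℕ, p.Prime → p ∣ a → p ∈ π)
    (hb : ∀ p : ℕ, p.Prime → p ∣ b → p ∈ ρ) (h : ∀ p ∈ π, p ∉ ρ) : a.Coprime b := by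
  rw [Nat.coprime_iff_gcd_eq_one]
  by_contra hne
  obtain ⟨p, hp, hpd⟩ := Nat.exists_prime_and_dvd hne
  exact h p (ha p hp (hpd.trans (Nat.gcd_dvd_left _ _))) (hb p hp (hpd.trans (Nat.gcd_dvd_right _ _)))

end Cfsg.Agent.OddOrderLocal.SigmaElements
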