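import Mathlib
import Cfsg.Agent.S0058
import Cfsg.Agent.OddOrderLocal.Rank

/-!
Auxiliary facts for the uniqueness of nonabelian `p`-subgroups (S1422): a double application of
generation by centralizers for a group `Q` of order `p ^ 3` acting on a `p'`-group.
-/

set_option autoImplicit false
set_option linter.style.haveILetI false

namespace Cfsg.Agent.OddOrderLocal.NonabUniqAux

variable {X : Type*} [Group X]

/-- An abelian group all of whose elements satisfy `x ^ p = 1` and with more than `p` elements is not cyclic. -/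
theorem not_isCyclic_of_pow {p : ℕ} (hp : 0 < p) {A : Type*} [Group A] (h : ∀ a : A, a ^ p = 1)
    (hc : p < Nat.card A) : ¬ IsCyclic A := by
  intro hcy
  obtain ⟨g, hg⟩ := hcy.exists_generator
  have h1 : orderOf g = Nat.card A := orderOf_eq_card_of_forall_mem_zpowers hg
  have h2 : orderOf g ∣ p := orderOf_dvd_of_pow_eq_one (h g)
  have := Nat.le_of_dvd hp h2
  omega

theorem inf_eq_bot_of_coprime [Finite X] {p : ℕ} [Fact p.Prime] {K Z : Subgroup X}
    (hK : (Nat.card K).Coprime p) (hZ : IsPGroup p Z) : K ⊓ Z = ⊥ := by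
  apply Disjoint.eq_bot
  apply Subgroup.disjoint_of_coprime_natCard
  obtain ⟨n, hn⟩ := IsPGroup.iff_card.1 hZ
  rw [hn]
  exact Nat.Coprime.pow_right n hK

/-- The quotient step. -/
theorem le_of_forall_center [Finite X] {p : ℕ} [hp : Fact p.Prime] (K Q Z C : Subgroup X)
    (hZ : Z ≤ Subgroup.center X) (hZp : IsPGroup p Z)
    (hK : (Nat.card K).Coprime p) (hQK : Q ≤ Subgroup.normalizer (K : Set X))
    (hZQ : Z ≤ Q) (hZi : p < Z.relIndex Q) (hQp : IsPGroup p Q) (hQe : ∀ x ∈ Q, x ^ p ∈ Z)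
    (hcomm : ∀ x ∈ Q, ∀ y ∈ Q, x * y * x⁻¹ * y⁻¹ ∈ Z)
    (hfix : ∀ x ∈ Q, x ∉ Z → K ⊓ Subgroup.centralizer ({x} : Set X) ≤ C) : K ≤ C := by
  have hKZ := inf_eq_bot_of_coprime hK hZp
  haveI hZn : Z.Normal := ⟨fun n hn g => by
    have := Subgroup.mem_center_iff.mp (hZ hn) g
    rw [this, mul_assoc, mul_inv_cancel, mul_one]; exact hn⟩
  let π := QuotientGroup.mk' Z
  have hπ : ∀ x, π x = 1 ↔ x ∈ Z := fun x => QuotientGroup.eq_one_iff x
  have hmemQ : ∀ x, π x ∈ Q.map π → x ∈ Q := by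
    rintro x ⟨q, hq, hqx⟩
    have h1 : q⁻¹ * x ∈ Z := (QuotientGroup.eq (s := Z)).mp hqx
    have := Q.mul_mem hq (hZQ h1)
    simpa using this
  have hAcomm : IsMulCommutative (Q.map π) := by
    refine isMulCommutative_iff_of_setLike.mpr ?_
    rintro _ ⟨x, hx, rfl⟩ _ ⟨y, hy, rfl⟩
    have h1 : π (x * y * x⁻¹ * y⁻¹) = 1 := (hπ _).mpr (hcomm x hx y hy)
    rw [map_mul, map_mul, map_inv, map_inv, map_mul] at h1
    rw [mul_inv_eq_one, mul_inv_eq_iff_eq_mul] at h1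
    exact h1
  have hcardA : Nat.card (Q.map π) = Z.relIndex Q := by
    rw [← Subgroup.relIndex_ker, QuotientGroup.ker_mk']
  have hnc : ¬ IsCyclic (Q.map π) := by
    apply not_isCyclic_of_pow hp.out.pos
    · rintro ⟨_, ⟨x, hx, rfl⟩⟩
      apply Subtype.ext
      change π x ^ p = 1
      rw [← map_pow, hπ]
      exact hQe x hx
    · rw [hcardA]; exact hZi
  have hnorm : Q.map π ≤ Subgroup.normalizer ((K.map π : Subgroup (X ⧸ Z)) : Set (X ⧸ Z)) := by
    rw [Subgroup.le_normalizer_iff]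
    rintro _ ⟨x, hx, rfl⟩ _ ⟨k, hk, rfl⟩
    refine ⟨x * k * x⁻¹, ?_, by simp⟩
    exact (Subgroup.mem_normalizer_iff.mp (hQK hx) k).mp hk
  have hcop : (Nat.card (Q.map π)).Coprime (Nat.card (K.map π)) := by
    obtain ⟨n, hn⟩ := IsPGroup.iff_card.1 (hQp.map π)
    rw [hn]
    apply Nat.Coprime.pow_left
    exact Nat.Coprime.coprime_dvd_right (Subgroup.card_map_dvd _ _) hK.symm
  have hgen := Cfsg.Agent.S0058.result (Q.map π) (K.map π) hnc hnorm hcop
  have hle : K.map π ≤ (K ⊓ C).map π := by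
    conv_lhs => rw [← hgen]
    refine iSup₂_le ?_
    rintro a ⟨⟨x, hx, rfl⟩, ha1⟩
    have hxZ : x ∉ Z := fun h => ha1 ((hπ x).mpr h)
    rintro _ ⟨⟨k, hk, rfl⟩, hkc⟩
    refine ⟨k, ⟨hk, hfix x hx hxZ ⟨hk, ?_⟩⟩, rfl⟩
    have h1 : π x * π k = π k * π x :=
      Subgroup.mem_centralizer_iff.mp hkc (π x) rfl
    have h2 : x * k * x⁻¹ * k⁻¹ ∈ Z := by
      rw [← hπ, map_mul, map_mul, map_inv, map_inv, map_mul, h1]; group
    have h3 : x * k * x⁻¹ * k⁻¹ ∈ K := by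
      have := (Subgroup.mem_normalizer_iff.mp (hQK hx) k).mp hk
      exact K.mul_mem this (K.inv_mem hk)
    have h4 : x * k * x⁻¹ * k⁻¹ ∈ K ⊓ Z := ⟨h3, h2⟩
    rw [hKZ, Subgroup.mem_bot, mul_inv_eq_one, mul_inv_eq_iff_eq_mul] at h4
    refine Subgroup.mem_centralizer_iff.mpr ?_
    rintro y hy
    rw [Set.mem_singleton_iff.mp hy]
    exact h4
  intro k hk
  obtain ⟨c, ⟨hcK, hcC⟩, hc⟩ := hle ⟨k, hk, rfl⟩
  have h1 : c⁻¹ * k ∈ Z := (QuotientGroup.eq (s := Z)).mp hc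
  have h2 : c⁻¹ * k ∈ K ⊓ Z := ⟨K.mul_mem (K.inv_mem hcK) hk, h1⟩
  rw [hKZ, Subgroup.mem_bot, inv_mul_eq_one] at h2
  rw [← h2]; exact hcC

/-- `Q` of exponent `p` with `[Q,Q] ≤ Z ≤ Z(Q)`, `#Z = p`, `#(Q/Z) > p`, acts on the `p'`-group `K`. If all
fixed points on `K` of elements of `Q \ Z` lie in `C ≤ C(Z)`, then `K ≤ C`. -/
theorem le_of_forall [Finite X] {p : ℕ} [hp : Fact p.Prime] (K Q Z C : Subgroup X)
    (hZcard : Nat.card Z = p)
    (hK : (Nat.card K).Coprime p) (hQK : Q ≤ Subgroup.normalizer (K : Set X))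
    (hZQ : Z ≤ Q) (hZc : Q ≤ Subgroup.centralizer (Z : Set X)) (hZi : p < Z.relIndex Q)
    (hQe : ∀ x ∈ Q, x ^ p = 1)
    (hcomm : ∀ x ∈ Q, ∀ y ∈ Q, x * y * x⁻¹ * y⁻¹ ∈ Z)
    (hfix : ∀ x ∈ Q, x ∉ Z → K ⊓ Subgroup.centralizer ({x} : Set X) ≤ C)
    (hC : C ≤ Subgroup.centralizer (Z : Set X)) : K ≤ C := by
  have hQp : IsPGroup p Q := fun x => ⟨1, by
    rw [pow_one]; exact Subtype.ext (hQe x x.2)⟩
  have hZp : IsPGroup p Z := hQp.to_le hZQ
  -- an element of `Q` outside `Z`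
  have hex : ∃ x ∈ Q, x ∉ Z := by
    by_contra hcon
    push Not at hcon
    have : Z.relIndex Q = 1 := Subgroup.relIndex_eq_one.mpr hcon
    have := hp.out.one_lt
    omega
  obtain ⟨x, hxQ, hxZ⟩ := hex
  -- step 1: `K` centralizes `Z`
  have hKZ : K ≤ Subgroup.centralizer (Z : Set X) := by
    set A := Z ⊔ Subgroup.zpowers x with hA
    have hAQ : A ≤ Q := sup_le hZQ (Subgroup.zpowers_le.mpr hxQ)
    have hZel : Cfsg.IsElementaryAbelian p Z := by
      haveI : IsCyclic Z := isCyclic_of_prime_card hZcard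
      exact ⟨IsCyclic.isMulCommutative, fun a ha => hQe a (hZQ ha)⟩
    have hAel : Cfsg.IsElementaryAbelian p A :=
      Rank.elemAb_sup hZel (Rank.elemAb_zpowers (hQe x hxQ)) (fun a ha b hb =>
        Subgroup.mem_centralizer_iff.mp (hZc (Subgroup.zpowers_le.mpr hxQ hb)) a ha)
    haveI := hAel.1
    have hnc : ¬ IsCyclic A := by
      apply not_isCyclic_of_pow hp.out.pos
      · intro a; exact Subtype.ext (hAel.2 a a.2)
      · have hlt : Z < A := by
          refine lt_of_le_of_ne le_sup_left ?_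
          intro h
          apply hxZ
          rw [h]
          exact (le_sup_right : _ ≤ A) (Subgroup.mem_zpowers x)
        by_contra hcon
        push Not at hcon
        exact hlt.ne (Subgroup.eq_of_le_of_card_ge hlt.le (by rw [hZcard]; exact hcon))
    have hcop : (Nat.card A).Coprime (Nat.card K) := by
      obtain ⟨n, hn⟩ := IsPGroup.iff_card.1 (hQp.to_le hAQ)
      rw [hn]
      exact Nat.Coprime.pow_left _ hK.symm
    have hgen := Cfsg.Agent.S0058.result A K hnc (hAQ.trans hQK) hcop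
    rw [← hgen]
    refine iSup₂_le ?_
    rintro a ⟨ha, ha1⟩
    by_cases haZ : a ∈ Z
    · have hz : Subgroup.zpowers a = Z := by
        have h1 : Subgroup.zpowers a ≤ Z := Subgroup.zpowers_le.mpr haZ
        apply Subgroup.eq_of_le_of_card_ge h1
        rw [hZcard]
        have h2 : Nat.card (Subgroup.zpowers a) ∣ p := hZcard ▸ Subgroup.card_dvd_of_le h1
        rcases (Nat.dvd_prime hp.out).mp h2 with h3 | h3
        · rw [Subgroup.card_eq_one, Subgroup.zpowers_eq_bot] at h3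
          exact absurd h3 ha1
        · exact h3.ge
      refine inf_le_right.trans ?_
      rw [← hz, Subgroup.zpowers_eq_closure, Subgroup.centralizer_closure]
    · exact (hfix a (hAQ ha) haZ).trans hC
  -- step 2: pass to the quotient of `C(Z)` by `Z`
  set Y := Subgroup.centralizer (Z : Set X) with hY
  have hQY : Q ≤ Y := hZc
  have hZY : Z ≤ Y := hZQ.trans hQY
  have hcardK : Nat.card (K.subgroupOf Y) = Nat.card K :=
    Nat.card_congr (Subgroup.subgroupOfEquivOfLe hKZ).toEquiv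
  have key := le_of_forall_center (p := p) (K.subgroupOf Y) (Q.subgroupOf Y) (Z.subgroupOf Y)
    (C.subgroupOf Y) ?_ ?_ ?_ ?_ ?_ ?_ ?_ ?_ ?_ ?_
  · intro k hk
    exact key (x := ⟨k, hKZ hk⟩) hk
  · -- central
    rintro ⟨z, hz⟩ hzZ
    rw [Subgroup.mem_center_iff]
    rintro ⟨g, hg⟩
    exact Subtype.ext (Subgroup.mem_centralizer_iff.mp hg z hzZ).symm
  · exact hZp.of_equiv (Subgroup.subgroupOfEquivOfLe hZY).symm
  · rw [hcardK]; exact hK
  · rw [Subgroup.le_normalizer_iff]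
    rintro ⟨q, hq'⟩ hq ⟨k, hk'⟩ hk
    exact (Subgroup.mem_normalizer_iff.mp (hQK hq) k).mp hk
  · exact Subgroup.subgroupOf_mono _ hZQ
  · rw [Subgroup.relIndex_subgroupOf hQY]; exact hZi
  · exact hQp.of_equiv (Subgroup.subgroupOfEquivOfLe hQY).symm
  · rintro ⟨x, hx'⟩ hx
    have h1 : (⟨x, hx'⟩ : Y) ^ p = 1 := Subtype.ext (hQe x hx)
    rw [h1]; exact Subgroup.one_mem _
  · rintro ⟨x, hx'⟩ hx ⟨y, hy'⟩ hy
    exact hcomm x hx y hy
  · rintro ⟨x, hx'⟩ hx hxZ' ⟨k, hk'⟩ ⟨hk, hkc⟩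
    refine hfix x hx hxZ' ⟨hk, ?_⟩
    refine Subgroup.mem_centralizer_iff.mpr ?_
    rintro y hy
    rw [Set.mem_singleton_iff.mp hy]
    exact congrArg Subtype.val (Subgroup.mem_centralizer_iff.mp hkc ⟨x, hx'⟩ rfl)

end Cfsg.Agent.OddOrderLocal.NonabUniqAux
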