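import Mathlib
import Cfsg.Agent.Lib.NormalHall
import Cfsg.Agent.S0030

/-!
Fusion in Hall subgroups of metanilpotent normal subgroups: if `L` is a normal subgroup of the
finite group `G`, `F ≤ L` is a nilpotent normal subgroup of `G` with `L / F` nilpotent and `H` is a
Hall subgroup of `L`, then two elements of `H` which are conjugate in `G` are conjugate in `N_G(H)`.
-/

set_option autoImplicit false

namespace Cfsg.Agent.OddOrderLocal.MetaNilpotentFusion

open Subgroup Pointwise

/-- In a finite nilpotent group every Hall subgroup is normal. -/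
theorem normal_of_coprime_index_of_isNilpotent {Q : Type*} [Group Q] [Finite Q]
    (hQ : Group.IsNilpotent Q) (H : Subgroup Q) (hH : (Nat.card H).Coprime H.index) :
    H.Normal := by
  have hnc : NormalizerCondition Q := Group.normalizerCondition_of_isNilpotent
  rw [← Subgroup.normalizer_eq_top_iff]
  rw [normalizerCondition_iff_only_full_group_self_normalizing] at hnc
  apply hnc
  apply le_antisymm _ Subgroup.le_normalizer
  -- `H` is a normal Hall subgroup of its normalizer `N`, hence the normalizer of `N` normalizes `H`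
  set N : Subgroup Q := Subgroup.normalizer (H : Set Q) with hN
  have hHN : H ≤ N := Subgroup.le_normalizer
  have hnorm : (H.subgroupOf N).Normal := Subgroup.normal_subgroupOf_of_le_normalizer le_rfl
  have hcard : Nat.card (H.subgroupOf N) = Nat.card H :=
    Nat.card_congr (subgroupOfEquivOfLe hHN).toEquiv
  have hcop : (Nat.card H).Coprime (H.subgroupOf N).index := by
    have h1 : (H.subgroupOf N).index ∣ H.index := Subgroup.relIndex_dvd_index_of_le hHN
    exact Nat.Coprime.coprime_dvd_right h1 hH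
  have key : ∀ g : Q, g ∈ Subgroup.normalizer (N : Set Q) → ∀ x ∈ H, g * x * g⁻¹ ∈ H := by
    intro g hg x hx
    have h1 : g * x * g⁻¹ ∈ N := by
      rw [Subgroup.mem_normalizer_iff] at hg
      exact (hg x).mp (hHN hx)
    have h2 : orderOf (⟨g * x * g⁻¹, h1⟩ : N) = orderOf x := by
      rw [← Subgroup.orderOf_coe]
      exact (MulAut.conj g).orderOf_eq x
    have h3 : (orderOf (⟨g * x * g⁻¹, h1⟩ : N)).Coprime (H.subgroupOf N).index := by
      rw [h2]
      refine Nat.Coprime.coprime_dvd_left ?_ hcop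
      have h : orderOf (⟨x, hx⟩ : H) = orderOf x := orderOf_mk x hx
      rw [← h]
      exact orderOf_dvd_natCard _
    have h4 := Cfsg.Agent.Lib.NormalHall.mem_of_orderOf_coprime_index (H.subgroupOf N) _ h3
    exact h4
  intro g hg
  rw [hN, Subgroup.mem_normalizer_iff]
  intro x
  refine ⟨key g hg x, fun h => ?_⟩
  have h1 := key g⁻¹ (inv_mem hg) _ h
  simpa [mul_assoc] using h1

/-- `F H` is normal in `G` when `F ≤ L` are normal in `G`, `L / F` is nilpotent and `H` is a Hall
subgroup of `L`. -/
theorem sup_normal {G : Type*} [Group G] [Finite G] (L F H : Subgroup G) [L.Normal] [F.Normal]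
    (hFL : F ≤ L) (hLF : Group.IsNilpotent (L.map (QuotientGroup.mk' F))) (hHL : H ≤ L)
    (hH : (Nat.card H).Coprime (H.relIndex L)) : (F ⊔ H).Normal := by
  set f := QuotientGroup.mk' F with hf
  have hsurj : Function.Surjective f := QuotientGroup.mk'_surjective F
  have hLn : (L.map f).Normal := Subgroup.Normal.map inferInstance f hsurj
  set Hb : Subgroup (L.map f) := (H.map f).subgroupOf (L.map f) with hHb
  have hle : H.map f ≤ L.map f := Subgroup.map_mono hHL
  have hcard : Nat.card Hb ∣ Nat.card H := by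
    rw [hHb, Nat.card_congr (subgroupOfEquivOfLe hle).toEquiv]
    exact Subgroup.card_map_dvd H f
  have hindex : Hb.index ∣ H.relIndex L := by
    have h1 : Hb.index = (H.map f).relIndex (L.map f) := rfl
    rw [h1, Subgroup.relIndex_map_map, hf, QuotientGroup.ker_mk', sup_eq_left.mpr hFL]
    exact Subgroup.relIndex_dvd_of_le_left L le_sup_left
  have hcop : (Nat.card Hb).Coprime Hb.index :=
    Nat.Coprime.coprime_dvd_left hcard (Nat.Coprime.coprime_dvd_right hindex hH)
  have hHbn : Hb.Normal := normal_of_coprime_index_of_isNilpotent hLF Hb hcop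
  have h2 := Cfsg.Agent.Lib.NormalHall.normal_map_subtype_of_coprime (L.map f) Hb hcop
  rw [hHb, Subgroup.subgroupOf_map_subtype, inf_eq_left.mpr hle] at h2
  have h3 : F ⊔ H = (H.map f).comap f := by
    rw [Subgroup.comap_map_eq, hf, QuotientGroup.ker_mk', sup_comm]
  rw [h3]
  exact Subgroup.Normal.comap h2 f

theorem card_mul_relIndex {G : Type*} [Group G] {H K : Subgroup G} (h : H ≤ K) :
    Nat.card H * H.relIndex K = Nat.card K := by
  have := Subgroup.relIndex_mul_relIndex (⊥ : Subgroup G) H K bot_le h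
  simpa [Subgroup.relIndex_bot_left] using this

/-- `|H F : H| = |F : H ∩ F|` for `F` normal. -/
theorem relIndex_sup_eq {G : Type*} [Group G] [Finite G] (H F : Subgroup G) [F.Normal] :
    H.relIndex (H ⊔ F) = H.relIndex F := by
  have h1 := card_mul_relIndex (le_sup_right : F ≤ H ⊔ F)
  rw [Subgroup.relIndex_sup_right] at h1
  have h2 := card_mul_relIndex (inf_le_left : H ⊓ F ≤ H)
  rw [Subgroup.inf_relIndex_left] at h2
  have h3 := card_mul_relIndex (le_sup_left : H ≤ H ⊔ F)
  have h4 := card_mul_relIndex (inf_le_right : H ⊓ F ≤ F)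
  rw [Subgroup.inf_relIndex_right] at h4
  have hpos : 0 < Nat.card H := Nat.card_pos
  apply Nat.eq_of_mul_eq_mul_left hpos
  calc Nat.card H * H.relIndex (H ⊔ F) = Nat.card F * F.relIndex H := by rw [h3, h1]
    _ = Nat.card ↥(H ⊓ F) * H.relIndex F * F.relIndex H := by rw [h4]
    _ = Nat.card ↥(H ⊓ F) * F.relIndex H * H.relIndex F := by ring
    _ = Nat.card H * H.relIndex F := by rw [h2]

/-- A nilpotent normal subgroup `F` and a Hall subgroup `H` of `L ≥ F`: there is a normal subgroup
`N ≤ F` of order coprime to that of `H` with `N H = F H`. -/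
theorem exists_normal_sup_eq {G : Type*} [Group G] [Finite G] (L F H : Subgroup G) [F.Normal]
    (hFL : F ≤ L) (hF : Group.IsNilpotent F) (hHL : H ≤ L)
    (hH : (Nat.card H).Coprime (H.relIndex L)) :
    ∃ N : Subgroup G, N.Normal ∧ N ≤ F ∧ (Nat.card H).Coprime (Nat.card N) ∧ N ⊔ H = F ⊔ H := by
  set D : Subgroup F := H.subgroupOf F with hD
  -- `H ∩ F` is a Hall subgroup of `F`
  have hDcard : Nat.card D ∣ Nat.card H := by
    have h1 : Nat.card D = Nat.card (H ⊓ F : Subgroup G) := by
      rw [← Subgroup.subgroupOf_map_subtype]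
      exact (Subgroup.card_map_of_injective F.subtype_injective).symm
    rw [h1]
    exact Subgroup.card_dvd_of_le inf_le_left
  have hDindex : D.index ∣ H.relIndex L := by
    have h1 : D.index = H.relIndex F := rfl
    rw [h1, ← relIndex_sup_eq]
    rw [← Subgroup.relIndex_mul_relIndex H (H ⊔ F) L le_sup_left (sup_le hHL hFL)]
    exact dvd_mul_right _ _
  have hDcop : (Nat.card D).Coprime D.index :=
    Nat.Coprime.coprime_dvd_left hDcard (Nat.Coprime.coprime_dvd_right hDindex hH)
  have hDn : D.Normal := normal_of_coprime_index_of_isNilpotent hF D hDcop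
  obtain ⟨N₀, hN₀⟩ := Subgroup.exists_right_complement'_of_coprime hDcop
  have hN₀card : Nat.card N₀ = D.index := hN₀.symm.index_eq_card.symm
  have hN₀index : N₀.index = Nat.card D := hN₀.index_eq_card
  have hN₀cop : (Nat.card N₀).Coprime N₀.index := by
    rw [hN₀card, hN₀index]; exact hDcop.symm
  have hN₀n : N₀.Normal := normal_of_coprime_index_of_isNilpotent hF N₀ hN₀cop
  have hN₀F : N₀.map F.subtype ≤ F := Subgroup.map_subtype_le _
  refine ⟨N₀.map F.subtype,
    Cfsg.Agent.Lib.NormalHall.normal_map_subtype_of_coprime F N₀ hN₀cop, hN₀F, ?_, ?_⟩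
  · rw [Subgroup.card_map_of_injective F.subtype_injective, hN₀card]
    exact Nat.Coprime.coprime_dvd_right hDindex hH
  · apply le_antisymm (sup_le_sup_right hN₀F H)
    apply sup_le _ le_sup_right
    intro x hx
    obtain ⟨⟨d, n⟩, hdn⟩ := hN₀.2 ⟨x, hx⟩
    have h1 : ((d : F) : G) * ((n : F) : G) = x := congrArg Subtype.val hdn
    rw [← h1]
    refine Subgroup.mul_mem _ ?_ ?_
    · exact Subgroup.mem_sup_right d.2
    · exact Subgroup.mem_sup_left (Subgroup.mem_map_of_mem F.subtype n.2)

/-- If `N` is a normal solvable subgroup of `G` of order coprime to that of `H` and `N H` is normal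
in `G`, then elements of `H` conjugate in `G` are conjugate in `N_G(H)`. -/
theorem exists_mem_normalizer_of_sup_normal {G : Type*} [Group G] [Finite G] (N H : Subgroup G)
    [N.Normal] (hN : Group.IsSolvable N) (hcop : (Nat.card H).Coprime (Nat.card N))
    (hNH : (N ⊔ H).Normal) {x g : G} (hx : x ∈ H) (hgx : g * x * g⁻¹ ∈ H) :
    ∃ n ∈ Subgroup.normalizer (H : Set G), n * x * n⁻¹ = g * x * g⁻¹ := by
  have h1 : MulAut.conj g • H ≤ N ⊔ H := by
    intro y hy
    rw [Subgroup.mem_pointwise_smul_iff_inv_smul_mem] at hy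
    have h2 : g⁻¹ * y * g ∈ H := by simpa using hy
    have h3 := hNH.conj_mem _ (Subgroup.mem_sup_right h2 : g⁻¹ * y * g ∈ N ⊔ H) g
    simpa [mul_assoc] using h3
  have hHN : H ≤ Subgroup.normalizer (N : Set G) := by
    rw [Subgroup.normalizer_eq_top_iff.mpr (inferInstance : N.Normal)]
    exact le_top
  obtain ⟨d, hd, hdH⟩ := Cfsg.Agent.S0030.exists_conj_eq H N (MulAut.conj g • H) hHN hcop
    (Or.inr hN) h1 (Nat.card_congr (Subgroup.equivSMul (MulAut.conj g) H).toEquiv).symm
  -- `n = d⁻¹ g` normalizes `H`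
  have hn : d⁻¹ * g ∈ Subgroup.normalizer (H : Set G) := by
    rw [Subgroup.mem_normalizer_iff]
    intro y
    have h4 : y ∈ H ↔ g * y * g⁻¹ ∈ MulAut.conj g • H := by
      rw [Subgroup.mem_pointwise_smul_iff_inv_smul_mem]
      simp [mul_assoc]
    have h5 : d⁻¹ * g * y * (d⁻¹ * g)⁻¹ ∈ H ↔ g * y * g⁻¹ ∈ MulAut.conj d • H := by
      rw [Subgroup.mem_pointwise_smul_iff_inv_smul_mem]
      simp [mul_assoc]
    rw [h4, h5, hdH]
  refine ⟨d⁻¹ * g, hn, ?_⟩
  set y := g * x * g⁻¹ with hy
  have h6 : d⁻¹ * g * x * (d⁻¹ * g)⁻¹ = d⁻¹ * y * d := by rw [hy]; group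
  have h7 : d⁻¹ * y * d ∈ H := by
    rw [← h6]
    exact (Subgroup.mem_normalizer_iff.mp hn x).mp hx
  have h8 : y⁻¹ * (d⁻¹ * y * d) ∈ H := H.mul_mem (H.inv_mem hgx) h7
  have h9 : y⁻¹ * (d⁻¹ * y * d) ∈ N := by
    have h10 : y⁻¹ * d⁻¹ * y ∈ N := by
      have := (inferInstance : N.Normal).conj_mem d⁻¹ (N.inv_mem hd) y⁻¹
      simpa using this
    have h11 := N.mul_mem h10 hd
    simpa [mul_assoc] using h11
  have h12 : y⁻¹ * (d⁻¹ * y * d) = 1 := by
    have hdisj : Disjoint H N := Subgroup.disjoint_of_coprime_natCard hcop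
    rw [Subgroup.disjoint_def] at hdisj
    exact hdisj h8 h9
  rw [h6]
  exact (inv_mul_eq_one.mp h12).symm

/-- Fusion in Hall subgroups of a metanilpotent normal subgroup. -/
theorem exists_mem_normalizer {G : Type*} [Group G] [Finite G] (L F H : Subgroup G)
    [L.Normal] [F.Normal] (hFL : F ≤ L) (hF : Group.IsNilpotent F)
    (hLF : Group.IsNilpotent (L.map (QuotientGroup.mk' F))) (hHL : H ≤ L)
    (hH : (Nat.card H).Coprime (H.relIndex L)) {x g : G} (hx : x ∈ H) (hgx : g * x * g⁻¹ ∈ H) :
    ∃ n ∈ Subgroup.normalizer (H : Set G), n * x * n⁻¹ = g * x * g⁻¹ := by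
  obtain ⟨N, hNn, hNF, hcop, hNH⟩ := exists_normal_sup_eq L F H hFL hF hHL hH
  have hsol : Group.IsSolvable N := by
    have h1 : Group.IsSolvable F := inferInstance
    exact Group.isSolvable_of_isSolvable_injective (f := Subgroup.inclusion hNF)
      (Subgroup.inclusion_injective hNF)
  refine exists_mem_normalizer_of_sup_normal N H hsol hcop ?_ hx hgx
  rw [hNH]
  exact sup_normal L F H hFL hLF hHL hH

end Cfsg.Agent.OddOrderLocal.MetaNilpotentFusion
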