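import Mathlib
import Cfsg.Prelude.Def_OddOrderLocal
import Cfsg.Agent.S1350
import Cfsg.Agent.S1405
import Cfsg.Agent.S1414
import Cfsg.Agent.OddOrderLocal.MinSimple
import Cfsg.Agent.OddOrderLocal.HallPi
import Cfsg.Agent.OddOrderLocal.FittingHall
import Cfsg.Agent.OddOrderLocal.Rank
import Cfsg.Agent.OddOrderLocal.SigmaDerived

/-!
B&G Lemma 12.19: the derived subgroup of a complement `E` of `M_σ` in `M` centralizes a Hall
`β(M)'`-subgroup of `M_σ`.
-/

set_option autoImplicit false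

namespace Cfsg.Agent.OddOrderLocal.Sec12_19

open Cfsg.Agent.OddOrderLocal

/-- `α(M) ⊆ σ(M)` (from the statements S1350 and S1405 only). -/
theorem mem_sigma_of_mem_alpha {G : Type*} [Group G] [Finite G] (hG : Cfsg.IsMinSimpleOddOrder G)
    {M : Subgroup G} (hM : IsCoatom M) {p : ℕ} (hp : p ∈ Cfsg.alpha M) : p ∈ Cfsg.sigma M := by
  have := Fact.mk hp.1
  have h1 : p ∣ Nat.card M := Rank.dvd_card_of_not_pRankLE hp.2
  have h2 := HallPi.prime_dvd_card (S1405.result hG M hM).1 hp.1 hp h1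
  exact (S1350.result hG M hM).1.2.1 p hp.1
    (h2.trans (Subgroup.card_dvd_of_le (S1405.result hG M hM).2.2.1))

theorem mem_sigma_of_mem_beta {G : Type*} [Group G] [Finite G] (hG : Cfsg.IsMinSimpleOddOrder G)
    {M : Subgroup G} (hM : IsCoatom M) {p : ℕ} (hp : p ∈ Cfsg.beta M) : p ∈ Cfsg.sigma M :=
  mem_sigma_of_mem_alpha hG hM hp.1

/-- `[N : K ∩ N]` divides `[X : K]` for `N` normal. -/
theorem relIndex_dvd_index_of_normal_right {X : Type*} [Group X] [Finite X] (K N : Subgroup X)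
    [N.Normal] : K.relIndex N ∣ K.index := by
  have h1 : N.relIndex (K ⊔ N) = N.relIndex K := Subgroup.relIndex_sup_right K N
  have h2 := HallPi.card_mul_relIndex (H := N) (M := K ⊔ N) le_sup_right
  have h3 := HallPi.card_mul_relIndex (H := N ⊓ K) (M := K) inf_le_right
  have h4 := HallPi.card_mul_relIndex (H := N ⊓ K) (M := N) inf_le_left
  have h5 := HallPi.card_mul_relIndex (H := K) (M := K ⊔ N) le_sup_left
  rw [Subgroup.inf_relIndex_right] at h3
  rw [Subgroup.inf_relIndex_left] at h4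
  have h6 : K.relIndex (K ⊔ N) = K.relIndex N := by
    apply Nat.eq_of_mul_eq_mul_left (Nat.card_pos (α := K))
    rw [h5, ← h2, h1, ← h4]
    calc Nat.card ↥(N ⊓ K) * K.relIndex N * N.relIndex K
        = (Nat.card ↥(N ⊓ K) * N.relIndex K) * K.relIndex N := by ring
      _ = Nat.card K * K.relIndex N := by rw [h3]
  rw [← h6]
  exact Subgroup.relIndex_dvd_index_of_le le_sup_left

/-- B&G Lemma 12.19. -/
theorem derived_compl_centralizes_hall {G : Type*} [Group G] [Finite G]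
    (hG : Cfsg.IsMinSimpleOddOrder G) (M : Subgroup G) (hM : IsCoatom M) (E : Subgroup G)
    (hE : Cfsg.IsComplIn E (Cfsg.sigmaCore M) M) :
    ∃ H : Subgroup G, Cfsg.IsPiHallOf {q | q.Prime ∧ q ∉ Cfsg.beta M} H (Cfsg.sigmaCore M) ∧
      Group.IsNilpotent H ∧ ⁅E, E⁆ ≤ Subgroup.centralizer (H : Set G) := by
  have hMs := (S1350.result hG M hM).1
  have hEHall := (HallPi.isPiHallOf_compl_iff hMs).mp hE
  have hM'M : ⁅M, M⁆ ≤ M := Subgroup.commutator_le_self M
  have hM' : ⁅M, M⁆ ≠ ⊤ := by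
    intro h
    rw [h] at hM'M
    exact hM.1 (top_le_iff.mp hM'M)
  have hsol : Group.IsSolvable ↥⁅M, M⁆ := MinSimple.isSolvable hG hM'
  obtain ⟨K0, hK0, hK0n⟩ := (S1414.result hG M hM).2.2.1
  -- `E' ≤ M'` is a `β(M)'`-group
  have hE'E : ⁅E, E⁆ ≤ E := Subgroup.commutator_le_self E
  have hE'M' : ⁅E, E⁆ ≤ ⁅M, M⁆ := Subgroup.commutator_mono hE.1 hE.1
  have hE'pi : ∀ p : ℕ, p.Prime → p ∣ Nat.card ↥⁅E, E⁆ → p ∉ Cfsg.sigma M := fun p hp hd =>
    (hEHall.2.1 p hp (hd.trans (Subgroup.card_dvd_of_le hE'E))).2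
  obtain ⟨K, hK, hE'K⟩ := HallPi.exists_isPiHallOf_ge hsol {q | q.Prime ∧ q ∉ Cfsg.beta M} hE'M'
    (fun p hp hd => ⟨hp, fun hb => hE'pi p hp hd (mem_sigma_of_mem_beta hG hM hb)⟩)
  have hKn : Group.IsNilpotent K := by
    obtain ⟨m, -, hm⟩ := HallPi.conj_of_isPiHallOf hsol hK0 hK
    have e := Subgroup.equivMapOfInjective K0 (MulAut.conj m).toMonoidHom (MulAut.conj m).injective
    rw [hm] at e
    exact Group.nilpotent_of_mulEquiv e
  -- `H = K ∩ M_σ`
  have hMsM' : Cfsg.sigmaCore M ≤ ⁅M, M⁆ := SigmaDerived.sigmaCore_le_commutator hG M hM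
  have hHall : Cfsg.IsPiHallOf {q | q.Prime ∧ q ∉ Cfsg.beta M} (K ⊓ Cfsg.sigmaCore M)
      (Cfsg.sigmaCore M) := by
    refine ⟨inf_le_right, fun p hp hd => hK.2.1 p hp (hd.trans (Subgroup.card_dvd_of_le inf_le_left)), ?_⟩
    intro p hp hpπ hd
    rw [Subgroup.inf_relIndex_right] at hd
    -- `|M_σ : K ∩ M_σ|` divides `|M' : K|` as `M_σ` is normal in `M'`
    have hn : ((Cfsg.sigmaCore M).subgroupOf ⁅M, M⁆).Normal :=
      Subgroup.normal_subgroupOf_of_le_normalizer (hM'M.trans (HallPi.le_normalizer_sigmaCore M))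
    apply hK.2.2 p hp hpπ
    refine hd.trans ?_
    have h1 : K.relIndex (Cfsg.sigmaCore M) =
        (K.subgroupOf ⁅M, M⁆).relIndex ((Cfsg.sigmaCore M).subgroupOf ⁅M, M⁆) := by
      rw [Subgroup.relIndex_subgroupOf hMsM']
    rw [h1]
    exact relIndex_dvd_index_of_normal_right _ _
  refine ⟨K ⊓ Cfsg.sigmaCore M, hHall, ?_, ?_⟩
  · have e := Subgroup.subgroupOfEquivOfLe (G := G) (H := K ⊓ Cfsg.sigmaCore M) (K := K) inf_le_left
    exact Group.nilpotent_of_mulEquiv e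
  · refine FittingHall.le_centralizer_of_coprime hKn hE'K inf_le_left ?_
    apply Nat.Coprime.symm
    exact HallPi.coprime_of_pi (π := Cfsg.sigma M)
      (fun p hp hd => hMs.2.1 p hp (hd.trans (Subgroup.card_dvd_of_le inf_le_right))) hE'pi

end Cfsg.Agent.OddOrderLocal.Sec12_19
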