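import Mathlib
import Cfsg.Prelude.Def_OddOrderLocal
import Cfsg.Agent.S0025
import Cfsg.Agent.S1350
import Cfsg.Agent.S1403
import Cfsg.Agent.S1405
import Cfsg.Agent.S1406
import Cfsg.Agent.S1407
import Cfsg.Agent.S1414
import Cfsg.Agent.OddOrderLocal.MinSimple
import Cfsg.Agent.OddOrderLocal.HallPi
import Cfsg.Agent.OddOrderLocal.FittingHall
import Cfsg.Agent.OddOrderLocal.Rank
import Cfsg.Agent.OddOrderLocal.ZGroup
import Cfsg.Agent.OddOrderLocal.SigmaDerived
import Cfsg.Agent.OddOrderLocal.FrobOnRGroup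
import Cfsg.Agent.OddOrderLocal.Sec12_19
import Cfsg.Agent.OddOrderLocal.MetaNilpotentFusion

/-!
B&G Lemma 12.18.
-/

set_option autoImplicit false
set_option linter.unusedVariables false

namespace Cfsg.Agent.OddOrderLocal.Sec12_18

open Cfsg.Agent.OddOrderLocal
open scoped commutatorElement

/-- A subgroup of rank at least three lies in at most one maximal subgroup. -/
theorem eq_of_rank_three {G : Type*} [Group G] [Finite G] (hG : Cfsg.IsMinSimpleOddOrder G)
    {M L : Subgroup G} (hM : IsCoatom M) (hL : IsCoatom L) {R : Subgroup G} (hRM : R ≤ M)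
    (hRL : R ≤ L) (hR : ¬ Cfsg.RankLE 2 R) : L = M := by
  have h1 : R ≠ ⊤ := by
    rintro rfl
    exact hM.1 (top_le_iff.mp hRM)
  have h2 := S1403.result hG R h1 (fun h => hR (Rank.rankLE_le one_le_two h)) (Or.inl hR)
  exact MinSimple.eq_of_inUniqueMaximal h2 hM hRM hL hRL

/-- A Sylow `r`-subgroup of `M_α`, `r ∈ α(M)`, has rank at least three. -/
theorem not_rankLE_sylow_alphaCore {G : Type*} [Group G] [Finite G]
    (hG : Cfsg.IsMinSimpleOddOrder G) {M : Subgroup G} (hM : IsCoatom M) {r : ℕ} [Fact r.Prime]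
    (hr : r ∈ Cfsg.alpha M) (S : Sylow r ↥(Cfsg.alphaCore M)) :
    ¬ Cfsg.RankLE 2 ↥((S : Subgroup ↥(Cfsg.alphaCore M)).map (Cfsg.alphaCore M).subtype) := by
  apply Rank.not_rankLE_of_not_pRankLE hr.1
  rw [Rank.pRankLE_map_sylow]
  obtain ⟨A, hAM, hA, hAc⟩ := Rank.exists_elemAb_of_not_pRankLE hr.2
  have hAle : A ≤ Cfsg.alphaCore M := by
    apply HallPi.le_of_normal_isPiHallOf (S1405.result hG M hM).1
      (HallPi.le_normalizer_alphaCore M) hAM
    intro t ht htA
    rw [hAc] at htA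
    have := (Nat.prime_dvd_prime_iff_eq ht hr.1).mp (ht.dvd_of_dvd_pow htA)
    rw [this]; exact hr
  apply Rank.not_pRankLE_of_elemAb hAle hA
  rw [hAc]
  exact Nat.pow_lt_pow_right hr.1.one_lt (by norm_num)

theorem centralizer_zpowers_eq {G : Type*} [Group G] (a : G) :
    Subgroup.centralizer (Subgroup.zpowers a : Set G) = Subgroup.centralizer ({a} : Set G) := by
  rw [Subgroup.zpowers_eq_closure, Subgroup.centralizer_closure]

/-- B&G Lemma 12.18(a). -/
theorem cent_alphaCore_of_tau1 {G : Type*} [Group G] [Finite G] (hG : Cfsg.IsMinSimpleOddOrder G)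
    (M : Subgroup G) (hM : IsCoatom M) (p q : ℕ) [Fact p.Prime] [Fact q.Prime]
    (hp : p ∈ Cfsg.tau1 M) (hqp : q ≠ p) (P Q : Subgroup G) (hPM : P ≤ M) (hP : Nat.card P = p)
    (hQM : Q ≤ M) (hQq : IsPGroup q Q) (hQ1 : Q ≠ ⊥) (hPQ : P ≤ Subgroup.normalizer (Q : Set G))
    (hCQP : Q ⊓ Subgroup.centralizer (P : Set G) = ⊥)
    (hnu : ∃ L : Subgroup G, IsCoatom L ∧ Subgroup.normalizer (Q : Set G) ≤ L ∧ L ≠ M)
    (hMa : Cfsg.alphaCore M ≠ ⊥) (hqa : q ∉ Cfsg.alpha M) :
    Cfsg.alphaCore M ⊓ Subgroup.centralizer (P : Set G) ≠ ⊥ ∧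
      Cfsg.alphaCore M ⊓ Subgroup.centralizer (P : Set G) ⊓ Subgroup.centralizer (Q : Set G) = ⊥ := by
  obtain ⟨L, hL, hNL, hLM⟩ := hnu
  have hpp : p.Prime := Fact.out
  -- a generator of `P`
  obtain ⟨a0, ha0⟩ := exists_prime_orderOf_dvd_card' (G := P) p (by rw [hP])
  obtain ⟨a, haP⟩ := a0
  have hap : orderOf a = p := by rwa [Subgroup.orderOf_mk] at ha0
  have hzP : Subgroup.zpowers a = P := by
    apply Subgroup.eq_of_le_of_card_ge (by rwa [Subgroup.zpowers_le])
    rw [Nat.card_zpowers, hap, hP]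
  have hCP : Subgroup.centralizer (P : Set G) = Subgroup.centralizer ({a} : Set G) := by
    rw [← hzP, centralizer_zpowers_eq]
  have hapow : a ^ p = 1 := by rw [← hap]; exact pow_orderOf_eq_one a
  have haQ : a ∈ Subgroup.normalizer (Q : Set G) := hPQ haP
  have hfQ : ∀ y ∈ Q, a * y = y * a → y = 1 := by
    intro y hy hay
    have : y ∈ Q ⊓ Subgroup.centralizer (P : Set G) := by
      rw [hCP]; exact ⟨hy, Subgroup.mem_centralizer_singleton_iff.mpr hay.symm⟩
    rwa [hCQP, Subgroup.mem_bot] at this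
  set Ma := Cfsg.alphaCore M with hMadef
  have hMaM : Ma ≤ M := HallPi.alphaCore_le M
  have hMN : M ≤ Subgroup.normalizer (Ma : Set G) := HallPi.le_normalizer_alphaCore M
  have hHall : Cfsg.IsPiHallOf (Cfsg.alpha M) Ma M := (S1405.result hG M hM).1
  have hpa : p ∉ Cfsg.alpha M := fun h => hp.2.1 (Sec12_19.mem_sigma_of_mem_alpha hG hM h)
  have hcopQ : (Nat.card Ma).Coprime (Nat.card Q) := by
    apply HallPi.coprime_of_pi hHall.2.1
    intro t ht htQ
    obtain ⟨n, hn⟩ := IsPGroup.iff_card.mp hQq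
    rw [hn] at htQ
    rw [(Nat.prime_dvd_prime_iff_eq ht Fact.out).mp (ht.dvd_of_dvd_pow htQ)]
    exact hqa
  have hMsol : Group.IsSolvable M := MinSimple.isSolvable hG hM.1
  have hsolle : ∀ K : Subgroup G, K ≤ M → Group.IsSolvable K := fun K hK =>
    Group.isSolvable_of_isSolvable_injective (Subgroup.inclusion_injective hK)
  refine ⟨?_, ?_⟩
  · -- `C_{M_α}(P) ≠ 1`
    intro hbot
    have h1 : Q ≤ Subgroup.centralizer (Ma : Set G) := by
      refine FrobOnRGroup.le_centralizer_of_fpf Ma Q hcopQ (hQM.trans hMN)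
        (hsolle _ (sup_le hMaM hQM)) a (hMN (hPM haP)) haQ hpp hapow ?_ hfQ
      intro t ht hat
      have : t ∈ Ma ⊓ Subgroup.centralizer (P : Set G) := by
        rw [hCP]; exact ⟨ht, Subgroup.mem_centralizer_singleton_iff.mpr hat.symm⟩
      rwa [hbot, Subgroup.mem_bot] at this
    have h2 : Ma ≤ L := by
      refine le_trans ?_ hNL
      refine le_trans ?_ (Subgroup.centralizer_le_normalizer _)
      exact Subgroup.le_centralizer_iff.mp h1
    obtain ⟨r, hr, hrd⟩ := Nat.exists_prime_and_dvd (n := Nat.card Ma)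
      (fun h => hMa (Subgroup.card_eq_one.mp h))
    have := Fact.mk hr
    have hra : r ∈ Cfsg.alpha M := hHall.2.1 r hr hrd
    apply hLM
    refine eq_of_rank_three hG hM hL hMaM h2 ?_
    intro h3
    exact not_rankLE_sylow_alphaCore hG hM hra default
      (Rank.rankLE_mono (Subgroup.map_subtype_le _) h3)
  · -- `C_{M_α}(P) ∩ C(Q) = 1`
    by_contra hne
    obtain ⟨r, hr, hrd⟩ := Nat.exists_prime_and_dvd (n := Nat.card
      ↥(Ma ⊓ Subgroup.centralizer (P : Set G) ⊓ Subgroup.centralizer (Q : Set G)))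
      (fun h => hne (Subgroup.card_eq_one.mp h))
    have := Fact.mk hr
    have hrMa : r ∣ Nat.card Ma :=
      hrd.trans (Subgroup.card_dvd_of_le (inf_le_left.trans inf_le_left))
    have hra : r ∈ Cfsg.alpha M := hHall.2.1 r hr hrMa
    have hr2 : r ≠ 2 := MinSimple.ne_two_of_dvd hG hrMa
    have hpr : p ≠ r := fun h => hpa (h ▸ hra)
    have hqr : q ≠ r := fun h => hqa (h ▸ hra)
    obtain ⟨x0, hx0⟩ := exists_prime_orderOf_dvd_card' r hrd
    obtain ⟨x, hxD⟩ := x0
    have hxr : orderOf x = r := by rwa [Subgroup.orderOf_mk] at hx0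
    -- a `PQ`-invariant Sylow `r`-subgroup containing `x`
    have hAcard : Nat.card ↥(Q ⊔ P) ∣ Nat.card Q * Nat.card P :=
      SignalizersComponents.CoprimeBasic.card_sup_dvd hPQ
    have hcopA : (Nat.card ↥(Q ⊔ P)).Coprime (Nat.card Ma) := by
      apply Nat.Coprime.coprime_dvd_left hAcard
      apply Nat.Coprime.mul_left hcopQ.symm
      rw [hP, Nat.coprime_comm]
      apply HallPi.coprime_of_pi hHall.2.1
      intro t ht htp
      rw [(Nat.prime_dvd_prime_iff_eq ht hpp).mp htp]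
      exact hpa
    have hAM : Q ⊔ P ≤ M := sup_le hQM hPM
    have hAU : Q ⊔ P ≤ Subgroup.normalizer (Subgroup.zpowers x : Set G) := by
      refine le_trans ?_ (Subgroup.centralizer_le_normalizer _)
      rw [centralizer_zpowers_eq]
      apply sup_le
      · intro y hy
        rw [Subgroup.mem_centralizer_singleton_iff]
        exact (Subgroup.mem_centralizer_iff.mp hxD.2 y hy)
      · intro y hy
        rw [Subgroup.mem_centralizer_singleton_iff]
        exact (Subgroup.mem_centralizer_iff.mp hxD.1.2 y hy)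
    obtain ⟨S, hxS, hAS⟩ := S0025.result (Q ⊔ P) Ma (hAM.trans hMN) hcopA
      (Or.inr (hsolle _ hMaM)) r (Subgroup.zpowers x) (by rw [Subgroup.zpowers_le]; exact hxD.1.1)
      (IsPGroup.of_card (n := 1) (by rw [Nat.card_zpowers, hxr, pow_one])) hAU
    set R : Subgroup G := (S : Subgroup Ma).map Ma.subtype with hR
    have hRMa : R ≤ Ma := Subgroup.map_subtype_le _
    have hRr : IsPGroup r R := S.2.map _
    have hRrank : ¬ Cfsg.RankLE 2 R := not_rankLE_sylow_alphaCore hG hM hra S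
    -- `C_R(Q)` is cyclic
    have hCQ1 : Cfsg.RankLE 1 ↥(Ma ⊓ Subgroup.centralizer (Q : Set G)) := by
      by_contra hcon
      have h1 := S1406.result hG M hM Q hQM (by
        intro t ht htQ
        obtain ⟨n, hn⟩ := IsPGroup.iff_card.mp hQq
        rw [hn] at htQ
        rw [(Nat.prime_dvd_prime_iff_eq ht Fact.out).mp (ht.dvd_of_dvd_pow htQ)]
        exact hqa) hcon
      apply hLM
      exact MinSimple.eq_of_inUniqueMaximal h1 hM inf_le_left hL
        ((inf_le_right.trans (Subgroup.centralizer_le_normalizer _)).trans hNL)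
    have hCQc : IsCyclic ↥(R ⊓ Subgroup.centralizer (Q : Set G)) := by
      apply ZGroup.isCyclic_of_pRankLE_one hr2 (hRr.to_le inf_le_left)
      exact Rank.pRankLE_mono (inf_le_inf_right _ hRMa) (hCQ1 r hr)
    -- `C_R(P)` is cyclic
    have hCPc : IsCyclic ↥(R ⊓ Subgroup.centralizer ({a} : Set G)) := by
      have hPsub : IsPGroup p (P.subgroupOf M) := by
        apply IsPGroup.of_card (n := 1)
        rw [Nat.card_congr (Subgroup.subgroupOfEquivOfLe hPM).toEquiv, hP, pow_one]
      obtain ⟨P0, hP0⟩ := hPsub.exists_le_sylow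
      obtain ⟨x1, hx1, hx1p, hx1Z, -⟩ := S1407.result hG M hM hMa p hp.2.2.1 hp.2.1 P0
      have hp2 : p ≠ 2 := MinSimple.ne_two_of_dvd hG hp.2.2.1
      have hP0c : IsCyclic ↥((P0 : Subgroup M).map M.subtype) := by
        apply ZGroup.isCyclic_of_pRankLE_one hp2 (P0.2.map _)
        rw [Rank.pRankLE_map_sylow]
        exact hp.2.2.2.2
      have haP0 : a ∈ (P0 : Subgroup M).map M.subtype :=
        ⟨⟨a, hPM haP⟩, hP0 haP, rfl⟩
      have hx1P0 : x1 ∈ (P0 : Subgroup M).map M.subtype := by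
        obtain ⟨y, hy, rfl⟩ := hx1
        obtain ⟨z, hz, rfl⟩ := hy
        exact ⟨z, z.2, rfl⟩
      have hx1a : x1 ∈ Subgroup.zpowers a :=
        FrobOnRGroup.mem_of_isCyclic hP0c hx1P0 hx1p (by rwa [Subgroup.zpowers_le])
          (IsPGroup.of_card (n := 1) (by rw [Nat.card_zpowers, hap, pow_one]))
          (by
            rw [Ne, Subgroup.zpowers_eq_bot]
            intro h
            rw [h, orderOf_one] at hap
            exact hpp.one_lt.ne hap)
      have hle : R ⊓ Subgroup.centralizer ({a} : Set G) ≤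
          Ma ⊓ Subgroup.centralizer ({x1} : Set G) := by
        refine inf_le_inf hRMa ?_
        rw [← centralizer_zpowers_eq a]
        apply Subgroup.centralizer_le
        rw [Set.singleton_subset_iff]
        exact hx1a
      have hZ : IsZGroup ↥(R ⊓ Subgroup.centralizer ({a} : Set G)) :=
        IsZGroup.of_injective (f := Subgroup.inclusion hle) (Subgroup.inclusion_injective hle)
      have hRa : IsPGroup r ↥(R ⊓ Subgroup.centralizer ({a} : Set G)) := hRr.to_le inf_le_left
      have h1 : IsPGroup r (⊤ : Subgroup ↥(R ⊓ Subgroup.centralizer ({a} : Set G))) := hRa.to_subgroup _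
      have h2 : IsCyclic (⊤ : Subgroup ↥(R ⊓ Subgroup.centralizer ({a} : Set G))) :=
        h1.isCyclic_of_isZGroup
      exact (Subgroup.topEquiv.isCyclic).mp h2
    -- conclusion
    have hcent := FrobOnRGroup.le_centralizer_of_cyclic hqr hpr hr2 a hapow Q R hQq hRr haQ
      (hAS (Subgroup.mem_sup_right haP)) (le_sup_left.trans hAS) hfQ hCPc hCQc (by
        intro hbot
        have : x ∈ R ⊓ Subgroup.centralizer ({a} : Set G) ⊓ Subgroup.centralizer (Q : Set G) :=
          ⟨⟨hxS (Subgroup.mem_zpowers x), hCP ▸ hxD.1.2⟩, hxD.2⟩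
        rw [hbot, Subgroup.mem_bot] at this
        rw [this, orderOf_one] at hxr
        exact hr.one_lt.ne hxr)
    apply hLM
    exact eq_of_rank_three hG hM hL (hRMa.trans hMaM)
      (((Subgroup.le_centralizer_iff.mp hcent).trans (Subgroup.centralizer_le_normalizer _)).trans hNL)
      hRrank

/-- If `P` of order `p` acts without fixed points on the `q`-group `Q` (`q ≠ p`), then `Q = [Q, P]`. -/
theorem le_commutator_of_fpf {G : Type*} [Group G] [Finite G] {p q : ℕ} [Fact p.Prime]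
    [Fact q.Prime] (hqp : q ≠ p) {P Q : Subgroup G} (hP : IsPGroup p P) (hQq : IsPGroup q Q)
    (hPQ : P ≤ Subgroup.normalizer (Q : Set G))
    (hCQP : Q ⊓ Subgroup.centralizer (P : Set G) = ⊥) : Q ≤ ⁅Q, P⁆ := by
  intro y hy
  obtain ⟨m, hm, c, hc, rfl⟩ := Lib.CoprimeCommutator.exists_commutator_mul_fixed_of_isPGroup p P Q hP
    hPQ (by
      intro h
      obtain ⟨n, hn⟩ := IsPGroup.iff_card.mp hQq
      rw [hn] at h
      exact hqp ((Nat.prime_dvd_prime_iff_eq Fact.out Fact.out).mp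
        ((Fact.out : p.Prime).dvd_of_dvd_pow h)).symm) y hy
  rw [hCQP, Subgroup.mem_bot] at hc
  rw [hc, mul_one]
  exact hm

/-- B&G Lemma 12.18(b). -/
theorem alpha_eq_beta_of_tau1_sylow {G : Type*} [Group G] [Finite G]
    (hG : Cfsg.IsMinSimpleOddOrder G)
    (M : Subgroup G) (hM : IsCoatom M) (p q : ℕ) [Fact p.Prime] [Fact q.Prime]
    (hp : p ∈ Cfsg.tau1 M) (hqp : q ≠ p) (P Q : Subgroup G) (hPM : P ≤ M) (hP : Nat.card P = p)
    (hQM : Q ≤ M) (hQq : IsPGroup q Q) (hQ1 : Q ≠ ⊥) (hPQ : P ≤ Subgroup.normalizer (Q : Set G))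
    (hCQP : Q ⊓ Subgroup.centralizer (P : Set G) = ⊥)
    (hnu : ∃ L : Subgroup G, IsCoatom L ∧ Subgroup.normalizer (Q : Set G) ≤ L ∧ L ≠ M)
    (S : Sylow q M) (hS : Q = (S : Subgroup M).map M.subtype) :
    Cfsg.alpha M = Cfsg.beta M ∧ Cfsg.alphaCore M ≠ ⊥ ∧ q ∉ Cfsg.alpha M ∧
      Cfsg.alphaCore M ⊓ Subgroup.centralizer (P : Set G) ≠ ⊥ ∧
      Cfsg.alphaCore M ⊓ Subgroup.centralizer (P : Set G) ⊓ Subgroup.centralizer (Q : Set G) = ⊥ := by
  obtain ⟨L, hL, hNL, hLM⟩ := id hnu
  have hCQL : Subgroup.centralizer (Q : Set G) ≤ L :=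
    (Subgroup.centralizer_le_normalizer _).trans hNL
  have hPp : IsPGroup p P := IsPGroup.of_card (n := 1) (by rw [hP, pow_one])
  -- `q ∉ α(M)`
  have hqa : q ∉ Cfsg.alpha M := by
    intro h
    apply hLM
    refine eq_of_rank_three hG hM hL hQM (Subgroup.le_normalizer.trans hNL) ?_
    apply Rank.not_rankLE_of_not_pRankLE h.1
    rw [hS, Rank.pRankLE_map_sylow]
    exact h.2
  have hqb : q ∉ Cfsg.beta M := fun h => hqa h.1
  have hQM' : Q ≤ ⁅M, M⁆ :=
    (le_commutator_of_fpf hqp hPp hQq hPQ hCQP).trans (Subgroup.commutator_mono hQM hPM)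
  have hM'M : ⁅M, M⁆ ≤ M := Subgroup.commutator_le_self M
  have hM' : ⁅M, M⁆ ≠ ⊤ := by
    intro h
    rw [h] at hM'M
    exact hM.1 (top_le_iff.mp hM'M)
  have hsol : Group.IsSolvable ↥⁅M, M⁆ := MinSimple.isSolvable hG hM'
  have hMM' : M ≤ Subgroup.normalizer ((⁅M, M⁆ : Subgroup G) : Set G) := by
    rw [Subgroup.le_normalizer_iff]
    intro m hm x hx
    have h1 := Subgroup.normalizer_commutator_ge_left M M
    exact FrobOnRGroup.conj_mem (h1 hm) hx
  have hHall : Cfsg.IsPiHallOf (Cfsg.alpha M) (Cfsg.alphaCore M) M := (S1405.result hG M hM).1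
  -- `M_α ≠ 1`
  have hMa : Cfsg.alphaCore M ≠ ⊥ := by
    intro hbot
    -- then `M'` is nilpotent
    have hpc : Cfsg.piCore (Cfsg.alpha M) M = ⊥ := by
      have : (Cfsg.piCore (Cfsg.alpha M) M).map M.subtype = ⊥ := hbot
      rwa [Subgroup.map_eq_bot_iff_of_injective _ M.subtype_injective] at this
    have hnil := (S1405.result hG M hM).2.2.2.2
    have hnil' : Group.IsNilpotent (commutator M) := by
      have hinj : Function.Injective (QuotientGroup.mk' (Cfsg.piCore (Cfsg.alpha M) M)) := by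
        rw [← MonoidHom.ker_eq_bot_iff, QuotientGroup.ker_mk', hpc]
      have e := Subgroup.equivMapOfInjective (commutator M) _ hinj
      exact Group.nilpotent_of_mulEquiv e.symm
    have hnil'' : Group.IsNilpotent ↥⁅M, M⁆ := by
      have e := Subgroup.equivMapOfInjective (commutator M) M.subtype M.subtype_injective
      rw [SigmaDerived.map_subtype_commutator] at e
      exact Group.nilpotent_of_mulEquiv e
    -- `Q` is the normal Sylow subgroup of `M'`
    have hQHall : Cfsg.IsPiHallOf {q} Q ⁅M, M⁆ := by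
      refine ⟨hQM', ?_, ?_⟩
      · intro t ht htQ
        obtain ⟨n, hn⟩ := IsPGroup.iff_card.mp hQq
        rw [hn] at htQ
        exact (Nat.prime_dvd_prime_iff_eq ht Fact.out).mp (ht.dvd_of_dvd_pow htQ)
      · rintro t ht rfl hd
        have h1 : t ∣ Q.relIndex M := hd.trans ⟨_, (Subgroup.relIndex_mul_relIndex Q ⁅M, M⁆ M hQM' hM'M).symm⟩
        rw [hS, HallPi.relIndex_map_subtype] at h1
        exact S.not_dvd_index h1
    have hQcop : (Nat.card Q).Coprime (Q.relIndex ⁅M, M⁆) := HallPi.coprime_card_relIndex hQHall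
    have hQn : ⁅M, M⁆ ≤ Subgroup.normalizer (Q : Set G) := by
      have hcard : Nat.card (Q.subgroupOf ⁅M, M⁆) = Nat.card Q :=
        Nat.card_congr (Subgroup.subgroupOfEquivOfLe hQM').toEquiv
      have hn := MetaNilpotentFusion.normal_of_coprime_index_of_isNilpotent hnil'' (Q.subgroupOf ⁅M, M⁆)
        (by rw [hcard]; exact hQcop)
      have h1 := HallPi.le_normalizer_map_subtype (Q.subgroupOf ⁅M, M⁆)
      rwa [Subgroup.subgroupOf_map_subtype, inf_eq_left.mpr hQM'] at h1
    have hMQ : M ≤ Subgroup.normalizer (Q : Set G) := by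
      rw [Subgroup.le_normalizer_iff]
      intro m hm x hx
      have hx' : x ∈ ⁅M, M⁆ := hQM' hx
      apply HallPi.mem_of_normal_isPiHallOf hQHall hQn (FrobOnRGroup.conj_mem (hMM' hm) hx')
      intro t ht htx
      have h1 : orderOf (m * x * m⁻¹) = orderOf x := by
        have := orderOf_injective (MulAut.conj m).toMonoidHom (MulAut.conj m).injective x
        simpa using this
      rw [h1] at htx
      exact hQHall.2.1 t ht (htx.trans (HallPi.orderOf_dvd_card_of_mem hx))
    exact hLM (((hM.le_iff).mp (hMQ.trans hNL)).resolve_left hL.1)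
  -- `α(M) = β(M)`
  have hab : Cfsg.alpha M = Cfsg.beta M := by
    apply Set.Subset.antisymm ?_ (fun r hr => hr.1)
    intro r hra
    by_contra hrb
    have := Fact.mk hra.1
    have hqr : q ≠ r := fun h => hqa (h ▸ hra)
    obtain ⟨K0, hK0, hK0n⟩ := (S1414.result hG M hM).2.2.1
    obtain ⟨K, hK, hQK⟩ := HallPi.exists_isPiHallOf_ge hsol {q | q.Prime ∧ q ∉ Cfsg.beta M} hQM' (by
      intro t ht htQ
      obtain ⟨n, hn⟩ := IsPGroup.iff_card.mp hQq
      rw [hn] at htQ
      rw [(Nat.prime_dvd_prime_iff_eq ht Fact.out).mp (ht.dvd_of_dvd_pow htQ)]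
      exact ⟨Fact.out, hqb⟩)
    have hKn : Group.IsNilpotent K := by
      obtain ⟨m, -, hm⟩ := HallPi.conj_of_isPiHallOf hsol hK0 hK
      have e := Subgroup.equivMapOfInjective K0 (MulAut.conj m).toMonoidHom (MulAut.conj m).injective
      rw [hm] at e
      exact Group.nilpotent_of_mulEquiv e
    -- an elementary abelian `r`-subgroup of order `r ^ 3`, in `M'`, conjugate into `K`
    obtain ⟨A, hAM, hA, hAc⟩ := Rank.exists_elemAb_of_not_pRankLE hra.2
    have hApi : ∀ t : ℕ, t.Prime → t ∣ Nat.card A → t = r := by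
      intro t ht htA
      rw [hAc] at htA
      exact (Nat.prime_dvd_prime_iff_eq ht hra.1).mp (ht.dvd_of_dvd_pow htA)
    have hAle : A ≤ Cfsg.alphaCore M :=
      HallPi.le_of_normal_isPiHallOf hHall (HallPi.le_normalizer_alphaCore M) hAM
        (fun t ht htA => by rw [hApi t ht htA]; exact hra)
    have hAM' : A ≤ ⁅M, M⁆ := (hAle.trans (S1405.result hG M hM).2.2.1).trans
      (SigmaDerived.sigmaCore_le_commutator hG M hM)
    obtain ⟨m, hm, hmK⟩ := HallPi.exists_conj_le_of_isPiHallOf hsol hK hAM' (fun t ht htA => by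
      rw [hApi t ht htA]; exact ⟨hra.1, hrb⟩)
    set B : Subgroup G := A.map (MulAut.conj m).toMonoidHom with hB
    have hBe : Cfsg.IsElementaryAbelian r B := Rank.elemAb_map _ hA
    have hBc : Nat.card B = r ^ (2 + 1) := by
      rw [hB, Subgroup.card_map_of_injective (MulAut.conj m).injective, hAc]
    have hBr : IsPGroup r B := Rank.elemAb_isPGroup hBe
    have hBQ : B ≤ Subgroup.centralizer (Q : Set G) :=
      FittingHall.le_centralizer_of_coprime hKn hmK hQK
        (FrobOnRGroup.coprime_of_isPGroup hqr.symm hBr hQq)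
    apply hLM
    refine eq_of_rank_three hG hM hL ((hmK.trans hK.1).trans hM'M) (hBQ.trans hCQL) ?_
    apply Rank.not_rankLE_of_elemAb hra.1 le_rfl hBe
    rw [hBc]
    exact Nat.pow_lt_pow_right hra.1.one_lt (by norm_num)
  have hfin := cent_alphaCore_of_tau1 hG M hM p q hp hqp P Q hPM hP hQM hQq hQ1 hPQ hCQP hnu hMa hqa
  exact ⟨hab, hMa, hqa, hfin.1, hfin.2⟩

end Cfsg.Agent.OddOrderLocal.Sec12_18
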