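import Mathlib
import Cfsg.Prelude.Def_LieExceptional

/-!
Basic facts used for CN-groups: in a finite nilpotent group elements of coprime order commute;
decomposition of an element into its `p`-part and `p'`-part; CN-groups are inherited by subgroups.
-/

set_option autoImplicit false

namespace Cfsg.Agent.OddOrderLocal.CNBasic

open Subgroup

/-- In a finite nilpotent group, elements of coprime order commute. -/
theorem commute_of_coprime_orderOf {C : Type*} [Group C] [Finite C] [hC : Group.IsNilpotent C]
    {a b : C} (h : (orderOf a).Coprime (orderOf b)) : Commute a b := by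
  obtain ⟨e⟩ := ((Group.isNilpotent_of_finite_tfae (G := C)).out 0 4).mp hC
  have h1 : Commute (e.symm a) (e.symm b) := by
    show e.symm a * e.symm b = e.symm b * e.symm a
    funext p P
    show (e.symm a p P) * (e.symm b p P) = (e.symm b p P) * (e.symm a p P)
    haveI : Fact (p : ℕ).Prime := ⟨Nat.prime_of_mem_primeFactors p.2⟩
    have ha : orderOf (e.symm a p P) ∣ orderOf a := by
      apply orderOf_dvd_of_pow_eq_one
      have : (e.symm a) ^ orderOf a = 1 := by rw [← map_pow, pow_orderOf_eq_one, map_one]
      have h2 := congrFun (congrFun this p) P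
      exact h2
    have hb : orderOf (e.symm b p P) ∣ orderOf b := by
      apply orderOf_dvd_of_pow_eq_one
      have : (e.symm b) ^ orderOf b = 1 := by rw [← map_pow, pow_orderOf_eq_one, map_one]
      have h2 := congrFun (congrFun this p) P
      exact h2
    have hcop : (orderOf (e.symm a p P)).Coprime (orderOf (e.symm b p P)) :=
      (h.coprime_dvd_left ha).coprime_dvd_right hb
    obtain ⟨k, hk⟩ := (IsPGroup.iff_orderOf.mp P.isPGroup') (e.symm a p P)
    obtain ⟨l, hl⟩ := (IsPGroup.iff_orderOf.mp P.isPGroup') (e.symm b p P)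
    rw [hk, hl] at hcop
    rcases Nat.eq_zero_or_pos k with hk0 | hk0
    · rw [hk0, pow_zero, orderOf_eq_one_iff] at hk
      rw [hk, one_mul, mul_one]
    · rcases Nat.eq_zero_or_pos l with hl0 | hl0
      · rw [hl0, pow_zero, orderOf_eq_one_iff] at hl
        rw [hl, one_mul, mul_one]
      · exfalso
        rw [Nat.coprime_pow_left_iff hk0, Nat.coprime_pow_right_iff hl0, Nat.coprime_self] at hcop
        exact (Fact.out : (p : ℕ).Prime).one_lt.ne' hcop
  have h2 := h1.map e.toMonoidHom
  simpa using h2

/-- The same for elements of a nilpotent subgroup. -/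
theorem commute_of_mem_of_coprime {G : Type*} [Group G] [Finite G] {C : Subgroup G}
    (hC : Group.IsNilpotent C) {a b : G} (ha : a ∈ C) (hb : b ∈ C)
    (h : (orderOf a).Coprime (orderOf b)) : Commute a b := by
  have h1 : Commute (⟨a, ha⟩ : C) (⟨b, hb⟩ : C) := by
    apply commute_of_coprime_orderOf
    rw [Subgroup.orderOf_mk, Subgroup.orderOf_mk]
    exact h
  exact congrArg Subtype.val h1

/-- Decomposition of an element of finite order into its `p`-part and `p'`-part. -/
theorem exists_mul_parts {G : Type*} [Group G] [Finite G] {p : ℕ} (hp : p.Prime) (y : G) :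
    ∃ a b : G, a ∈ zpowers y ∧ b ∈ zpowers y ∧ a * b = y ∧ (∃ k : ℕ, a ^ p ^ k = 1) ∧
      (orderOf b).Coprime p := by
  obtain ⟨k, m, hm, hn⟩ := Nat.exists_eq_pow_mul_and_not_dvd (orderOf_pos y).ne' p hp.ne_one
  have hcop : (p ^ k).Coprime m := Nat.Coprime.pow_left k ((hp.coprime_iff_not_dvd).mpr hm)
  obtain ⟨u, v, huv⟩ : ∃ u v : ℤ, u * (m : ℤ) + v * ((p ^ k : ℕ) : ℤ) = 1 := by
    have h1 : IsCoprime (m : ℤ) ((p ^ k : ℕ) : ℤ) := (Nat.isCoprime_iff_coprime).mpr hcop.symm
    exact h1
  refine ⟨y ^ (u * (m : ℤ)), y ^ (v * ((p ^ k : ℕ) : ℤ)), zpow_mem (mem_zpowers y) _,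
    zpow_mem (mem_zpowers y) _, ?_, ⟨k, ?_⟩, ?_⟩
  · rw [← zpow_add, huv, zpow_one]
  · have : (y ^ (u * (m : ℤ))) ^ p ^ k = (y ^ orderOf y) ^ u := by
      rw [hn, ← zpow_natCast, ← zpow_natCast, ← zpow_mul, ← zpow_mul]
      congr 1
      push_cast
      ring
    rw [this, pow_orderOf_eq_one, one_zpow]
  · have h2 : (y ^ (v * ((p ^ k : ℕ) : ℤ))) ^ m = 1 := by
      have : (y ^ (v * ((p ^ k : ℕ) : ℤ))) ^ m = (y ^ orderOf y) ^ v := by
        rw [hn, ← zpow_natCast, ← zpow_natCast, ← zpow_mul, ← zpow_mul]
        congr 1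
        push_cast
        ring
      rw [this, pow_orderOf_eq_one, one_zpow]
    exact Nat.Coprime.coprime_dvd_left (orderOf_dvd_of_pow_eq_one h2)
      ((hp.coprime_iff_not_dvd).mpr hm).symm

/-- Passing to a homomorphic preimage under an injective homomorphism preserves CN-groups. -/
theorem isCNGroup_of_injective {G H : Type*} [Group G] [Group H] (f : H →* G)
    (hf : Function.Injective f) (h : Cfsg.IsCNGroup G) : Cfsg.IsCNGroup H := by
  intro x hx
  have hfx : f x ≠ 1 := fun h1 => hx (hf (h1.trans (map_one f).symm))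
  haveI := h (f x) hfx
  let g : centralizer ({x} : Set H) →* centralizer ({f x} : Set G) :=
    (f.comp (centralizer ({x} : Set H)).subtype).codRestrict _ (by
      intro y
      rw [mem_centralizer_singleton_iff]
      have := mem_centralizer_singleton_iff.mp y.2
      show f (y : H) * f x = f x * f (y : H)
      rw [← map_mul, ← map_mul, this])
  have hg : Function.Injective g := by
    intro a b hab
    apply Subtype.ext
    apply hf
    exact congrArg Subtype.val hab
  refine Subgroup.isNilpotent_of_ker_le_center g ?_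
  rw [(MonoidHom.ker_eq_bot_iff g).mpr hg]
  exact bot_le

/-- Subgroups of CN-groups are CN-groups. -/
theorem isCNGroup_subgroup {G : Type*} [Group G] (h : Cfsg.IsCNGroup G) (H : Subgroup G) :
    Cfsg.IsCNGroup H :=
  isCNGroup_of_injective H.subtype H.subtype_injective h

/-- Invariance under isomorphism. -/
theorem isCNGroup_congr {G H : Type*} [Group G] [Group H] (e : G ≃* H) (h : Cfsg.IsCNGroup G) :
    Cfsg.IsCNGroup H :=
  isCNGroup_of_injective e.symm.toMonoidHom e.symm.injective h

end Cfsg.Agent.OddOrderLocal.CNBasic
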