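import Mathlib
import Cfsg.Prelude.Def_OddOrderLocal
import Cfsg.Agent.Lib.CoprimeStab
import Cfsg.Agent.OddOrderLocal.Rank
import Cfsg.Agent.OddOrderLocal.MinSimple
import Cfsg.Agent.OddOrderLocal.MinSimpleBasic
import Cfsg.Agent.OddOrderLocal.PiCoreOf
import Cfsg.Agent.OddOrderLocal.AlphaCore
import Cfsg.Agent.OddOrderLocal.HallPi
import Cfsg.Agent.OddOrderLocal.CNBasic
import Cfsg.Agent.OddOrderLocal.NilpotentQuotient
import Cfsg.Agent.OddOrderLocal.SigmaDer
import Cfsg.Agent.OddOrderLocal.Sec10_8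
import Cfsg.Agent.S0025
import Cfsg.Agent.S1350
import Cfsg.Agent.S1403
import Cfsg.Agent.S1405
import Cfsg.Agent.S1414
import Cfsg.Agent.S1460

/-!
B & G, Corollary 10.9.
-/

set_option autoImplicit false

namespace Cfsg.Agent.OddOrderLocal.Sec10_9

open Cfsg Subgroup

variable {G : Type*} [Group G]

theorem isPi_singleton_of_isPGroup [Finite G] {p : ℕ} [hp : Fact p.Prime] {H : Subgroup G} (h : IsPGroup p H) :
    ∀ r : ℕ, r.Prime → r ∣ Nat.card H → r ∈ ({p} : Set ℕ) :=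
  (PiCoreOf.isPi_singleton_iff hp.out H).mpr h

theorem isPGroup_of_isPiHallOf [Finite G] {p : ℕ} [hp : Fact p.Prime] {P M : Subgroup G}
    (h : Cfsg.IsPiHallOf {p} P M) : IsPGroup p P := (PiCoreOf.isPi_singleton_iff hp.out P).mp h.2.1

/-- Elements of `p`- and `q`-subgroups of a nilpotent subgroup commute. -/
theorem commute_of_nilpotent [Finite G] {p q : ℕ} [hp : Fact p.Prime] [hq : Fact q.Prime] (hpq : p ≠ q)
    {H X P : Subgroup G} (hH : Group.IsNilpotent H) (hX : IsPGroup q X) (hP : IsPGroup p P) (hXH : X ≤ H)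
    (hPH : P ≤ H) {x y : G} (hx : x ∈ X) (hy : y ∈ P) : x * y = y * x := by
  obtain ⟨m, hm⟩ := IsPGroup.iff_orderOf.mp hX ⟨x, hx⟩
  obtain ⟨n, hn⟩ := IsPGroup.iff_orderOf.mp hP ⟨y, hy⟩
  rw [Subgroup.orderOf_mk] at hm hn
  have h1 : (orderOf (⟨x, hXH hx⟩ : H)).Coprime (orderOf (⟨y, hPH hy⟩ : H)) := by
    rw [Subgroup.orderOf_mk, Subgroup.orderOf_mk, hm, hn]
    exact Nat.Coprime.pow _ _ ((Nat.coprime_primes hq.out hp.out).mpr (Ne.symm hpq))
  have h2 := CNBasic.commute_of_coprime_orderOf h1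
  exact congrArg Subtype.val h2.eq

/-- In a solvable `D` with a nilpotent Hall `π`-subgroup, `p, q ∈ π` different primes: a `p`-subgroup
normalizing a `q`-subgroup centralizes it. -/
theorem le_centralizer_of_normalize [Finite G] {p q : ℕ} [hp : Fact p.Prime] [hq : Fact q.Prime] (hpq : p ≠ q)
    {π : Set ℕ} (hpπ : p ∈ π) (hqπ : q ∈ π) {D H X P : Subgroup G} (hD : Group.IsSolvable D)
    (hH : Cfsg.IsPiHallOf π H D) (hHn : Group.IsNilpotent H) (hX : IsPGroup q X) (hP : IsPGroup p P)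
    (hXD : X ≤ D) (hPD : P ≤ D) (hn : P ≤ Subgroup.normalizer (X : Set G)) :
    P ≤ Subgroup.centralizer (X : Set G) := by
  have hZ : ∀ r : ℕ, r.Prime → r ∣ Nat.card ↥(P ⊔ X) → r ∈ π := by
    intro r hr hd
    have h1 := hd.trans (PiCoreOf.card_sup_dvd_of_le_normalizer hn)
    rcases (Nat.Prime.dvd_mul hr).mp h1 with h | h
    · rw [isPi_singleton_of_isPGroup hP r hr h]; exact hpπ
    · rw [isPi_singleton_of_isPGroup hX r hr h]; exact hqπ
  obtain ⟨m, hm, hle⟩ := HallPi.exists_conj_le_of_isPiHallOf hD hH (sup_le hPD hXD) hZ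
  intro y hy
  rw [Subgroup.mem_centralizer_iff]
  intro x hx
  have h1 := commute_of_nilpotent hpq hHn (hX.map (MulAut.conj m).toMonoidHom)
    (hP.map (MulAut.conj m).toMonoidHom) ((Subgroup.map_mono le_sup_right).trans hle)
    ((Subgroup.map_mono le_sup_left).trans hle)
    (Subgroup.mem_map_of_mem (MulAut.conj m).toMonoidHom hx)
    (Subgroup.mem_map_of_mem (MulAut.conj m).toMonoidHom hy)
  rw [← map_mul, ← map_mul] at h1
  exact (MulAut.conj m).injective h1

/-- B & G 10.9 (a), for the derived subgroup. -/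
theorem exists_sylow_derived [Finite G] (hG : Cfsg.IsMinSimpleOddOrder G) {M : Subgroup G} (hM : IsCoatom M)
    {p q : ℕ} [hp : Fact p.Prime] [hq : Fact q.Prime] (hpβ : p ∉ Cfsg.beta M) (hqβ : q ∉ Cfsg.beta M)
    {X : Subgroup G} (hX : IsPGroup q X) (h : (p ≠ q ∧ X ≤ ⁅M, M⁆) ∨ (p < q ∧ X ≤ M)) :
    ∃ P : Subgroup G, Cfsg.IsPiHallOf {p} P ⁅M, M⁆ ∧ P ≤ Subgroup.centralizer (X : Set G) := by
  obtain ⟨-, -, ⟨H, hH, hHn⟩, -, hcompl⟩ := Cfsg.Agent.S1414.result hG M hM
  have hDM : ⁅M, M⁆ ≤ M := Subgroup.commutator_le_self M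
  have hMs : Group.IsSolvable M := MinSimpleBasic.isSolvable_of_isCoatom hG hM
  have hDs : Group.IsSolvable ↥⁅M, M⁆ :=
    MinSimpleBasic.isSolvable_of_ne_top hG (fun h => hM.1 (top_le_iff.mp (h ▸ hDM)))
  have hpπ : p ∈ {r : ℕ | r.Prime ∧ r ∉ Cfsg.beta M} := ⟨hp.out, hpβ⟩
  have hqπ : q ∈ {r : ℕ | r.Prime ∧ r ∉ Cfsg.beta M} := ⟨hq.out, hqβ⟩
  rcases h with ⟨hpq, hXD⟩ | ⟨hpq, hXM⟩
  · -- X ≤ M'
    obtain ⟨m, hm, hle⟩ := HallPi.exists_conj_le_of_isPiHallOf hDs hH hXD (by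
      intro r hr hd
      rw [isPi_singleton_of_isPGroup hX r hr hd]; exact hqπ)
    have hHs : Group.IsSolvable H := by have := hHn; infer_instance
    obtain ⟨P₀, hP₀⟩ := HallPi.exists_isPiHallOf hHs {p}
    have hP₀D : Cfsg.IsPiHallOf {p} P₀ ⁅M, M⁆ :=
      HallPi.isPiHallOf_trans hP₀ hH (by rintro r - rfl; exact hpπ)
    refine ⟨P₀.map (MulAut.conj m⁻¹).toMonoidHom, HallPi.isPiHallOf_conj hP₀D (inv_mem hm), ?_⟩
    rintro _ ⟨y, hy, rfl⟩
    rw [Subgroup.mem_centralizer_iff]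
    intro x hx
    have h1 := commute_of_nilpotent hpq hHn (hX.map (MulAut.conj m).toMonoidHom)
      (isPGroup_of_isPiHallOf hP₀) hle hP₀.1
      (Subgroup.mem_map_of_mem (MulAut.conj m).toMonoidHom hx) hy
    have h2 : m * x * m⁻¹ * y = y * (m * x * m⁻¹) := h1
    change x * (m⁻¹ * y * m⁻¹⁻¹) = (m⁻¹ * y * m⁻¹⁻¹) * x
    have h3 : m * (x * (m⁻¹ * y * m⁻¹⁻¹)) * m⁻¹ = m * ((m⁻¹ * y * m⁻¹⁻¹) * x) * m⁻¹ := by
      calc m * (x * (m⁻¹ * y * m⁻¹⁻¹)) * m⁻¹ = m * x * m⁻¹ * y := by group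
        _ = y * (m * x * m⁻¹) := h2
        _ = m * ((m⁻¹ * y * m⁻¹⁻¹) * x) * m⁻¹ := by group
    exact mul_left_cancel (mul_right_cancel h3)
  · -- p < q and X ≤ M
    by_cases hpM : p ∣ Nat.card M
    · obtain ⟨-, -, hmax⟩ := hcompl p hp.out hpM hpβ
      set K : Subgroup G := (Cfsg.pPrimeCore p M).map M.subtype with hK
      have hKM : K ≤ M := Subgroup.map_subtype_le _
      have hKN : M ≤ Subgroup.normalizer (K : Set G) := AlphaCore.le_normalizer_map_subtype inferInstance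
      have hKp : (Nat.card K).Coprime p := by
        rw [hK, Subgroup.card_subtype]
        exact Lib.Cores.pPrimeCore_coprime p
      have hKi : ¬ q ∣ K.relIndex M := by
        rw [hK, HallPi.relIndex_map_subtype]
        intro hd
        exact absurd (hmax q hq.out hd) (not_le.mpr hpq)
      have hXK : X ≤ K := AlphaCore.le_of_isPGroup_of_not_dvd_relIndex hKM hKN hKi hX hXM
      -- a Hall p-subgroup of M'
      obtain ⟨P₀, hP₀⟩ := HallPi.exists_isPiHallOf hDs {p}
      have hP₀p := isPGroup_of_isPiHallOf hP₀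
      have hP₀M : P₀ ≤ M := hP₀.1.trans hDM
      have hcop : (Nat.card P₀).Coprime (Nat.card K) := by
        obtain ⟨n, hn⟩ := IsPGroup.iff_card.mp hP₀p
        rw [hn]
        exact (Nat.Coprime.pow_right n hKp).symm
      have hP₀s : Group.IsSolvable P₀ := by have := hP₀p.isNilpotent; infer_instance
      obtain ⟨Q₀, -, hQ₀⟩ := Cfsg.Agent.S0025.result P₀ K (hP₀M.trans hKN) hcop (Or.inl hP₀s) q ⊥ bot_le
        (IsPGroup.of_bot) (by rw [Subgroup.normalizer_eq_top]; exact le_top)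
      -- conjugate so that X ≤ Q
      obtain ⟨g, hg⟩ := MinSimpleBasic.exists_map_conj_le_sylow Q₀
        (hX.of_equiv (Subgroup.subgroupOfEquivOfLe hXK).symm)
      set k : G := (g : G)⁻¹ with hk
      have hkK : k ∈ K := inv_mem g.2
      set Q : Subgroup G := ((Q₀ : Subgroup K).map K.subtype).map (MulAut.conj k).toMonoidHom with hQ
      have hQq : IsPGroup q Q := (Q₀.isPGroup'.map _).map _
      have hXQ : X ≤ Q := by
        intro x hx
        have h1 : g * ⟨x, hXK hx⟩ * g⁻¹ ∈ (Q₀ : Subgroup K) := hg ⟨⟨x, hXK hx⟩, hx, rfl⟩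
        refine ⟨(g : G) * x * (g : G)⁻¹, ⟨_, h1, rfl⟩, ?_⟩
        change (g : G)⁻¹ * ((g : G) * x * (g : G)⁻¹) * ((g : G)⁻¹)⁻¹ = x
        group
      set P : Subgroup G := P₀.map (MulAut.conj k).toMonoidHom with hP
      have hPp : IsPGroup p P := hP₀p.map _
      have hkM : k ∈ M := hKM hkK
      have hDn : M ≤ Subgroup.normalizer ((⁅M, M⁆ : Subgroup G) : Set G) := by
        rw [← SigmaDer.map_subtype_commutator]
        exact AlphaCore.le_normalizer_map_subtype inferInstance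
      have hDk : (⁅M, M⁆ : Subgroup G).map (MulAut.conj k).toMonoidHom = ⁅M, M⁆ :=
        MinSimpleBasic.mem_normalizer_iff_map_conj.mp (hDn hkM)
      have hPD : Cfsg.IsPiHallOf {p} P ⁅M, M⁆ := by
        refine ⟨?_, isPi_singleton_of_isPGroup hPp, ?_⟩
        · rw [← hDk]; exact Subgroup.map_mono hP₀.1
        · intro r hr hrp
          have : P.relIndex ⁅M, M⁆ = P₀.relIndex ⁅M, M⁆ := by
            conv_lhs => rw [← hDk]
            exact Subgroup.relIndex_map_map_of_injective _ _ (MulAut.conj k).injective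
          rw [this]
          exact hP₀.2.2 r hr hrp
      have hPQ : P ≤ Subgroup.normalizer (Q : Set G) := by
        rw [hP, hQ, ← Subgroup.map_equiv_normalizer_eq]
        exact Subgroup.map_mono hQ₀
      refine ⟨P, hPD, ?_⟩
      -- Q ∩ M' is centralized by P
      have hQ1n : P ≤ Subgroup.normalizer ((Q ⊓ ⁅M, M⁆ : Subgroup G) : Set G) := by
        intro y hy
        rw [Subgroup.mem_normalizer_iff]
        intro x
        have h1 := Subgroup.mem_normalizer_iff.mp (hPQ hy) x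
        have h2 := Subgroup.mem_normalizer_iff.mp (hDn (hDM (hPD.1 hy))) x
        constructor
        · rintro ⟨ha, hb⟩
          exact ⟨h1.mp ha, h2.mp hb⟩
        · rintro ⟨ha, hb⟩
          exact ⟨h1.mpr ha, h2.mpr hb⟩
      have hQ1 : P ≤ Subgroup.centralizer ((Q ⊓ ⁅M, M⁆ : Subgroup G) : Set G) :=
        le_centralizer_of_normalize hpq.ne hpπ hqπ hDs hH hHn (hQq.to_le inf_le_left) hPp
          inf_le_right hPD.1 hQ1n
      have hQP : P ≤ Subgroup.centralizer (Q : Set G) := by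
        refine Lib.CoprimeStab.le_centralizer_of_commutator_le (K := Q ⊓ ⁅M, M⁆) ?_ inf_le_left ?_ hQ1
        · obtain ⟨n, hn⟩ := IsPGroup.iff_card.mp hPp
          obtain ⟨l, hl⟩ := IsPGroup.iff_card.mp hQq
          rw [hn, hl]
          exact Nat.Coprime.pow _ _ ((Nat.coprime_primes hp.out hq.out).mpr hpq.ne)
        · rw [Subgroup.commutator_le]
          intro x hx y hy
          constructor
          · have h1 : y * x⁻¹ * y⁻¹ ∈ Q := (Subgroup.mem_normalizer_iff.mp (hPQ hy) _).mp (inv_mem hx)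
            rw [commutatorElement_def]
            have h2 : x * y * x⁻¹ * y⁻¹ = x * (y * x⁻¹ * y⁻¹) := by group
            rw [h2]
            exact Q.mul_mem hx h1
          · have hxM : x ∈ M := by
              have hQM : Q ≤ M := by
                rw [hQ]
                rintro _ ⟨z, hz, rfl⟩
                exact M.mul_mem (M.mul_mem hkM (hKM (Subgroup.map_subtype_le _ hz))) (M.inv_mem hkM)
              exact hQM hx
            have h1 : x * y * x⁻¹ ∈ (⁅M, M⁆ : Subgroup G) :=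
              (Subgroup.mem_normalizer_iff.mp (hDn hxM) y).mp (hPD.1 hy)
            rw [commutatorElement_def]
            exact Subgroup.mul_mem _ h1 (Subgroup.inv_mem _ (hPD.1 hy))
      exact hQP.trans (Subgroup.centralizer_le hXQ)
    · refine ⟨⊥, ⟨bot_le, ?_, ?_⟩, bot_le⟩
      · intro r hr hd
        rw [Subgroup.card_bot] at hd
        exact absurd (Nat.dvd_one.mp hd) hr.one_lt.ne'
      · rintro r hr rfl
        rw [Subgroup.relIndex_bot_left]
        exact fun hd => hpM (hd.trans (Subgroup.card_dvd_of_le hDM))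

/-- The intersection of a Hall `π`-subgroup with a normal subgroup is a Hall `π`-subgroup of it. -/
theorem isPiHallOf_inf_normal [Finite G] {π : Set ℕ} {P D S : Subgroup G} (hD : Group.IsSolvable D)
    (hP : Cfsg.IsPiHallOf π P D) (hS : S ≤ D) (hn : D ≤ Subgroup.normalizer (S : Set G)) :
    Cfsg.IsPiHallOf π (P ⊓ S) S := by
  have := hD
  have hSs : Group.IsSolvable S :=
    Group.isSolvable_of_isSolvable_injective (f := Subgroup.inclusion hS) (Subgroup.inclusion_injective hS)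
  obtain ⟨Q, hQ⟩ := HallPi.exists_isPiHallOf hSs π
  obtain ⟨d, hd, hle⟩ := HallPi.exists_conj_le_of_isPiHallOf hD hP (hQ.1.trans hS) hQ.2.1
  have h1 : Q.map (MulAut.conj d).toMonoidHom ≤ P ⊓ S := by
    refine le_inf hle ?_
    rintro _ ⟨x, hx, rfl⟩
    exact (Subgroup.mem_normalizer_iff.mp (hn hd) x).mp (hQ.1 hx)
  have h2 : ∀ r : ℕ, r.Prime → r ∣ Nat.card ↥(P ⊓ S) → r ∈ π := fun r hr hrd =>
    hP.2.1 r hr (hrd.trans (Subgroup.card_dvd_of_le inf_le_left))
  have h3 : Nat.card ↥(P ⊓ S) ∣ Nat.card Q :=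
    HallPi.dvd_card_of_pi hQ (Subgroup.card_dvd_of_le inf_le_right) h2
  have h4 : Nat.card Q ∣ Nat.card ↥(P ⊓ S) := by
    have h5 := Subgroup.card_dvd_of_le h1
    rwa [Subgroup.card_map_of_injective (MulAut.conj d).injective] at h5
  have h5 : Nat.card Q = Nat.card ↥(P ⊓ S) := Nat.dvd_antisymm h4 h3
  refine ⟨inf_le_right, h2, ?_⟩
  intro r hr hrπ
  have h6 : (P ⊓ S).relIndex S = Q.relIndex S := by
    have e1 := HallPi.card_mul_relIndex (inf_le_right : P ⊓ S ≤ S)
    have e2 := HallPi.card_mul_relIndex hQ.1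
    rw [← h5] at e1
    exact Nat.eq_of_mul_eq_mul_left Nat.card_pos (e1.trans e2.symm)
  rw [h6]
  exact hQ.2.2 r hr hrπ

/-- `M = O_{p'}(M) N` when `N` contains a Sylow `p`-subgroup of the normal subgroup `S` of `M`, `S` has a
normal `p`-complement and `M = S N`. -/
theorem sup_eq_top_of_hasNormalPComplement {M : Type*} [Group M] [Finite M] {p : ℕ} [hp : Fact p.Prime]
    (S N P : Subgroup M) [hS : S.Normal] (hc : Cfsg.HasNormalPComplement p S) (hP : P ≤ N) (hPS : P ≤ S)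
    (hPi : ¬ p ∣ P.relIndex S) (hSN : S ⊔ N = ⊤) : Cfsg.pPrimeCore p M ⊔ N = ⊤ := by
  rw [eq_top_iff, ← hSN]
  refine sup_le ?_ le_sup_right
  obtain ⟨C, hCn, hCp, k, hk⟩ := NilpotentQuotient.exists_of_hasNormalPComplement hc
  have hCle : C.map S.subtype ≤ Cfsg.pPrimeCore p M := by
    have h1 : C ≤ Cfsg.pPrimeCore p S :=
      Lib.Cores.le_pPrimeCore hCn ((Nat.Prime.coprime_iff_not_dvd hp.out).mpr hCp).symm
    have h2 := Lib.Cores.map_subtype_pPrimeCore p hS
    exact (Subgroup.map_mono h1).trans (h2 ▸ inf_le_right)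
  -- the index of (K ⊔ P) ∩ S in S is 1
  set T : Subgroup M := (Cfsg.pPrimeCore p M ⊔ P) ⊓ S with hT
  have h1 : T.relIndex S ∣ P.relIndex S :=
    Subgroup.relIndex_dvd_of_le_left S (le_inf le_sup_right hPS)
  have h2 : T.relIndex S ∣ p ^ k := by
    rw [← hk, ← HallPi.relIndex_map_subtype C]
    exact Subgroup.relIndex_dvd_of_le_left S
      (le_inf (hCle.trans le_sup_left) (Subgroup.map_subtype_le _))
  have h3 : T.relIndex S = 1 := by
    obtain ⟨j, hj, hj'⟩ := (Nat.dvd_prime_pow hp.out).mp h2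
    rcases Nat.eq_zero_or_pos j with h0 | h0
    · rw [hj', h0, pow_zero]
    · exfalso
      apply hPi
      refine dvd_trans ?_ h1
      rw [hj']
      exact dvd_pow_self p h0.ne'
  have h4 : S ≤ T := Subgroup.relIndex_eq_one.mp h3
  exact h4.trans (inf_le_left.trans (sup_le_sup_left hP _))

/-- **B & G, Corollary 10.9.** -/
theorem beta'_cent_sylow {G : Type*} [Group G] [Finite G] (hG : Cfsg.IsMinSimpleOddOrder G)
    (M : Subgroup G) (hM : IsCoatom M) (p q : ℕ) [Fact p.Prime] [Fact q.Prime] (hp : p ∉ Cfsg.beta M)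
    (hq : q ∉ Cfsg.beta M) (X : Subgroup G) (hX : IsPGroup q X)
    (h : (p ≠ q ∧ X ≤ ⁅M, M⁆) ∨ (p < q ∧ X ≤ M)) :
    (∃ P : Subgroup G, P ≤ Cfsg.sigmaCore M ∧ IsPGroup p P ∧ ¬ p ∣ P.relIndex (Cfsg.sigmaCore M) ∧
        P ≤ Subgroup.centralizer (X : Set G)) ∧
      (∃ P : Subgroup G, P ≤ ⁅M, M⁆ ∧ IsPGroup p P ∧ ¬ p ∣ P.relIndex ⁅M, M⁆ ∧
        P ≤ Subgroup.centralizer (X : Set G)) ∧
      (p ∈ Cfsg.alpha M → Cfsg.InUniqueMaximal (M ⊓ Subgroup.centralizer (X : Set G))) ∧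
      (X ≤ Cfsg.sigmaCore M → ¬ q ∣ X.relIndex (Cfsg.sigmaCore M) →
        ∃ P : Subgroup G, P ≤ Cfsg.sigmaCore M ∧ IsPGroup p P ∧ ¬ p ∣ P.relIndex (Cfsg.sigmaCore M) ∧
          P ≤ ⁅M ⊓ Subgroup.normalizer (X : Set G), M ⊓ Subgroup.normalizer (X : Set G)⁆) := by
  have hpp : p.Prime := Fact.out
  have hqp : q.Prime := Fact.out
  have hDM : ⁅M, M⁆ ≤ M := Subgroup.commutator_le_self M
  have hMs : Group.IsSolvable M := MinSimpleBasic.isSolvable_of_isCoatom hG hM
  have hDs : Group.IsSolvable ↥⁅M, M⁆ :=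
    MinSimpleBasic.isSolvable_of_ne_top hG (fun h => hM.1 (top_le_iff.mp (h ▸ hDM)))
  have hSD : Cfsg.sigmaCore M ≤ ⁅M, M⁆ := SigmaDer.sigmaCore_le_commutator hG M hM
  have hSn : M ≤ Subgroup.normalizer (Cfsg.sigmaCore M : Set G) := AlphaCore.le_normalizer_sigmaCore M
  obtain ⟨P, hP, hPX⟩ := exists_sylow_derived hG hM hp hq hX h
  have hPp := isPGroup_of_isPiHallOf hP
  have hPσ := isPiHallOf_inf_normal hDs hP hSD (hDM.trans hSn)
  have hPσp : IsPGroup p ↥(P ⊓ Cfsg.sigmaCore M) := isPGroup_of_isPiHallOf hPσ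
  have ha : P ⊓ Cfsg.sigmaCore M ≤ Cfsg.sigmaCore M ∧ IsPGroup p ↥(P ⊓ Cfsg.sigmaCore M) ∧
      ¬ p ∣ (P ⊓ Cfsg.sigmaCore M).relIndex (Cfsg.sigmaCore M) ∧
        P ⊓ Cfsg.sigmaCore M ≤ Subgroup.centralizer (X : Set G) :=
    ⟨inf_le_right, hPσp, hPσ.2.2 p hpp rfl, inf_le_left.trans hPX⟩
  refine ⟨⟨_, ha⟩, ⟨P, hP.1, hPp, hP.2.2 p hpp rfl, hPX⟩, ?_, ?_⟩
  · -- (b)
    intro hα
    obtain ⟨hσ, -, -⟩ := Cfsg.Agent.S1350.result hG M hM
    have hpσ : p ∈ Cfsg.sigma M := Sec10_8.alpha_subset_sigma hG hM hα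
    -- a Sylow p-subgroup of M
    have hPM : Cfsg.IsPiHallOf {p} (P ⊓ Cfsg.sigmaCore M) M :=
      HallPi.isPiHallOf_trans hPσ hσ (by rintro r - rfl; exact hpσ)
    have hr : ¬ Cfsg.PRankLE p 2 ↥(P ⊓ Cfsg.sigmaCore M) := by
      intro hr
      apply hα.2
      -- the p-rank of M is the p-rank of its Sylow subgroup
      have h1 : ¬ p ∣ ((P ⊓ Cfsg.sigmaCore M).subgroupOf M).index := hPM.2.2 p hpp rfl
      have h2 : IsPGroup p ((P ⊓ Cfsg.sigmaCore M).subgroupOf M) :=
        hPσp.of_equiv (Subgroup.subgroupOfEquivOfLe hPM.1).symm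
      let T : Sylow p M := h2.toSylow h1
      rw [← Rank.pRankLE_sylow T]
      exact (Rank.pRankLE_congr (Subgroup.subgroupOfEquivOfLe hPM.1)).mpr hr
    have hle : P ⊓ Cfsg.sigmaCore M ≤ M ⊓ Subgroup.centralizer (X : Set G) :=
      le_inf hPM.1 ha.2.2.2
    have hr2 : ¬ Cfsg.RankLE 2 ↥(M ⊓ Subgroup.centralizer (X : Set G)) := fun h1 =>
      hr (Rank.pRankLE_mono hle (h1 p hpp))
    apply Cfsg.Agent.S1403.result hG
    · intro h1
      exact hM.1 (top_le_iff.mp (h1 ▸ inf_le_left))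
    · intro h1
      exact hr2 (Rank.rankLE_le (by norm_num) h1)
    · exact Or.inl hr2
  · -- (c)
    intro hXS hXi
    refine ⟨P ⊓ Cfsg.sigmaCore M, ha.1, ha.2.1, ha.2.2.1, ?_⟩
    by_cases hpM : p ∣ Nat.card M
    · obtain ⟨-, -, -, -, hcompl⟩ := Cfsg.Agent.S1414.result hG M hM
      obtain ⟨-, hc, -⟩ := hcompl p hpp hpM hp
      set N : Subgroup G := M ⊓ Subgroup.normalizer (X : Set G) with hN
      set P₁ : Subgroup G := P ⊓ Cfsg.sigmaCore M with hP₁
      have hSM : Cfsg.sigmaCore M ≤ M := AlphaCore.sigmaCore_le M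
      have hP₁M : P₁ ≤ M := inf_le_right.trans hSM
      have hP₁N : P₁ ≤ N := le_inf hP₁M (ha.2.2.2.trans (Subgroup.centralizer_le_normalizer _))
      have hSs : Group.IsSolvable ↥(Cfsg.sigmaCore M) := by
        have := hMs
        exact Group.isSolvable_of_isSolvable_injective (f := Subgroup.inclusion hSM)
          (Subgroup.inclusion_injective hSM)
      have hXH : Cfsg.IsPiHallOf {q} X (Cfsg.sigmaCore M) :=
        ⟨hXS, isPi_singleton_of_isPGroup hX, by rintro r - rfl; exact hXi⟩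
      have hfr := HallPi.frattini hSs hSM hSn hXH
      -- inside the group M
      set S' : Subgroup M := Cfsg.piCore (Cfsg.sigma M) M with hS'
      have hS'map : S'.map M.subtype = Cfsg.sigmaCore M := rfl
      have hS'of : (Cfsg.sigmaCore M).subgroupOf M = S' := by
        rw [← hS'map, Subgroup.subgroupOf, Subgroup.comap_map_eq_self_of_injective M.subtype_injective]
      have htop : S' ⊔ N.subgroupOf M = ⊤ := by
        rw [eq_top_iff]
        rintro ⟨m, hm⟩ -
        obtain ⟨n, hn, k, hk, rfl⟩ := hfr m hm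
        have hn' : (⟨n, hSM hn⟩ : M) ∈ S' := by rw [← hS'of]; exact hn
        have hk' : (⟨k, hk.1⟩ : M) ∈ N.subgroupOf M := hk
        exact Subgroup.mul_mem_sup hn' hk'
      have hc' : Cfsg.HasNormalPComplement p S' :=
        Sec10_8.hasNormalPComplement_of_injective
          (S'.equivMapOfInjective M.subtype M.subtype_injective).toMonoidHom
          (S'.equivMapOfInjective M.subtype M.subtype_injective).injective hc
      have hP₁S' : P₁.subgroupOf M ≤ S' := by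
        rw [← hS'of]
        exact Subgroup.comap_mono inf_le_right
      have hidx : ¬ p ∣ (P₁.subgroupOf M).relIndex S' := by
        rw [← hS'of, Subgroup.relIndex_subgroupOf hSM]
        exact ha.2.2.1
      have h1 := sup_eq_top_of_hasNormalPComplement S' (N.subgroupOf M) (P₁.subgroupOf M) hc'
        (Subgroup.comap_mono hP₁N) hP₁S' hidx htop
      have hcop : (Nat.card (P₁.subgroupOf M)).Coprime (Nat.card (Cfsg.pPrimeCore p M)) := by
        rw [Nat.card_congr (Subgroup.subgroupOfEquivOfLe hP₁M).toEquiv]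
        obtain ⟨n, hn⟩ := IsPGroup.iff_card.mp ha.2.1
        rw [hn]
        exact (Nat.Coprime.pow_right n (Lib.Cores.pPrimeCore_coprime p)).symm
      have := hMs
      obtain ⟨h2, -, -⟩ := Cfsg.Agent.S1460.result (Cfsg.pPrimeCore p M) (N.subgroupOf M)
        (P₁.subgroupOf M) h1 (Subgroup.comap_mono hP₁N) hcop
      intro x hx
      have hxM : x ∈ M := hP₁M hx
      have hxc : (⟨x, hxM⟩ : M) ∈ commutator M := by
        have h3 : x ∈ ⁅M, M⁆ := hSD hx.2
        rw [← SigmaDer.map_subtype_commutator] at h3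
        obtain ⟨y, hy, hyx⟩ := h3
        have h4 : y = ⟨x, hxM⟩ := Subtype.ext hyx
        rwa [← h4]
      have h3 : (⟨x, hxM⟩ : M) ∈ P₁.subgroupOf M ⊓ commutator M := ⟨hx, hxc⟩
      rw [h2] at h3
      have h4 : x ∈ (⁅N.subgroupOf M, N.subgroupOf M⁆ : Subgroup M).map M.subtype :=
        ⟨_, h3.2, rfl⟩
      rw [Subgroup.map_commutator, Subgroup.map_subgroupOf_eq_of_le (inf_le_left : N ≤ M)] at h4
      exact h4
    · -- p does not divide |M|
      have h1 : P ⊓ Cfsg.sigmaCore M = ⊥ := by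
        obtain ⟨n, hn⟩ := IsPGroup.iff_card.mp hPσp
        rcases Nat.eq_zero_or_pos n with h0 | h0
        · rw [h0, pow_zero] at hn
          exact Subgroup.card_eq_one.mp hn
        · exfalso
          apply hpM
          have h2 : p ∣ Nat.card ↥(P ⊓ Cfsg.sigmaCore M) := by rw [hn]; exact dvd_pow_self p h0.ne'
          exact h2.trans (Subgroup.card_dvd_of_le (inf_le_left.trans (hP.1.trans hDM)))
      rw [h1]
      exact bot_le

end Cfsg.Agent.OddOrderLocal.Sec10_9
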