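import Mathlib
import Cfsg.Prelude.Def_OddOrderLocal
import Cfsg.Agent.OddOrderLocal.SigmaDisjoint
import Cfsg.Agent.OddOrderLocal.HallPi
import Cfsg.Agent.S1403
import Cfsg.Agent.S1405
import Cfsg.Agent.S1414

/-!
B&G Corollary 10.9(b): if `M ≠ H` are maximal subgroups and `P` is a Sylow `p`-subgroup of `G` with
`1 ≠ P`, `N_G(P) ≤ M ∩ H`, then `M = M_β (M ∩ H)`, `α(M) = β(M)`, `p ∉ α(M)`, `M_α ≠ 1`.
-/

set_option autoImplicit false
set_option linter.style.haveILetI false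
set_option linter.unusedSectionVars false

namespace Cfsg.Agent.OddOrderLocal.NonuniqNorm

open Cfsg
open Cfsg.Agent.OddOrderLocal.MinSimpleBasic
open scoped commutatorElement

universe u

section General

variable {G : Type u} [Group G] [Finite G]

/-- If `M = K D` then `|M : D|` divides `|K|`. -/
theorem relIndex_dvd_card_of_prod {K D M : Subgroup G} (hK : K ≤ M)
    (h : ∀ m ∈ M, ∃ a ∈ K, ∃ b ∈ D, m = a * b) : D.relIndex M ∣ Nat.card K := by
  classical
  have hcardK : Nat.card (K.subgroupOf M) = Nat.card K :=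
    Nat.card_congr (Subgroup.subgroupOfEquivOfLe hK).toEquiv
  haveI : MulAction.IsPretransitive (K.subgroupOf M) (M ⧸ D.subgroupOf M) := by
    have key : ∀ x : M ⧸ D.subgroupOf M, ∃ k : K.subgroupOf M,
        k • (((1 : M) : M ⧸ D.subgroupOf M)) = x := by
      intro x
      obtain ⟨m, rfl⟩ := QuotientGroup.mk_surjective x
      obtain ⟨a, ha, b, hb, hab⟩ := h m m.2
      refine ⟨⟨⟨a, hK ha⟩, ha⟩, ?_⟩
      change ((⟨a, hK ha⟩ * 1 : M) : M ⧸ D.subgroupOf M) = m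
      rw [mul_one, QuotientGroup.eq, Subgroup.mem_subgroupOf]
      change a⁻¹ * (m : G) ∈ D
      rw [hab, inv_mul_cancel_left]
      exact hb
    constructor
    intro x y
    obtain ⟨k, hk⟩ := key x
    obtain ⟨l, hl⟩ := key y
    refine ⟨l * k⁻¹, ?_⟩
    rw [← hk, mul_smul, inv_smul_smul, hl]
  have h1 := MulAction.index_stabilizer_of_transitive (K.subgroupOf M)
    (((1 : M) : M ⧸ D.subgroupOf M))
  rw [Subgroup.relIndex, ← hcardK, Subgroup.index, ← h1]
  exact Subgroup.index_dvd_card _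

/-- If `M = K D` with `K` normalized by `M`, then `M' ≤ K D'`, so `|M'|` divides `|K| |D'|`. -/
theorem card_commutator_dvd_of_prod {K D M : Subgroup G} (hK : K ≤ M) (hD : D ≤ M)
    (hKn : M ≤ Subgroup.normalizer (K : Set G))
    (h : ∀ m ∈ M, ∃ a ∈ K, ∃ b ∈ D, m = a * b) :
    Nat.card ↥⁅M, M⁆ ∣ Nat.card K * Nat.card ↥⁅D, D⁆ := by
  have hDD : ⁅D, D⁆ ≤ M := (Subgroup.commutator_le_self D).trans hD
  have hle : ⁅M, M⁆ ≤ K ⊔ ⁅D, D⁆ := by
    rw [Subgroup.commutator_le]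
    intro g₁ hg₁ g₂ hg₂
    -- work modulo `K` inside `M`
    haveI : (K.subgroupOf M).Normal := FitAux.subgroupOf_normal hKn
    obtain ⟨a, ha, b, hb, hab⟩ := h g₁ hg₁
    obtain ⟨c, hc, d, hd, hcd⟩ := h g₂ hg₂
    let f := QuotientGroup.mk' (K.subgroupOf M)
    have ha1 : f ⟨a, hK ha⟩ = 1 := (QuotientGroup.eq_one_iff _).mpr ha
    have hc1 : f ⟨c, hK hc⟩ = 1 := (QuotientGroup.eq_one_iff _).mpr hc
    have e1 : (⟨g₁, hg₁⟩ : M) = ⟨a, hK ha⟩ * ⟨b, hD hb⟩ := Subtype.ext hab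
    have e2 : (⟨g₂, hg₂⟩ : M) = ⟨c, hK hc⟩ * ⟨d, hD hd⟩ := Subtype.ext hcd
    have h3 : f ⁅(⟨g₁, hg₁⟩ : M), ⟨g₂, hg₂⟩⁆ = f ⁅(⟨b, hD hb⟩ : M), ⟨d, hD hd⟩⁆ := by
      rw [e1, e2, map_commutatorElement, map_commutatorElement, map_mul, map_mul, ha1, hc1,
        one_mul, one_mul]
    have h4 : ⁅(⟨g₁, hg₁⟩ : M), ⟨g₂, hg₂⟩⁆ * ⁅(⟨b, hD hb⟩ : M), ⟨d, hD hd⟩⁆⁻¹ ∈ K.subgroupOf M := by
      rw [← QuotientGroup.eq_one_iff]
      change f _ = 1
      rw [map_mul, map_inv, h3, mul_inv_cancel]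
    have h5 : ⁅g₁, g₂⁆ * ⁅b, d⁆⁻¹ ∈ K := h4
    have h6 : ⁅g₁, g₂⁆ = (⁅g₁, g₂⁆ * ⁅b, d⁆⁻¹) * ⁅b, d⁆ := by group
    rw [h6]
    exact Subgroup.mul_mem_sup h5 (Subgroup.commutator_mem_commutator hb hd)
  exact (Subgroup.card_dvd_of_le hle).trans
    (by
      have h1 := HallPi.card_mul_relIndex (le_sup_left : K ≤ K ⊔ ⁅D, D⁆)
      have h2 : K.relIndex (K ⊔ ⁅D, D⁆) ∣ Nat.card ↥⁅D, D⁆ := by
        have h3 := PiCoreOf.card_sup_dvd_of_le_normalizer
          (H := ⁅D, D⁆) (N := K) (hDD.trans hKn)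
        rw [sup_comm, ← h1, mul_comm] at h3
        exact Nat.dvd_of_mul_dvd_mul_right Nat.card_pos h3
      rw [← h1]
      exact Nat.mul_dvd_mul_left _ h2)

end General

section Main

variable {G : Type u} [Group G] [Finite G]

theorem beta_subset_alpha (M : Subgroup G) : beta M ⊆ alpha M := fun _ h => h.1

theorem beta_subset_sigma (hG : IsMinSimpleOddOrder G) {M : Subgroup G} (hM : IsCoatom M) :
    beta M ⊆ sigma M := fun _ h => S1405.alpha_subset_sigma hG hM h.1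

theorem betaCore_le_sigmaCore (hG : IsMinSimpleOddOrder G) {M : Subgroup G} (hM : IsCoatom M) :
    piCoreOf (beta M) M ≤ sigmaCore M :=
  Subgroup.map_mono (sSup_le_sSup fun _ h =>
    ⟨h.1, fun p hp hd => beta_subset_sigma hG hM (h.2 p hp hd)⟩)

/-- For `p ∈ σ(M) - β(M)` and `P` a Sylow `p`-subgroup of `M`, `M = M_β N_M(P)`. -/
theorem beta_frattini (hG : IsMinSimpleOddOrder G) {M : Subgroup G} (hM : IsCoatom M) {p : ℕ}
    [Fact p.Prime] (hp : p ∈ sigma M) (hpb : p ∉ beta M) {P : Subgroup G}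
    (hP : ∃ T : Sylow p M, (T : Subgroup M).map M.subtype = P) :
    ∀ m ∈ M, ∃ a ∈ piCoreOf (beta M) M, ∃ b ∈ M ⊓ Subgroup.normalizer (P : Set G), m = a * b := by
  have hsol : Group.IsSolvable M := isSolvable_of_isCoatom hG hM
  have hP' := hP
  rw [Blocks.SylowIn.exists_sylow_map_eq_iff] at hP'
  obtain ⟨hPM, hPp, -⟩ := hP'
  have hHall := (S1350.result hG M hM).1
  obtain ⟨hK, -, -, ⟨H, hH, hHn⟩, -⟩ := S1414.result hG M hM
  have hpprime : p.Prime := Fact.out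
  have hPpi : ∀ r : ℕ, r.Prime → r ∣ Nat.card P → r = p := by
    intro r hr hrd
    obtain ⟨n, hn⟩ := IsPGroup.iff_card.mp hPp
    rw [hn] at hrd
    exact (Nat.prime_dvd_prime_iff_eq hr hpprime).mp (hr.dvd_of_dvd_pow hrd)
  have hPs : P ≤ sigmaCore M := by
    apply SigmaCompl.le_of_isPiHallOf_normal hHall (FitAux.le_normalizer_sigmaCore M) hPM
    intro r hr hrd
    rw [hPpi r hr hrd]; exact hp
  have hsM : sigmaCore M ≤ M := FitAux.sigmaCore_le M
  have hssol : Group.IsSolvable (sigmaCore M) := MinSimpleBasic.isSolvable_of_ne_top hG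
    (fun h => hM.1 (top_le_iff.mp (h ▸ hsM)))
  -- conjugate `P` into `H`
  obtain ⟨s, hs, hsP⟩ := HallPi.exists_conj_le_of_isPiHallOf hssol hH hPs (by
    intro r hr hrd
    rw [hPpi r hr hrd]
    exact ⟨hpprime, hpb⟩)
  -- `H₁ = H ^ (s⁻¹) ≥ P`
  have hH₁ := HallPi.isPiHallOf_conj hH ((sigmaCore M).inv_mem hs)
  set H₁ : Subgroup G := H.map (MulAut.conj s⁻¹).toMonoidHom with hH₁def
  have hPH₁ : P ≤ H₁ := map_conj_inv_le_iff.mp hsP
  have hH₁n : Group.IsNilpotent H₁ :=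
    (Group.isNilpotent_congr (H.equivMapOfInjective _ (MulAut.conj s⁻¹).injective)).mp hHn
  -- `P` is a Hall `{p}`-subgroup of `H₁`, normal
  have hPHallM : IsPiHallOf {p} P M := by
    refine ⟨hPM, fun r hr hrd => hPpi r hr hrd, fun r hr hrp => ?_⟩
    rw [Set.mem_singleton_iff] at hrp
    subst hrp
    exact SylowInter.not_dvd_relIndex_of_sylow hP
  have hPHall : IsPiHallOf {p} P H₁ := HallPi.isPiHallOf_mono hPHallM hPH₁ (hH₁.1.trans hsM)
  have hH₁N : H₁ ≤ Subgroup.normalizer (P : Set G) := by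
    haveI := hH₁n
    haveI hnormal : (P.subgroupOf H₁).Normal := by
      have h1 : IsPGroup p (P.subgroupOf H₁) := hPp.comap_subtype
      have h2 : ¬ p ∣ (P.subgroupOf H₁).index := hPHall.2.2 p hpprime rfl
      let S : Sylow p H₁ := h1.toSylow h2
      have h3 : (S : Subgroup H₁).Normal :=
        S.normal_of_normalizerCondition Group.normalizerCondition_of_isNilpotent
      exact h3
    rwa [Subgroup.normal_subgroupOf_iff_le_normalizer hPH₁] at hnormal
  have hN : Subgroup.normalizer (H₁ : Set G) ≤ Subgroup.normalizer (P : Set G) := by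
    intro g hg
    rw [mem_normalizer_iff_map_conj] at hg ⊢
    have h1 : P.map (MulAut.conj g).toMonoidHom ≤ H₁ := by
      rw [← hg]; exact Subgroup.map_mono hPH₁
    have h2 : P.map (MulAut.conj g).toMonoidHom ≤ P := by
      apply SigmaCompl.le_of_isPiHallOf_normal hPHall hH₁N h1
      intro r hr hrd
      rw [card_map_conj] at hrd
      exact hPpi r hr hrd
    exact Subgroup.eq_of_le_of_card_ge h2 (card_map_conj P g).ge
  -- `M_σ = M_β H₁`
  have hKσ : piCoreOf (beta M) M ≤ sigmaCore M := betaCore_le_sigmaCore hG hM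
  have hKHallσ : IsPiHallOf (beta M) (piCoreOf (beta M) M) (sigmaCore M) :=
    HallPi.isPiHallOf_mono hK hKσ hsM
  have hcompl : IsComplIn H₁ (piCoreOf (beta M) M) (sigmaCore M) :=
    (HallPi.isPiHallOf_compl_iff hKHallσ).mpr hH₁
  have hcompl' := HallPi.isComplIn_symm hcompl
  intro m hm
  obtain ⟨n, hn, k, hk, rfl⟩ := HallPi.frattini hssol hsM (FitAux.le_normalizer_sigmaCore M) hH₁ m hm
  obtain ⟨a, ha, h, hh, rfl⟩ := hcompl'.2.2.2 n hn
  refine ⟨a, ha, h * k, ⟨?_, ?_⟩, by group⟩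
  · exact M.mul_mem (hsM (hH₁.1 hh)) hk.1
  · exact (Subgroup.normalizer (P : Set G)).mul_mem (hH₁N hh) (hN hk.2)

/-- B&G Corollary 10.9(b). -/
theorem nonuniq_norm_sylow (hG : IsMinSimpleOddOrder G) {M H : Subgroup G} (hM : IsCoatom M)
    (hH : IsCoatom H) (hne : H ≠ M) {p : ℕ} [Fact p.Prime] (P : Sylow p G)
    (hP1 : (P : Subgroup G) ≠ ⊥)
    (hPN : Subgroup.normalizer ((P : Subgroup G) : Set G) ≤ M ⊓ H) :
    (∀ m ∈ M, ∃ a ∈ piCoreOf (beta M) M, ∃ b ∈ M ⊓ H, m = a * b) ∧ alpha M = beta M ∧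
      p ∉ alpha M ∧ alphaCore M ≠ ⊥ := by
  have hPMH : (P : Subgroup G) ≤ M ⊓ H := Subgroup.le_normalizer.trans hPN
  have hpM : p ∈ sigma M := mem_sigma_of_normalizer_le P hP1 (hPN.trans inf_le_left)
  -- an elementary abelian `r`-subgroup of `M ∩ H` has order at most `r ^ 2`
  have hrank : ∀ r : ℕ, r.Prime → ∀ A : Subgroup G, A ≤ M ⊓ H → IsElementaryAbelian r A →
      ¬ r ^ 2 < Nat.card A := by
    intro r hr A hA hAe hc
    have hu := SigmaDisjoint.inUniqueMaximal_of_elemAb hG hr hAe hc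
    exact hne (MinSimple.eq_of_inUniqueMaximal hu hH (hA.trans inf_le_right) hM
      (hA.trans inf_le_left)).symm
  have hpa : p ∉ alpha M := by
    intro hpa
    apply hpa.2
    rw [← Rank.pRankLE_map_sylow (P.subtype (hPMH.trans inf_le_left))]
    rw [Rank.pRankLE_iff]
    intro A hAP hAe
    by_contra hc
    refine hrank p hpa.1 A (hAP.trans ?_) hAe (not_le.mp hc)
    rw [Sylow.coe_subtype, Subgroup.subgroupOf_map_subtype]
    exact inf_le_left.trans hPMH
  have hpb : p ∉ beta M := fun h => hpa h.1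
  have hfr : ∀ m ∈ M, ∃ a ∈ piCoreOf (beta M) M, ∃ b ∈ M ⊓ H, m = a * b := by
    intro m hm
    obtain ⟨a, ha, b, hb, hab⟩ := beta_frattini hG hM hpM hpb
      (MinSimpleBasic.exists_sylow_subtype P (hPMH.trans inf_le_left)) m hm
    exact ⟨a, ha, b, hPN hb.2, hab⟩
  have hKM : piCoreOf (beta M) M ≤ M := HallPi.piCoreOf_le _ _
  have hidx : (M ⊓ H).relIndex M ∣ Nat.card (piCoreOf (beta M) M) :=
    relIndex_dvd_card_of_prod hKM hfr
  have hKHall := (S1414.result hG M hM).1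
  have hab : alpha M = beta M := by
    apply Set.Subset.antisymm _ (beta_subset_alpha M)
    intro r hr
    by_contra hrb
    haveI : Fact r.Prime := ⟨hr.1⟩
    obtain ⟨A, hAM, hAe, hAc⟩ := Rank.exists_elemAb_of_not_pRankLE hr.2
    -- a Hall `{r}`-subgroup of `M ∩ H` is Hall in `M`
    have hsolMH : Group.IsSolvable ↥(M ⊓ H) := MinSimpleBasic.isSolvable_of_ne_top hG
      (fun h => hM.1 (top_le_iff.mp (h ▸ inf_le_left)))
    obtain ⟨R, hR⟩ := HallPi.exists_isPiHallOf hsolMH {r}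
    have hRM : IsPiHallOf {r} R M := by
      refine ⟨hR.1.trans inf_le_left, hR.2.1, ?_⟩
      intro t ht htr htd
      rw [Set.mem_singleton_iff] at htr
      subst htr
      rw [← Subgroup.relIndex_mul_relIndex R (M ⊓ H) M hR.1 inf_le_left] at htd
      rcases (ht.dvd_mul).mp htd with h | h
      · exact hR.2.2 t ht rfl h
      · exact hrb (hKHall.2.1 t ht (h.trans hidx))
    have hAr : ∀ t : ℕ, t.Prime → t ∣ Nat.card A → t ∈ ({r} : Set ℕ) := by
      intro t ht htd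
      rw [hAc] at htd
      exact (Nat.prime_dvd_prime_iff_eq ht hr.1).mp (ht.dvd_of_dvd_pow htd)
    obtain ⟨m, hm, hmA⟩ := HallPi.exists_conj_le_of_isPiHallOf
      (isSolvable_of_isCoatom hG hM) hRM hAM hAr
    refine hrank r hr.1 _ (hmA.trans hR.1) (Rank.elemAb_map _ hAe) ?_
    rw [card_map_conj, hAc]
    exact Nat.pow_lt_pow_right hr.1.one_lt (by norm_num)
  refine ⟨hfr, hab, hpa, ?_⟩
  intro h1
  have h2 : piCoreOf (beta M) M = ⊥ := by
    rw [← hab]; exact h1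
  have h3 : M ≤ H := by
    intro m hm
    obtain ⟨a, ha, b, hb, rfl⟩ := hfr m hm
    rw [h2, Subgroup.mem_bot] at ha
    rw [ha, one_mul]
    exact hb.2
  rcases hM.le_iff.mp h3 with h4 | h4
  · exact hH.1 h4
  · exact hne h4

end Main

end Cfsg.Agent.OddOrderLocal.NonuniqNorm
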