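import Mathlib
import Cfsg.Prelude.Def_OddOrderLocal
import Cfsg.Agent.OddOrderLocal.NonuniqNorm
import Cfsg.Agent.OddOrderLocal.RankOneCyclic
import Cfsg.Agent.S1417
import Cfsg.Agent.S1420
import Cfsg.Agent.S1424

/-!
B&G Proposition 12.15(d),(e).
-/

set_option autoImplicit false
set_option linter.style.haveILetI false
set_option linter.unusedSectionVars false

namespace Cfsg.Agent.OddOrderLocal.SigmaEmbedding

open Cfsg
open Cfsg.Agent.OddOrderLocal.MinSimpleBasic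
open scoped Pointwise

universe u

variable {G : Type u} [Group G] [Finite G]

/-- The prime divisors of the order of a `p`-subgroup. -/
theorem eq_of_dvd_card {p : ℕ} [Fact p.Prime] {P : Subgroup G} (hP : IsPGroup p P) {r : ℕ}
    (hr : r.Prime) (hrd : r ∣ Nat.card P) : r = p := by
  obtain ⟨n, hn⟩ := IsPGroup.iff_card.mp hP
  rw [hn] at hrd
  exact (Nat.prime_dvd_prime_iff_eq hr Fact.out).mp (hr.dvd_of_dvd_pow hrd)

/-- Data of B&G 12.15(a)-(c): there is a Sylow `q`-subgroup `S ≥ X` of `M*` contained in `M ∩ M*` with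
`N_G(S) ≤ M`. -/
theorem exists_sylow_inter (hG : IsMinSimpleOddOrder G)
    (M : Subgroup G) (hM : IsCoatom M) (q : ℕ) [Fact q.Prime] (hq : q ∈ sigma M) (X : Subgroup G)
    (hXq : IsPGroup q X) (hX1 : X ≠ ⊥) (hXM : X ≤ M)
    (Mstar : Subgroup G) (hMs : IsCoatom Mstar) (hne : Mstar ≠ M)
    (hNX : Subgroup.normalizer (X : Set G) ≤ Mstar) :
    (∀ g : G, Mstar ≠ M.map (MulAut.conj g).toMonoidHom) ∧
      ∃ S : Subgroup G, X ≤ S ∧ S ≤ M ⊓ Mstar ∧ Subgroup.normalizer (S : Set G) ≤ M ∧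
        ∃ T : Sylow q Mstar, (T : Subgroup Mstar).map Mstar.subtype = S := by
  have hXMs : X ≤ Mstar := Subgroup.le_normalizer.trans hNX
  have h1 : IsPGroup q (X.subgroupOf (M ⊓ Mstar)) := hXq.comap_subtype
  obtain ⟨S, hS⟩ := h1.exists_le_sylow
  have hXS : X ≤ (S : Subgroup ↥(M ⊓ Mstar)).map (M ⊓ Mstar).subtype := by
    have h2 := Subgroup.map_mono (f := (M ⊓ Mstar).subtype) hS
    rwa [Subgroup.subgroupOf_map_subtype, inf_eq_left.mpr (le_inf hXM hXMs)] at h2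
  obtain ⟨ha, hb, -⟩ := S1424.result hG M hM q hq X hXq hX1 hXM Mstar hMs hne hNX S hXS
  exact ⟨ha, _, hXS, Subgroup.map_subtype_le _, hb,
    SylowInter.exists_sylow_of_normalizer_le ⟨S, rfl⟩ hb⟩

/-- B&G Proposition 12.15(d). -/
theorem embedding_sigma (hG : IsMinSimpleOddOrder G)
    (M : Subgroup G) (hM : IsCoatom M) (q : ℕ) [Fact q.Prime] (hq : q ∈ sigma M) (X : Subgroup G)
    (hXq : IsPGroup q X) (hX1 : X ≠ ⊥) (hXM : X ≤ M)
    (Mstar : Subgroup G) (hMs : IsCoatom Mstar) (hne : Mstar ≠ M)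
    (hNX : Subgroup.normalizer (X : Set G) ≤ Mstar) (hqs : q ∈ sigma Mstar) :
    (∀ m ∈ Mstar, ∃ a ∈ piCoreOf (beta Mstar) Mstar, ∃ b ∈ M ⊓ Mstar, m = a * b) ∧
      (∀ m ∈ M, ∃ a ∈ piCoreOf (beta M) M, ∃ b ∈ M ⊓ Mstar, m = a * b) ∧
      (∀ p ∈ tau1 Mstar, p ∈ tau1 M ∨ p ∈ alpha M) ∧
      alpha M = beta M ∧ alphaCore M ≠ ⊥ ∧ alpha Mstar = beta Mstar ∧ alphaCore Mstar ≠ ⊥ := by
  obtain ⟨hnc, S, hXS, hSle, hSN, hSs⟩ :=
    exists_sylow_inter hG M hM q hq X hXq hX1 hXM Mstar hMs hne hNX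
  obtain ⟨P, hP⟩ := SylowInter.exists_sylow_eq_of_mem_sigma hqs hSs
  have hSNs : Subgroup.normalizer (S : Set G) ≤ Mstar :=
    SylowInter.normalizer_sylow_le_of_mem_sigma hqs hSs
  have hP1 : (P : Subgroup G) ≠ ⊥ := by
    rw [hP]
    intro h
    exact hX1 (le_bot_iff.mp (h ▸ hXS))
  obtain ⟨h1, h2, h3, h4⟩ := NonuniqNorm.nonuniq_norm_sylow hG hM hMs hne P hP1
    (by rw [hP]; exact le_inf hSN hSNs)
  obtain ⟨h1', h2', h3', h4'⟩ := NonuniqNorm.nonuniq_norm_sylow hG hMs hM hne.symm P hP1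
    (by rw [hP]; exact le_inf hSNs hSN)
  rw [inf_comm] at h1'
  refine ⟨h1', h1, ?_, h2, h4, h2', h4'⟩
  intro p hp
  by_contra hcon
  rw [not_or] at hcon
  obtain ⟨hpt, hpa⟩ := hcon
  obtain ⟨hpp, hps, hpd, hpd', hpr⟩ := hp
  haveI : Fact p.Prime := ⟨hpp⟩
  have hpb : p ∉ beta M := fun h => hpa h.1
  have hpbs : p ∉ beta Mstar := fun h => hps (NonuniqNorm.beta_subset_sigma hG hMs h)
  have hK := (S1414.result hG M hM).1
  have hKs := (S1414.result hG Mstar hMs).1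
  have hidx : ¬ p ∣ (M ⊓ Mstar).relIndex M := fun h =>
    hpb (hK.2.1 p hpp (h.trans (NonuniqNorm.relIndex_dvd_card_of_prod (HallPi.piCoreOf_le _ _) h1)))
  have hidxs : ¬ p ∣ (M ⊓ Mstar).relIndex Mstar := fun h =>
    hpbs (hKs.2.1 p hpp (h.trans
      (NonuniqNorm.relIndex_dvd_card_of_prod (HallPi.piCoreOf_le _ _) h1')))
  have hpD : p ∣ Nat.card ↥(M ⊓ Mstar) := by
    rw [← HallPi.card_mul_relIndex (inf_le_right : M ⊓ Mstar ≤ Mstar)] at hpd
    exact (hpp.dvd_mul.mp hpd).resolve_right hidxs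
  have hpM : p ∣ Nat.card M := hpD.trans (Subgroup.card_dvd_of_le inf_le_left)
  have hpM' : ¬ p ∣ Nat.card ↥⁅M, M⁆ := by
    intro h
    have h5 := h.trans (NonuniqNorm.card_commutator_dvd_of_prod (HallPi.piCoreOf_le _ _)
      inf_le_left (HallPi.le_normalizer_piCoreOf _ _) h1)
    rcases hpp.dvd_mul.mp h5 with h6 | h6
    · exact hpb (hK.2.1 p hpp h6)
    · exact hpd' (h6.trans (Subgroup.card_dvd_of_le
        (Subgroup.commutator_mono inf_le_right inf_le_right)))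
  apply hpt
  refine ⟨hpp, ?_, hpM, hpM', ?_⟩
  · intro hpσ
    obtain ⟨P₀⟩ : Nonempty (Sylow p M) := inferInstance
    have h5 := S1405.sylow_le_commutator hG hM hpσ P₀ (SigmaBasic.normalizer_sylow_le hpσ P₀)
    have h6 : ((P₀ : Subgroup M).map M.subtype : Subgroup G) ≤ ⁅M, M⁆ := by
      have h7 := Subgroup.map_mono (f := M.subtype) h5
      rwa [Subgroup.map_subtype_commutator] at h7
    have h8 : p ∣ Nat.card ((P₀ : Subgroup M).map M.subtype : Subgroup G) := by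
      rw [Subgroup.card_subtype]
      exact P₀.dvd_card_of_dvd_card hpM
    exact hpM' (h8.trans (Subgroup.card_dvd_of_le h6))
  · rw [Rank.pRankLE_iff]
    intro A hAM hAe
    -- conjugate `A` into `M ∩ M*`
    have hsolD : Group.IsSolvable ↥(M ⊓ Mstar) := MinSimpleBasic.isSolvable_of_ne_top hG
      (fun h => hM.1 (top_le_iff.mp (h ▸ inf_le_left)))
    obtain ⟨R, hR⟩ := HallPi.exists_isPiHallOf hsolD {p}
    have hRM : IsPiHallOf {p} R M := by
      refine ⟨hR.1.trans inf_le_left, hR.2.1, ?_⟩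
      intro t ht htr htd
      rw [Set.mem_singleton_iff] at htr
      subst htr
      rw [← Subgroup.relIndex_mul_relIndex R (M ⊓ Mstar) M hR.1 inf_le_left] at htd
      rcases (ht.dvd_mul).mp htd with h | h
      · exact hR.2.2 t ht rfl h
      · exact hidx h
    obtain ⟨m, hm, hmA⟩ := HallPi.exists_conj_le_of_isPiHallOf
      (isSolvable_of_isCoatom hG hM) hRM hAM
      (fun t ht htd => eq_of_dvd_card (Rank.elemAb_isPGroup hAe) ht htd)
    have h5 := Rank.pRankLE_iff.mp hpr _ ((hmA.trans hR.1).trans inf_le_right)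
      (Rank.elemAb_map _ hAe)
    rwa [card_map_conj] at h5

/-- B&G Proposition 12.15(e). -/
theorem embedding_tau2 (hG : IsMinSimpleOddOrder G)
    (M : Subgroup G) (hM : IsCoatom M) (q : ℕ) [Fact q.Prime] (hq : q ∈ sigma M) (X : Subgroup G)
    (hXq : IsPGroup q X) (hX1 : X ≠ ⊥) (hXM : X ≤ M)
    (Mstar : Subgroup G) (hMs : IsCoatom Mstar) (hne : Mstar ≠ M)
    (hNX : Subgroup.normalizer (X : Set G) ≤ Mstar) (hqs : q ∉ sigma Mstar) :
    q ∈ tau2 Mstar ∧ Group.IsNilpotent (sigmaCore Mstar) ∧ sigmaCore Mstar ⊓ M = ⊥ ∧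
      (∀ m ∈ Mstar, ∃ a ∈ sigmaCore Mstar, ∃ b ∈ M ⊓ Mstar, m = a * b) ∧
      IsComplIn (M ⊓ Mstar) (sigmaCore Mstar) Mstar ∧
      (∀ p ∈ sigma M, p ∉ sigma Mstar) ∧
      ∃ A : Subgroup G, A ≤ M ⊓ Mstar ∧ IsElementaryAbelian q A ∧ Nat.card A = q ^ 2 ∧
        Subgroup.normalizer (A : Set G) ≤ M := by
  obtain ⟨hnc, S, hXS, hSle, hSN, hSs⟩ :=
    exists_sylow_inter hG M hM q hq X hXq hX1 hXM Mstar hMs hne hNX
  have hqp : q.Prime := Fact.out
  obtain ⟨T, hT⟩ := hSs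
  have hSq : IsPGroup q S := by rw [← hT]; exact T.isPGroup'.map _
  have hS1 : S ≠ ⊥ := fun h => hX1 (le_bot_iff.mp (h ▸ hXS))
  have hqS : q ∣ Nat.card S := by
    haveI : Nontrivial S := (Subgroup.nontrivial_iff_ne_bot _).mpr hS1
    obtain ⟨n, hn, hc⟩ := hSq.nontrivial_iff_card.mp inferInstance
    exact hc ▸ dvd_pow_self q hn.ne'
  have hq2 : q ≠ 2 := prime_ne_two_of_isPGroup hG hSq hS1
  have hSMs : S ≤ Mstar := hSle.trans inf_le_right
  -- the Sylow subgroup `S` is not cyclic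
  have hScyc : ¬ IsCyclic S := by
    intro hcyc
    apply hqs
    refine ⟨hqp, hqS.trans (Subgroup.card_dvd_of_le hSMs), T, ?_⟩
    rw [hT]
    exact (SylowInter.normalizer_le_of_isCyclic hcyc hXS).trans hNX
  have hr1 : ¬ PRankLE q 1 S := fun h =>
    hScyc (RankOneCyclic.isCyclic_of_pRankLE_one hq2 hSq h)
  have ht2 : q ∈ tau2 Mstar := by
    refine ⟨hqp, hqs, ?_, fun h => hr1 (Rank.pRankLE_mono hSMs h)⟩
    by_contra h
    exact hqs (S1405.alpha_subset_sigma hG hMs ⟨hqp, h⟩)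
  obtain ⟨A, hAS, hAe, hAc⟩ := Rank.exists_elemAb_of_not_pRankLE hr1
  have hAMs : A ≤ Mstar := hAS.trans hSMs
  have hAM : A ≤ M := hAS.trans (hSle.trans inf_le_left)
  have hAcyc : ¬ IsCyclic A := by
    intro hcyc
    have h1 := Rank.pRankLE_def.mp (RankOneCyclic.pRankLE_one_of_isCyclic (p := q) hcyc) ⊤
      ⟨⟨⟨fun a b => by
          have := hAe.1.is_comm.comm (a : A) (b : A)
          exact Subtype.ext this⟩⟩, fun a _ => Subtype.ext (hAe.2 a a.2)⟩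
    rw [Subgroup.card_top, hAc, pow_one] at h1
    have h2 : q ^ 1 < q ^ (1 + 1) := Nat.pow_lt_pow_right hqp.one_lt (by norm_num)
    rw [pow_one] at h2
    omega
  -- `N_G(A) ≤ M`
  obtain ⟨E, hE⟩ := SigmaCompl.exists_compl_sigmaCore (S1350.result hG M hM).1
  have hNA : Subgroup.normalizer (A : Set G) ≤ M :=
    (S1420.result hG M hM E hE).2.2.1 q A hq (Rank.elemAb_isPGroup hAe) hAM hAcyc
  obtain ⟨hnil, -, hnorm, -, htriv, -⟩ := S1417.result hG Mstar hMs q ht2 A ⟨hAMs, hAe, hAc⟩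
  have hHall := (S1350.result hG Mstar hMs).1
  have hdisj : sigmaCore Mstar ⊓ M = ⊥ := htriv M hM hne.symm hAM
  have hsM : sigmaCore Mstar ≤ Mstar := FitAux.sigmaCore_le Mstar
  -- Frattini
  have hAHall : IsPiHallOf {q} A (sigmaCore Mstar ⊔ A) := by
    refine ⟨le_sup_right, fun r hr hrd => eq_of_dvd_card (Rank.elemAb_isPGroup hAe) hr hrd, ?_⟩
    intro r hr hrq hrd
    rw [Set.mem_singleton_iff] at hrq
    subst hrq
    have h1 : Nat.card ↥(A ⊔ sigmaCore Mstar) ∣ Nat.card A * Nat.card (sigmaCore Mstar) :=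
      PiCoreOf.card_sup_dvd_of_le_normalizer (hAMs.trans (FitAux.le_normalizer_sigmaCore Mstar))
    rw [sup_comm, ← HallPi.card_mul_relIndex (le_sup_right : A ≤ sigmaCore Mstar ⊔ A)] at h1
    have h2 : A.relIndex (sigmaCore Mstar ⊔ A) ∣ Nat.card (sigmaCore Mstar) :=
      Nat.dvd_of_mul_dvd_mul_left Nat.card_pos h1
    exact hqs (hHall.2.1 r hr (hrd.trans h2))
  have hNle : sigmaCore Mstar ⊔ A ≤ Mstar := sup_le hsM hAMs
  have hNsol : Group.IsSolvable ↥(sigmaCore Mstar ⊔ A) := MinSimpleBasic.isSolvable_of_ne_top hG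
    (fun h => hMs.1 (top_le_iff.mp (h ▸ hNle)))
  have hAN : A ≤ Subgroup.normalizer (sigmaCore Mstar : Set G) :=
    hAMs.trans (FitAux.le_normalizer_sigmaCore Mstar)
  have hprod : ∀ m ∈ Mstar, ∃ a ∈ sigmaCore Mstar, ∃ b ∈ M ⊓ Mstar, m = a * b := by
    intro m hm
    obtain ⟨n, hn, k, hk, rfl⟩ := HallPi.frattini hNsol hNle hnorm hAHall m hm
    have hn' : n ∈ ((sigmaCore Mstar : Set G) * (A : Set G)) := by
      rw [← Subgroup.coe_mul_of_right_le_normalizer_left _ _ hAN]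
      exact hn
    obtain ⟨a, ha, b, hb, rfl⟩ := Set.mem_mul.mp hn'
    refine ⟨a, ha, b * k, ⟨M.mul_mem (hAM hb) (hNA hk.2), Mstar.mul_mem (hAMs hb) hk.1⟩, by group⟩
  refine ⟨ht2, hnil, hdisj, hprod, ?_, ?_, A, le_inf hAM hAMs, hAe, hAc, hNA⟩
  · apply HallPi.isComplIn_symm
    exact ⟨hsM, inf_le_right, le_bot_iff.mp (hdisj ▸ inf_le_inf_left _ inf_le_left), hprod⟩
  · intro p hp hps
    refine SigmaDisjoint.sigma_disjoint_of_nilpotent hG hMs hM ?_ hnil hps hp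
    intro g hg
    apply hnc g⁻¹
    rw [hg, ← map_conj_mul, inv_mul_cancel, map_conj_one]

end Cfsg.Agent.OddOrderLocal.SigmaEmbedding
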