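import Mathlib
import Cfsg.Prelude.Def_OddOrderLocal
import Cfsg.Agent.OddOrderLocal.SigmaEmbedding
import Cfsg.Agent.OddOrderLocal.Sec10_9
import Cfsg.Agent.OddOrderLocal.Equivariance
import Cfsg.Agent.S1408
import Cfsg.Agent.S1416
import Cfsg.Agent.S1425

/-!
B&G Proposition 12.15(e)(2) and Corollary 12.16 (second part).
-/

set_option autoImplicit false
set_option linter.style.haveILetI false
set_option linter.unusedSectionVars false

namespace Cfsg.Agent.OddOrderLocal.SigmaJsub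

open Cfsg
open Cfsg.Agent.OddOrderLocal.MinSimpleBasic
open scoped Pointwise

universe u

variable {G : Type u} [Group G] [Finite G]

/-- B&G Proposition 12.15(e)(2), from `A ≤ M ∩ M*` elementary abelian of order `q ^ 2`,
`q ∈ σ(M) ∩ τ₂(M*)` and `σ(M) ∩ σ(M*) = ∅`. -/
theorem mem_beta_of_tau2 (hG : IsMinSimpleOddOrder G)
    (M : Subgroup G) (hM : IsCoatom M) (q : ℕ) [Fact q.Prime] (hq : q ∈ sigma M)
    (Mstar : Subgroup G) (hMs : IsCoatom Mstar) (hqt : q ∈ tau2 Mstar)
    (hdisj : ∀ p ∈ sigma M, p ∉ sigma Mstar) (A : Subgroup G) (hA : A ≤ M ⊓ Mstar)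
    (hAe : IsElementaryAbelian q A) (hAc : Nat.card A = q ^ 2) :
    ∀ p : ℕ, p.Prime → p ∣ Nat.card M → p ∈ sigma Mstar → p ∈ beta Mstar := by
  intro p hp hpM hps
  by_contra hpb
  haveI : Fact p.Prime := ⟨hp⟩
  have hqp : q.Prime := Fact.out
  obtain ⟨-, hqs, hr2, hr1⟩ := id hqt
  have hqI : ¬ IsIdealPrime q G := (S1408.result hG Mstar hMs q hqs hr2 hr1).1
  have hqbM : q ∉ beta M := fun h => hqI h.2
  have hqbMs : q ∉ beta Mstar := fun h => hqI h.2
  have hpbM : p ∉ beta M := fun h =>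
    hdisj p (NonuniqNorm.beta_subset_sigma hG hM h) hps
  have hpq : p ≠ q := by rintro rfl; exact hqs hps
  have hAq : IsPGroup q A := Rank.elemAb_isPGroup hAe
  have hHs := (S1350.result hG Mstar hMs).1
  obtain ⟨-, -, -, hCA, -, -⟩ := S1417.result hG Mstar hMs q hqt A
    ⟨hA.trans inf_le_right, hAe, hAc⟩
  rcases lt_or_gt_of_ne hpq with hlt | hlt
  · -- `p < q`: `A` centralizes a Sylow `p`-subgroup of `M*_σ`
    obtain ⟨⟨P, hPs, -, hPi, hPC⟩, -⟩ := Sec10_9.beta'_cent_sylow hG Mstar hMs p q hpb hqbMs A hAq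
      (Or.inr ⟨hlt, hA.trans inf_le_right⟩)
    have h1 : P = ⊥ := by
      rw [eq_bot_iff, ← hCA]
      exact le_inf hPs hPC
    apply hPi
    rw [h1, Subgroup.relIndex_bot_left]
    exact HallPi.prime_dvd_card hHs hp hps hps.2.1
  · -- `q < p`: a subgroup `X₀` of order `p` of `M` centralizes a Sylow `q`-subgroup of `M_σ`
    obtain ⟨x, hx⟩ := exists_prime_orderOf_dvd_card' (G := M) p hpM
    have hx' : orderOf (x : G) = p := by rw [Subgroup.orderOf_coe]; exact hx
    have hX0c : Nat.card (Subgroup.zpowers (x : G)) = p := by rw [Nat.card_zpowers, hx']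
    have hX0p : IsPGroup p (Subgroup.zpowers (x : G)) := by
      rw [IsPGroup.iff_card]; exact ⟨1, by rw [hX0c, pow_one]⟩
    have hX0M : Subgroup.zpowers (x : G) ≤ M := by
      rw [Subgroup.zpowers_le]; exact x.2
    obtain ⟨⟨P, hPs, hPq, hPi, hPC⟩, -⟩ := Sec10_9.beta'_cent_sylow hG M hM q p hqbM hpbM
      (Subgroup.zpowers (x : G)) hX0p (Or.inr ⟨hlt, hX0M⟩)
    have hH := (S1350.result hG M hM).1
    have hAM : A ≤ M := hA.trans inf_le_left
    have hAs : A ≤ sigmaCore M := by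
      apply SigmaCompl.le_of_isPiHallOf_normal hH (FitAux.le_normalizer_sigmaCore M) hAM
      intro r hr hrd
      rw [SigmaEmbedding.eq_of_dvd_card hAq hr hrd]; exact hq
    have hssol : Group.IsSolvable (sigmaCore M) := MinSimpleBasic.isSolvable_of_ne_top hG
      (fun h => hM.1 (top_le_iff.mp (h ▸ FitAux.sigmaCore_le M)))
    have hPHall : IsPiHallOf {q} P (sigmaCore M) := by
      refine ⟨hPs, fun r hr hrd => SigmaEmbedding.eq_of_dvd_card hPq hr hrd, ?_⟩
      intro r hr hrq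
      rw [Set.mem_singleton_iff] at hrq
      subst hrq
      exact hPi
    obtain ⟨s, hs, hsA⟩ := HallPi.exists_conj_le_of_isPiHallOf hssol hPHall hAs
      (fun r hr hrd => SigmaEmbedding.eq_of_dvd_card hAq hr hrd)
    -- `y = s⁻¹ x s` centralizes `A`
    have hy : s⁻¹ * (x : G) * s ∈ Subgroup.centralizer (A : Set G) := by
      rw [Subgroup.mem_centralizer_iff]
      intro a ha
      have h1 : s * a * s⁻¹ ∈ P := hsA (conj_mem_map_conj ha)
      have h2 := Subgroup.mem_centralizer_iff.mp (hPC h1) (x : G) (Subgroup.mem_zpowers _)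
      calc a * (s⁻¹ * (x : G) * s) = s⁻¹ * ((s * a * s⁻¹) * x) * s := by group
        _ = s⁻¹ * (x * (s * a * s⁻¹)) * s := by rw [h2]
        _ = s⁻¹ * (x : G) * s * a := by group
    have hCAMs := (S1416.result hG Mstar hMs q A ⟨hA.trans inf_le_right, hAe, hAc⟩).1
    have hyMs : s⁻¹ * (x : G) * s ∈ Mstar := hCAMs hy
    have hys : s⁻¹ * (x : G) * s ∈ sigmaCore Mstar := by
      apply HallPi.mem_of_normal_isPiHallOf hHs (FitAux.le_normalizer_sigmaCore _) hyMs
      intro r hr hrd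
      have h1 : orderOf (s⁻¹ * (x : G) * s) = p := by
        have h2 := orderOf_injective (MulAut.conj s⁻¹).toMonoidHom (MulAut.conj s⁻¹).injective (x : G)
        rw [hx'] at h2
        rw [← h2]
        congr 1
        simp
      rw [h1] at hrd
      rw [(Nat.prime_dvd_prime_iff_eq hr hp).mp hrd]
      exact hps
    have h3 : s⁻¹ * (x : G) * s ∈ (⊥ : Subgroup G) := by
      rw [← hCA]; exact ⟨hys, hy⟩
    rw [Subgroup.mem_bot] at h3
    have h4 : (x : G) = 1 := by
      have h5 : s * (s⁻¹ * (x : G) * s) * s⁻¹ = x := by group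
      rw [← h5, h3]; group
    rw [h4, orderOf_one] at hx'
    exact hp.one_lt.ne hx'

/-- If `B ≤ M ∩ H` is elementary abelian of order `p ^ 2`, `p ∉ σ(M)`, `M ≠ H` maximal, then
`M_σ ∩ H = 1`. -/
theorem sigmaCore_inf_eq_bot (hG : IsMinSimpleOddOrder G) {M H : Subgroup G} (hM : IsCoatom M)
    (hH : IsCoatom H) (hne : H ≠ M) {p : ℕ} [Fact p.Prime] (hp : p ∉ sigma M) {B : Subgroup G}
    (hBM : B ≤ M) (hBH : B ≤ H) (hBe : IsElementaryAbelian p B) (hBc : Nat.card B = p ^ 2) :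
    sigmaCore M ⊓ H = ⊥ := by
  have hpp : p.Prime := Fact.out
  have ht : p ∈ tau2 M := by
    refine ⟨hpp, hp, ?_, ?_⟩
    · by_contra h
      exact hp (S1405.alpha_subset_sigma hG hM ⟨hpp, h⟩)
    · refine Rank.not_pRankLE_of_elemAb hBM hBe ?_
      rw [hBc]
      exact Nat.pow_lt_pow_right hpp.one_lt (by norm_num)
  obtain ⟨-, -, -, -, h, -⟩ := S1417.result hG M hM p ht B ⟨hBM, hBe, hBc⟩
  exact h H hH hne hBH

/-- Second part of B&G Corollary 12.16, when `X = O_q(Y) ≤ M`. -/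
theorem jsub_aux (hG : IsMinSimpleOddOrder G) (M : Subgroup G) (hM : IsCoatom M) (Y : Subgroup G)
    (hY : ∀ p : ℕ, p.Prime → p ∣ Nat.card Y → p ∈ sigma M) {q : ℕ} [Fact q.Prime] (X : Subgroup G)
    (hX1 : X ≠ ⊥) (hXq : IsPGroup q X) (hq : q ∈ sigma M) (hXM : X ≤ M) (hXY : X ≤ Y)
    (hYX : Subgroup.normalizer (Y : Set G) ≤ Subgroup.normalizer (X : Set G))
    (p : ℕ) [Fact p.Prime] (hp : p ∉ sigma M) (hpM : p ∣ Nat.card M) (hpI : ¬ IsIdealPrime p G)
    (H : Subgroup G) (hH : IsCoatom H) (hYH : Y ≤ H)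
    (hnc : ∀ g : G, H ≠ M.map (MulAut.conj g).toMonoidHom) :
    PRankLE p 1 ↥(H ⊓ Subgroup.normalizer (Y : Set G)) ∧
      (p ∈ tau1 M → ¬ p ∣ Nat.card ↥⁅H ⊓ Subgroup.normalizer (Y : Set G),
        H ⊓ Subgroup.normalizer (Y : Set G)⁆) := by
  have hXtop : X ≠ ⊤ := fun h => hM.1 (top_le_iff.mp (h ▸ hXM))
  have hpp : p.Prime := Fact.out
  have hqp : q.Prime := Fact.out
  have hHM : H ≠ M := by
    intro h
    exact hnc 1 (by rw [h, map_conj_one])
  have hHall := (S1350.result hG M hM).1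
  have hXs : ∀ m : G, X.map (MulAut.conj m).toMonoidHom ≤ M →
      X.map (MulAut.conj m).toMonoidHom ≤ sigmaCore M := by
    intro m hm
    apply SigmaCompl.le_of_isPiHallOf_normal hHall (FitAux.le_normalizer_sigmaCore M) hm
    intro r hr hrd
    rw [SigmaEmbedding.eq_of_dvd_card (hXq.map _) hr hrd]; exact hq
  obtain ⟨Mstar, hMs, hNX⟩ := exists_coatom_normalizer_le hG hX1 hXtop
  have hYMs : Y ≤ Mstar := (Subgroup.le_normalizer.trans hYX).trans hNX
  by_cases hne : Mstar = M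
  · subst hne
    constructor
    · by_contra hr
      obtain ⟨B, hB, hBe, hBc⟩ := Rank.exists_elemAb_of_not_pRankLE hr
      have h1 := sigmaCore_inf_eq_bot hG hM hH hHM hp
        ((hB.trans inf_le_right).trans (hYX.trans hNX)) (hB.trans inf_le_left) hBe
        (by rw [hBc])
      apply hX1
      rw [eq_bot_iff, ← h1]
      have h2 := hXs 1 (by rw [map_conj_one]; exact hXM)
      rw [map_conj_one] at h2
      exact le_inf h2 (hXY.trans hYH)
    · intro hpt hd
      obtain ⟨-, -, -, hpd', -⟩ := hpt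
      exact hpd' (hd.trans (Subgroup.card_dvd_of_le (Subgroup.commutator_mono
        (inf_le_right.trans (hYX.trans hNX)) (inf_le_right.trans (hYX.trans hNX)))))
  · have hsol : Group.IsSolvable Mstar := isSolvable_of_isCoatom hG hMs
    obtain ⟨hnc', -⟩ := SigmaEmbedding.exists_sylow_inter hG M hM q hq X hXq hX1 hXM Mstar hMs hne hNX
    -- the factorisation `M* = K (M ∩ M*)`
    have hK : ∃ K : Subgroup G, K ≤ Mstar ∧ Mstar ≤ Subgroup.normalizer (K : Set G) ∧
        (∀ m ∈ Mstar, ∃ a ∈ K, ∃ b ∈ M ⊓ Mstar, m = a * b) ∧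
        ∀ r : ℕ, r.Prime → r ∣ Nat.card K → r ∉ sigma M ∪ {p} := by
      by_cases hqs : q ∈ sigma Mstar
      · obtain ⟨h1, -⟩ :=
          SigmaEmbedding.embedding_sigma hG M hM q hq X hXq hX1 hXM Mstar hMs hne hNX hqs
        have hK := (S1414.result hG Mstar hMs).1
        refine ⟨_, HallPi.piCoreOf_le _ _, HallPi.le_normalizer_piCoreOf _ _, h1, ?_⟩
        intro r hr hrd hrs
        have hrb := hK.2.1 r hr hrd
        rcases hrs with hrs | hrs
        · refine SigmaDisjoint.alpha_sigma_disjoint hG hMs hM ?_ hrb.1 hrs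
          intro g hg
          apply hnc' g⁻¹
          rw [hg, ← map_conj_mul, inv_mul_cancel, map_conj_one]
        · rw [Set.mem_singleton_iff] at hrs
          subst hrs
          exact hpI hrb.2
      · obtain ⟨ht2, -, -, h1, -, h2, A, hA, hAe, hAc, -⟩ :=
          SigmaEmbedding.embedding_tau2 hG M hM q hq X hXq hX1 hXM Mstar hMs hne hNX hqs
        have hK := (S1350.result hG Mstar hMs).1
        refine ⟨_, FitAux.sigmaCore_le _, FitAux.le_normalizer_sigmaCore _, h1, ?_⟩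
        intro r hr hrd hrs
        have hrb := hK.2.1 r hr hrd
        rcases hrs with hrs | hrs
        · exact h2 r hrs hrb
        · rw [Set.mem_singleton_iff] at hrs
          subst hrs
          exact hpI (mem_beta_of_tau2 hG M hM q hq Mstar hMs ht2 h2 A hA hAe hAc r hr hpM hrb).2
    obtain ⟨K, hKM, hKn, hprod, hKπ⟩ := hK
    constructor
    · by_contra hr
      obtain ⟨B, hB, hBe, hBc⟩ := Rank.exists_elemAb_of_not_pRankLE hr
      have hBY : B ≤ Subgroup.normalizer (Y : Set G) := hB.trans inf_le_right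
      have hBYMs : B ⊔ Y ≤ Mstar := sup_le (hBY.trans (hYX.trans hNX)) hYMs
      obtain ⟨m, hm, hmle⟩ := S1425.exists_conj_le_of_prod hsol hKM inf_le_right hprod
        (π := sigma M ∪ {p}) hKπ hBYMs (by
          intro r hr hrd
          have h1 := hrd.trans (PiCoreOf.card_sup_dvd_of_le_normalizer hBY)
          rcases hr.dvd_mul.mp h1 with h2 | h2
          · exact Or.inr (SigmaEmbedding.eq_of_dvd_card (Rank.elemAb_isPGroup hBe) hr h2)
          · exact Or.inl (hY r hr h2))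
      have hBm : B.map (MulAut.conj m).toMonoidHom ≤ M ⊓ Mstar :=
        (Subgroup.map_mono le_sup_left).trans hmle
      have hXm : X.map (MulAut.conj m).toMonoidHom ≤ M ⊓ Mstar :=
        (Subgroup.map_mono (hXY.trans le_sup_right)).trans hmle
      have h1 := sigmaCore_inf_eq_bot hG hM hMs hne hp (hBm.trans inf_le_left)
        (hBm.trans inf_le_right) (Rank.elemAb_map _ hBe) (by rw [card_map_conj, hBc])
      have h2 : X.map (MulAut.conj m).toMonoidHom = ⊥ := by
        rw [eq_bot_iff, ← h1]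
        exact le_inf (hXs m (hXm.trans inf_le_left)) (hXm.trans inf_le_right)
      exact hX1 ((Subgroup.map_eq_bot_iff_of_injective _ (MulAut.conj m).injective).mp h2)
    · intro hpt hd
      obtain ⟨-, -, -, hpd', -⟩ := hpt
      have h1 : p ∣ Nat.card ↥⁅Mstar, Mstar⁆ := hd.trans (Subgroup.card_dvd_of_le
        (Subgroup.commutator_mono (inf_le_right.trans (hYX.trans hNX))
          (inf_le_right.trans (hYX.trans hNX))))
      have h2 := h1.trans (NonuniqNorm.card_commutator_dvd_of_prod hKM inf_le_right hKn hprod)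
      rcases hpp.dvd_mul.mp h2 with h3 | h3
      · exact hKπ p hpp h3 (Or.inr rfl)
      · exact hpd' (h3.trans (Subgroup.card_dvd_of_le
          (Subgroup.commutator_mono inf_le_left inf_le_left)))

/-- B&G Corollary 12.16, second part: `Y ≠ 1` a `σ(M)`-subgroup of `G`, `p ∉ σ(M)` a prime divisor
of `|M|` not ideal for `G`, `H ≥ Y` a maximal subgroup not conjugate to `M`. Then `N_H(Y)` has
`p`-rank at most one, and `p` does not divide the order of `N_H(Y)'` if `p ∈ τ₁(M)`. -/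
theorem sigma_Jsub (hG : IsMinSimpleOddOrder G) (M : Subgroup G) (hM : IsCoatom M)
    (Y : Subgroup G) (hY1 : Y ≠ ⊥) (hY : ∀ p : ℕ, p.Prime → p ∣ Nat.card Y → p ∈ sigma M)
    (p : ℕ) [Fact p.Prime] (hp : p ∉ sigma M) (hpM : p ∣ Nat.card M) (hpI : ¬ IsIdealPrime p G)
    (H : Subgroup G) (hH : IsCoatom H) (hYH : Y ≤ H)
    (hnc : ∀ g : G, H ≠ M.map (MulAut.conj g).toMonoidHom) :
    PRankLE p 1 ↥(H ⊓ Subgroup.normalizer (Y : Set G)) ∧
      (p ∈ tau1 M → ¬ p ∣ Nat.card ↥⁅H ⊓ Subgroup.normalizer (Y : Set G),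
        H ⊓ Subgroup.normalizer (Y : Set G)⁆) := by
  have hYtop : Y ≠ ⊤ := fun h => hH.1 (top_le_iff.mp (h ▸ hYH))
  obtain ⟨q, hqp, X₀, hXY₀, hX1₀, hXq₀, hYX₀⟩ :=
    S1425.exists_normal_pSubgroup hY1 (MinSimpleBasic.isSolvable_of_ne_top hG hYtop)
  haveI : Fact q.Prime := ⟨hqp⟩
  set X : Subgroup G := piCoreOf {q} Y with hXdef
  have hXY : X ≤ Y := HallPi.piCoreOf_le _ _
  have hXp : ∀ r : ℕ, r.Prime → r ∣ Nat.card X → r = q := PiCoreOf.piCoreOf_isPi {q} Y
  have hXq : IsPGroup q X := by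
    rw [IsPGroup.iff_card]
    exact ⟨_, Nat.eq_prime_pow_of_unique_prime_dvd Nat.card_pos.ne' (fun {d} hd h => hXp d hd h)⟩
  have hX1 : X ≠ ⊥ := by
    intro h
    apply hX1₀
    rw [eq_bot_iff, ← h]
    exact PiCoreOf.le_piCoreOf hXY₀ hYX₀
      (fun r hr hrd => SigmaEmbedding.eq_of_dvd_card hXq₀ hr hrd)
  have hYX : Subgroup.normalizer (Y : Set G) ≤ Subgroup.normalizer (X : Set G) :=
    PiCoreOf.normalizer_le_normalizer_piCoreOf {q} Y
  have hq : q ∈ sigma M := by
    haveI : Nontrivial X := (Subgroup.nontrivial_iff_ne_bot _).mpr hX1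
    obtain ⟨n, hn, hc⟩ := hXq.nontrivial_iff_card.mp inferInstance
    exact hY q hqp ((hc ▸ dvd_pow_self q hn.ne').trans (Subgroup.card_dvd_of_le hXY))
  obtain ⟨P, -, hPM, -⟩ := SylowInter.exists_sylow_of_mem_sigma hq
  obtain ⟨g, hg⟩ := exists_map_conj_le_sylow P hXq
  have hXM : X ≤ M.map (MulAut.conj g⁻¹).toMonoidHom := map_conj_inv_le_iff.mp (hg.trans hPM)
  have hσ : sigma (M.map (MulAut.conj g⁻¹).toMonoidHom) = sigma M :=
    Equivariance.sigma_map (MulAut.conj g⁻¹) M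
  have hτ : tau1 (M.map (MulAut.conj g⁻¹).toMonoidHom) = tau1 M :=
    Equivariance.tau1_map (MulAut.conj g⁻¹) M
  have h := jsub_aux hG (M.map (MulAut.conj g⁻¹).toMonoidHom) (isCoatom_map_conj hM g⁻¹) Y
    (by rw [hσ]; exact hY) X hX1 hXq (by rw [hσ]; exact hq) hXM hXY hYX p
    (by rw [hσ]; exact hp) (by rw [card_map_conj]; exact hpM) hpI H hH hYH
    (by intro g'; rw [← map_conj_mul]; exact hnc _)
  rw [hτ] at h
  exact h

end Cfsg.Agent.OddOrderLocal.SigmaJsub
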