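import Mathlib
import Cfsg.Agent.OddOrderLocal.Equivariance

set_option autoImplicit false

/-!
Subgroups of finite cyclic groups are determined by their order; consequences for conjugation.
-/

namespace Cfsg.Agent.OddOrderLocal.CyclicSub

open Cfsg.Agent.OddOrderLocal.Equivariance

theorem pow_card_eq_one_of_mem {C : Type*} [Group C] [Finite C] {A : Subgroup C} {x : C} (h : x ∈ A) :
    x ^ Nat.card A = 1 := by
  have h1 := pow_card_eq_one' (x := (⟨x, h⟩ : A))
  have h2 := congrArg (Subtype.val) h1
  rwa [SubmonoidClass.coe_pow] at h2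

theorem mem_iff_pow_card {C : Type*} [Group C] [Finite C] [IsCyclic C] (A : Subgroup C) (x : C) :
    x ∈ A ↔ x ^ Nat.card A = 1 := by
  classical
  have := Fintype.ofFinite C
  constructor
  · intro h
    exact pow_card_eq_one_of_mem h
  · intro h
    have h1 := IsCyclic.card_pow_eq_one_le (α := C) (n := Nat.card A) Nat.card_pos
    have h2 : (Finset.univ.filter fun a : C => a ∈ A) ⊆ (Finset.univ.filter fun a : C => a ^ Nat.card A = 1) := by
      intro a ha
      rw [Finset.mem_filter] at ha ⊢
      exact ⟨Finset.mem_univ _, pow_card_eq_one_of_mem ha.2⟩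
    have h3 : (Finset.univ.filter fun a : C => a ∈ A).card = Nat.card A := by
      rw [Nat.card_eq_fintype_card, Fintype.card_subtype]
    have h4 := Finset.eq_of_subset_of_card_le h2 (h1.trans h3.ge)
    have : x ∈ (Finset.univ.filter fun a : C => a ^ Nat.card A = 1) :=
      Finset.mem_filter.2 ⟨Finset.mem_univ _, h⟩
    rw [← h4] at this
    exact (Finset.mem_filter.1 this).2

theorem eq_of_card_eq_of_isCyclic {C : Type*} [Group C] [Finite C] [IsCyclic C] {A B : Subgroup C}
    (h : Nat.card A = Nat.card B) : A = B := by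
  ext x
  rw [mem_iff_pow_card, mem_iff_pow_card, h]

/-- Two subgroups of the same order inside a cyclic subgroup `Z` of a finite group are equal. -/
theorem eq_of_card_eq_of_le_cyclic {G : Type*} [Group G] [Finite G] {Z A B : Subgroup G} (hZ : IsCyclic Z)
    (hA : A ≤ Z) (hB : B ≤ Z) (h : Nat.card A = Nat.card B) : A = B := by
  have h3 : A.subgroupOf Z = B.subgroupOf Z := by
    apply eq_of_card_eq_of_isCyclic
    rw [Nat.card_congr (Subgroup.subgroupOfEquivOfLe hA).toEquiv,
      Nat.card_congr (Subgroup.subgroupOfEquivOfLe hB).toEquiv, h]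
  have := congrArg (Subgroup.map Z.subtype) h3
  rwa [Subgroup.map_subgroupOf_eq_of_le hA, Subgroup.map_subgroupOf_eq_of_le hB] at this

/-- A conjugation preserving a cyclic subgroup preserves all its subgroups. -/
theorem map_conj_eq_of_le_cyclic {G : Type*} [Group G] [Finite G] {Z A : Subgroup G} (hZ : IsCyclic Z)
    (hA : A ≤ Z) {g : G} (hg : Z.map (MulAut.conj g).toMonoidHom = Z) :
    A.map (MulAut.conj g).toMonoidHom = A := by
  have h1 : A.map (MulAut.conj g).toMonoidHom ≤ Z := by
    rw [← hg]; exact Subgroup.map_mono hA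
  exact eq_of_card_eq_of_le_cyclic hZ h1 hA (card_map_equiv _ _)

end Cfsg.Agent.OddOrderLocal.CyclicSub
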