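import Mathlib
import Cfsg.Prelude.Def_OddOrderLocal
import Cfsg.Agent.OddOrderLocal.HallPi
import Cfsg.Agent.OddOrderLocal.MinSimple
import Cfsg.Agent.OddOrderLocal.Rank
import Cfsg.Agent.OddOrderLocal.ZGroup
import Cfsg.Agent.OddOrderLocal.SigmaDerived
import Cfsg.Agent.OddOrderLocal.Sec12_19
import Cfsg.Agent.S1350
import Cfsg.Agent.S1409
import Cfsg.Agent.S1415
import Cfsg.Agent.S1417
import Cfsg.Agent.S1459

/-!
Tools for B&G Sections 13 and 14: the primes of a complement `E` of `M_σ`, the Hall subgroups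
`E₁`, `E₃` of `E`, B&G 12.2(a), 12.6(d)(e), `C_{E₃}(E) = 1`.
-/

set_option autoImplicit false

namespace Cfsg.Agent.OddOrderLocal.Sec13Tools

open Cfsg Cfsg.Agent.OddOrderLocal

variable {G : Type*} [Group G] [Finite G]

/-- A subgroup of prime order is generated by any of its nonidentity elements. -/
theorem zpowers_eq_of_mem {X : Subgroup G} (hX : (Nat.card X).Prime) {x : G} (hx : x ∈ X)
    (hx1 : x ≠ 1) : Subgroup.zpowers x = X := by
  have hle : Subgroup.zpowers x ≤ X := by rwa [Subgroup.zpowers_le]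
  refine Subgroup.eq_of_le_of_card_ge hle ?_
  rcases (Nat.dvd_prime hX).mp (Subgroup.card_dvd_of_le hle) with h | h
  · exfalso
    apply hx1
    rw [Nat.card_zpowers] at h
    exact orderOf_eq_one_iff.mp h
  · exact h.ge

/-- The centralizer of a subgroup generated by one element. -/
theorem centralizer_zpowers (x : G) :
    Subgroup.centralizer ((Subgroup.zpowers x : Subgroup G) : Set G) =
      Subgroup.centralizer ({x} : Set G) := by
  rw [Subgroup.zpowers_eq_closure, Subgroup.centralizer_closure]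

theorem centralizer_eq_of_mem {X : Subgroup G} (hX : (Nat.card X).Prime) {x : G} (hx : x ∈ X)
    (hx1 : x ≠ 1) : Subgroup.centralizer (X : Set G) = Subgroup.centralizer ({x} : Set G) := by
  rw [← zpowers_eq_of_mem hX hx hx1, centralizer_zpowers]

/-- Every nontrivial subgroup contains a subgroup of prime order. -/
theorem exists_prime_order_le {X : Subgroup G} (hX : X ≠ ⊥) :
    ∃ Y : Subgroup G, Y ≤ X ∧ (Nat.card Y).Prime := by
  have h1 : Nat.card X ≠ 1 := fun h => hX (Subgroup.card_eq_one.mp h)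
  obtain ⟨p, hp, hd⟩ := Nat.exists_prime_and_dvd h1
  haveI := Fact.mk hp
  obtain ⟨x, hx⟩ := exists_prime_orderOf_dvd_card' (G := X) p hd
  refine ⟨Subgroup.zpowers (x : G), ?_, ?_⟩
  · rw [Subgroup.zpowers_le]; exact x.2
  · rw [Nat.card_zpowers, Subgroup.orderOf_coe, hx]; exact hp

/-- A subgroup whose order is divisible by the prime `p` contains a subgroup of order `p`. -/
theorem exists_order_eq_le {X : Subgroup G} {p : ℕ} (hp : p.Prime) (hd : p ∣ Nat.card X) :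
    ∃ Y : Subgroup G, Y ≤ X ∧ Nat.card Y = p := by
  haveI := Fact.mk hp
  obtain ⟨x, hx⟩ := exists_prime_orderOf_dvd_card' (G := X) p hd
  refine ⟨Subgroup.zpowers (x : G), ?_, ?_⟩
  · rw [Subgroup.zpowers_le]; exact x.2
  · rw [Nat.card_zpowers, Subgroup.orderOf_coe, hx]

theorem ne_bot_of_prime {X : Subgroup G} (hX : (Nat.card X).Prime) : X ≠ ⊥ := by
  rintro rfl
  rw [Subgroup.card_bot] at hX
  exact Nat.not_prime_one hX

theorem exists_ne_one_of_prime {X : Subgroup G} (hX : (Nat.card X).Prime) :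
    ∃ x ∈ X, x ≠ 1 := by
  by_contra h
  push_neg at h
  exact ne_bot_of_prime hX ((Subgroup.eq_bot_iff_forall X).mpr h)

/-! ### Primes of the complement -/

section

variable {M E : Subgroup G}

theorem hall (hG : IsMinSimpleOddOrder G) (hM : IsCoatom M) :
    IsPiHallOf (sigma M) (sigmaCore M) M := (S1350.result hG M hM).1

theorem not_mem_sigma_of_dvd (hG : IsMinSimpleOddOrder G) (hM : IsCoatom M)
    (hE : IsComplIn E (sigmaCore M) M) {p : ℕ} (hp : p.Prime) (hd : p ∣ Nat.card E) :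
    p ∉ sigma M :=
  (((HallPi.isPiHallOf_compl_iff (hall hG hM)).mp hE).2.1 p hp hd).2

theorem dvd_card_compl (hG : IsMinSimpleOddOrder G) (hM : IsCoatom M)
    (hE : IsComplIn E (sigmaCore M) M) {p : ℕ} (hp : p.Prime) (hd : p ∣ Nat.card M)
    (hs : p ∉ sigma M) : p ∣ Nat.card E :=
  HallPi.prime_dvd_card ((HallPi.isPiHallOf_compl_iff (hall hG hM)).mp hE) hp ⟨hp, hs⟩ hd

theorem mem_sigma_of_dvd_sigmaCore (hG : IsMinSimpleOddOrder G) (hM : IsCoatom M) {p : ℕ}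
    (hp : p.Prime) (hd : p ∣ Nat.card (sigmaCore M)) : p ∈ sigma M :=
  (hall hG hM).2.1 p hp hd

theorem isSolvable (hG : IsMinSimpleOddOrder G) (hM : IsCoatom M) : Group.IsSolvable M :=
  MinSimple.isSolvable hG hM.1

theorem isSolvable_of_le (hG : IsMinSimpleOddOrder G) (hM : IsCoatom M) {H : Subgroup G}
    (hH : H ≤ M) : Group.IsSolvable H :=
  MinSimple.isSolvable hG (fun h => hM.1 (top_le_iff.mp (h ▸ hH)))

theorem pRankLE_two (hG : IsMinSimpleOddOrder G) (hM : IsCoatom M) {p : ℕ} (hp : p.Prime)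
    (hs : p ∉ sigma M) : PRankLE p 2 M := by
  by_contra h
  exact hs (Sec12_19.mem_sigma_of_mem_alpha hG hM ⟨hp, h⟩)

theorem tau_cases (hG : IsMinSimpleOddOrder G) (hM : IsCoatom M) {p : ℕ} (hp : p.Prime)
    (hd : p ∣ Nat.card M) (hs : p ∉ sigma M) : p ∈ tau1 M ∨ p ∈ tau2 M ∨ p ∈ tau3 M := by
  by_cases h1 : PRankLE p 1 M
  · by_cases h2 : p ∣ Nat.card ↥⁅M, M⁆
    · exact Or.inr (Or.inr ⟨hp, hs, h2, h1⟩)
    · exact Or.inl ⟨hp, hs, hd, h2, h1⟩
  · exact Or.inr (Or.inl ⟨hp, hs, pRankLE_two hG hM hp hs, h1⟩)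

theorem tau3_dvd {p : ℕ} (hp : p ∈ tau3 M) : p ∣ Nat.card M :=
  hp.2.2.1.trans (Subgroup.card_dvd_of_le (Subgroup.commutator_le_self M))

theorem tau2_dvd {p : ℕ} (hp : p ∈ tau2 M) : p ∣ Nat.card M := by
  haveI := Fact.mk hp.1
  exact Rank.dvd_card_of_not_pRankLE hp.2.2.2

theorem tau1_not_tau2 {p : ℕ} (hp : p ∈ tau1 M) : p ∉ tau2 M := fun h => h.2.2.2 hp.2.2.2.2
theorem tau3_not_tau2 {p : ℕ} (hp : p ∈ tau3 M) : p ∉ tau2 M := fun h => h.2.2.2 hp.2.2.2
theorem tau1_not_tau3 {p : ℕ} (hp : p ∈ tau1 M) : p ∉ tau3 M := fun h => hp.2.2.2.1 h.2.2.1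

/-- `p`-subgroups of `M` are cyclic for `p ∈ τ₁(M) ∪ τ₃(M)`. -/
theorem isCyclic_of_tau13 (hG : IsMinSimpleOddOrder G) {p : ℕ} [Fact p.Prime]
    (hp : p ∈ tau1 M ∨ p ∈ tau3 M) {P : Subgroup G} (hPM : P ≤ M) (hP : IsPGroup p P) :
    IsCyclic P := by
  have h1 : PRankLE p 1 M := by
    rcases hp with h | h
    · exact h.2.2.2.2
    · exact h.2.2.2
  have h2 : p ∣ Nat.card M := by
    rcases hp with h | h
    · exact h.2.2.1
    · exact tau3_dvd h
  exact ZGroup.isCyclic_of_pRankLE_one (MinSimple.ne_two_of_dvd hG h2) hP (Rank.pRankLE_mono hPM h1)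

/-- B&G 12.2(a) for subgroups of prime order: `N_G(X) ⊄ M` for `X` of order in `τ₁(M) ∪ τ₃(M)`. -/
theorem not_normalizer_le (hG : IsMinSimpleOddOrder G) (hM : IsCoatom M) {r : ℕ} [Fact r.Prime]
    (hr : r ∈ tau1 M ∨ r ∈ tau3 M) {X : Subgroup G} (hX : Nat.card X = r) :
    ¬ Subgroup.normalizer (X : Set G) ≤ M := by
  intro h
  have hs : r ∉ sigma M := by
    rcases hr with h | h
    · exact h.2.1
    · exact h.2.1
  have h1 := (S1409.result hG M hM r hs X hX h).1.2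
  rcases hr with h | h
  · exact h1 h.2.2.2.2
  · exact h1 h.2.2.2

/-- A maximal subgroup over `N_G(X)`, `X` of order in `τ₁(M) ∪ τ₃(M)`, is different from `M`. -/
theorem exists_coatom_normalizer (hG : IsMinSimpleOddOrder G) (hM : IsCoatom M) {r : ℕ}
    [Fact r.Prime] (hr : r ∈ tau1 M ∨ r ∈ tau3 M) {X : Subgroup G} (hXM : X ≤ M)
    (hX : Nat.card X = r) :
    ∃ H : Subgroup G, IsCoatom H ∧ Subgroup.normalizer (X : Set G) ≤ H ∧ H ≠ M := by
  have hX1 : X ≠ ⊥ := ne_bot_of_prime (hX ▸ Fact.out)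
  have hX2 : X ≠ ⊤ := fun h => hM.1 (top_le_iff.mp (h ▸ hXM))
  obtain ⟨H, hH, hle⟩ := MinSimple.exists_isCoatom_ge (MinSimple.normalizer_ne_top hG hX1 hX2)
  refine ⟨H, hH, hle, ?_⟩
  rintro rfl
  exact not_normalizer_le hG hM hr hX hle

theorem centralizer_le_normalizer (X : Subgroup G) :
    Subgroup.centralizer (X : Set G) ≤ Subgroup.normalizer (X : Set G) :=
  Subgroup.centralizer_le_normalizer _

/-- B&G 12.6(d)(e): if `p ∈ τ₂(M)`, `A ≤ M` elementary of order `p²` and `X ≤ M` has order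
in `τ₁(M) ∪ τ₃(M)` and is centralized by `A`, then `C_{M_σ}(X) = 1`. -/
theorem inf_centralizer_eq_bot_of_tau2 (hG : IsMinSimpleOddOrder G) (hM : IsCoatom M) {p r : ℕ}
    [Fact p.Prime] [Fact r.Prime] (hp : p ∈ tau2 M) {A : Subgroup G} (hAM : A ≤ M)
    (hA : IsElementaryAbelian p A) (hAc : Nat.card A = p ^ 2) (hr : r ∈ tau1 M ∨ r ∈ tau3 M)
    {X : Subgroup G} (hXM : X ≤ M) (hX : Nat.card X = r)
    (hAX : A ≤ Subgroup.centralizer (X : Set G)) :
    sigmaCore M ⊓ Subgroup.centralizer (X : Set G) = ⊥ := by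
  obtain ⟨H, hH, hle, hne⟩ := exists_coatom_normalizer hG hM hr hXM hX
  have h1 := (S1417.result hG M hM p hp A ⟨hAM, hA, hAc⟩).2.2.2.2.1 H hH hne
    (hAX.trans ((centralizer_le_normalizer X).trans hle))
  rw [eq_bot_iff, ← h1]
  exact inf_le_inf_left _ ((centralizer_le_normalizer X).trans hle)

/-- `N_M(P) = C_M(P)` for a `p`-subgroup `P` of `M`, `p ∈ τ₁(M)`. -/
theorem normalizer_le_centralizer_of_tau1 {p : ℕ} [Fact p.Prime] (hp : p ∈ tau1 M)
    {P : Subgroup G} (hPM : P ≤ M) (hP : IsPGroup p P) :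
    M ⊓ Subgroup.normalizer (P : Set G) ≤ Subgroup.centralizer (P : Set G) := by
  have h1 : P ⊓ ⁅M, M⁆ = ⊥ := by
    by_contra h
    have h2 : Nat.card ↥(P ⊓ ⁅M, M⁆) ≠ 1 := fun h' => h (Subgroup.card_eq_one.mp h')
    obtain ⟨q, hq, hd⟩ := Nat.exists_prime_and_dvd h2
    haveI := Fact.mk hq
    have hqp : q = p := by
      obtain ⟨n, hn⟩ := (IsPGroup.iff_card.mp hP)
      have h3 : q ∣ p ^ n := hn ▸ hd.trans (Subgroup.card_dvd_of_le inf_le_left)
      exact (Nat.prime_dvd_prime_iff_eq hq (Fact.out : p.Prime)).mp (hq.dvd_of_dvd_pow h3)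
    subst hqp
    exact hp.2.2.2.1 (hd.trans (Subgroup.card_dvd_of_le inf_le_right))
  rintro m ⟨hmM, hmN⟩
  rw [Subgroup.mem_centralizer_iff]
  intro x hx
  have hc : m * x * m⁻¹ * x⁻¹ ∈ P ⊓ ⁅M, M⁆ := by
    refine ⟨P.mul_mem ((Subgroup.mem_normalizer_iff.mp hmN x).mp hx) (P.inv_mem hx), ?_⟩
    exact Subgroup.commutator_mem_commutator hmM (hPM hx)
  rw [h1, Subgroup.mem_bot] at hc
  have : m * x = x * m := by
    have h2 : m * x * m⁻¹ = x := by rwa [mul_inv_eq_one] at hc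
    calc m * x = m * x * m⁻¹ * m := by group
      _ = x * m := by rw [h2]
  exact this.symm

end

end Cfsg.Agent.OddOrderLocal.Sec13Tools
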