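import Mathlib
import Cfsg.Prelude.Def_OddOrderLocal
import Cfsg.Agent.OddOrderLocal.Sec13B
import Cfsg.Agent.OddOrderLocal.FittingHall
import Cfsg.Agent.OddOrderLocal.Tau2Abelian
import Cfsg.Agent.Lib.CoprimeAbelian
import Cfsg.Agent.S1414
import Cfsg.Agent.S1418
import Cfsg.Agent.S1423
import Cfsg.Agent.S1426

/-!
B&G Lemma 13.6: for `P ≤ M` of order `p ∈ τ₁(M)` and `X ≤ C_{M_σ}(P)` of prime order, `M` is the
only maximal subgroup over `C_G(X)`, and over any Sylow `|X|`-subgroup of `M_σ`.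
-/

set_option autoImplicit false

namespace Cfsg.Agent.OddOrderLocal.Sec13C

open Cfsg Cfsg.Agent.OddOrderLocal Cfsg.Agent.OddOrderLocal.Sec13Tools
  Cfsg.Agent.OddOrderLocal.Sec13Struct Cfsg.Agent.OddOrderLocal.Sec13B

theorem relIndex_dvd_relIndex {G : Type*} [Group G] {N K M : Subgroup G} (hNM : N ≤ M)
    (hK : K ≤ M) (hN : M ≤ Subgroup.normalizer (N : Set G)) : N.relIndex K ∣ N.relIndex M := by
  have h1 : (N.subgroupOf M).Normal := Subgroup.normal_subgroupOf_of_le_normalizer hN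
  have h2 := Subgroup.relIndex_dvd_index_of_normal (N.subgroupOf M) (K.subgroupOf M)
  rwa [Subgroup.relIndex_subgroupOf hK] at h2

variable {G : Type*} [Group G] [Finite G]

/-- A Hall `π`-subgroup of `M` meets a normal subgroup in a Hall `π`-subgroup. -/
theorem inf_isPiHallOf {π : Set ℕ} {T M N : Subgroup G} (hT : IsPiHallOf π T M) (hNM : N ≤ M)
    (hN : M ≤ Subgroup.normalizer (N : Set G)) : IsPiHallOf π (T ⊓ N) N := by
  refine ⟨inf_le_right, fun p hp hd => hT.2.1 p hp (hd.trans (Subgroup.card_dvd_of_le inf_le_left)),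
    ?_⟩
  intro p hp hpπ hd
  rw [Subgroup.inf_relIndex_right] at hd
  have hn : (N.subgroupOf M).Normal := Subgroup.normal_subgroupOf_of_le_normalizer hN
  apply hT.2.2 p hp hpπ
  refine hd.trans ?_
  have h1 : T.relIndex N = (T.subgroupOf M).relIndex (N.subgroupOf M) := by
    rw [Subgroup.relIndex_subgroupOf hNM]
  rw [h1]
  exact Sec12_19.relIndex_dvd_index_of_normal_right _ _

/-- Any `β(M)'`-subgroup `Y` of `M` lies in a Hall `β(M)'`-subgroup `T` of `M`, and then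
`T ∩ M'` is nilpotent. -/
theorem inf_derived_nilpotent (hG : IsMinSimpleOddOrder G) {M : Subgroup G} (hM : IsCoatom M)
    {T : Subgroup G} (hT : IsPiHallOf {q | q.Prime ∧ q ∉ beta M} T M) :
    Group.IsNilpotent ↥(T ⊓ ⁅M, M⁆) := by
  obtain ⟨K0, hK0, hK0n⟩ := (S1414.result hG M hM).2.2.1
  have hM'M : ⁅M, M⁆ ≤ M := Subgroup.commutator_le_self M
  have h1 : IsPiHallOf {q | q.Prime ∧ q ∉ beta M} (T ⊓ ⁅M, M⁆) ⁅M, M⁆ :=
    inf_isPiHallOf hT hM'M (le_normalizer_of_commutator_le le_rfl hM'M)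
  obtain ⟨m, -, hm⟩ := HallPi.conj_of_isPiHallOf (isSolvable_of_le hG hM hM'M) hK0 h1
  have e := Subgroup.equivMapOfInjective K0 (MulAut.conj m).toMonoidHom (MulAut.conj m).injective
  rw [hm] at e
  exact Group.nilpotent_of_mulEquiv e

/-- The derived subgroup of a `σ(M)'`-subgroup `F` of a Hall `β(M)'`-subgroup `T` of `M`
centralizes `T ∩ M_σ`. -/
theorem derived_le_centralizer (hG : IsMinSimpleOddOrder G) {M : Subgroup G} (hM : IsCoatom M)
    {T F : Subgroup G} (hT : IsPiHallOf {q | q.Prime ∧ q ∉ beta M} T M) (hFT : F ≤ T)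
    (hF : ∀ p : ℕ, p.Prime → p ∣ Nat.card F → p ∉ sigma M) :
    ⁅F, F⁆ ≤ Subgroup.centralizer ((T ⊓ sigmaCore M : Subgroup G) : Set G) := by
  have hFM : F ≤ M := hFT.trans hT.1
  refine FittingHall.le_centralizer_of_coprime (inf_derived_nilpotent hG hM hT) ?_ ?_ ?_
  · exact le_inf ((Subgroup.commutator_le_self F).trans hFT) (Subgroup.commutator_mono hFM hFM)
  · exact inf_le_inf_left _ (SigmaDerived.sigmaCore_le_commutator hG M hM)
  · apply Nat.Coprime.symm
    exact HallPi.coprime_of_pi (π := sigma M)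
      (fun p hp hd => (hall hG hM).2.1 p hp (hd.trans (Subgroup.card_dvd_of_le inf_le_right)))
      (fun p hp hd => hF p hp (hd.trans (Subgroup.card_dvd_of_le (Subgroup.commutator_le_self F))))

/-- In a Hall `β(M)'`-subgroup `T` of `M`, any `σ(M)'`-subgroup lies in a complement of `M_σ`
in `M` contained in `T`. -/
theorem exists_compl_le (hG : IsMinSimpleOddOrder G) {M : Subgroup G} (hM : IsCoatom M)
    {T F : Subgroup G} (hT : IsPiHallOf {q | q.Prime ∧ q ∉ beta M} T M) (hFT : F ≤ T)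
    (hF : ∀ p : ℕ, p.Prime → p ∣ Nat.card F → p ∉ sigma M) :
    ∃ E : Subgroup G, IsComplIn E (sigmaCore M) M ∧ E ≤ T ∧ F ≤ E := by
  have hN : IsPiHallOf (sigma M) (T ⊓ sigmaCore M) T := by
    refine ⟨inf_le_left, fun p hp hd =>
      (hall hG hM).2.1 p hp (hd.trans (Subgroup.card_dvd_of_le inf_le_right)), ?_⟩
    intro p hp hpσ hd
    rw [Subgroup.inf_relIndex_left] at hd
    exact (hall hG hM).2.2 p hp hpσ (hd.trans (relIndex_dvd_relIndex (HallPi.sigmaCore_le M) hT.1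
      (HallPi.le_normalizer_sigmaCore M)))
  obtain ⟨E, hE, hFE⟩ := HallPi.exists_isComplIn_ge (isSolvable_of_le hG hM hT.1) hN hFT hF
  refine ⟨E, ?_, hE.1, hFE⟩
  have h1 := (HallPi.isPiHallOf_compl_iff hN).mp hE
  rw [HallPi.isPiHallOf_compl_iff (hall hG hM)]
  exact HallPi.isPiHallOf_trans h1 hT (fun p hp h => ⟨hp, fun hb =>
    h.2 (Sec12_19.mem_sigma_of_mem_beta hG hM hb)⟩)

/-- B&G Lemma 13.6. -/
theorem cent_tau1_uniq (hG : IsMinSimpleOddOrder G) {M : Subgroup G} (hM : IsCoatom M) {p : ℕ}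
    (hp : p ∈ tau1 M) {P : Subgroup G} (hPM : P ≤ M) (hP : Nat.card P = p) {X : Subgroup G}
    (hX : X ≤ sigmaCore M ⊓ Subgroup.centralizer (P : Set G)) {q : ℕ} [hq : Fact q.Prime]
    (hXq : Nat.card X = q) (S : Sylow q ↥(sigmaCore M)) :
    (Subgroup.centralizer (X : Set G) ≤ M ∧
      ∀ L : Subgroup G, IsCoatom L → Subgroup.centralizer (X : Set G) ≤ L → L = M) ∧
    InUniqueMaximal ((S : Subgroup ↥(sigmaCore M)).map (sigmaCore M).subtype) ∧
      (S : Subgroup ↥(sigmaCore M)).map (sigmaCore M).subtype ≤ M := by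
  haveI := Fact.mk hp.1
  have hXσ : X ≤ sigmaCore M := hX.trans inf_le_left
  have hXM : X ≤ M := hXσ.trans (HallPi.sigmaCore_le M)
  have hqσ : q ∈ sigma M := mem_sigma_of_dvd_sigmaCore hG hM hq.out
    (hXq ▸ Subgroup.card_dvd_of_le hXσ)
  apply S1423.result hG M hM q hqσ X hXM hXq S
  by_cases hβ : q ∈ beta M
  · exact Or.inl hβ
  right
  have hpβ : p ∉ beta M := fun h => hp.2.1 (Sec12_19.mem_sigma_of_mem_beta hG hM h)
  have hXP : X ≤ Subgroup.centralizer (P : Set G) := hX.trans inf_le_right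
  -- a Hall `β(M)'`-subgroup containing `X` and `P`
  obtain ⟨T, hT, hXPT⟩ := HallPi.exists_isPiHallOf_ge (isSolvable hG hM)
    {q | q.Prime ∧ q ∉ beta M} (X := X ⊔ P) (sup_le hXM hPM) (by
      intro r hr hd
      have h1 : Nat.card ↥(X ⊔ P) ∣ Nat.card X * Nat.card P :=
        SigmaCompl809.card_sup_dvd_of_le_normalizer X P
          (hXP.trans (centralizer_le_normalizer P))
      rw [hXq, hP] at h1
      rcases (Nat.Prime.dvd_mul hr).mp (hd.trans h1) with h | h
      · rw [(Nat.prime_dvd_prime_iff_eq hr hq.out).mp h]; exact ⟨hq.out, hβ⟩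
      · rw [(Nat.prime_dvd_prime_iff_eq hr hp.1).mp h]; exact ⟨hp.1, hpβ⟩)
  have hPσ : ∀ r : ℕ, r.Prime → r ∣ Nat.card P → r ∉ sigma M := by
    intro r hr hd
    rw [hP] at hd
    rw [(Nat.prime_dvd_prime_iff_eq hr hp.1).mp hd]; exact hp.2.1
  obtain ⟨E, hE, hET, hPE⟩ := exists_compl_le hG hM hT (le_sup_right.trans hXPT) hPσ
  have hXT : X ≤ T ⊓ sigmaCore M := le_inf (le_sup_left.trans hXPT) hXσ
  have hE' : ⁅E, E⁆ ≤ Subgroup.centralizer (X : Set G) := by
    refine (derived_le_centralizer hG hM hT hET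
      (fun r hr hd => not_mem_sigma_of_dvd hG hM hE hr hd)).trans ?_
    exact Subgroup.centralizer_le hXT
  obtain ⟨E₁, hE₁, hPE₁⟩ := HallPi.exists_isPiHallOf_ge (isSolvable_of_le hG hM hE.1) (tau1 M) hPE
    (by
      intro r hr hd
      rw [hP] at hd
      rw [(Nat.prime_dvd_prime_iff_eq hr hp.1).mp hd]; exact hp)
  have hP1 : P ≠ ⊥ := ne_bot_of_prime (hP ▸ hp.1)
  have hX1 : X ≠ ⊥ := ne_bot_of_prime (hXq ▸ hq.out)
  have hXE₁ : X ≤ sigmaCore M ⊓ Subgroup.centralizer (E₁ : Set G) := by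
    rw [← tau1_primact_subgroup hG hM hE hE₁ hPE₁ hP1]; exact hX
  by_cases h2 : ∃ r, r ∈ tau2 M
  · exfalso
    obtain ⟨r, hr⟩ := h2
    haveI := Fact.mk hr.1
    obtain ⟨A, hAE, hA, hAc⟩ := Tau2Abelian.exists_elemAb_le hG hM hE hr
    have hAn : E ≤ Subgroup.normalizer (A : Set G) :=
      (S1418.result hG M hM E hE r hr A ⟨hAE, hA, hAc⟩).1.1
    have hAdef := Rank.elemAb_def.mp hA
    have hrp : r ≠ p := by
      rintro rfl
      exact tau1_not_tau2 hp hr
    have hcop : (Nat.card P).Coprime (Nat.card A) := by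
      rw [hP, hAc]
      exact Nat.Coprime.pow_right _ ((Nat.coprime_primes hp.1 hr.1).mpr hrp.symm)
    have hsup := Cfsg.Agent.Lib.CoprimeAbelian.sup_commutator_eq P A hAdef.1
      (hPE.trans hAn) hcop
    have hAX : A ≤ Subgroup.centralizer (X : Set G) := by
      rw [← hsup]
      refine sup_le ?_ ((Subgroup.commutator_mono hAE hPE).trans hE')
      rintro a ⟨haA, haP⟩
      by_cases ha1 : a = 1
      · rw [ha1]; exact Subgroup.one_mem _
      have hao : orderOf a = r := orderOf_eq_prime (hAdef.2 a haA) ha1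
      have hRc : (Nat.card (Subgroup.zpowers a)).Prime := by
        rw [Nat.card_zpowers, hao]; exact hr.1
      have hRE : Subgroup.zpowers a ≤ E ⊓ Subgroup.centralizer (P : Set G) := by
        rw [Subgroup.zpowers_le]
        exact ⟨hAE haA, haP⟩
      have h3 := S1428.result hG M hM E hE p hp P hPE hP (Subgroup.zpowers a) hRE hRc
      refine Subgroup.mem_centralizer_iff.mpr ?_
      intro x hx
      exact (Subgroup.mem_centralizer_iff.mp (h3 (hX hx)).2 a (Subgroup.mem_zpowers a)).symm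
    apply hX1
    have h4 := (S1417.result hG M hM r hr A ⟨hAE.trans hE.1, hA, hAc⟩).2.2.2.1
    rw [eq_bot_iff, ← h4]
    refine le_inf hXσ ?_
    rw [Subgroup.le_centralizer_iff]; exact hAX
  · push Not at h2
    obtain ⟨E₃, hE₃⟩ := HallPi.exists_isPiHallOf (isSolvable_of_le hG hM hE.1) (tau3 M)
    have hE₃' := ((S1415.result hG M hM E hE).2.2 E₃ hE₃).2.1
    have h5 := isComplIn_of_tau2 hG hM hE hE₁ hE₃ h2
    refine le_trans ?_ (S1426.result hG M hM E hE).1
    refine le_inf hXσ ?_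
    rw [Subgroup.le_centralizer_iff]
    intro e he
    obtain ⟨a, ha, b, hb, rfl⟩ := h5.2.2.2 e he
    refine Subgroup.mul_mem _ ?_ (hE' (hE₃' hb))
    have h6 : E₁ ≤ Subgroup.centralizer (X : Set G) := by
      rw [Subgroup.le_centralizer_iff]; exact hXE₁.trans inf_le_right
    exact h6 ha

/-- B&G Lemma 13.6, first half (no Sylow subgroup). -/
theorem cent_tau1_uniq' (hG : IsMinSimpleOddOrder G) {M : Subgroup G} (hM : IsCoatom M) {p : ℕ}
    (hp : p ∈ tau1 M) {P : Subgroup G} (hPM : P ≤ M) (hP : Nat.card P = p) {X : Subgroup G}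
    (hX : X ≤ sigmaCore M ⊓ Subgroup.centralizer (P : Set G)) (hXq : (Nat.card X).Prime) :
    (Subgroup.centralizer (X : Set G) ≤ M ∧
      ∀ L : Subgroup G, IsCoatom L → Subgroup.centralizer (X : Set G) ≤ L → L = M) := by
  haveI := Fact.mk hXq
  obtain ⟨S⟩ : Nonempty (Sylow (Nat.card X) ↥(sigmaCore M)) := inferInstance
  exact (cent_tau1_uniq hG hM hp hPM hP hX rfl S).1

end Cfsg.Agent.OddOrderLocal.Sec13C
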