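import Mathlib
import Cfsg.Prelude.Def_OddOrderLocal
import Cfsg.Agent.S1417
import Cfsg.Agent.S1418
import Cfsg.Agent.OddOrderLocal.HallPi
import Cfsg.Agent.OddOrderLocal.Rank
import Cfsg.Agent.OddOrderLocal.MinSimpleBasic
import Cfsg.Agent.OddOrderLocal.SigmaDisjoint
import Cfsg.Agent.OddOrderLocal.Sec12Compl
import Cfsg.Agent.OddOrderLocal.Sec12_2

/-!
B&G Corollary 12.6 (d), (e), (f): when `τ₂(M)` is nonempty, `E₃` and `C_{E₁}(A)` act freely on `M_σ`, and
`σ(M)` is disjoint from `σ(H)` for every maximal `H` not conjugate to `M`.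
-/

set_option autoImplicit false
set_option linter.unusedSectionVars false
set_option linter.style.haveILetI false

namespace Cfsg.Agent.OddOrderLocal.Sec12Tau2

open Cfsg
open Cfsg.Agent.OddOrderLocal
open Cfsg.Agent.OddOrderLocal.Sec12Compl
open scoped commutatorElement

universe u

variable {G : Type u} [Group G] [Finite G]

/-- For `p ∈ τ₂(M)` a complement `E` of `M_σ` contains an elementary abelian subgroup of order `p ^ 2`. -/
theorem exists_elemAb (hG : IsMinSimpleOddOrder G) {M E : Subgroup G} (hM : IsCoatom M)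
    (hE : IsComplIn E (sigmaCore M) M) {p : ℕ} (hp : p ∈ tau2 M) :
    ∃ A : Subgroup G, A ≤ E ∧ IsElementaryAbelian p A ∧ Nat.card A = p ^ 2 := by
  haveI : Fact p.Prime := ⟨hp.1⟩
  obtain ⟨A, hAM, hA, hc⟩ := Rank.exists_elemAb_of_not_pRankLE (k := 1) hp.2.2.2
  obtain ⟨m, hm, hle⟩ := HallPi.exists_conj_le_of_isComplIn
    (MinSimpleBasic.isSolvable_of_isCoatom hG hM) (S1350.result hG M hM).1 hE hAM (by
      intro q hq hd
      rw [hc] at hd
      have := (Nat.prime_dvd_prime_iff_eq hq hp.1).mp (hq.dvd_of_dvd_pow hd)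
      rw [this]; exact hp.2.1)
  refine ⟨_, hle, Rank.elemAb_map _ hA, ?_⟩
  rw [Subgroup.card_map_of_injective (MulAut.conj m).injective, hc]

/-- The key step of B&G 12.6(d)(e). -/
theorem regular_of_centralizes_prime (hG : IsMinSimpleOddOrder G) {M : Subgroup G}
    (hM : IsCoatom M) {p : ℕ} [Fact p.Prime] (hp : p ∈ tau2 M) {A : Subgroup G}
    (hA : A ≤ M ∧ IsElementaryAbelian p A ∧ Nat.card A = p ^ 2) {X : Subgroup G} (hXM : X ≤ M)
    {q : ℕ} [hq : Fact q.Prime] (hX : Nat.card X = q) (hXA : X ≤ Subgroup.centralizer (A : Set G))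
    (hq' : q ∈ tau1 M ∨ q ∈ tau3 M) :
    sigmaCore M ⊓ Subgroup.centralizer (X : Set G) = ⊥ := by
  have hX1 : X ≠ ⊥ := by
    rintro rfl
    rw [Subgroup.card_bot] at hX
    exact hq.out.one_lt.ne hX
  have hXp : IsPGroup q X := IsPGroup.of_card (n := 1) (by rw [hX, pow_one])
  obtain ⟨H, hH, hNH⟩ := MinSimpleBasic.exists_coatom_normalizer_le hG hX1
    (MinSimpleBasic.ne_top_of_isPGroup hG hXp)
  have hnc := Sec12_2.not_conj_of_normalizer_le hG M H hM hH q X hXp hX1 hXM hNH (Or.inr hq')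
  have hne : H ≠ M := by
    intro h
    apply hnc 1
    rw [MinSimpleBasic.map_conj_one, h]
  have hCH : Subgroup.centralizer (X : Set G) ≤ H :=
    (Subgroup.centralizer_le_normalizer _).trans hNH
  have hAX : A ≤ Subgroup.centralizer (X : Set G) := by
    intro a ha
    rw [Subgroup.mem_centralizer_iff]
    intro x hx
    exact (Subgroup.mem_centralizer_iff.mp (hXA hx) a ha).symm
  have h := (S1417.result hG M hM p hp A hA).2.2.2.2.1 H hH hne (hAX.trans hCH)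
  rw [eq_bot_iff, ← h]
  exact inf_le_inf le_rfl hCH

/-- A nontrivial `τ₁ ∪ τ₃`-element of `M` centralizing an elementary abelian subgroup `A` of order `p ^ 2`,
`p ∈ τ₂(M)`, centralizes no nontrivial element of `M_σ`. -/
theorem regular_of_centralizes (hG : IsMinSimpleOddOrder G) {M : Subgroup G}
    (hM : IsCoatom M) {p : ℕ} [Fact p.Prime] (hp : p ∈ tau2 M) {A : Subgroup G}
    (hA : A ≤ M ∧ IsElementaryAbelian p A ∧ Nat.card A = p ^ 2) {x : G} (hxM : x ∈ M)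
    (hx1 : x ≠ 1) (hxA : x ∈ Subgroup.centralizer (A : Set G))
    (hx : ∀ q : ℕ, q.Prime → q ∣ orderOf x → q ∈ tau1 M ∨ q ∈ tau3 M) :
    sigmaCore M ⊓ Subgroup.centralizer ({x} : Set G) = ⊥ := by
  obtain ⟨q, hq, hqd⟩ := Nat.exists_prime_and_dvd (fun h => hx1 (orderOf_eq_one_iff.mp h))
  haveI : Fact q.Prime := ⟨hq⟩
  obtain ⟨n, hn⟩ := hqd
  have hn0 : n ≠ 0 := by
    rintro rfl
    rw [mul_zero] at hn
    exact (orderOf_pos x).ne' hn
  have hy : orderOf (x ^ n) = q := by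
    rw [orderOf_pow' x hn0, hn, Nat.gcd_mul_left_left]
    exact Nat.mul_div_cancel _ (Nat.pos_of_ne_zero hn0)
  have h := regular_of_centralizes_prime hG hM hp hA (X := Subgroup.zpowers (x ^ n)) (q := q)
    (by rw [Subgroup.zpowers_le]; exact pow_mem hxM n) (by rw [Nat.card_zpowers, hy])
    (by rw [Subgroup.zpowers_le]; exact pow_mem hxA n) (hx q hq ⟨n, hn⟩)
  rw [eq_bot_iff, ← h]
  refine inf_le_inf le_rfl ?_
  intro g hg
  rw [Subgroup.mem_centralizer_iff] at hg ⊢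
  rintro _ ⟨k, rfl⟩
  have h1 : x * g = g * x := hg x rfl
  exact ((show Commute x g from h1).pow_left n).zpow_left k

/-- Two subgroups normalized by each other with trivial intersection commute. -/
theorem le_centralizer_of_normal {X Y : Subgroup G} (hX : X ≤ Subgroup.normalizer (Y : Set G))
    (hY : Y ≤ Subgroup.normalizer (X : Set G)) (h : X ⊓ Y = ⊥) :
    X ≤ Subgroup.centralizer (Y : Set G) := by
  intro x hx
  rw [Subgroup.mem_centralizer_iff]
  intro y hy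
  have h1 : y * x * y⁻¹ ∈ X := (Subgroup.mem_normalizer_iff.mp (hY hy) x).mp hx
  have h2 : x * y⁻¹ * x⁻¹ ∈ Y := (Subgroup.mem_normalizer_iff.mp (hX hx) y⁻¹).mp (inv_mem hy)
  have h3 : y * x * y⁻¹ * x⁻¹ ∈ X ⊓ Y := by
    refine Subgroup.mem_inf.mpr ⟨mul_mem h1 (inv_mem hx), ?_⟩
    have : y * x * y⁻¹ * x⁻¹ = y * (x * y⁻¹ * x⁻¹) := by group
    rw [this]
    exact mul_mem hy h2
  rw [h, Subgroup.mem_bot] at h3
  rw [mul_inv_eq_one, mul_inv_eq_iff_eq_mul] at h3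
  exact h3

section

variable {M E E₁ E₂ E₃ : Subgroup G}

/-- `E₃` centralizes every elementary abelian subgroup `A ≤ E` of order `p ^ 2`, `p ∈ τ₂(M)`. -/
theorem E3_le_centralizer (hG : IsMinSimpleOddOrder G) (hM : IsCoatom M)
    (h : SigmaCompl M E E₁ E₂ E₃) {p : ℕ} [Fact p.Prime] (hp : p ∈ tau2 M) {A : Subgroup G}
    (hA : A ≤ E ∧ IsElementaryAbelian p A ∧ Nat.card A = p ^ 2) :
    E₃ ≤ Subgroup.centralizer (A : Set G) := by
  apply le_centralizer_of_normal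
  · exact h.hall3.1.trans (S1418.result hG M hM E h.compl p hp A hA).1.1
  · exact hA.1.trans (E3_normal hG hM h)
  · apply HallPi.inf_eq_bot_of_pi h.hall3.2.1
    intro q hq hd
    rw [hA.2.2] at hd
    have := (Nat.prime_dvd_prime_iff_eq hq (Fact.out : p.Prime)).mp (hq.dvd_of_dvd_pow hd)
    rw [this]; exact tau2_tau3_disjoint hp

/-- B&G 12.6(d): `E₃` acts freely on `M_σ` when `τ₂(M)` is nonempty. -/
theorem tau2_regular3 (hG : IsMinSimpleOddOrder G) (hM : IsCoatom M)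
    (h : SigmaCompl M E E₁ E₂ E₃) {p : ℕ} (hp : p ∈ tau2 M) {x : G} (hx : x ∈ E₃) (hx1 : x ≠ 1) :
    sigmaCore M ⊓ Subgroup.centralizer ({x} : Set G) = ⊥ := by
  haveI : Fact p.Prime := ⟨hp.1⟩
  obtain ⟨A, hA⟩ := exists_elemAb hG hM h.compl hp
  refine regular_of_centralizes hG hM hp ⟨hA.1.trans h.compl.1, hA.2⟩
    (h.compl.1 (h.hall3.1 hx)) hx1 (E3_le_centralizer hG hM h hp hA hx) ?_
  intro q hq hd
  exact Or.inr (h.hall3.2.1 q hq (hd.trans (HallPi.orderOf_dvd_card_of_mem hx)))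

/-- B&G 12.6(e): `C_{E₁}(A)` acts freely on `M_σ`. -/
theorem tau2_regular1 (hG : IsMinSimpleOddOrder G) (hM : IsCoatom M)
    (h : SigmaCompl M E E₁ E₂ E₃) {p : ℕ} [Fact p.Prime] (hp : p ∈ tau2 M) {A : Subgroup G}
    (hA : A ≤ E ∧ IsElementaryAbelian p A ∧ Nat.card A = p ^ 2) {x : G} (hx : x ∈ E₁)
    (hxA : x ∈ Subgroup.centralizer (A : Set G)) (hx1 : x ≠ 1) :
    sigmaCore M ⊓ Subgroup.centralizer ({x} : Set G) = ⊥ := by
  refine regular_of_centralizes hG hM hp ⟨hA.1.trans h.compl.1, hA.2⟩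
    (h.compl.1 (h.hall1.1 hx)) hx1 hxA ?_
  intro q hq hd
  exact Or.inl (h.hall1.2.1 q hq (hd.trans (HallPi.orderOf_dvd_card_of_mem hx)))

/-- `A ≤ E₂` for every elementary abelian `A ≤ E` of order `p ^ 2`, `p ∈ τ₂(M)`. -/
theorem le_E2 (hG : IsMinSimpleOddOrder G) (hM : IsCoatom M)
    (h : SigmaCompl M E E₁ E₂ E₃) {p : ℕ} [Fact p.Prime] (hp : p ∈ tau2 M) {A : Subgroup G}
    (hA : A ≤ E ∧ IsElementaryAbelian p A ∧ Nat.card A = p ^ 2) : A ≤ E₂ := by
  apply normal_le_of_isPiHallOf h.hall2 hA.1 (S1418.result hG M hM E h.compl p hp A hA).1.1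
  intro q hq hd
  rw [hA.2.2] at hd
  have := (Nat.prime_dvd_prime_iff_eq hq (Fact.out : p.Prime)).mp (hq.dvd_of_dvd_pow hd)
  rw [this]; exact hp

end

/-- B&G 12.6(f): for a maximal subgroup `H` not conjugate to `M`, with `τ₂(M)` nonempty, `σ(M)` and
`σ(H)` are disjoint and `M_σ ∩ H_σ = 1`. -/
theorem sigma_disjoint_of_tau2 (hG : IsMinSimpleOddOrder G) {M H : Subgroup G}
    (hM : IsCoatom M) (hH : IsCoatom H) {p : ℕ} (hp : p ∈ tau2 M)
    (hnc : ∀ g : G, H ≠ M.map (MulAut.conj g).toMonoidHom) :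
    sigmaCore M ⊓ sigmaCore H = ⊥ ∧ ∀ q : ℕ, q ∈ sigma M → q ∉ sigma H := by
  haveI : Fact p.Prime := ⟨hp.1⟩
  obtain ⟨A, hAM, hA⟩ := Rank.exists_elemAb_of_not_pRankLE (k := 1) hp.2.2.2
  have hnil := (S1417.result hG M hM p hp A ⟨hAM, hA⟩).1
  have hdisj : ∀ q : ℕ, q ∈ sigma M → q ∉ sigma H := fun q hq =>
    SigmaDisjoint.sigma_disjoint_of_nilpotent hG hM hH hnc hnil hq
  refine ⟨?_, hdisj⟩
  apply HallPi.inf_eq_bot_of_pi (S1350.result hG M hM).1.2.1
  intro q hq hd hqM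
  exact hdisj q hqM ((S1350.result hG H hH).1.2.1 q hq hd)

end Cfsg.Agent.OddOrderLocal.Sec12Tau2
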