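import Mathlib
import Cfsg.Prelude.Def_OddOrderLocal
import Cfsg.Agent.Lib.CoprimeCommutator
import Cfsg.Agent.Lib.CoprimeAbelian
import Cfsg.Agent.OddOrderLocal.FpfSolvable
import Cfsg.Agent.OddOrderLocal.OmegaCritical
import Cfsg.Agent.OddOrderLocal.FittingHall
import Cfsg.Agent.SignalizersComponents.CoprimeBasic

/-!
A group `P = ⟨a⟩` of prime order `p` acts on a `q`-group `Q` without fixed points, and `PQ` acts on an
`r`-group `R` (`p, q, r` distinct, `r` odd).  If `C_R(P)` and `C_R(Q)` are cyclic and meet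
nontrivially, then `Q` centralizes `R`.
-/

set_option autoImplicit false

namespace Cfsg.Agent.OddOrderLocal.FrobOnRGroup

open Cfsg.Agent.OddOrderLocal
open scoped commutatorElement

theorem mem_sup_iff {G : Type*} [Group G] {T Q : Subgroup G}
    (hQT : Q ≤ Subgroup.normalizer (T : Set G)) {x : G} :
    x ∈ T ⊔ Q ↔ ∃ t ∈ T, ∃ y ∈ Q, x = t * y := by
  constructor
  · intro hx
    let S : Subgroup G :=
      { carrier := {x | ∃ t ∈ T, ∃ y ∈ Q, x = t * y}
        one_mem' := ⟨1, T.one_mem, 1, Q.one_mem, by simp⟩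
        mul_mem' := by
          rintro _ _ ⟨t, ht, y, hy, rfl⟩ ⟨t', ht', y', hy', rfl⟩
          refine ⟨t * (y * t' * y⁻¹), T.mul_mem ht ((Subgroup.mem_normalizer_iff.mp (hQT hy) t').mp ht'),
            y * y', Q.mul_mem hy hy', by group⟩
        inv_mem' := by
          rintro _ ⟨t, ht, y, hy, rfl⟩
          refine ⟨y⁻¹ * t⁻¹ * y, ?_, y⁻¹, Q.inv_mem hy, by group⟩
          have := (Subgroup.mem_normalizer_iff.mp (hQT (Q.inv_mem hy)) t⁻¹).mp (T.inv_mem ht)
          simpa using this }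
    have hT : T ≤ S := fun t ht => ⟨t, ht, 1, Q.one_mem, by simp⟩
    have hQ : Q ≤ S := fun y hy => ⟨1, T.one_mem, y, hy, by simp⟩
    exact (sup_le hT hQ) hx
  · rintro ⟨t, ht, y, hy, rfl⟩
    exact Subgroup.mul_mem_sup ht hy

theorem conj_mem {G : Type*} [Group G] {T : Subgroup G} {a t : G}
    (ha : a ∈ Subgroup.normalizer (T : Set G)) (ht : t ∈ T) : a * t * a⁻¹ ∈ T :=
  (Subgroup.mem_normalizer_iff.mp ha t).mp ht

theorem conj_mem' {G : Type*} [Group G] {T : Subgroup G} {a t : G}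
    (ha : a ∈ Subgroup.normalizer (T : Set G)) (ht : t ∈ T) : a⁻¹ * t * a ∈ T := by
  have := conj_mem (inv_mem ha) ht
  simpa using this

theorem mem_normalizer_sup {G : Type*} [Group G] {T Q : Subgroup G} {a : G}
    (haT : a ∈ Subgroup.normalizer (T : Set G)) (haQ : a ∈ Subgroup.normalizer (Q : Set G)) :
    a ∈ Subgroup.normalizer ((T ⊔ Q : Subgroup G) : Set G) := by
  have key : ∀ b : G, b ∈ Subgroup.normalizer (T : Set G) → b ∈ Subgroup.normalizer (Q : Set G) →
      T ⊔ Q ≤ (T ⊔ Q).comap (MulAut.conj b).toMonoidHom := by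
    intro b hbT hbQ
    apply sup_le
    · intro t ht
      exact Subgroup.mem_sup_left (conj_mem hbT ht)
    · intro t ht
      exact Subgroup.mem_sup_right (conj_mem hbQ ht)
  rw [Subgroup.mem_normalizer_iff]
  intro x
  constructor
  · intro hx
    exact key a haT haQ hx
  · intro hx
    have := key a⁻¹ (inv_mem haT) (inv_mem haQ) hx
    rw [Subgroup.mem_comap] at this
    simpa [MulAut.conj_apply, mul_assoc] using this

/-- If `a` (with `a ^ p = 1`) acts without fixed points on `T` and on `Q`, `Q` normalizes `T`, the orders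
of `T` and `Q` are coprime and `TQ` is solvable, then `Q` centralizes `T`. -/
theorem le_centralizer_of_fpf {G : Type*} [Group G] [Finite G] (T Q : Subgroup G)
    (hcop : (Nat.card T).Coprime (Nat.card Q)) (hQT : Q ≤ Subgroup.normalizer (T : Set G))
    (hsol : Group.IsSolvable ↥(T ⊔ Q)) (a : G) (haT : a ∈ Subgroup.normalizer (T : Set G))
    (haQ : a ∈ Subgroup.normalizer (Q : Set G)) {p : ℕ} (hp : p.Prime) (hap : a ^ p = 1)
    (hfT : ∀ t ∈ T, a * t = t * a → t = 1) (hfQ : ∀ y ∈ Q, a * y = y * a → y = 1) :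
    Q ≤ Subgroup.centralizer (T : Set G) := by
  have hdisj : T ⊓ Q = ⊥ := disjoint_iff.mp (Subgroup.disjoint_of_coprime_natCard hcop)
  have hnil : Group.IsNilpotent ↥(T ⊔ Q) := by
    refine FpfSolvable.isNilpotent_of_fpf_elem (T ⊔ Q) hsol a (mem_normalizer_sup haT haQ) hp hap ?_
    intro k hk hak
    obtain ⟨t, ht, y, hy, rfl⟩ := (mem_sup_iff hQT).mp hk
    have h1 : a * t * a⁻¹ ∈ T := conj_mem haT ht
    have h2 : a * y * a⁻¹ ∈ Q := conj_mem haQ hy
    have h3 : t⁻¹ * (a * t * a⁻¹) = y * (a * y * a⁻¹)⁻¹ := by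
      have h4 : a * (t * y) * a⁻¹ = t * y := by rw [hak]; group
      have h5 : (a * t * a⁻¹) * (a * y * a⁻¹) = t * y := by rw [← h4]; group
      rw [eq_mul_inv_iff_mul_eq, mul_assoc, h5]
      group
    have h6 : y * (a * y * a⁻¹)⁻¹ ∈ T ⊓ Q :=
      ⟨h3 ▸ T.mul_mem (T.inv_mem ht) h1, Q.mul_mem hy (Q.inv_mem h2)⟩
    rw [hdisj, Subgroup.mem_bot] at h6
    have hy1 : y = 1 := by
      apply hfQ y hy
      rw [mul_inv_eq_one] at h6
      rw [eq_comm]
      exact eq_mul_inv_iff_mul_eq.mp h6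
    subst hy1
    rw [mul_one] at hak ⊢
    exact hfT t ht hak
  exact FittingHall.le_centralizer_of_coprime hnil le_sup_right le_sup_left hcop.symm

/-- In a finite cyclic group (given as a subgroup `C`), an element `x` of prime order `r` lies in every
nontrivial `r`-subgroup. -/
theorem mem_of_isCyclic {G : Type*} [Group G] [Finite G] {r : ℕ} [hr : Fact r.Prime] {C T : Subgroup G}
    (hC : IsCyclic C) {x : G} (hx : x ∈ C) (hxr : orderOf x = r) (hTC : T ≤ C) (hT : IsPGroup r T)
    (hT1 : T ≠ ⊥) : x ∈ T := by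
  classical
  have := Fintype.ofFinite C
  have hrT : r ∣ Nat.card T := by
    obtain ⟨n, hn⟩ := IsPGroup.iff_card.mp hT
    rcases n with _ | n
    · exact absurd (Subgroup.card_eq_one.mp (by simpa using hn)) hT1
    · rw [hn]; exact dvd_pow_self r (Nat.succ_ne_zero n)
  obtain ⟨y, hy⟩ := exists_prime_orderOf_dvd_card' r hrT
  -- `⟨x⟩` and `⟨y⟩` are subgroups of order `r` of the cyclic group `C`
  have h1 := IsCyclic.card_pow_eq_one_le (α := C) hr.out.pos
  have hsub : ∀ z : C, orderOf z = r → ∀ w : C, w ^ r = 1 → w ∈ Subgroup.zpowers z := by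
    intro z hz w hw
    have h2 : (Subgroup.zpowers z : Set C).toFinset ⊆ Finset.univ.filter (fun a : C => a ^ r = 1) := by
      intro b hb
      rw [Set.mem_toFinset] at hb
      obtain ⟨k, rfl⟩ := hb
      rw [Finset.mem_filter]
      refine ⟨Finset.mem_univ _, ?_⟩
      simp only
      rw [← zpow_natCast, ← zpow_mul, mul_comm, zpow_mul, zpow_natCast, ← hz, pow_orderOf_eq_one,
        one_zpow]
    have h3 : (Finset.univ.filter (fun a : C => a ^ r = 1)).card ≤
        ((Subgroup.zpowers z : Set C).toFinset).card := by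
      refine h1.trans ?_
      rw [Set.toFinset_card, ← Nat.card_eq_fintype_card]
      have : Nat.card (Subgroup.zpowers z : Set C) = r := by
        rw [← hz, ← Nat.card_zpowers]
        rfl
      rw [this]
    have h4 := Finset.eq_of_subset_of_card_le h2 h3
    have h5 : w ∈ Finset.univ.filter (fun a : C => a ^ r = 1) := by
      rw [Finset.mem_filter]; exact ⟨Finset.mem_univ _, hw⟩
    rw [← h4, Set.mem_toFinset] at h5
    exact h5
  have hyC : orderOf (⟨(y : G), hTC y.2⟩ : C) = r := by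
    rw [Subgroup.orderOf_mk, Subgroup.orderOf_coe, hy]
  have hxC : (⟨x, hx⟩ : C) ^ r = 1 := by
    apply Subtype.ext
    rw [← hxr]
    exact pow_orderOf_eq_one x
  obtain ⟨k, hk⟩ := hsub _ hyC _ hxC
  have h6 : (y : G) ^ k = x := congrArg Subtype.val hk
  rw [← h6]
  exact T.zpow_mem y.2 k

theorem isSolvable_of_isPGroup {G : Type*} [Group G] [Finite G] {r : ℕ} [Fact r.Prime]
    (hG : IsPGroup r G) : Group.IsSolvable G := by
  have := hG.isNilpotent
  infer_instance

/-- Detecting a coprime action on the characteristic subgroup of exponent `r`: there is a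
characteristic subgroup of exponent dividing `r` of `R` such that `Q` centralizes `R` as soon as it
centralizes this subgroup. -/
theorem exists_char_exponent {G : Type*} [Group G] [Finite G] {q r : ℕ} [Fact q.Prime]
    [Fact r.Prime] (hqr : q ≠ r) (hr2 : r ≠ 2) (R Q : Subgroup G) (hR : IsPGroup r R)
    (hQ : IsPGroup q Q) (hQR : Q ≤ Subgroup.normalizer (R : Set G)) :
    ∃ T : Subgroup G, T ≤ R ∧ (∀ x ∈ T, x ^ r = 1) ∧
      Subgroup.normalizer (R : Set G) ≤ Subgroup.normalizer (T : Set G) ∧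
      (Q ≤ Subgroup.centralizer (T : Set G) → Q ≤ Subgroup.centralizer (R : Set G)) := by
  obtain ⟨H, hHc, hHr, -, hH⟩ := OmegaCritical.exists_omega_critical hr2 hR
  refine ⟨H.map R.subtype, Subgroup.map_subtype_le _, ?_, FittingHall.normalizer_le_normalizer_map R H hHc, ?_⟩
  · rintro _ ⟨x, hx, rfl⟩
    have := hHr x hx
    simpa using congrArg R.subtype this
  · intro h y hy
    have hyN := hQR hy
    have h1 : R.normalizerMonoidHom ⟨y, hyN⟩ = 1 := by
      apply hH
      · obtain ⟨k, hk⟩ := hQ ⟨y, hy⟩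
        have hk1 : y ^ q ^ k = 1 := congrArg (Subtype.val : Q → G) hk
        have hk' : (⟨y, hyN⟩ : Subgroup.normalizer (R : Set G)) ^ q ^ k = 1 :=
          Subtype.ext hk1
        have h2 : orderOf (R.normalizerMonoidHom ⟨y, hyN⟩) ∣ q ^ k := by
          apply orderOf_dvd_of_pow_eq_one
          rw [← map_pow, hk', map_one]
        apply Nat.Coprime.coprime_dvd_left h2
        exact Nat.Coprime.pow_left k ((Nat.coprime_primes Fact.out Fact.out).mpr hqr)
      · intro x hx
        apply Subtype.ext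
        have h2 := Subgroup.mem_centralizer_iff.mp (h hy) (x : G) ⟨x, hx, rfl⟩
        show y * (x : G) * y⁻¹ = x
        rw [← h2]; group
    rw [Subgroup.mem_centralizer_iff]
    intro x hx
    have h2 : R.normalizerMonoidHom ⟨y, hyN⟩ ⟨x, hx⟩ = ⟨x, hx⟩ := by rw [h1]; rfl
    have h3 : y * x * y⁻¹ = x := congrArg Subtype.val h2
    rw [mul_inv_eq_iff_eq_mul] at h3
    exact h3.symm

theorem coprime_of_isPGroup {G : Type*} [Group G] [Finite G] {q r : ℕ} [Fact q.Prime]
    [Fact r.Prime] (hqr : q ≠ r) {Q R : Subgroup G} (hQ : IsPGroup q Q) (hR : IsPGroup r R) :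
    (Nat.card Q).Coprime (Nat.card R) := by
  obtain ⟨n, hn⟩ := IsPGroup.iff_card.mp hQ
  obtain ⟨m, hm⟩ := IsPGroup.iff_card.mp hR
  rw [hn, hm]
  exact Nat.Coprime.pow n m ((Nat.coprime_primes Fact.out Fact.out).mpr hqr)

/-- The core lemma: an element `a` with `a ^ p = 1` acts without fixed points on the `q`-group `Q`, and
`⟨a⟩Q` acts on the `r`-group `R`.  If `C_R(a)` and `C_R(Q)` are cyclic and have a common nontrivial
element then `Q` centralizes `R`. -/
theorem le_centralizer_of_cyclic {G : Type*} [Group G] [Finite G] {p q r : ℕ} [hp : Fact p.Prime]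
    [Fact q.Prime] [hrp : Fact r.Prime] (hqr : q ≠ r) (hpr : p ≠ r) (hr2 : r ≠ 2)
    (a : G) (hap : a ^ p = 1) (Q R : Subgroup G) (hQ : IsPGroup q Q) (hR : IsPGroup r R)
    (haQ : a ∈ Subgroup.normalizer (Q : Set G)) (haR : a ∈ Subgroup.normalizer (R : Set G))
    (hQR : Q ≤ Subgroup.normalizer (R : Set G)) (hfQ : ∀ y ∈ Q, a * y = y * a → y = 1)
    (hCa : IsCyclic ↥(R ⊓ Subgroup.centralizer ({a} : Set G)))
    (hCQ : IsCyclic ↥(R ⊓ Subgroup.centralizer (Q : Set G)))
    (hne : R ⊓ Subgroup.centralizer ({a} : Set G) ⊓ Subgroup.centralizer (Q : Set G) ≠ ⊥) :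
    Q ≤ Subgroup.centralizer (R : Set G) := by
  by_contra hcon
  -- an element of order `r` of `C_R(a) ∩ C_R(Q)`
  set D := R ⊓ Subgroup.centralizer ({a} : Set G) ⊓ Subgroup.centralizer (Q : Set G) with hD
  have hDr : IsPGroup r D := hR.to_le (inf_le_left.trans inf_le_left)
  have hrD : r ∣ Nat.card D := by
    obtain ⟨n, hn⟩ := IsPGroup.iff_card.mp hDr
    rcases n with _ | n
    · exact absurd (Subgroup.card_eq_one.mp (by simpa using hn)) hne
    · rw [hn]; exact dvd_pow_self r (Nat.succ_ne_zero n)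
  obtain ⟨x0, hx0⟩ := exists_prime_orderOf_dvd_card' r hrD
  obtain ⟨x, hxD⟩ := x0
  have hxr : orderOf x = r := by rwa [Subgroup.orderOf_mk] at hx0
  have hxa : x ∈ R ⊓ Subgroup.centralizer ({a} : Set G) := hxD.1
  have hxQ : x ∈ R ⊓ Subgroup.centralizer (Q : Set G) := ⟨hxD.1.1, hxD.2⟩
  -- the characteristic subgroup of exponent `r`
  obtain ⟨T, hTR, hTr, hTn, hTQ⟩ := exists_char_exponent hqr hr2 R Q hR hQ hQR
  have hTcon : ¬ Q ≤ Subgroup.centralizer (T : Set G) := fun h => hcon (hTQ h)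
  have haT : a ∈ Subgroup.normalizer (T : Set G) := hTn haR
  have hQT : Q ≤ Subgroup.normalizer (T : Set G) := hQR.trans hTn
  have hTp : IsPGroup r T := hR.to_le hTR
  -- its centre
  set Z := T ⊓ Subgroup.centralizer (T : Set G) with hZ
  have hNZ : Subgroup.normalizer (T : Set G) ≤ Subgroup.normalizer (Z : Set G) := by
    rw [Subgroup.le_normalizer_iff]
    rintro b hb z ⟨hz1, hz2⟩
    refine ⟨conj_mem hb hz1, ?_⟩
    show _ ∈ Subgroup.centralizer (T : Set G)
    rw [Subgroup.mem_centralizer_iff]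
    intro t ht
    have h1 := Subgroup.mem_centralizer_iff.mp hz2 (b⁻¹ * t * b) (conj_mem' hb ht)
    calc t * (b * z * b⁻¹) = b * ((b⁻¹ * t * b) * z) * b⁻¹ := by group
      _ = b * (z * (b⁻¹ * t * b)) * b⁻¹ := by rw [h1]
      _ = b * z * b⁻¹ * t := by group
  have hZT : Z ≤ T := inf_le_left
  have hZp : IsPGroup r Z := hTp.to_le hZT
  have hZc : ∀ u ∈ Z, ∀ v ∈ Z, u * v = v * u := fun u hu v hv =>
    (Subgroup.mem_centralizer_iff.mp hv.2 u hu.1)
  have haZ : a ∈ Subgroup.normalizer (Z : Set G) := hNZ haT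
  have hQZn : Q ≤ Subgroup.normalizer (Z : Set G) := hQT.trans hNZ
  have hcopZ : (Nat.card Q).Coprime (Nat.card Z) := coprime_of_isPGroup hqr hQ hZp
  have hap' : IsPGroup p (Subgroup.zpowers a) := by
    intro ⟨b, hb⟩
    obtain ⟨k, rfl⟩ := hb
    refine ⟨1, Subtype.ext ?_⟩
    show (a ^ k) ^ (p ^ 1) = 1
    rw [pow_one, ← zpow_natCast, ← zpow_mul, mul_comm, zpow_mul, zpow_natCast, hap, one_zpow]
  -- `Q` centralizes the centre `Z` of `T`
  have hQZ : Q ≤ Subgroup.centralizer (Z : Set G) := by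
    by_contra hQZ
    have h1 : ¬ Q ≤ Subgroup.centralizer ((⁅Z, Q⁆ : Subgroup G) : Set G) := fun h =>
      hQZ (Lib.CoprimeCommutator.le_centralizer_of_commutator Q Z hQZn hcopZ h)
    have hZQ : ⁅Z, Q⁆ ≤ Z := Lib.CoprimeCommutator.commutator_le_left hQZn
    have hZQp : IsPGroup r ↥⁅Z, Q⁆ := hZp.to_le hZQ
    have haZQ : a ∈ Subgroup.normalizer ((⁅Z, Q⁆ : Subgroup G) : Set G) := by
      have key : ∀ b : G, b ∈ Subgroup.normalizer (Z : Set G) → b ∈ Subgroup.normalizer (Q : Set G) →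
          ⁅Z, Q⁆ ≤ (⁅Z, Q⁆).comap (MulAut.conj b).toMonoidHom := by
        intro b hbZ hbQ
        rw [Subgroup.commutator_le]
        intro z hz y hy
        rw [Subgroup.mem_comap, map_commutatorElement]
        exact Subgroup.commutator_mem_commutator (conj_mem hbZ hz) (conj_mem hbQ hy)
      rw [Subgroup.mem_normalizer_iff]
      intro u
      constructor
      · intro hu
        exact key a haZ haQ hu
      · intro hu
        have := key a⁻¹ (inv_mem haZ) (inv_mem haQ) hu
        rw [Subgroup.mem_comap] at this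
        simpa [MulAut.conj_apply, mul_assoc] using this
    have h2 : (⁅Z, Q⁆ : Subgroup G) ⊓ Subgroup.centralizer ({a} : Set G) ≠ ⊥ := by
      intro hbot
      apply h1
      refine le_centralizer_of_fpf ⁅Z, Q⁆ Q (coprime_of_isPGroup hqr.symm hZQp hQ)
        (Lib.CoprimeCommutator.right_le_normalizer_commutator Z Q) ?_ a haZQ haQ hp.out hap ?_ hfQ
      · exact SignalizersComponents.CoprimeBasic.isSolvable_sup
          (Lib.CoprimeCommutator.right_le_normalizer_commutator Z Q)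
          (isSolvable_of_isPGroup hZQp) (isSolvable_of_isPGroup hQ)
      · intro t ht hat
        have : t ∈ (⁅Z, Q⁆ : Subgroup G) ⊓ Subgroup.centralizer ({a} : Set G) :=
          ⟨ht, Subgroup.mem_centralizer_singleton_iff.mpr hat.symm⟩
        rwa [hbot, Subgroup.mem_bot] at this
    have h3 : x ∈ (⁅Z, Q⁆ : Subgroup G) ⊓ Subgroup.centralizer ({a} : Set G) :=
      mem_of_isCyclic hCa hxa hxr
        (le_inf ((inf_le_left.trans hZQ).trans (hZT.trans hTR)) inf_le_right)
        (hZQp.to_le inf_le_left) h2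
    have h4 := Lib.CoprimeAbelian.inf_commutator_eq_bot Q Z hZc hQZn hcopZ
    have h5 : x ∈ Z ⊓ Subgroup.centralizer (Q : Set G) ⊓ ⁅Z, Q⁆ := ⟨⟨hZQ h3.1, hxQ.2⟩, h3.1⟩
    rw [h4, Subgroup.mem_bot] at h5
    rw [h5, orderOf_one] at hxr
    exact hrp.out.one_lt.ne hxr
  -- so `x ∈ Z`
  have hT1 : T ≠ ⊥ := by
    intro h
    apply hTcon
    rw [h]
    intro y _
    rw [Subgroup.mem_centralizer_iff]
    intro t ht
    rw [Subgroup.coe_bot, Set.mem_singleton_iff] at ht
    rw [ht]; simp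
  have hZ1 : Z ≠ ⊥ := by
    have hTnt : Nontrivial T := by rwa [Subgroup.nontrivial_iff_ne_bot]
    have h1 := hTp.center_nontrivial
    obtain ⟨z, hz⟩ := exists_ne (1 : Subgroup.center T)
    intro h
    apply hz
    apply Subtype.ext
    apply Subtype.ext
    have h2 : ((z : T) : G) ∈ Z := by
      refine ⟨(z : T).2, ?_⟩
      show _ ∈ Subgroup.centralizer (T : Set G)
      rw [Subgroup.mem_centralizer_iff]
      intro t ht
      exact congrArg Subtype.val (Subgroup.mem_center_iff.mp z.2 ⟨t, ht⟩)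
    rw [h, Subgroup.mem_bot] at h2
    exact h2
  have hxZ : x ∈ Z := mem_of_isCyclic hCQ hxQ hxr
    (le_inf (hZT.trans hTR) (by
      intro z hz
      rw [Subgroup.mem_centralizer_iff]
      intro y hy
      exact (Subgroup.mem_centralizer_iff.mp (hQZ hy) z hz).symm)) hZp hZ1
  -- and `C_T(a) ≤ Z`
  have hCT : ∀ t ∈ T, a * t = t * a → t ∈ Z := by
    intro t ht hat
    by_cases ht1 : t = 1
    · rw [ht1]; exact Z.one_mem
    have htr : orderOf t = r := orderOf_eq_prime (hTr t ht) ht1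
    have h1 : t ∈ Subgroup.zpowers x :=
      mem_of_isCyclic hCa (x := t) ⟨hTR ht, Subgroup.mem_centralizer_singleton_iff.mpr hat.symm⟩ htr
        (by rw [Subgroup.zpowers_le]; exact hxa) (hR.to_le (by rw [Subgroup.zpowers_le]; exact hxa.1))
        (by
          rw [Ne, Subgroup.zpowers_eq_bot]
          intro h
          rw [h, orderOf_one] at hxr
          exact hrp.out.one_lt.ne hxr)
    exact (Subgroup.zpowers_le.mpr hxZ) h1
  -- pass to `N_G(Z)/Z`
  let W : Subgroup G := Subgroup.normalizer (Z : Set G)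
  let Z' : Subgroup W := Z.subgroupOf W
  have hZ'n : Z'.Normal := Subgroup.normal_in_normalizer
  let π : W →* W ⧸ Z' := QuotientGroup.mk' Z'
  have hTW : T ≤ W := Subgroup.le_normalizer.trans hNZ
  have hπ : ∀ w : W, π w = 1 ↔ (w : G) ∈ Z := fun w => by
    rw [QuotientGroup.mk'_apply, QuotientGroup.eq_one_iff]; exact Iff.rfl
  have hrZ : ¬ p ∣ Nat.card Z := by
    intro h
    obtain ⟨n, hn⟩ := IsPGroup.iff_card.mp hZp
    rw [hn] at h
    exact hpr ((Nat.prime_dvd_prime_iff_eq hp.out hrp.out).mp (hp.out.dvd_of_dvd_pow h))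
  have hcopTQ := coprime_of_isPGroup hqr.symm hTp hQ
  have hmain : (Q.subgroupOf W).map π ≤ Subgroup.centralizer (((T.subgroupOf W).map π : Subgroup (W ⧸ Z')) : Set (W ⧸ Z')) := by
    have hTb : IsPGroup r ↥((T.subgroupOf W).map π) :=
      (hTp.of_injective (Subgroup.subgroupOfEquivOfLe hTW).toMonoidHom
        (Subgroup.subgroupOfEquivOfLe hTW).injective).map π
    have hQb : IsPGroup q ↥((Q.subgroupOf W).map π) :=
      (hQ.of_injective (Subgroup.subgroupOfEquivOfLe hQZn).toMonoidHom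
        (Subgroup.subgroupOfEquivOfLe hQZn).injective).map π
    have hconj : ∀ (b : G) (hb : b ∈ W) (L : Subgroup G), b ∈ Subgroup.normalizer (L : Set G) →
        π ⟨b, hb⟩ ∈ Subgroup.normalizer (((L.subgroupOf W).map π : Subgroup (W ⧸ Z')) : Set (W ⧸ Z')) := by
      intro b hb L hbL
      have key : ∀ (b : G) (hb : b ∈ W), b ∈ Subgroup.normalizer (L : Set G) →
          ∀ u ∈ (L.subgroupOf W).map π, π ⟨b, hb⟩ * u * (π ⟨b, hb⟩)⁻¹ ∈ (L.subgroupOf W).map π := by
        rintro b hb hbL _ ⟨l, hl, rfl⟩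
        refine ⟨⟨b, hb⟩ * l * ⟨b, hb⟩⁻¹, ?_, by simp⟩
        show b * (l : G) * b⁻¹ ∈ L
        exact conj_mem hbL hl
      rw [Subgroup.mem_normalizer_iff]
      intro u
      constructor
      · exact key b hb hbL u
      · intro hu
        have h1 := key b⁻¹ (inv_mem hb) (inv_mem hbL) _ hu
        have h2 : π ⟨b⁻¹, inv_mem hb⟩ = (π ⟨b, hb⟩)⁻¹ := by
          rw [← map_inv]; rfl
        rw [h2] at h1
        simpa [mul_assoc] using h1
    have hQTb : (Q.subgroupOf W).map π ≤
        Subgroup.normalizer (((T.subgroupOf W).map π : Subgroup (W ⧸ Z')) : Set (W ⧸ Z')) := by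
      rintro _ ⟨y, hy, rfl⟩
      exact hconj y y.2 T (hQT hy)
    refine le_centralizer_of_fpf _ _ (coprime_of_isPGroup hqr.symm hTb hQb) hQTb ?_ (π ⟨a, haZ⟩)
      (hconj a haZ T haT) (hconj a haZ Q haQ) hp.out ?_ ?_ ?_
    · exact SignalizersComponents.CoprimeBasic.isSolvable_sup hQTb
        (isSolvable_of_isPGroup hTb) (isSolvable_of_isPGroup hQb)
    · rw [← map_pow]
      have : (⟨a, haZ⟩ : W) ^ p = 1 := Subtype.ext hap
      rw [this, map_one]
    · rintro _ ⟨t, ht, rfl⟩ hat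
      rw [hπ]
      have ht' : (t : G) ∈ T := ht
      -- the coset `t Z` is fixed by `a`
      obtain ⟨c, hc, htc⟩ := Lib.CoprimeCommutator.exists_fixed_in_coset p (Subgroup.zpowers a) Z hap'
        (by rw [Subgroup.zpowers_le]; exact haZ) hrZ (t : G) (by
          intro b hb
          obtain ⟨k, rfl⟩ := hb
          have h1 : π ⟨a, haZ⟩ ^ k * π t = π t * π ⟨a, haZ⟩ ^ k :=
            (Commute.zpow_left hat k)
          have h2 : π (t⁻¹ * ((⟨a, haZ⟩ : W) ^ k * t * ((⟨a, haZ⟩ : W) ^ k)⁻¹)) = 1 := by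
            rw [map_mul, map_mul, map_mul, map_inv, map_inv, map_zpow, h1]
            group
          rw [hπ] at h2
          simpa using h2)
      have hcT : c ∈ T := by
        have : (t : G) * ((t : G)⁻¹ * c) ∈ T := T.mul_mem ht' (hZT htc)
        simpa using this
      have hca : a * c = c * a :=
        Subgroup.mem_centralizer_iff.mp hc a (Subgroup.mem_zpowers a)
      have hcZ := hCT c hcT hca
      have : (c : G) * ((t : G)⁻¹ * c)⁻¹ ∈ Z := Z.mul_mem hcZ (Z.inv_mem htc)
      simpa using this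
    · rintro _ ⟨y, hy, rfl⟩ hay
      rw [hπ]
      have hy' : (y : G) ∈ Q := hy
      have h1 : π (y⁻¹ * ((⟨a, haZ⟩ : W) * y * (⟨a, haZ⟩ : W)⁻¹)) = 1 := by
        rw [map_mul, map_mul, map_mul, map_inv, map_inv, hay]
        group
      rw [hπ] at h1
      have h2 : (y : G)⁻¹ * (a * y * a⁻¹) ∈ T ⊓ Q :=
        ⟨hZT (by simpa using h1), Q.mul_mem (Q.inv_mem hy') (conj_mem haQ hy')⟩
      rw [disjoint_iff.mp (Subgroup.disjoint_of_coprime_natCard hcopTQ), Subgroup.mem_bot] at h2
      have h3 : (y : G) = 1 := by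
        apply hfQ _ hy'
        rw [inv_mul_eq_one] at h2
        rw [eq_comm]
        exact eq_mul_inv_iff_mul_eq.mp h2
      rw [h3]
      exact Z.one_mem
  -- hence `[T, Q] ≤ Z ≤ C(Q)` and `Q` centralizes `T`
  have hTQZ : ⁅T, Q⁆ ≤ Z := by
    rw [Subgroup.commutator_le]
    intro t ht y hy
    have h1 := Subgroup.mem_centralizer_iff.mp (hmain ⟨⟨y, hQZn hy⟩, hy, rfl⟩) (π ⟨t, hTW ht⟩) ⟨_, ht, rfl⟩
    have h2 : π ⁅(⟨t, hTW ht⟩ : W), ⟨y, hQZn hy⟩⁆ = 1 := by
      rw [map_commutatorElement, commutatorElement_eq_one_iff_mul_comm]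
      exact h1
    rw [hπ] at h2
    exact h2
  exact hTcon (Lib.CoprimeCommutator.le_centralizer_of_commutator_le Q T Z hQT
    (coprime_of_isPGroup hqr hQ hTp) hTQZ hQZ)

end Cfsg.Agent.OddOrderLocal.FrobOnRGroup
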