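import Mathlib
import Cfsg.Prelude.Def_OddOrderLocal
import Cfsg.Agent.OddOrderLocal.Thm144
import Cfsg.Agent.S1432

/-!
Bender–Glauberman Theorem 14.4, remaining parts: for a maximal subgroup `M` of a minimal simple group of odd
order and `1 ≠ x ∈ M_σ` with `C_G(x)` not contained in `M`, the unique maximal subgroup `N` containing
`C_G(x)`, with all its properties.
-/

set_option autoImplicit false

namespace Cfsg.Agent.OddOrderLocal.Thm144b

open Subgroup SigmaCoreFacts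

variable {G : Type*} [Group G] [Finite G]

/-- B–G 14.4(c), second half: if `M ∩ N` is a complement of `N_σ` in `N ≠ M` and `M_σ ∩ N ≠ 1` then
`τ₂(N) ⊆ σ(M)`. -/
theorem tau2_subset_sigma (hG : Cfsg.IsMinSimpleOddOrder G) {M N : Subgroup G} (hM : IsCoatom M)
    (hN : IsCoatom N) (hne : N ≠ M) (hcompl : Cfsg.IsComplIn (M ⊓ N) (Cfsg.sigmaCore N) N)
    {x : G} (hx : x ∈ Cfsg.sigmaCore M) (hxN : x ∈ N) (hx1 : x ≠ 1) :
    Cfsg.tau2 N ⊆ Cfsg.sigma M := by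
  intro r hr
  have hrf : Fact r.Prime := ⟨hr.1⟩
  obtain ⟨A, hAN, hA, hAc⟩ := Rank.exists_elemAb_of_not_pRankLE hr.2.2.2
  -- conjugate `A` into `M ∩ N`
  obtain ⟨n, hn, hAn⟩ := HallPi.exists_conj_le_of_isComplIn
    (MinSimpleBasic.isSolvable_of_isCoatom hG hN) (sigmaCore_isPiHallOf hG hN) hcompl hAN (by
      intro p hp hd
      rw [hAc] at hd
      rw [(Nat.prime_dvd_prime_iff_eq hp hrf.out).mp (hp.dvd_of_dvd_pow hd)]
      exact hr.2.1)
  set B := A.map (MulAut.conj n).toMonoidHom with hB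
  have hBe : Cfsg.IsElementaryAbelian r B := Rank.elemAb_map _ hA
  have hBc : Nat.card B = r ^ 2 := by
    rw [hB, MinSimpleBasic.card_map_conj, hAc]
  by_contra hrM
  have hτ : r ∈ Cfsg.tau2 M := by
    refine ⟨hrf.out, hrM, ?_, ?_⟩
    · by_contra h
      exact hrM (Thm144.alpha_subset_sigma hG hM ⟨hrf.out, h⟩)
    · apply Rank.not_pRankLE_of_elemAb (hAn.trans inf_le_left) hBe
      rw [hBc]
      exact Nat.pow_lt_pow_right hrf.out.one_lt (by norm_num)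
  obtain ⟨-, -, -, -, hint, -⟩ := S1417.result hG M hM r hτ B ⟨hAn.trans inf_le_left, hBe, hBc⟩
  have h1 : x ∈ Cfsg.sigmaCore M ⊓ N := ⟨hx, hxN⟩
  rw [hint N hN hne (hAn.trans inf_le_right), Subgroup.mem_bot] at h1
  exact hx1 h1

/-- B–G Theorem 14.4 (all of it but part (d)): for `1 ≠ x ∈ M_σ` with `C_G(x)` not contained in `M`. -/
theorem signalizer_context (hG : Cfsg.IsMinSimpleOddOrder G) {M : Subgroup G} (hM : IsCoatom M)
    {x : G} (hx : x ∈ Cfsg.sigmaCore M) (hx1 : x ≠ 1)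
    (hxM : ¬ Subgroup.centralizer ({x} : Set G) ≤ M) :
    ∃ N : Subgroup G, IsCoatom N ∧ Subgroup.centralizer ({x} : Set G) ≤ N ∧
      (∀ L : Subgroup G, IsCoatom L → Subgroup.centralizer ({x} : Set G) ≤ L → L = N) ∧
      (∀ g : G, N ≠ M.map (MulAut.conj g).toMonoidHom) ∧
      Group.IsNilpotent (Cfsg.sigmaCore N) ∧
      (∀ p : ℕ, p.Prime → p ∣ orderOf x → p ∈ Cfsg.tau2 N) ∧
      Cfsg.tau2 N ⊆ Cfsg.sigma M ∧
      Cfsg.IsComplIn (M ⊓ N) (Cfsg.sigmaCore N) N ∧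
      Cfsg.IsComplIn (M ⊓ Subgroup.centralizer ({x} : Set G))
        (Cfsg.sigmaCore N ⊓ Subgroup.centralizer ({x} : Set G))
        (Subgroup.centralizer ({x} : Set G)) ∧
      (∃ y ∈ Cfsg.sigmaCore N, x * y = y * x ∧ y ≠ 1) ∧ x ∉ Cfsg.sigmaCore N := by
  have hxMM : x ∈ M := sigmaCore_le M hx
  obtain ⟨N, q, hN, hCN, hnc, hq, hqd, hτ, -, hcompl, hnil⟩ := Thm144.exists_N hG hM hx hx1 hxM
  have hC := Thm144.compl_centralizer hcompl hxMM hCN
  have hxN : x ∈ N := hCN (Subgroup.mem_centralizer_singleton_iff.mpr rfl)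
  obtain ⟨y, hyσ, hyx, hy1⟩ : ∃ y ∈ Cfsg.sigmaCore N, x * y = y * x ∧ y ≠ 1 := by
    by_contra hcon
    push Not at hcon
    apply hxM
    intro c hc
    obtain ⟨m, hm, s, hs, rfl⟩ := hC.2.2.2 c hc
    have hs1 : s = 1 := hcon s hs.1 (Subgroup.mem_centralizer_singleton_iff.mp hs.2).symm
    rw [hs1, mul_one]
    exact hm.1
  have hxσ' : ∀ p : ℕ, p.Prime → p ∣ orderOf x → p ∉ Cfsg.sigma N := fun p hp hd =>
    not_mem_sigma_of_inf_eq_bot hG hN (inf_le_right : M ⊓ N ≤ N) hcompl.2.2.1 hp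
      (hd.trans (Subgroup.orderOf_dvd_natCard _ (show x ∈ M ⊓ N from ⟨hxMM, hxN⟩)))
  have hxσ : x ∉ Cfsg.sigmaCore N := by
    intro h
    have : x ∈ (M ⊓ N) ⊓ Cfsg.sigmaCore N := ⟨⟨hxMM, hxN⟩, h⟩
    rw [hcompl.2.2.1, Subgroup.mem_bot] at this
    exact hx1 this
  have hne : N ≠ M := by
    intro h
    apply hnc 1
    rw [MinSimpleBasic.map_conj_one, h]
  rcases S1432.result hG N hN y hyσ hy1 x
    ⟨hxN, Subgroup.mem_centralizer_singleton_iff.mpr hyx⟩ hx1 hxσ' with h | h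
  · exact absurd (h.1 q hq hqd) (Thm144.not_mem_kappa_of_mem_tau2 hτ)
  · obtain ⟨hτx, -, -, huniq⟩ := h
    exact ⟨N, hN, hCN, huniq, hnc, hnil, hτx, tau2_subset_sigma hG hM hN hne hcompl hx hxN hx1,
      hcompl, hC, ⟨y, hyσ, hyx, hy1⟩, hxσ⟩

end Cfsg.Agent.OddOrderLocal.Thm144b
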