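import Mathlib
import Cfsg.Prelude.Def_OddOrderLocal
import Cfsg.Agent.S1375
import Cfsg.Agent.S1377
import Cfsg.Agent.S1378
import Cfsg.Agent.S1433
import Cfsg.Agent.OddOrderLocal.SigmaElements
import Cfsg.Agent.OddOrderLocal.Equivariance
import Cfsg.Agent.OddOrderLocal.SupportR
import Cfsg.Agent.OddOrderLocal.MinSimpleBasic
import Cfsg.Agent.OddOrderLocal.TICount

set_option autoImplicit false

/-!
The counting half of Bender–Glauberman, Theorem 14.7.
-/

namespace Cfsg.Agent.OddOrderLocal.Count147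

open Cfsg Cfsg.Agent.OddOrderLocal

/-- `R(x)` is equivariant under automorphisms. -/
theorem map_mem_supportR {G : Type*} [Group G] (e : G ≃* G) {M : Subgroup G} {x r : G}
    (hr : r ∈ supportR M x) : e r ∈ supportR (M.map e.toMonoidHom) (e x) := by
  by_cases hr1 : r = 1
  · rw [hr1, map_one]; exact one_mem _
  · obtain ⟨h1, L, hL, hxL, hu, hR⟩ := SupportR.exists_of_mem_supportR hr hr1
    have hc := Equivariance.map_centralizer_singleton e x
    have h2 : supportR (M.map e.toMonoidHom) (e x) =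
        fittingHallOf (L.map e.toMonoidHom) ⊓ Subgroup.centralizer ({e x} : Set G) := by
      refine SupportR.supportR_eq ?_ ((Equivariance.isCoatom_map e L).2 hL) ?_ ?_
      · rw [← hc, Equivariance.map_le_map_iff']; exact h1
      · rw [← hc, Equivariance.map_le_map_iff']; exact hxL
      · intro L' hL' hxL'
        rw [← hc, Equivariance.map_le_iff] at hxL'
        have h3 := hu _ ((Equivariance.isCoatom_map e.symm L').2 hL') hxL'
        rw [← h3, Equivariance.map_map_symm]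
    rw [h2, Equivariance.fittingHallOf_map, ← hc, ← Equivariance.map_inf_equiv,
      Equivariance.apply_mem_map, ← hR]
    exact hr

/-- `tildeOf` is closed under conjugation. -/
theorem conj_mem_tildeOf {G : Type*} [Group G] {M : Subgroup G} {A : Set G} {g : G} (w : G)
    (h : g ∈ tildeOf M A) : w * g * w⁻¹ ∈ tildeOf M A := by
  obtain ⟨a, ha, r, hr, y, rfl⟩ := h
  exact ⟨a, ha, r, hr, w * y, by group⟩

/-- see `TICount.ncard_classSupport_of_TI`. -/
theorem ncard_classSupport_of_TI {G : Type*} [Group G] [Finite G] (Z : Subgroup G) (T : Set G)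
    (hZ : ∀ z ∈ Z, ∀ t ∈ T, z * t * z⁻¹ ∈ T)
    (hTI : ∀ g : G, ∀ t ∈ T, g * t * g⁻¹ ∈ T → g ∈ Z) :
    Nat.card Z * Set.ncard {a : G | ∃ g : G, ∃ t ∈ T, a = g * t * g⁻¹} =
      Set.ncard T * Nat.card G :=
  TICount.ncard_classSupport_of_TI Z T hZ hTI

/-- `M̃ ∩ Ñ = ∅` for non-conjugate maximal subgroups. -/
theorem tildeOf_disjoint {G : Type*} [Group G] [Finite G] (hG : Cfsg.IsMinSimpleOddOrder G)
    (M N : Subgroup G) (hM : IsCoatom M) (hN : IsCoatom N)
    (hnc : ∀ g : G, N ≠ M.map (MulAut.conj g).toMonoidHom) :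
    Disjoint (Cfsg.tildeOf M ((Cfsg.sigmaCore M : Set G) \ {1}))
      (Cfsg.tildeOf N ((Cfsg.sigmaCore N : Set G) \ {1})) := by
  rw [Set.disjoint_left]
  rintro g ⟨a, ⟨ha, ha1⟩, r, hr, y, hg⟩ ⟨b, ⟨hb, hb1⟩, s, hs, y', hg'⟩
  have ha1' : a ≠ 1 := fun h => ha1 (by rw [h]; rfl)
  have hb1' : b ≠ 1 := fun h => hb1 (by rw [h]; rfl)
  -- move everything to `a r`
  let z : G := y⁻¹ * y'
  let e : G ≃* G := MulAut.conj z
  have he : ∀ u : G, e u = z * u * z⁻¹ := fun u => rfl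
  have hN' : IsCoatom (N.map e.toMonoidHom) := (Equivariance.isCoatom_map e N).2 hN
  have hbN' : e b ∈ sigmaCore (N.map e.toMonoidHom) := by
    rw [Equivariance.sigmaCore_map, Equivariance.apply_mem_map]; exact hb
  have heb1 : e b ≠ 1 := fun h => hb1' (by simpa using h)
  have hes : e s ∈ supportR (N.map e.toMonoidHom) (e b) := map_mem_supportR e hs
  have heq : a * r = e b * e s := by
    rw [← map_mul, he]
    have h1 : a * r = y⁻¹ * g * y := by rw [hg]; group
    rw [h1, hg']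
    simp only [z]; group
  by_cases hab : a = e b
  · -- a prime in σ(M) ∩ σ(N')
    obtain ⟨p, hp, hpa⟩ := SigmaElements.exists_prime_dvd_orderOf ha1'
    have hp1 := SigmaElements.mem_sigma_of_dvd_orderOf ha hp hpa
    have hp2 : p ∈ sigma (N.map e.toMonoidHom) :=
      SigmaElements.mem_sigma_of_dvd_orderOf hbN' hp (hab ▸ hpa)
    obtain ⟨w, hw⟩ := (Cfsg.Agent.S1378.result hG).2 M (N.map e.toMonoidHom) hM hN' ⟨p, hp1, hp2⟩
    refine hnc (z⁻¹ * w) ?_
    rw [MinSimpleBasic.map_conj_mul, ← hw]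
    have : (N.map e.toMonoidHom).map (MulAut.conj z⁻¹).toMonoidHom = N := by
      have h3 : e.toMonoidHom = (MulAut.conj z).toMonoidHom := rfl
      rw [h3, ← MinSimpleBasic.map_conj_mul, inv_mul_cancel, MinSimpleBasic.map_conj_one]
    exact this.symm
  · exact Cfsg.Agent.S1433.result hG M _ hM hN' a (e b) ha hbN' ha1' heb1 hab r hr _ hes heq

/-- `1 ∉ M̃`. -/
theorem one_notMem_tildeOf {G : Type*} [Group G] [Finite G] (hG : Cfsg.IsMinSimpleOddOrder G)
    (M : Subgroup G) (hM : IsCoatom M) :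
    (1 : G) ∉ Cfsg.tildeOf M ((Cfsg.sigmaCore M : Set G) \ {1}) := by
  rintro ⟨a, ⟨ha, ha1⟩, r, hr, y, hg⟩
  have ha1' : a ≠ 1 := fun h => ha1 (by rw [h]; rfl)
  have har : a * r = 1 := by
    have h1 : y * (a * r) * y⁻¹ = 1 := hg.symm
    have h2 : a * r = y⁻¹ * (y * (a * r) * y⁻¹) * y := by group
    rw [h2, h1]; group
  have hra : r = a⁻¹ := (inv_eq_of_mul_eq_one_right har).symm
  have hr1 : r ≠ 1 := by
    rw [hra]; simpa using ha1'
  obtain ⟨h1, L, hL, hxL, hu, hR⟩ := SupportR.exists_of_mem_supportR hr hr1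
  obtain ⟨N, ⟨hN, hCN⟩, hNu, hNF, -, hcompl, -, -⟩ := Cfsg.Agent.S1375.result hG M hM a ha ha1' h1
  have hLN : L = N := hNu _ hL hxL
  rw [hR, hLN, ← hNF] at hr
  have haM : a ∈ M := SigmaElements.sigmaCore_le M ha
  have h2 : r ∈ (M ⊓ Subgroup.centralizer ({a} : Set G)) ⊓
      (Cfsg.sigmaCore N ⊓ Subgroup.centralizer ({a} : Set G)) := by
    refine ⟨⟨?_, hr.2⟩, hr⟩
    rw [hra]; exact M.inv_mem haM
  rw [hcompl.2.2.1] at h2
  exact hr1 (Subgroup.mem_bot.mp h2)

/-- The arithmetic of the counting argument. -/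
theorem arith {ι : Type*} (I : Finset ι) (g z t : ℕ) (ns n zs idx tl : ι → ℕ) (ts : ℕ)
    (hz : 0 < z)
    (hI : 2 ≤ I.card)
    (hzs : ∀ i ∈ I, 0 < zs i)
    (hns : ∀ i ∈ I, 0 < ns i)
    (hidx : ∀ i ∈ I, n i * idx i = g)
    (h3 : ∀ i ∈ I, 3 * z ≤ n i)
    (hcard : ∀ i ∈ I, n i * zs i = z * ns i)
    (htl : ∀ i ∈ I, tl i = (ns i - 1) * idx i)
    (htc : t + 1 + ∑ i ∈ I, (zs i - 1) = z)
    (hts : z * ts = t * g)
    (htot : 1 + ts + ∑ i ∈ I, tl i ≤ g) : False := by
  -- per-index inequality : 3 z tl i ≥ (3 zs i - 1) g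
  have key : ∀ i ∈ I, (3 * zs i) * g ≤ 3 * z * tl i + g := by
    intro i hi
    have h1 : z * ns i * idx i = zs i * g := by
      rw [← hcard i hi, ← hidx i hi]; ring
    have h2 : 3 * z * tl i + 3 * z * idx i = 3 * (zs i * g) := by
      rw [htl i hi, ← h1]
      obtain ⟨m, hm⟩ := Nat.exists_eq_succ_of_ne_zero (hns i hi).ne'
      rw [hm]; simp only [Nat.succ_eq_add_one, Nat.add_sub_cancel]; ring
    have h4 : 3 * z * idx i ≤ g := by
      calc 3 * z * idx i ≤ n i * idx i := Nat.mul_le_mul_right _ (h3 i hi)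
        _ = g := hidx i hi
    nlinarith
  have hsum : ∑ i ∈ I, (3 * zs i) * g ≤ ∑ i ∈ I, (3 * z * tl i + g) := Finset.sum_le_sum key
  have hsum2 : ∑ i ∈ I, (3 * z * tl i + g) = 3 * z * (∑ i ∈ I, tl i) + I.card * g := by
    rw [Finset.sum_add_distrib, ← Finset.mul_sum, Finset.sum_const, smul_eq_mul]
  have hsum3 : ∑ i ∈ I, (3 * zs i) * g = 3 * g * (∑ i ∈ I, (zs i - 1)) + 3 * g * I.card := by
    have : ∀ i ∈ I, (3 * zs i) * g = 3 * g * (zs i - 1) + 3 * g := by
      intro i hi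
      obtain ⟨m, hm⟩ := Nat.exists_eq_succ_of_ne_zero (hzs i hi).ne'
      rw [hm]; simp only [Nat.succ_eq_add_one, Nat.add_sub_cancel]; ring
    rw [Finset.sum_congr rfl this, Finset.sum_add_distrib, ← Finset.mul_sum, Finset.sum_const,
      smul_eq_mul]
    ring
  rw [hsum2, hsum3] at hsum
  set S := ∑ i ∈ I, (zs i - 1) with hS
  set TL := ∑ i ∈ I, tl i with hTL
  set c := I.card with hc
  -- multiply total by 3z
  have h5 : 3 * z * (1 + ts + TL) ≤ 3 * z * g := Nat.mul_le_mul_left _ htot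
  have h6 : 3 * z * (1 + ts + TL) = 3 * z + 3 * (z * ts) + 3 * z * TL := by ring
  rw [h6, hts] at h5
  have h7 : 3 * z * g = 3 * (t * g) + 3 * g + 3 * g * S := by
    rw [← htc]; ring
  -- 3z + 3tg + 3z TL ≤ 3tg + 3g + 3gS ; and 3gS + 3gc ≤ 3z TL + c g
  have h8 : 3 * z + 3 * g * S + 3 * g * c ≤ 3 * g + 3 * g * S + c * g := by
    have := hsum
    omega
  have h9 : 3 * z + 3 * g * c ≤ 3 * g + c * g := by omega
  have h10 : 2 * g ≤ c * g := Nat.mul_le_mul_right _ hI
  have h11 : 3 * g * c = 3 * (c * g) := by ring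
  rw [h11] at h9
  omega

/-- The counting contradiction in B&G 14.7: the partners cannot all be of type P₁. -/
theorem counting {G : Type*} [Group G] [Finite G] (hG : Cfsg.IsMinSimpleOddOrder G)
    (Z : Subgroup G) (T : Set G) (I : Finset (Subgroup G)) (h2 : 2 ≤ I.card)
    (hmax : ∀ N ∈ I, IsCoatom N ∧ Z < N)
    (hcard : ∀ N ∈ I, Nat.card N * Nat.card ↥(Cfsg.sigmaCore N ⊓ Z) =
      Nat.card Z * Nat.card (Cfsg.sigmaCore N))
    (hnc : ∀ N ∈ I, ∀ N' ∈ I, N ≠ N' → ∀ g : G, N' ≠ N.map (MulAut.conj g).toMonoidHom)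
    (hT1 : (1 : G) ∉ T)
    (hTc : Set.ncard T + 1 + ∑ N ∈ I, (Nat.card ↥(Cfsg.sigmaCore N ⊓ Z) - 1) = Nat.card Z)
    (hZT : ∀ z ∈ Z, ∀ t ∈ T, z * t * z⁻¹ ∈ T)
    (hTI : ∀ g : G, ∀ t ∈ T, g * t * g⁻¹ ∈ T → g ∈ Z)
    (hdisj : ∀ N ∈ I, ∀ t ∈ T, t ∉ Cfsg.tildeOf N ((Cfsg.sigmaCore N : Set G) \ {1})) :
    False := by
  classical
  let TG : Set G := {a : G | ∃ g : G, ∃ t ∈ T, a = g * t * g⁻¹}
  let til : Subgroup G → Set G := fun N => Cfsg.tildeOf N ((Cfsg.sigmaCore N : Set G) \ {1})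
  -- union of the tildes
  have hpd : (I : Set (Subgroup G)).PairwiseDisjoint til := by
    intro N hN N' hN' hne
    exact tildeOf_disjoint hG N N' (hmax N hN).1 (hmax N' hN').1 (hnc N hN N' hN' hne)
  have hU : Set.ncard (⋃ N ∈ I, til N) = ∑ N ∈ I, Set.ncard (til N) := by
    have h1 : ∀ J : Finset (Subgroup G), J ⊆ I →
        Set.ncard (⋃ N ∈ J, til N) = ∑ N ∈ J, Set.ncard (til N) := by
      intro J
      induction J using Finset.induction_on with
      | empty => intro _; simp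
      | insert a J haJ ih =>
        intro hsub
        rw [Finset.sum_insert haJ, Finset.set_biUnion_insert,
          Set.ncard_union_eq _ (Set.toFinite _) (Set.toFinite _),
          ih (fun x hx => hsub (Finset.mem_insert_of_mem hx))]
        rw [Set.disjoint_iUnion₂_right]
        intro N hN
        exact hpd (hsub (Finset.mem_insert_self _ _)) (hsub (Finset.mem_insert_of_mem hN))
          (fun h => haJ (h ▸ hN))
    exact h1 I (Finset.Subset.refl _)
  have hd1 : Disjoint TG (⋃ N ∈ I, til N) := by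
    rw [Set.disjoint_iUnion₂_right]
    intro N hN
    rw [Set.disjoint_left]
    rintro _ ⟨g, t, ht, rfl⟩ h
    have h3 := conj_mem_tildeOf g⁻¹ h
    have h4 : g⁻¹ * (g * t * g⁻¹) * g⁻¹⁻¹ = t := by group
    rw [h4] at h3
    exact hdisj N hN t ht h3
  have hd2 : Disjoint ({1} : Set G) (TG ∪ ⋃ N ∈ I, til N) := by
    rw [Set.disjoint_singleton_left]
    rintro (h | h)
    · exact TICount.one_notMem_classSupport hT1 h
    · simp only [Set.mem_iUnion] at h
      obtain ⟨N, hN, h⟩ := h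
      exact one_notMem_tildeOf hG N (hmax N hN).1 h
  have htot : 1 + Set.ncard TG + ∑ N ∈ I, Set.ncard (til N) ≤ Nat.card G := by
    have h3 : Set.ncard (({1} : Set G) ∪ (TG ∪ ⋃ N ∈ I, til N)) =
        1 + (Set.ncard TG + ∑ N ∈ I, Set.ncard (til N)) := by
      rw [Set.ncard_union_eq hd2 (Set.toFinite _) (Set.toFinite _), Set.ncard_singleton,
        Set.ncard_union_eq hd1 (Set.toFinite _) (Set.toFinite _), hU]
    have h4 : Set.ncard (({1} : Set G) ∪ (TG ∪ ⋃ N ∈ I, til N)) ≤ Nat.card G := by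
      rw [← Set.ncard_univ]
      exact Set.ncard_le_ncard (Set.subset_univ _) (Set.toFinite _)
    omega
  refine arith I (Nat.card G) (Nat.card Z) (Set.ncard T)
    (fun N => Nat.card (Cfsg.sigmaCore N)) (fun N => Nat.card N)
    (fun N => Nat.card ↥(Cfsg.sigmaCore N ⊓ Z)) (fun N => N.index)
    (fun N => Set.ncard (til N)) (Set.ncard TG) Nat.card_pos h2
    (fun N _ => Nat.card_pos) (fun N _ => Nat.card_pos)
    (fun N _ => N.card_mul_index) ?_ hcard ?_ hTc
    (ncard_classSupport_of_TI Z T hZT hTI) htot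
  · -- 3 |Z| ≤ |N|
    intro N hN
    obtain ⟨hc, hlt⟩ := hmax N hN
    have hdvd : Nat.card Z ∣ Nat.card N := Subgroup.card_dvd_of_le hlt.le
    obtain ⟨m, hm⟩ := hdvd
    have hodd : Odd (Nat.card N) := MinSimpleBasic.odd_card_subgroup hG N
    have hmodd : Odd m := by
      rw [hm] at hodd
      exact (Nat.odd_mul.mp hodd).2
    have hm1 : m ≠ 1 := by
      rintro rfl
      rw [mul_one] at hm
      exact hlt.ne (Subgroup.eq_of_le_of_card_ge hlt.le hm.le)
    have hm3 : 3 ≤ m := by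
      obtain ⟨k, rfl⟩ := hmodd
      omega
    show 3 * Nat.card Z ≤ Nat.card N
    rw [hm, mul_comm 3]
    exact Nat.mul_le_mul_left _ hm3
  · intro N hN
    exact Cfsg.Agent.S1377.result hG N (hmax N hN).1

end Cfsg.Agent.OddOrderLocal.Count147
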