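import Cfsg.Agent.OddOrderLocal.FrobRep

/-!
# Frobenius groups acting coprimely on nilpotent groups

Actions are given by homomorphisms `α : K →* MulAut M`, `β : R →* MulAut M`.
-/

set_option autoImplicit false

namespace Cfsg.Agent.OddOrderLocal.FrobAct

open Module

/-- fixed points of an action by automorphisms -/
def fixedPts {A M : Type*} [Group A] [Group M] (α : A →* MulAut M) : Subgroup M where
  carrier := {m | ∀ a, α a m = m}
  one_mem' := fun a => map_one (α a)
  mul_mem' := by
    intro x y hx hy a
    rw [map_mul, hx a, hy a]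
  inv_mem' := by
    intro x hx a
    rw [map_inv, hx a]

theorem mem_fixedPts {A M : Type*} [Group A] [Group M] (α : A →* MulAut M) (m : M) :
    m ∈ fixedPts α ↔ ∀ a, α a m = m := Iff.rfl

/-- `H¹(A, C) = 1` for coprime orders. -/
theorem exists_coboundary {A C : Type*} [Group A] [Finite A] [CommGroup C] [Finite C]
    (α : A →* MulAut C) (hcop : (Nat.card A).Coprime (Nat.card C)) (c : A → C)
    (hc : ∀ a b, c (a * b) = c a * α a (c b)) : ∃ e : C, ∀ a, c a = e * (α a e)⁻¹ := by
  classical
  have : Fintype A := Fintype.ofFinite A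
  have hcop' : (Nat.card C).Coprime (Nat.card A) := hcop.symm
  let d : C := ∏ b, c b
  have hd : ∀ a, d = (c a) ^ (Nat.card A) * α a d := by
    intro a
    have h1 : d = ∏ b, c (a * b) :=
      (Fintype.prod_bijective (fun x => a * x) (Group.mulLeft_bijective a) _ _ fun x => rfl).symm
    calc d = ∏ b, c (a * b) := h1
      _ = ∏ b, (c a * α a (c b)) := Finset.prod_congr rfl fun b _ => hc a b
      _ = (c a) ^ (Nat.card A) * α a d := by
        rw [Finset.prod_mul_distrib, Finset.prod_const, Finset.card_univ,
          Nat.card_eq_fintype_card, map_prod]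
  obtain ⟨e, hed⟩ : ∃ e : C, e ^ (Nat.card A) = d := (powCoprime hcop').surjective d
  refine ⟨e, fun a => ?_⟩
  apply (powCoprime hcop').injective
  rw [powCoprime_apply, powCoprime_apply, mul_pow, inv_pow, ← map_pow, hed]
  rw [eq_mul_inv_iff_mul_eq]
  exact (hd a).symm

section Quot

variable {M : Type*} [Group M] (N : Subgroup M) [N.Characteristic]

/-- induced action on the quotient by a characteristic subgroup -/
def quotAut : MulAut M →* MulAut (M ⧸ N) where
  toFun φ := QuotientGroup.congr N N φ (Subgroup.characteristic_iff_map_eq.mp inferInstance φ)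
  map_one' := by
    ext x
    obtain ⟨m, rfl⟩ := QuotientGroup.mk_surjective x
    rfl
  map_mul' φ ψ := by
    ext x
    obtain ⟨m, rfl⟩ := QuotientGroup.mk_surjective x
    rfl

theorem quotAut_mk (φ : MulAut M) (m : M) :
    quotAut N φ (m : M ⧸ N) = ((φ m : M) : M ⧸ N) := rfl

end Quot

section Lift

variable {A M : Type*} [Group A] [Finite A] [Group M] [Finite M] (α : A →* MulAut M)
  (N : Subgroup M) [N.Characteristic]

/-- fixed points in `M / N` lift to fixed points in `M` -/
theorem exists_fixed_lift (hN : ∀ x ∈ N, ∀ y ∈ N, x * y = y * x)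
    (hcop : (Nat.card A).Coprime (Nat.card M)) (m : M)
    (hm : ∀ a, m⁻¹ * α a m ∈ N) : ∃ n ∈ N, ∀ a, α a (m * n) = m * n := by
  let instN : CommGroup N := { (inferInstance : Group N) with
    mul_comm := fun x y => Subtype.ext (hN x x.2 y y.2) }
  have hcopN : (Nat.card A).Coprime (Nat.card N) :=
    hcop.coprime_dvd_right (Subgroup.card_subgroup_dvd_card N)
  obtain ⟨e, he⟩ := exists_coboundary ((MulAut.characteristic N).comp α) hcopN
    (fun a => ⟨m⁻¹ * α a m, hm a⟩) (by
      intro a b
      apply Subtype.ext
      change m⁻¹ * α (a * b) m = (m⁻¹ * α a m) * α a (m⁻¹ * α b m)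
      rw [map_mul, map_mul, MulAut.mul_apply, map_inv]
      group)
  refine ⟨e, e.2, fun a => ?_⟩
  have h1 : m⁻¹ * α a m = (e : M) * (α a e)⁻¹ := congrArg Subtype.val (he a)
  have h2 : α a m = m * ((e : M) * (α a e)⁻¹) := by rw [← h1]; group
  rw [map_mul, h2]
  group

theorem fixedPts_quot (hN : ∀ x ∈ N, ∀ y ∈ N, x * y = y * x)
    (hcop : (Nat.card A).Coprime (Nat.card M)) :
    fixedPts ((quotAut N).comp α) = (fixedPts α).map (QuotientGroup.mk' N) := by
  ext x
  constructor
  · intro hx
    obtain ⟨m, rfl⟩ := QuotientGroup.mk_surjective x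
    rw [mem_fixedPts] at hx
    obtain ⟨n, hn, hfix⟩ := exists_fixed_lift α N hN hcop m (by
      intro a
      have h1 : ((α a m : M) : M ⧸ N) = (m : M ⧸ N) := hx a
      exact QuotientGroup.eq.mp h1.symm)
    refine ⟨m * n, hfix, ?_⟩
    rw [QuotientGroup.mk'_apply]
    exact (QuotientGroup.mk_mul_of_mem m hn)
  · rintro ⟨m, hm, rfl⟩ a
    change ((α a m : M) : M ⧸ N) = (m : M ⧸ N)
    rw [(hm : ∀ a, α a m = m) a]

theorem card_fixedPts (hN : ∀ x ∈ N, ∀ y ∈ N, x * y = y * x)
    (hcop : (Nat.card A).Coprime (Nat.card M)) :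
    Nat.card (fixedPts α) = Nat.card (fixedPts ((quotAut N).comp α)) *
      Nat.card (fixedPts ((MulAut.characteristic N).comp α)) := by
  rw [fixedPts_quot α N hN hcop]
  let f : fixedPts α →* M ⧸ N := (QuotientGroup.mk' N).comp (fixedPts α).subtype
  have h1 : f.range = (fixedPts α).map (QuotientGroup.mk' N) := by
    rw [MonoidHom.range_comp, Subgroup.range_subtype]
  have h2 : Nat.card (fixedPts α) = Nat.card (fixedPts α ⧸ f.ker) * Nat.card f.ker :=
    Subgroup.card_eq_card_quotient_mul_card_subgroup f.ker
  rw [h2, Nat.card_congr (QuotientGroup.quotientKerEquivRange f).toEquiv, h1]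
  congr 1
  refine Nat.card_congr
    { toFun := fun x => ⟨⟨x.1.1, (QuotientGroup.eq_one_iff _).mp x.2⟩, fun a =>
        Subtype.ext (x.1.2 a)⟩
      invFun := fun x => ⟨⟨x.1.1, fun a => congrArg Subtype.val (x.2 a)⟩,
        (QuotientGroup.eq_one_iff _).mpr x.1.2⟩
      left_inv := fun x => rfl
      right_inv := fun x => rfl }

end Lift

section Elementary

/-- the representation on an elementary abelian group -/
def toRep {A V : Type*} [Group A] [CommGroup V] (q : ℕ) [Module (ZMod q) (Additive V)]
    (γ : A →* MulAut V) : Representation (ZMod q) A (Additive V) where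
  toFun := fun a => (MonoidHom.toAdditive (γ a).toMonoidHom).toZModLinearMap q
  map_one' := by
    rw [map_one]
    rfl
  map_mul' := by
    intro a b
    rw [map_mul]
    rfl

/-- The case of an elementary abelian `q`-group. -/
theorem card_eq_of_elementary {K R V : Type*} [Group K] [Finite K] [Group R] [Finite R]
    [CommGroup V] [Finite V] (q : ℕ) [hqp : Fact q.Prime] (hq : ∀ v : V, v ^ q = 1)
    (hqK : ¬ q ∣ Nat.card K)
    (α : K →* MulAut V) (β : R →* MulAut V) (σ : R →* MulAut K)
    (hcompat : ∀ r k v, β r (α k v) = α (σ r k) (β r v))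
    (hfix : ∀ v : V, (∀ k, α k v = v) → v = 1)
    (hσ : ∀ r : R, r ≠ 1 → ∀ k, σ r k = k → k = 1) :
    Nat.card V = Nat.card (fixedPts β) ^ Nat.card R ∧
      (Nat.card V = q ^ Nat.card R → ∀ (k k' : K) (v : V), α k (α k' v) = α k' (α k v)) := by
  have instM : Module (ZMod q) (Additive V) := AddCommGroup.zmodModule (n := q) (by
    intro x
    exact congrArg Additive.ofMul (hq x.toMul))
  have hfin : FiniteDimensional (ZMod q) (Additive V) := inferInstance
  have hKq : (Nat.card K : ZMod q) ≠ 0 := by
    rw [Ne, ZMod.natCast_eq_zero_iff]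
    exact hqK
  have hc' : ∀ r k v, toRep q β r (toRep q α k v) = toRep q α (σ r k) (toRep q β r v) :=
    fun r k v => congrArg Additive.ofMul (hcompat r k v.toMul)
  have hf' : ∀ v : Additive V, (∀ k : K, toRep q α k v = v) → v = 0 :=
    fun v hv => congrArg Additive.ofMul (hfix v.toMul (fun k => congrArg Additive.toMul (hv k)))
  have main := FrobRep.finrank_eq (F := ZMod q) (V := Additive V) hKq (toRep q α) (toRep q β) σ
    hc' hf' hσ
  have hcardV : Nat.card V = q ^ finrank (ZMod q) (Additive V) := by
    have := Module.natCard_eq_pow_finrank (K := ZMod q) (V := Additive V)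
    rw [Nat.card_zmod] at this
    exact this
  have hcardC : Nat.card (fixedPts β) =
      q ^ finrank (ZMod q) (Representation.invariants (toRep q β)) := by
    have := Module.natCard_eq_pow_finrank (K := ZMod q)
      (V := Representation.invariants (toRep q β))
    rw [Nat.card_zmod] at this
    rw [← this]
    exact Nat.card_congr
      { toFun := fun x => ⟨Additive.ofMul x.1, fun r => congrArg Additive.ofMul (x.2 r)⟩
        invFun := fun x => ⟨Additive.toMul x.1, fun r => congrArg Additive.toMul (x.2 r)⟩
        left_inv := fun x => rfl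
        right_inv := fun x => rfl }
  constructor
  · rw [hcardV, hcardC, main.1, ← pow_mul, mul_comm]
  · intro hV k k' v
    have h1 : finrank (ZMod q) (Additive V) = Nat.card R := by
      rw [hcardV] at hV
      exact Nat.pow_right_injective hqp.out.two_le hV
    exact congrArg Additive.toMul (main.2 h1 k k' (Additive.ofMul v))

end Elementary

section Nilpotent

/-- central elements of order dividing `q` -/
def omegaCenter (M : Type*) [Group M] (q : ℕ) : Subgroup M where
  carrier := {z | z ∈ Subgroup.center M ∧ z ^ q = 1}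
  one_mem' := ⟨Subgroup.one_mem _, one_pow q⟩
  mul_mem' := by
    rintro x y ⟨hx, hxq⟩ ⟨hy, hyq⟩
    refine ⟨Subgroup.mul_mem _ hx hy, ?_⟩
    have hcomm : Commute x y := (Subgroup.mem_center_iff.mp hx y).symm
    rw [hcomm.mul_pow, hxq, hyq, one_mul]
  inv_mem' := by
    rintro x ⟨hx, hxq⟩
    exact ⟨Subgroup.inv_mem _ hx, by rw [inv_pow, hxq, inv_one]⟩

theorem mem_omegaCenter {M : Type*} [Group M] {q : ℕ} {z : M} :
    z ∈ omegaCenter M q ↔ z ∈ Subgroup.center M ∧ z ^ q = 1 := Iff.rfl

theorem omegaCenter_characteristic (M : Type*) [Group M] (q : ℕ) :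
    (omegaCenter M q).Characteristic := by
  rw [Subgroup.characteristic_iff_le_comap]
  intro φ z hz
  rw [mem_omegaCenter] at hz
  rw [Subgroup.mem_comap, mem_omegaCenter]
  refine ⟨?_, ?_⟩
  · have h1 := (Subgroup.characteristic_iff_le_comap.mp
      (inferInstance : (Subgroup.center M).Characteristic)) φ hz.1
    exact h1
  · rw [← map_pow, hz.2, map_one]

theorem commutator_le_ker {K M : Type*} [Group K] [Group M] (α : K →* MulAut M)
    (h : ∀ (k k' : K) (v : M), α k (α k' v) = α k' (α k v)) (k : K) (hk : k ∈ commutator K) :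
    α k = 1 := by
  have h1 : commutator K ≤ α.ker := by
    rw [commutator_def, Subgroup.commutator_le]
    intro a _ b _
    rw [MonoidHom.mem_ker, map_commutatorElement, commutatorElement_eq_one_iff_mul_comm]
    ext v
    exact h a b v
  exact h1 hk

/-- **Main theorem for nilpotent groups.** -/
theorem nilpotent_main {K R : Type*} [Group K] [Finite K] [Group R] [Finite R]
    (σ : R →* MulAut K) (hσ : ∀ r : R, r ≠ 1 → ∀ k, σ r k = k → k = 1) (n : ℕ) :
    ∀ (M : Type*) [Group M] [Finite M] [Group.IsNilpotent M], Nat.card M ≤ n →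
      ∀ (α : K →* MulAut M) (β : R →* MulAut M),
      (∀ r k v, β r (α k v) = α (σ r k) (β r v)) →
      (Nat.card K).Coprime (Nat.card M) → (Nat.card R).Coprime (Nat.card M) →
      (∀ m, (∀ k, α k m = m) → m = 1) →
      Nat.card M = Nat.card (fixedPts β) ^ Nat.card R ∧
        (IsCyclic (fixedPts β) → ∀ k ∈ commutator K, ∀ m, α k m = m) := by
  induction n with
  | zero =>
    intro M _ _ _ hM
    have : 0 < Nat.card M := Nat.card_pos
    omega
  | succ n ih =>
    intro M _ _ _ hM α β hcompat hcopK hcopR hfix
    rcases subsingleton_or_nontrivial M with hsub | hnt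
    · have hM1 : Nat.card M = 1 := Nat.card_of_subsingleton (1 : M)
      have hF1 : Nat.card (fixedPts β) = 1 := Nat.card_of_subsingleton (1 : fixedPts β)
      refine ⟨by rw [hM1, hF1, one_pow], fun _ k _ m => Subsingleton.elim _ _⟩
    -- choose a prime dividing the order of the centre
    have hZ : Subgroup.center M ≠ ⊥ := Group.IsNilpotent.center_ne_bot M
    have hZc : Nat.card (Subgroup.center M) ≠ 1 := by
      rwa [Ne, Subgroup.card_eq_one]
    obtain ⟨q, hqp, hqd⟩ := Nat.exists_prime_and_dvd hZc
    have hqf : Fact q.Prime := ⟨hqp⟩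
    let N : Subgroup M := omegaCenter M q
    have hNchar : N.Characteristic := omegaCenter_characteristic M q
    have hNcomm : ∀ x ∈ N, ∀ y ∈ N, x * y = y * x :=
      fun x hx y _ => (Subgroup.mem_center_iff.mp hx.1 y).symm
    have hNne : N ≠ ⊥ := by
      obtain ⟨z, hz⟩ := exists_prime_orderOf_dvd_card' q hqd
      intro hbot
      have h1 : (z : M) ∈ N := ⟨z.2, by
        have := pow_orderOf_eq_one z
        rw [hz] at this
        exact congrArg Subtype.val this⟩
      rw [hbot, Subgroup.mem_bot] at h1
      have h2 : z = 1 := Subtype.ext h1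
      rw [h2, orderOf_one] at hz
      exact hqp.one_lt.ne hz
    have hqM : q ∣ Nat.card M := hqd.trans (Subgroup.card_subgroup_dvd_card _)
    have hqK : ¬ q ∣ Nat.card K := fun h => by
      have := Nat.dvd_gcd h hqM
      rw [hcopK] at this
      exact hqp.one_lt.ne' (Nat.dvd_one.mp this)
    have hcard : Nat.card M = Nat.card (M ⧸ N) * Nat.card N :=
      Subgroup.card_eq_card_quotient_mul_card_subgroup N
    have hN2 : 1 < Nat.card N := by
      have h0 : 0 < Nat.card N := Nat.card_pos
      have h1 : Nat.card N ≠ 1 := by rwa [Ne, Subgroup.card_eq_one]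
      omega
    have hQle : Nat.card (M ⧸ N) ≤ n := by
      have h0 : 0 < Nat.card (M ⧸ N) := Nat.card_pos
      have : Nat.card (M ⧸ N) < Nat.card M := by
        rw [hcard]
        exact lt_mul_of_one_lt_right h0 hN2
      omega
    -- the quotient
    have hQ := ih (M ⧸ N) hQle ((quotAut N).comp α) ((quotAut N).comp β) (by
        intro r k v
        obtain ⟨m, rfl⟩ := QuotientGroup.mk_surjective v
        change ((β r (α k m) : M) : M ⧸ N) = ((α (σ r k) (β r m) : M) : M ⧸ N)
        rw [hcompat])
      (hcopK.coprime_dvd_right ⟨_, hcard⟩) (hcopR.coprime_dvd_right ⟨_, hcard⟩) (by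
        intro v hv
        obtain ⟨m, rfl⟩ := QuotientGroup.mk_surjective v
        obtain ⟨x, hx, hfx⟩ := exists_fixed_lift α N hNcomm hcopK m (by
          intro a
          have h1 : ((α a m : M) : M ⧸ N) = (m : M ⧸ N) := hv a
          exact QuotientGroup.eq.mp h1.symm)
        have h1 := hfix _ hfx
        have h2 : m = x⁻¹ := eq_inv_of_mul_eq_one_left h1
        rw [h2]
        exact (QuotientGroup.eq_one_iff _).mpr (N.inv_mem hx))
    -- the subgroup `N`
    let instN : CommGroup N := { (inferInstance : Group N) with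
      mul_comm := fun x y => Subtype.ext (hNcomm x x.2 y y.2) }
    have hNq : ∀ v : N, v ^ q = 1 := fun v => Subtype.ext v.2.2
    have hNn := card_eq_of_elementary q hNq hqK ((MulAut.characteristic N).comp α)
      ((MulAut.characteristic N).comp β) σ
      (fun r k v => Subtype.ext (hcompat r k v))
      (fun v hv => Subtype.ext (hfix v (fun k => congrArg Subtype.val (hv k)))) hσ
    have hcardF := card_fixedPts β N hNcomm hcopR
    refine ⟨?_, ?_⟩
    · rw [hcardF, mul_pow, hcard]
      congr 1
      · exact hQ.1
      · exact hNn.1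
    · intro hcyc k hk m
      -- `C_N(R)` has order `q`
      have hcycN : IsCyclic (fixedPts ((MulAut.characteristic N).comp β)) := by
        let f : fixedPts ((MulAut.characteristic N).comp β) →* fixedPts β :=
          { toFun := fun x => ⟨x.1.1, fun r => congrArg Subtype.val (x.2 r)⟩
            map_one' := rfl
            map_mul' := fun x y => rfl }
        apply isCyclic_of_injective f
        intro x y hxy
        apply Subtype.ext
        apply Subtype.ext
        exact congrArg (fun z : fixedPts β => (z : M)) hxy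
      have hCN : Nat.card (fixedPts ((MulAut.characteristic N).comp β)) = q := by
        obtain ⟨g, hg⟩ := hcycN.exists_generator
        have h1 : orderOf g = Nat.card (fixedPts ((MulAut.characteristic N).comp β)) :=
          orderOf_eq_card_of_forall_mem_zpowers hg
        have h2 : orderOf g ∣ q := by
          apply orderOf_dvd_of_pow_eq_one
          apply Subtype.ext
          exact hNq g.1
        rw [h1] at h2
        rcases (Nat.dvd_prime hqp).mp h2 with h3 | h3
        · exfalso
          have h4 : Nat.card N = Nat.card (fixedPts ((MulAut.characteristic N).comp β)) ^ Nat.card R :=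
            hNn.1
          rw [h3, one_pow] at h4
          omega
        · exact h3
      have hNcardq : Nat.card N = q ^ Nat.card R := by
        have h4 : Nat.card N = Nat.card (fixedPts ((MulAut.characteristic N).comp β)) ^ Nat.card R :=
            hNn.1
        rw [h4, hCN]
      have hNK := hNn.2 hNcardq
      have hkN : ∀ k ∈ commutator K, ∀ x ∈ N, α k x = x := by
        intro k hk x hx
        have h1 := commutator_le_ker ((MulAut.characteristic N).comp α) hNK k hk
        have h2 := congrArg (fun φ : MulAut N => (φ ⟨x, hx⟩ : M)) h1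
        exact h2
      -- the quotient
      have hcycQ : IsCyclic (fixedPts ((quotAut N).comp β)) := by
        rw [fixedPts_quot β N hNcomm hcopR]
        exact isCyclic_of_surjective ((QuotientGroup.mk' N).subgroupMap (fixedPts β))
          ((QuotientGroup.mk' N).subgroupMap_surjective (fixedPts β))
      have hkQ := hQ.2 hcycQ
      have hcopD : (Nat.card (commutator K)).Coprime (Nat.card M) :=
        hcopK.coprime_dvd_left (Subgroup.card_subgroup_dvd_card _)
      obtain ⟨x, hx, hfx⟩ := exists_fixed_lift (α.comp (commutator K).subtype) N hNcomm hcopD m (by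
        intro a
        have h1 : ((α a m : M) : M ⧸ N) = (m : M ⧸ N) := hkQ a a.2 (m : M ⧸ N)
        exact QuotientGroup.eq.mp h1.symm)
      have h1 : α k (m * x) = m * x := hfx ⟨k, hk⟩
      rw [map_mul, hkN k hk x hx] at h1
      exact mul_right_cancel h1

end Nilpotent

end Cfsg.Agent.OddOrderLocal.FrobAct
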