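import Mathlib
import Cfsg.Prelude.Def_OddOrderLocal
import Cfsg.Agent.OddOrderLocal.KappaStar
import Cfsg.Agent.OddOrderLocal.HallPi
import Cfsg.Agent.OddOrderLocal.PiCoreOf
import Cfsg.Agent.OddOrderLocal.SigmaElements
import Cfsg.Agent.OddOrderLocal.MinSimple
import Cfsg.Agent.S1350
import Cfsg.Agent.S1429
import Cfsg.Agent.S1430
import Cfsg.Agent.S1446

set_option autoImplicit false

/-!
Facts on a nontrivial Hall `κ(N)`-subgroup `L` of a maximal subgroup `N` used in the proof of B & G,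
Theorem 14.7 (no cyclicity assumed).
-/

namespace Cfsg.Agent.OddOrderLocal.P2Prime147

open Cfsg

variable {G : Type*} [Group G] [Finite G]

/-- `C_{N_σ}(L) ≠ 1`. -/
theorem star_ne_bot (hG : Cfsg.IsMinSimpleOddOrder G) (N : Subgroup G) (hN : IsCoatom N)
    (L : Subgroup G) (hL : Cfsg.IsPiHallOf (Cfsg.kappa N) L N) (hL1 : L ≠ ⊥) :
    Cfsg.sigmaCore N ⊓ Subgroup.centralizer (L : Set G) ≠ ⊥ :=
  KappaStar.kstar_ne_bot N L hL hL1 (S1430.result hG N hN L hL hL1).1

/-- A subgroup of order `p`-part: for `H` a Hall `π`-subgroup of `M` and `p ∈ π`, the image of every Sylow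
`p`-subgroup of `H` is the image of a Sylow `p`-subgroup of `M`. -/
theorem exists_sylow_map_eq {π : Set ℕ} {H M : Subgroup G} (hH : IsPiHallOf π H M) {p : ℕ}
    [Fact p.Prime] (hp : p ∈ π) (T : Sylow p H) :
    ∃ S : Sylow p M, (S : Subgroup M).map M.subtype = (T : Subgroup H).map H.subtype := by
  set T' : Subgroup G := (T : Subgroup H).map H.subtype with hT'
  have hT'H : T' ≤ H := Subgroup.map_subtype_le _
  have hT'M : T' ≤ M := hT'H.trans hH.1
  have hT'p : IsPGroup p T' := T.2.map _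
  have hidx : ¬ p ∣ T'.relIndex M := by
    rw [← Subgroup.relIndex_mul_relIndex T' H M hT'H hH.1]
    intro h
    rcases (Fact.out : p.Prime).dvd_mul.mp h with h | h
    · rw [hT', HallPi.relIndex_map_subtype] at h
      exact T.not_dvd_index h
    · exact hH.2.2 p Fact.out hp h
  have hT'pM : IsPGroup p (T'.subgroupOf M) := hT'p.comap_of_injective M.subtype M.subtype_injective
  refine ⟨hT'pM.toSylow hidx, ?_⟩
  change (T'.subgroupOf M).map M.subtype = T'
  rw [Subgroup.map_subgroupOf_eq_of_le hT'M]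

/-- If `N` is not of type `P₁` then `#L` is prime and `N_σ` is nilpotent. -/
theorem prime_and_nilpotent_of_not_P1 (hG : Cfsg.IsMinSimpleOddOrder G) (N : Subgroup G)
    (hN : IsCoatom N) (L : Subgroup G) (hL : Cfsg.IsPiHallOf (Cfsg.kappa N) L N) (hL1 : L ≠ ⊥)
    (hP1 : ¬ ∀ q : ℕ, q.Prime → q ∣ Nat.card N → q ∉ Cfsg.sigma N → q ∈ Cfsg.kappa N) :
    (Nat.card L).Prime ∧ Group.IsNilpotent (Cfsg.sigmaCore N) := by
  have hP1' := hP1
  push Not at hP1'
  obtain ⟨q, hq, hqN, hqσ, hqκ⟩ := hP1'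
  have : Fact q.Prime := ⟨hq⟩
  have hqσκ : q ∉ sigma N ∪ kappa N := fun h => h.elim hqσ hqκ
  obtain ⟨hprime, ⟨U, -, hU, hLU, hreg⟩, -⟩ := S1430.result hG N hN L hL hL1
  -- a Sylow `q`-subgroup of `N` inside `U`
  obtain ⟨T⟩ : Nonempty (Sylow q U) := inferInstance
  have hqU : q ∈ {q : ℕ | q.Prime ∧ q ∉ Cfsg.kappa N ∧ q ∉ Cfsg.sigma N} := ⟨hq, hqκ, hqσ⟩
  obtain ⟨S, hS⟩ := exists_sylow_map_eq hU hqU T
  have hSU : (S : Subgroup N).map N.subtype ≤ U := by
    rw [hS]; exact Subgroup.map_subtype_le _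
  obtain ⟨-, hcent, hnil⟩ := S1429.result hG N hN hP1 q hqN hqσκ S
  refine ⟨?_, hnil⟩
  have hCU : sigmaCore N ⊓ Subgroup.centralizer (U : Set G) = ⊥ := by
    rw [eq_bot_iff, ← hcent]
    refine inf_le_inf_left _ (Subgroup.centralizer_le ?_)
    intro x hx
    have h1 : Subgroup.closure {x : G | x ∈ (S : Subgroup N).map N.subtype ∧ x ^ q = 1} ≤ U := by
      rw [Subgroup.closure_le]
      rintro y ⟨hy, -⟩
      exact hSU hy
    exact h1 hx
  have hqdU : q ∣ Nat.card U := HallPi.prime_dvd_card hU hq hqU hqN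
  have hU1 : U ≠ ⊥ := by
    rintro rfl
    rw [Subgroup.card_bot] at hqdU
    exact hq.one_lt.ne' (Nat.dvd_one.1 hqdU)
  have hUM : U ≤ N := hU.1
  have hLM : L ≤ N := hL.1
  have hUL : U ⊓ L = ⊥ := by
    rw [inf_comm]
    exact HallPi.inf_eq_bot_of_pi hL.2.1 (fun p hp hd => (hU.2.1 p hp hd).2.1)
  have hsupN : U ⊔ L ≤ N := sup_le hUM hLM
  have hNσ : IsPiHallOf (sigma N) (sigmaCore N) N := (S1350.result hG N hN).1
  have hNnorm := SigmaElements.le_normalizer_sigmaCore N
  have hσ1 : sigmaCore N ≠ ⊥ := by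
    intro h
    apply star_ne_bot hG N hN L hL hL1
    rw [h, bot_inf_eq]
  have hcop : (Nat.card ↥(U ⊔ L)).Coprime (Nat.card (sigmaCore N)) := by
    refine (HallPi.coprime_of_pi hNσ.2.1 ?_).symm
    intro p hp hd
    rw [sup_comm] at hd
    rcases hp.dvd_mul.1 (hd.trans (PiCoreOf.card_sup_dvd_of_le_normalizer hLU)) with h | h
    · exact (hL.2.1 p hp h).2.2.1
    · exact (hU.2.1 p hp h).2.2
  have hsupne : U ⊔ L ≠ ⊤ := fun h => hN.1 (top_le_iff.1 (h ▸ hsupN))
  exact (S1446.result U L (sigmaCore N) hU1 hL1 hUL hLU hreg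
    (MinSimple.isSolvable hG hsupne) (MinSimple.odd_card_subgroup hG _) hσ1 hnil
    (hUM.trans hNnorm) (hLM.trans hNnorm) hcop hCU hprime).1

/-- A nilpotent subgroup of the Hall `κ(N)`-subgroup `L` is cyclic. -/
theorem isCyclic_of_le (N : Subgroup G) (L : Subgroup G)
    (hL : Cfsg.IsPiHallOf (Cfsg.kappa N) L N) (H : Subgroup G) (hHL : H ≤ L)
    (hnil : Group.IsNilpotent H) : IsCyclic H := by
  have hZ : IsZGroup H := by
    refine ⟨fun p hp P => ?_⟩
    have : Fact p.Prime := ⟨hp⟩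
    by_cases hpH : p ∣ Nat.card H
    · have hpκ : p ∈ kappa N := hL.2.1 p hp (hpH.trans (Subgroup.card_dvd_of_le hHL))
      -- a Sylow `p`-subgroup of `N` containing the image of `P`
      have hP' : IsPGroup p (((P : Subgroup H).map H.subtype).subgroupOf N) :=
        (P.2.map H.subtype).comap_of_injective N.subtype N.subtype_injective
      obtain ⟨S, hS⟩ := hP'.exists_le_sylow
      have hScyc : IsCyclic S := (hpκ.2.2.2 S).1
      have hPN : (P : Subgroup H).map H.subtype ≤ N :=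
        (Subgroup.map_subtype_le _).trans (hHL.trans hL.1)
      have h1 : IsCyclic (((P : Subgroup H).map H.subtype).subgroupOf N) :=
        isCyclic_of_injective (Subgroup.inclusion hS) (Subgroup.inclusion_injective hS)
      have h2 : IsCyclic ((P : Subgroup H).map H.subtype) :=
        isCyclic_of_surjective (Subgroup.subgroupOfEquivOfLe hPN).toMonoidHom
          (Subgroup.subgroupOfEquivOfLe hPN).surjective
      exact isCyclic_of_injective
        (((P : Subgroup H).equivMapOfInjective H.subtype H.subtype_injective).toMonoidHom)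
        ((P : Subgroup H).equivMapOfInjective H.subtype H.subtype_injective).injective
    · have h1 : Nat.card P = 1 := by
        obtain ⟨n, hn⟩ := IsPGroup.iff_card.1 P.2
        rcases Nat.eq_zero_or_pos n with rfl | hn0
        · simpa using hn
        · exfalso
          apply hpH
          refine Dvd.dvd.trans ?_ (Subgroup.card_subgroup_dvd_card (P : Subgroup H))
          rw [hn]
          exact dvd_pow_self p hn0.ne'
      have : Subsingleton P := (Nat.card_eq_one_iff_unique.1 h1).1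
      exact isCyclic_of_subsingleton
  have := hZ
  have := hnil
  infer_instance

/-- If `L` is nilpotent then it is cyclic. -/
theorem isCyclic_of_isNilpotent (N : Subgroup G) (L : Subgroup G)
    (hL : Cfsg.IsPiHallOf (Cfsg.kappa N) L N) (hnil : Group.IsNilpotent L) : IsCyclic L :=
  isCyclic_of_le N L hL L le_rfl hnil

/-- If `N` is of type `P₁` (or all its primes are in `σ(N)`) then `#N = #L #N_σ`. -/
theorem card_eq_of_P1 (hG : Cfsg.IsMinSimpleOddOrder G) (N : Subgroup G) (hN : IsCoatom N)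
    (L : Subgroup G) (hL : Cfsg.IsPiHallOf (Cfsg.kappa N) L N)
    (hP1 : ∀ q : ℕ, q.Prime → q ∣ Nat.card N → q ∉ Cfsg.sigma N → q ∈ Cfsg.kappa N) :
    Nat.card N = Nat.card L * Nat.card (Cfsg.sigmaCore N) := by
  have hNσ : IsPiHallOf (sigma N) (sigmaCore N) N := (S1350.result hG N hN).1
  have h1 : IsComplIn L (sigmaCore N) N := by
    rw [HallPi.isPiHallOf_compl_iff hNσ]
    refine (HallPi.isPiHallOf_congr' ?_).1 hL
    intro p hp hd
    constructor
    · intro h
      exact ⟨hp, h.2.2.1⟩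
    · intro h
      exact hP1 p hp hd h.2
  exact (HallPi.isComplIn_card h1).symm

end Cfsg.Agent.OddOrderLocal.P2Prime147
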