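import Mathlib
import Cfsg.Prelude.Def_OddOrderLocal
import Cfsg.Agent.OddOrderLocal.HallPi
import Cfsg.Agent.OddOrderLocal.PiCoreOf
import Cfsg.Agent.OddOrderLocal.MinSimpleBasic
import Cfsg.Agent.OddOrderLocal.Equivariance
import Cfsg.Agent.OddOrderLocal.CommProd
import Cfsg.Agent.OddOrderLocal.KappaStar
import Cfsg.Agent.S1350
import Cfsg.Agent.S1374
import Cfsg.Agent.S1375
import Cfsg.Agent.S1378
import Cfsg.Agent.S1430
import Cfsg.Agent.S1431
import Cfsg.Agent.S1432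

/-!
Structural half of B & G, Theorem 14.7: for a maximal subgroup `M` with nontrivial Hall
`κ(M)`-subgroup `K`, `K* = C_{M_σ}(K)` and `Z = K K*`.
-/

set_option autoImplicit false
set_option linter.unusedSectionVars false

namespace Cfsg.Agent.OddOrderLocal.Struct147

open Cfsg
open Cfsg.Agent.OddOrderLocal.CommProd Cfsg.Agent.OddOrderLocal.PiCoreOf
open Cfsg.Agent.OddOrderLocal

universe u

variable {G : Type u} [Group G]

/-- `K* = C_{M_σ}(K)`. -/
local notation "star(" M ", " K ")" => (sigmaCore M ⊓ Subgroup.centralizer (K : Set G))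

/-- A maximal subgroup `M` with a nontrivial Hall `κ(M)`-subgroup `K`. -/
structure PPair (M K : Subgroup G) : Prop where
  max : IsCoatom M
  hall : IsPiHallOf (kappa M) K M
  ne : K ≠ ⊥

theorem sigmaCore_le (M : Subgroup G) : sigmaCore M ≤ M := Subgroup.map_subtype_le _

theorem sigmaCore_isPi [Finite G] (M : Subgroup G) :
    ∀ p : ℕ, p.Prime → p ∣ Nat.card (sigmaCore M) → p ∈ sigma M :=
  piCoreOf_isPi (sigma M) M

theorem le_normalizer_sigmaCore [Finite G] (M : Subgroup G) :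
    M ≤ Subgroup.normalizer (sigmaCore M : Set G) :=
  le_normalizer_piCoreOf (sigma M) M

theorem kappa_not_sigma {M : Subgroup G} : ∀ p ∈ kappa M, p ∉ sigma M := fun _ h => h.2.2.1

theorem kappa_not_tau2 [Finite G] {M : Subgroup G} : ∀ p ∈ kappa M, p ∉ tau2 M := by
  rintro p ⟨hp, -, -, hcyc⟩ ⟨-, -, -, hr⟩
  have : Fact p.Prime := ⟨hp⟩
  apply hr
  intro A hA hAp
  have hAP : IsPGroup p A := fun a => ⟨1, by
    have := hAp a a.2
    apply Subtype.ext
    simpa using this⟩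
  obtain ⟨P, hP⟩ := hAP.exists_le_sylow
  have hc : IsCyclic P := (hcyc P).1
  have hAc : IsCyclic A :=
    isCyclic_of_injective (Subgroup.inclusion hP) (Subgroup.inclusion_injective hP)
  obtain ⟨g, hg⟩ := hAc.exists_generator
  have h1 : Nat.card A = orderOf g := (orderOf_eq_card_of_forall_mem_zpowers hg).symm
  rw [h1, pow_one]
  apply Nat.le_of_dvd hp.pos
  apply orderOf_dvd_of_pow_eq_one
  apply Subtype.ext
  simpa using hAp g g.2

theorem orderOf_pi {π : Set ℕ} {H : Subgroup G}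
    (hH : ∀ p : ℕ, p.Prime → p ∣ Nat.card H → p ∈ π) {x : G} (hx : x ∈ H) :
    ∀ p : ℕ, p.Prime → p ∣ orderOf x → p ∈ π :=
  fun p hp hd => hH p hp (hd.trans (Subgroup.orderOf_dvd_natCard H hx))

theorem eq_one_of_pi [Finite G] {π ρ : Set ℕ} (hπρ : ∀ p ∈ π, p ∉ ρ) {x : G}
    (h1 : ∀ p : ℕ, p.Prime → p ∣ orderOf x → p ∈ π) (h2 : ∀ p : ℕ, p.Prime → p ∣ orderOf x → p ∈ ρ) :
    x = 1 := by
  by_contra hx
  have h3 : orderOf x ≠ 1 := fun h => hx (orderOf_eq_one_iff.1 h)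
  obtain ⟨p, hp, hd⟩ := Nat.exists_prime_and_dvd h3
  exact hπρ p (h1 p hp hd) (h2 p hp hd)

section Finite

variable [Finite G]

namespace PPair

variable {M K : Subgroup G}

theorem K_le (h : PPair M K) : K ≤ M := h.hall.1

theorem K_pi (h : PPair M K) : ∀ p : ℕ, p.Prime → p ∣ Nat.card K → p ∈ kappa M := h.hall.2.1

theorem star_le : star(M, K) ≤ M := inf_le_left.trans (sigmaCore_le M)

theorem star_pi : ∀ p : ℕ, p.Prime → p ∣ Nat.card ↥star(M, K) → p ∈ sigma M :=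
  isPi_mono (inf_le_left : star(M, K) ≤ sigmaCore M) (sigmaCore_isPi M)

theorem comm : ∀ a ∈ K, ∀ b ∈ star(M, K), a * b = b * a :=
  fun a ha _ hb => Subgroup.mem_centralizer_iff.1 hb.2 a ha

theorem coprime_sigmaCore (h : PPair M K) : (Nat.card K).Coprime (Nat.card (sigmaCore M)) :=
  coprime_of_pi kappa_not_sigma h.K_pi (sigmaCore_isPi M)

theorem coprime (h : PPair M K) : (Nat.card K).Coprime (Nat.card ↥star(M, K)) :=
  coprime_of_pi kappa_not_sigma h.K_pi star_pi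

theorem inf_sigmaCore (h : PPair M K) : K ⊓ sigmaCore M = ⊥ :=
  inf_eq_bot_of_coprime h.coprime_sigmaCore

theorem inf_star (h : PPair M K) : K ⊓ star(M, K) = ⊥ := inf_eq_bot_of_coprime h.coprime

theorem mem_Z {z : G} : z ∈ K ⊔ star(M, K) ↔ ∃ a ∈ K, ∃ b ∈ star(M, K), z = a * b :=
  mem_sup_of_comm comm

theorem Z_le (h : PPair M K) : K ⊔ star(M, K) ≤ M := sup_le h.K_le star_le

theorem card_Z (h : PPair M K) :
    Nat.card ↥(K ⊔ star(M, K)) = Nat.card K * Nat.card ↥star(M, K) :=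
  card_sup_of_comm comm h.inf_star

theorem Z_inf_sigmaCore (h : PPair M K) : sigmaCore M ⊓ (K ⊔ star(M, K)) = star(M, K) := by
  apply le_antisymm
  · rintro z ⟨hz, hz'⟩
    obtain ⟨a, ha, b, hb, rfl⟩ := mem_Z.1 hz'
    have h1 : a ∈ K ⊓ sigmaCore M :=
      ⟨ha, (Subgroup.mul_mem_cancel_right _ hb.1).1 hz⟩
    rw [h.inf_sigmaCore, Subgroup.mem_bot] at h1
    rw [h1, one_mul]; exact hb
  · exact le_inf inf_le_left le_sup_right

/-- A σ(M)-element of `Z` lies in `K*`. -/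
theorem mem_star_of_pi (h : PPair M K) {z : G} (hz : z ∈ K ⊔ star(M, K))
    (hπ : ∀ p : ℕ, p.Prime → p ∣ orderOf z → p ∈ sigma M) : z ∈ star(M, K) := by
  obtain ⟨n, hn⟩ := exists_pow_eq_left comm h.coprime
  obtain ⟨a, ha, b, hb, rfl⟩ := mem_Z.1 hz
  have h1 : a = 1 := by
    refine eq_one_of_pi kappa_not_sigma (orderOf_pi h.K_pi ha) (fun p hp hd => hπ p hp ?_)
    have h2 := hn a ha b hb
    calc p ∣ orderOf a := hd
      _ = orderOf ((a * b) ^ n) := by rw [h2]
      _ ∣ orderOf (a * b) := orderOf_pow_dvd n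
  rw [h1, one_mul]; exact hb

/-- A σ(M)'-element of `Z` lies in `K`. -/
theorem mem_K_of_pi (h : PPair M K) {z : G} (hz : z ∈ K ⊔ star(M, K))
    (hπ : ∀ p : ℕ, p.Prime → p ∣ orderOf z → p ∉ sigma M) : z ∈ K := by
  obtain ⟨n, hn⟩ := exists_pow_eq_right comm h.coprime
  obtain ⟨a, ha, b, hb, rfl⟩ := mem_Z.1 hz
  have h1 : b = 1 := by
    refine eq_one_of_pi (π := sigma M) (ρ := {p | p ∉ sigma M}) (fun p hp hp' => hp' hp)
      (orderOf_pi star_pi hb) (fun p hp hd => hπ p hp ?_)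
    have h2 := hn a ha b hb
    calc p ∣ orderOf b := hd
      _ = orderOf ((a * b) ^ n) := by rw [h2]
      _ ∣ orderOf (a * b) := orderOf_pow_dvd n
  rw [h1, mul_one]; exact ha

theorem K_conj {z : G} (hz : z ∈ K ⊔ star(M, K)) {k : G} (hk : k ∈ K) : z * k * z⁻¹ ∈ K := by
  obtain ⟨a, ha, b, hb, rfl⟩ := mem_Z.1 hz
  have h1 : b * k * b⁻¹ = k := by rw [← comm k hk b hb]; group
  have h2 : a * b * k * (a * b)⁻¹ = a * (b * k * b⁻¹) * a⁻¹ := by group
  rw [h2, h1]
  exact K.mul_mem (K.mul_mem ha hk) (K.inv_mem ha)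

theorem Z_le_normalizer_K : K ⊔ star(M, K) ≤ Subgroup.normalizer (K : Set G) := by
  intro z hz
  rw [Subgroup.mem_normalizer_iff]
  intro k
  refine ⟨fun hk => K_conj hz hk, fun hk => ?_⟩
  have h1 := K_conj (M := M) ((K ⊔ star(M, K)).inv_mem hz) hk
  have h2 : z⁻¹ * (z * k * z⁻¹) * z⁻¹⁻¹ = k := by group
  rwa [h2] at h1

theorem star_conj {z : G} (hz : z ∈ K ⊔ star(M, K)) {k : G} (hk : k ∈ star(M, K)) :
    z * k * z⁻¹ ∈ star(M, K) := by
  obtain ⟨a, ha, b, hb, rfl⟩ := mem_Z.1 hz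
  have h0 : b * k * b⁻¹ ∈ star(M, K) :=
    star(M, K).mul_mem (star(M, K).mul_mem hb hk) (star(M, K).inv_mem hb)
  have h1 : a * (b * k * b⁻¹) * a⁻¹ = b * k * b⁻¹ := by rw [comm a ha _ h0]; group
  have h2 : a * b * k * (a * b)⁻¹ = a * (b * k * b⁻¹) * a⁻¹ := by group
  rw [h2, h1]
  exact h0

end PPair

/-- The order of a group with two complementary subgroups. -/
theorem card_of_isComplIn {A B M : Subgroup G} (h : IsComplIn A B M) :
    Nat.card M = Nat.card A * Nat.card B := by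
  obtain ⟨hA, hB, hAB, hM⟩ := h
  rw [← Nat.card_prod]
  symm
  refine Nat.card_congr (Equiv.ofBijective
    (fun x : A × B => (⟨(x.1 : G) * (x.2 : G), M.mul_mem (hA x.1.2) (hB x.2.2)⟩ : M)) ⟨?_, ?_⟩)
  · rintro ⟨a, b⟩ ⟨c, d⟩ hab
    have := congrArg Subtype.val hab
    obtain ⟨h1, h2⟩ := eq_of_mul_eq hAB a.2 b.2 c.2 d.2 this
    exact Prod.ext (Subtype.ext h1) (Subtype.ext h2)
  · rintro ⟨z, hz⟩
    obtain ⟨a, ha, b, hb, rfl⟩ := hM z hz
    exact ⟨(⟨a, ha⟩, ⟨b, hb⟩), rfl⟩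

section Main

variable (hG : IsMinSimpleOddOrder G)
include hG

/-- Maximal subgroups whose σ-sets meet are conjugate, hence have the same σ. -/
theorem sigma_eq_of_mem {M N : Subgroup G} (hM : IsCoatom M) (hN : IsCoatom N) {p : ℕ}
    (hp : p ∈ sigma M) (hp' : p ∈ sigma N) : ∃ g : G, N = M.map (MulAut.conj g).toMonoidHom :=
  (S1378.result hG).2 M N hM hN ⟨p, hp, hp'⟩

theorem sigma_disjoint {M N : Subgroup G} (hM : IsCoatom M) (hN : IsCoatom N) {p : ℕ}
    (hp : p ∈ sigma N) (hp' : p ∉ sigma M) {q : ℕ} (hq : q ∈ sigma N) : q ∉ sigma M := by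
  intro hq'
  obtain ⟨g, rfl⟩ := sigma_eq_of_mem hG hM hN hq' hq
  rw [Equivariance.sigma_map] at hp
  exact hp' hp

namespace PPair

variable {M K : Subgroup G}

/-- B & G 14.2: `K* ∩ M^g = 1` for `g ∉ M`. -/
theorem mem_of_mem_conj (h : PPair M K) {g y : G} (hy : y ∈ star(M, K)) (hy1 : y ≠ 1)
    (hgy : y ∈ M.map (MulAut.conj g).toMonoidHom) : g ∈ M := by
  by_contra hg
  have h1 := (S1431.result hG M h.max K h.hall h.ne).1 g hg
  have h2 : y ∈ star(M, K) ⊓ M.map (MulAut.conj g).toMonoidHom := ⟨hy, hgy⟩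
  rw [h1, Subgroup.mem_bot] at h2
  exact hy1 h2

theorem mem_of_conj_mem (h : PPair M K) {g y : G} (hy : y ∈ M) (hy1 : y ≠ 1)
    (hgy : g * y * g⁻¹ ∈ star(M, K)) : g ∈ M := by
  refine h.mem_of_mem_conj hG hgy (fun h1 => hy1 ?_) ⟨y, hy, rfl⟩
  have : y = g⁻¹ * (g * y * g⁻¹) * g := by group
  rw [this, h1]; group

theorem centralizer_le (h : PPair M K) {y : G} (hy : y ∈ star(M, K)) (hy1 : y ≠ 1) :
    Subgroup.centralizer ({y} : Set G) ≤ M := by
  intro c hc
  rw [Subgroup.mem_centralizer_singleton_iff] at hc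
  refine h.mem_of_conj_mem hG (star_le hy) hy1 ?_
  rw [hc]
  simpa using hy

theorem normalizer_le (h : PPair M K) {Y : Subgroup G} (hY : Y ≤ star(M, K)) (hY1 : Y ≠ ⊥) :
    Subgroup.normalizer (Y : Set G) ≤ M := by
  intro g hg
  obtain ⟨y, hy, hy1⟩ := Y.bot_or_exists_ne_one.resolve_left hY1
  exact h.mem_of_conj_mem hG (star_le (hY hy)) hy1 (hY ((Subgroup.mem_normalizer_iff.1 hg y).1 hy))

/-- B & G 14.2: `K ∩ K^g = 1` for `g ∈ M` outside `K K*`. -/
theorem mem_Z_of_conj (h : PPair M K) {g k : G} (hg : g ∈ M) (hk : k ∈ K) (hk1 : k ≠ 1)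
    (hgk : g * k * g⁻¹ ∈ K) : g ∈ K ⊔ star(M, K) := by
  by_contra hgZ
  have h1 := (S1431.result hG M h.max K h.hall h.ne).2.1 g hg hgZ
  have h2 : g * k * g⁻¹ ∈ K ⊓ K.map (MulAut.conj g).toMonoidHom := ⟨hgk, k, hk, rfl⟩
  rw [h1, Subgroup.mem_bot] at h2
  apply hk1
  have : k = g⁻¹ * (g * k * g⁻¹) * g := by group
  rw [this, h2]; group

theorem inf_normalizer (h : PPair M K) {X : Subgroup G} (hX : X ≤ K) (hXp : (Nat.card X).Prime) :
    M ⊓ Subgroup.normalizer (X : Set G) = K ⊔ star(M, K) :=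
  ((S1430.result hG M h.max K h.hall h.ne).2.2 X hX hXp).1

theorem inf_normalizer_K (h : PPair M K) :
    M ⊓ Subgroup.normalizer (K : Set G) = K ⊔ star(M, K) := by
  obtain ⟨X, hX, hXp⟩ := exists_prime_subgroup_of_ne_bot h.ne
  exact ((S1430.result hG M h.max K h.hall h.ne).2.2 X hX hXp).2.1

theorem le_sigmaCore (h : PPair M K) {X : Subgroup G} (hX : X ≤ K) (hXp : (Nat.card X).Prime)
    {N : Subgroup G} (hN : IsCoatom N) (hXN : Subgroup.normalizer (X : Set G) ≤ N) :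
    X ≤ sigmaCore N :=
  ((S1430.result hG M h.max K h.hall h.ne).2.2 X hX hXp).2.2 N hN hXN

theorem star_ne_bot (h : PPair M K) : star(M, K) ≠ ⊥ :=
  KappaStar.kstar_ne_bot M K h.hall h.ne (S1430.result hG M h.max K h.hall h.ne).1

theorem isSolvable (h : PPair M K) : Group.IsSolvable M :=
  MinSimpleBasic.isSolvable_of_isCoatom hG h.max

/-- Structural half of B & G 14.7: let `X ≤ K` have prime order and let `N ≥ N_G(X)` be maximal.
Then `σ(N)` and `σ(M)` are disjoint and `K K* = L L*` for some Hall `κ(N)`-subgroup `L` of `N`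
containing `K*`, where `X ≤ L* = C_{N_σ}(L) ≤ K`. -/
theorem exists_partner_of_prime (h : PPair M K) {X : Subgroup G} (hXK : X ≤ K)
    (hXp : (Nat.card X).Prime) {N : Subgroup G} (hN : IsCoatom N)
    (hXN : Subgroup.normalizer (X : Set G) ≤ N) :
    (∀ p ∈ sigma N, p ∉ sigma M) ∧ ∃ L : Subgroup G, PPair N L ∧ star(M, K) ≤ L ∧
      X ≤ star(N, L) ∧ star(N, L) ≤ K ∧ L ⊔ star(N, L) = K ⊔ star(M, K) := by
  obtain ⟨x, hx, hx1, hxo, hxX⟩ := exists_gen_of_prime hXp
  have hXσ : X ≤ sigmaCore N := h.le_sigmaCore hG hXK hXp hN hXN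
  have hpσN : Nat.card X ∈ sigma N :=
    sigmaCore_isPi N _ hXp (Subgroup.card_dvd_of_le hXσ)
  have hpκ : Nat.card X ∈ kappa M := h.K_pi _ hXp (Subgroup.card_dvd_of_le hXK)
  have hpσM : Nat.card X ∉ sigma M := kappa_not_sigma _ hpκ
  have hdisj : ∀ p ∈ sigma N, p ∉ sigma M := fun q hq =>
    sigma_disjoint hG h.max hN hpσN hpσM hq
  have hNM : N ≠ M := by
    rintro rfl
    exact hpσM hpσN
  have hZN : K ⊔ star(M, K) ≤ N := by
    rw [← h.inf_normalizer hG hXK hXp]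
    exact inf_le_right.trans hXN
  have hKN : K ≤ N := le_sup_left.trans hZN
  have hsN : star(M, K) ≤ N := le_sup_right.trans hZN
  -- `K*` is a κ(N)-group
  have hκN : ∀ q : ℕ, q.Prime → q ∣ Nat.card ↥star(M, K) → q ∈ kappa N := by
    intro q hq hqd
    obtain ⟨Y, hY, hYc⟩ := exists_prime_subgroup hq hqd
    obtain ⟨y, hy, hy1, hyo, hyY⟩ := exists_gen_of_prime (X := Y) (hYc ▸ hq)
    have hqM : q ∈ sigma M := star_pi q hq hqd
    have hyor : orderOf y = q := hyo.trans hYc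
    have hyN : y ∈ N ⊓ Subgroup.centralizer ({x} : Set G) := by
      exact Subgroup.mem_inf.2 ⟨hsN (hY hy),
        Subgroup.mem_centralizer_singleton_iff.2 (comm x (hXK hx) y (hY hy)).symm⟩
    have hσ : ∀ p : ℕ, p.Prime → p ∣ orderOf y → p ∉ sigma N := by
      intro p hp hpd hpN
      rw [hyor, Nat.prime_dvd_prime_iff_eq hp hq] at hpd
      subst hpd
      exact hdisj p hpN hqM
    rcases S1432.result hG N hN x (hXσ hx) hx1 y hyN hy1 hσ with ⟨h1, -⟩ | ⟨-, -, -, h3⟩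
    · exact h1 q hq (by rw [hyor])
    · exfalso
      exact hNM (h3 M h.max (h.centralizer_le hG (hY hy) hy1)).symm
  -- a Hall κ(N)-subgroup containing `K*`
  obtain ⟨L, hL, hsL⟩ := HallPi.exists_isPiHallOf_ge
    (MinSimpleBasic.isSolvable_of_isCoatom hG hN) (kappa N) hsN hκN
  have hL1 : L ≠ ⊥ := by
    rintro rfl
    exact h.star_ne_bot hG (le_bot_iff.1 hsL)
  have hp : PPair N L := ⟨hN, hL, hL1⟩
  -- a subgroup `Y ≤ K*` of prime order
  obtain ⟨Y, hY, hYp⟩ := exists_prime_subgroup_of_ne_bot (h.star_ne_bot hG)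
  obtain ⟨y, hy, hy1, -, hyY⟩ := exists_gen_of_prime hYp
  have hYbot : Y ≠ ⊥ := by
    rintro rfl
    rw [Subgroup.card_bot] at hYp
    exact Nat.not_prime_one hYp
  have hNY : N ⊓ Subgroup.normalizer (Y : Set G) = L ⊔ star(N, L) :=
    hp.inf_normalizer hG (hY.trans hsL) hYp
  have hZ'M : L ⊔ star(N, L) ≤ M := by
    rw [← hNY]
    exact inf_le_right.trans (h.normalizer_le hG hY hYbot)
  -- `K ≤ L L*`
  have hKL : K ≤ L ⊔ star(N, L) := by
    rw [← hNY]
    refine le_inf hKN ?_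
    intro k hk
    rw [Subgroup.mem_normalizer_iff]
    intro z
    have hcomm : ∀ w ∈ Y, k * w * k⁻¹ = w := by
      intro w hw
      rw [comm k hk w (hY hw)]; group
    constructor
    · intro hz
      rw [hcomm z hz]; exact hz
    · intro hz
      have h1 := comm k hk _ (hY hz)
      have h2 : z = k * z * k⁻¹ := by
        have h3 : k⁻¹ * (k * z * k⁻¹) * k = k * z * k⁻¹ := by
          have h4 : k⁻¹ * (k * z * k⁻¹) * k = k⁻¹ * ((k * z * k⁻¹) * k) := by group
          rw [h4, ← h1]; group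
        calc z = k⁻¹ * (k * z * k⁻¹) * k := by group
          _ = k * z * k⁻¹ := h3
      rw [h2]; exact hz
  have hXL : X ≤ star(N, L) := by
    rw [← hp.Z_inf_sigmaCore]
    exact le_inf hXσ (hXK.trans hKL)
  -- `L ≤ K K*`
  have hLZ : L ≤ K ⊔ star(M, K) := by
    rw [← h.inf_normalizer hG hXK hXp]
    refine le_inf (le_sup_left.trans hZ'M) ?_
    intro l hl
    rw [Subgroup.mem_normalizer_iff]
    intro z
    have hcomm : ∀ w ∈ X, l * w * l⁻¹ = w := by
      intro w hw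
      rw [comm l hl w (hXL hw)]; group
    constructor
    · intro hz
      rw [hcomm z hz]; exact hz
    · intro hz
      have h1 := comm l hl _ (hXL hz)
      have h2 : z = l * z * l⁻¹ := by
        have h3 : l⁻¹ * (l * z * l⁻¹) * l = l * z * l⁻¹ := by
          have h4 : l⁻¹ * (l * z * l⁻¹) * l = l⁻¹ * ((l * z * l⁻¹) * l) := by group
          rw [h4, ← h1]; group
        calc z = l⁻¹ * (l * z * l⁻¹) * l := by group
          _ = l * z * l⁻¹ := h3
      rw [h2]; exact hz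
  -- `L*` is a κ(M)-group
  have hκM : ∀ r : ℕ, r.Prime → r ∣ Nat.card ↥star(N, L) → r ∈ kappa M := by
    intro r hr hrd
    obtain ⟨W, hW, hWc⟩ := exists_prime_subgroup hr hrd
    obtain ⟨w, hw, hw1, hwo, hwW⟩ := exists_gen_of_prime (X := W) (hWc ▸ hr)
    have hrN : r ∈ sigma N := star_pi r hr hrd
    have hwor : orderOf w = r := hwo.trans hWc
    have hwM : w ∈ M ⊓ Subgroup.centralizer ({y} : Set G) := by
      exact Subgroup.mem_inf.2 ⟨hZ'M (Subgroup.mem_sup_right (hW hw)),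
        Subgroup.mem_centralizer_singleton_iff.2 (comm y (hsL (hY hy)) w (hW hw)).symm⟩
    have hσ : ∀ p : ℕ, p.Prime → p ∣ orderOf w → p ∉ sigma M := by
      intro p hp hpd hpM
      rw [hwor, Nat.prime_dvd_prime_iff_eq hp hr] at hpd
      subst hpd
      exact hdisj p hrN hpM
    rcases S1432.result hG M h.max y (hY hy).1 hy1 w hwM hw1 hσ with ⟨h1, -⟩ | ⟨-, -, -, h3⟩
    · exact h1 r hr (by rw [hwor])
    · exfalso
      exact hNM (h3 N hN (hp.centralizer_le hG (hW hw) hw1))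
  -- `L* ≤ K`
  have hLK : star(N, L) ≤ K := by
    obtain ⟨m, hm, hmK⟩ := HallPi.exists_conj_le_of_isPiHallOf (h.isSolvable hG) h.hall
      (le_sup_right.trans hZ'M) hκM
    have hmx : m * x * m⁻¹ ∈ K := hmK ⟨x, hXL hx, rfl⟩
    have hmZ : m ∈ K ⊔ star(M, K) := h.mem_Z_of_conj hG hm (hXK hx) hx1 hmx
    intro s hs
    have h1 : m * s * m⁻¹ ∈ K := hmK ⟨s, hs, rfl⟩
    have h2 := K_conj (M := M) ((K ⊔ star(M, K)).inv_mem hmZ) h1
    have h3 : m⁻¹ * (m * s * m⁻¹) * m⁻¹⁻¹ = s := by group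
    rwa [h3] at h2
  refine ⟨hdisj, L, hp, hsL, hXL, hLK, le_antisymm ?_ ?_⟩
  · exact sup_le hLZ (hLK.trans le_sup_left)
  · exact sup_le hKL (hsL.trans le_sup_left)

/-- `Z - (K ∪ K*)` is a TI-set with normalizer `Z`, in a strong form. -/
theorem mem_Z_of_TI (h : PPair M K) {g z : G} (hz : z ∈ K ⊔ star(M, K)) (hzK : z ∉ K)
    (hzs : z ∉ star(M, K)) (hgz : g * z * g⁻¹ ∈ K ⊔ star(M, K)) : g ∈ K ⊔ star(M, K) := by
  obtain ⟨n, hn⟩ := exists_pow_eq_right comm h.coprime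
  obtain ⟨m, hm⟩ := exists_pow_eq_left comm h.coprime
  obtain ⟨k, hk, s, hs, rfl⟩ := mem_Z.1 hz
  obtain ⟨k', hk', s', hs', he⟩ := mem_Z.1 hgz
  have hk1 : k ≠ 1 := by
    rintro rfl
    rw [one_mul] at hzs
    exact hzs hs
  have hs1 : s ≠ 1 := by
    rintro rfl
    rw [mul_one] at hzK
    exact hzK hk
  have e1 : g * s * g⁻¹ = s' := by
    rw [← hn k hk s hs, ← hn k' hk' s' hs', ← he, conj_pow]
  have e2 : g * k * g⁻¹ = k' := by
    rw [← hm k hk s hs, ← hm k' hk' s' hs', ← he, conj_pow]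
  have hgM : g ∈ M := h.mem_of_conj_mem hG (star_le hs) hs1 (e1 ▸ hs')
  exact h.mem_Z_of_conj hG hgM hk hk1 (e2 ▸ hk')

/-- The elements of `Z` outside `K*` do not lie in `M̃`. -/
theorem not_mem_tildeOf (h : PPair M K) {t : G} (ht : t ∈ K ⊔ star(M, K))
    (hts : t ∉ star(M, K)) : t ∉ tildeOf M ((sigmaCore M : Set G) \ {1}) := by
  rintro ⟨a, ⟨haσ, ha1⟩, r, hr, y, rfl⟩
  have ha1' : a ≠ 1 := fun h => ha1 (by simp [h])
  have haσ' : a ∈ sigmaCore M := haσ
  have haM : a ∈ M := sigmaCore_le M haσ'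
  have hapi : ∀ p : ℕ, p.Prime → p ∣ orderOf (y * a * y⁻¹) → p ∈ sigma M := by
    have h0 : orderOf (y * a * y⁻¹) = orderOf a := by
      simpa using (MulAut.conj y).orderOf_eq a
    rw [h0]
    exact orderOf_pi (sigmaCore_isPi M) haσ'
  by_cases hC : Subgroup.centralizer ({a} : Set G) ≤ M
  · have hr1 : r = 1 := by
      rw [supportR, dif_neg (fun h => h.1 hC)] at hr
      exact Subgroup.mem_bot.1 hr
    rw [hr1, mul_one] at ht hts
    exact hts (h.mem_star_of_pi ht hapi)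
  · obtain ⟨N, ⟨hN, haN⟩, hNuniq, hNF, -, hcompl, -, -⟩ := S1375.result hG M h.max a haσ' ha1' hC
    have hex : ∃! L : Subgroup G, IsCoatom L ∧ Subgroup.centralizer ({a} : Set G) ≤ L :=
      ⟨N, ⟨hN, haN⟩, fun L hL => hNuniq L hL.1 hL.2⟩
    have hrN : r ∈ sigmaCore N ⊓ Subgroup.centralizer ({a} : Set G) := by
      rw [supportR, dif_pos ⟨hC, hex⟩] at hr
      have h1 : Classical.choose hex.exists = N :=
        hNuniq _ (Classical.choose_spec hex.exists).1 (Classical.choose_spec hex.exists).2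
      rw [h1] at hr
      rw [hNF]
      exact hr
    have hra : a * r = r * a :=
      (Subgroup.mem_centralizer_singleton_iff.1 (Subgroup.mem_inf.1 hrN).2).symm
    have hcop : (Nat.card (Subgroup.zpowers a)).Coprime (Nat.card (Subgroup.zpowers r)) := by
      have h1 := (S1374.result hG M h.max a haσ' ha1').1
      have h2 : (M ⊓ Subgroup.centralizer ({a} : Set G)).relIndex
          (Subgroup.centralizer ({a} : Set G)) =
          Nat.card ↥(sigmaCore N ⊓ Subgroup.centralizer ({a} : Set G)) := by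
        have h3 := card_of_isComplIn hcompl
        have h4 := Subgroup.relIndex_mul_relIndex (⊥ : Subgroup G)
          (M ⊓ Subgroup.centralizer ({a} : Set G)) (Subgroup.centralizer ({a} : Set G)) bot_le
          inf_le_right
        rw [Subgroup.relIndex_bot_left, Subgroup.relIndex_bot_left, h3] at h4
        exact Nat.eq_of_mul_eq_mul_left Nat.card_pos h4
      rw [h2] at h1
      refine Nat.Coprime.coprime_dvd_left ?_ (Nat.Coprime.coprime_dvd_right ?_ h1)
      · rw [Nat.card_zpowers]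
        exact Subgroup.orderOf_dvd_natCard _ (Subgroup.mem_inf.2
          ⟨haM, Subgroup.mem_centralizer_singleton_iff.2 rfl⟩)
      · rw [Nat.card_zpowers]
        exact Subgroup.orderOf_dvd_natCard _ hrN
    obtain ⟨n, hn⟩ := exists_pow_eq_left (H := Subgroup.zpowers a) (K := Subgroup.zpowers r)
      (by
        rintro _ ⟨i, rfl⟩ _ ⟨j, rfl⟩
        exact ((show Commute a r from hra).zpow_zpow i j).eq) hcop
    have h1 := hn a (Subgroup.mem_zpowers a) r (Subgroup.mem_zpowers r)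
    have h2 : y * a * y⁻¹ ∈ K ⊔ star(M, K) := by
      have h3 := (K ⊔ star(M, K)).pow_mem ht n
      rwa [conj_pow, h1] at h3
    have h3 : y * a * y⁻¹ ∈ star(M, K) := h.mem_star_of_pi h2 hapi
    have hyM : y ∈ M := h.mem_of_conj_mem hG haM ha1' h3
    have h4 : y * a * y⁻¹ ≠ 1 := by
      intro h5
      apply ha1'
      have : a = y⁻¹ * (y * a * y⁻¹) * y := by group
      rw [this, h5]; group
    have h5 := h.centralizer_le hG h3 h4
    apply hC
    intro c hc
    rw [Subgroup.mem_centralizer_singleton_iff] at hc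
    have h6 : y * c * y⁻¹ ∈ M := by
      apply h5
      rw [Subgroup.mem_centralizer_singleton_iff]
      calc y * c * y⁻¹ * (y * a * y⁻¹) = y * (c * a) * y⁻¹ := by group
        _ = y * (a * c) * y⁻¹ := by rw [hc]
        _ = y * a * y⁻¹ * (y * c * y⁻¹) := by group
    have h7 : c = y⁻¹ * (y * c * y⁻¹) * y := by group
    rw [h7]
    exact M.mul_mem (M.mul_mem (M.inv_mem hyM) h6) hyM

end PPair

end Main

end Finite

end Cfsg.Agent.OddOrderLocal.Struct147
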