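import Mathlib
import Cfsg.Prelude.Def_OddOrderLocal
import Cfsg.Agent.OddOrderLocal.Struct147
import Cfsg.Agent.OddOrderLocal.Count147
import Cfsg.Agent.OddOrderLocal.P2Prime147

/-!
B & G, Theorem 14.7 (core): existence of the partner `M*` of a maximal subgroup `M` with nontrivial
Hall `κ(M)`-subgroup `K`; `Z = K K*` is cyclic; `M` or `M*` is of type `P₂`.
-/

set_option autoImplicit false
set_option linter.unusedSectionVars false

namespace Cfsg.Agent.OddOrderLocal.Thm147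

open Cfsg
open Cfsg.Agent.OddOrderLocal.CommProd Cfsg.Agent.OddOrderLocal.PiCoreOf
open Cfsg.Agent.OddOrderLocal Cfsg.Agent.OddOrderLocal.Struct147
open Cfsg.Agent.OddOrderLocal.Struct147.PPair

universe u

variable {G : Type u} [Group G]

/-- `K* = C_{M_σ}(K)`. -/
local notation "star(" M ", " K ")" =>
  (sigmaCore M ⊓ Subgroup.centralizer (K : Set G) : Subgroup G)

/-- `M` is of type `P₁` or `M = M_σ`: every prime of `M` lies in `σ(M) ∪ κ(M)`. -/
def P1 (M : Subgroup G) : Prop :=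
  ∀ q : ℕ, q.Prime → q ∣ Nat.card M → q ∉ sigma M → q ∈ kappa M

/-- The maximal subgroups `N` with `Z = L × C_{N_σ}(L)` for a nontrivial Hall `κ(N)`-subgroup `L`. -/
def fam (Z : Subgroup G) : Set (Subgroup G) :=
  {N | ∃ L : Subgroup G, PPair N L ∧ L ⊔ star(N, L) = Z}

/-- The join of two commuting cyclic subgroups of coprime orders is cyclic. -/
theorem isCyclic_sup [Finite G] {H K : Subgroup G} (h : ∀ a ∈ H, ∀ b ∈ K, a * b = b * a)
    (hcop : (Nat.card H).Coprime (Nat.card K)) (hH : IsCyclic H) (hK : IsCyclic K) :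
    IsCyclic ↥(H ⊔ K) := by
  obtain ⟨a, ha⟩ := hH.exists_generator
  obtain ⟨b, hb⟩ := hK.exists_generator
  have h1 : orderOf (a : G) = Nat.card H := by
    rw [Subgroup.orderOf_coe]; exact orderOf_eq_card_of_forall_mem_zpowers ha
  have h2 : orderOf (b : G) = Nat.card K := by
    rw [Subgroup.orderOf_coe]; exact orderOf_eq_card_of_forall_mem_zpowers hb
  have h3 : orderOf ((a : G) * b) = Nat.card ↥(H ⊔ K) := by
    rw [(show Commute (a : G) b from h a a.2 b b.2).orderOf_mul_eq_mul_orderOf_of_coprime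
      (by rw [h1, h2]; exact hcop), h1, h2, card_sup_of_comm h (inf_eq_bot_of_coprime hcop)]
  have hmem : (a : G) * b ∈ H ⊔ K :=
    (H ⊔ K).mul_mem (Subgroup.mem_sup_left a.2) (Subgroup.mem_sup_right b.2)
  exact isCyclic_of_orderOf_eq_card (⟨_, hmem⟩ : ↥(H ⊔ K)) (by
    rw [← Subgroup.orderOf_coe]; exact h3)

theorem isNilpotent_of_le {H K : Subgroup G} (hHK : H ≤ K) (hK : Group.IsNilpotent K) :
    Group.IsNilpotent H := by
  have h1 : Group.IsNilpotent (H.subgroupOf K) := Subgroup.isNilpotent _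
  exact Group.isNilpotent_congr (Subgroup.subgroupOfEquivOfLe hHK) |>.1 h1

variable [Finite G] (hG : IsMinSimpleOddOrder G)
include hG

theorem fam_conj {Z : Subgroup G} {N N' : Subgroup G} (hN : N ∈ fam Z) (hN' : N' ∈ fam Z)
    {g : G} (hg : N' = N.map (MulAut.conj g).toMonoidHom) : N' = N := by
  obtain ⟨L, hL, hZ⟩ := hN
  obtain ⟨L', hL', hZ'⟩ := hN'
  obtain ⟨y, hy, hy1⟩ := (star(N, L)).bot_or_exists_ne_one.resolve_left (hL.star_ne_bot hG)
  have hσ : sigma N' = sigma N := by rw [hg, Equivariance.sigma_map]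
  have h1 : y ∈ star(N', L') := by
    apply hL'.mem_star_of_pi
    · rw [hZ', ← hZ]; exact Subgroup.mem_sup_right hy
    · rw [hσ]; exact orderOf_pi star_pi hy
  have h2 : y ∈ N.map (MulAut.conj g).toMonoidHom := hg ▸ star_le h1
  have h3 := hL.mem_of_mem_conj hG hy hy1 h2
  rw [hg, MinSimpleBasic.map_conj_of_mem h3]

theorem fam_disjoint {Z : Subgroup G} {N N' : Subgroup G} (hN : N ∈ fam Z) (hN' : N' ∈ fam Z)
    (hne : N ≠ N') {p : ℕ} (hp : p ∈ sigma N) : p ∉ sigma N' := by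
  intro hp'
  have h1 := hN; have h2 := hN'
  obtain ⟨L, hL, hZ⟩ := h1
  obtain ⟨L', hL', hZ'⟩ := h2
  obtain ⟨g, hg⟩ := sigma_eq_of_mem hG hL.max hL'.max hp hp'
  exact hne (fam_conj hG hN hN' hg).symm

/-- Every prime divisor of `|Z|` lies in `σ(N)` for some member `N` of the family. -/
theorem exists_fam {M K : Subgroup G} (h : PPair M K) {p : ℕ} (hp : p.Prime)
    (hd : p ∣ Nat.card ↥(K ⊔ star(M, K))) : ∃ N ∈ fam (K ⊔ star(M, K)), p ∈ sigma N := by
  rw [h.card_Z, hp.dvd_mul] at hd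
  rcases hd with hd | hd
  · obtain ⟨X, hXK, hXc⟩ := exists_prime_subgroup hp hd
    have hXp : (Nat.card X).Prime := hXc ▸ hp
    have hX1 : X ≠ ⊥ := by
      rintro rfl
      rw [Subgroup.card_bot] at hXp
      exact Nat.not_prime_one hXp
    have hXt : X ≠ ⊤ := by
      intro hX
      apply h.max.1
      rw [eq_top_iff, ← hX]
      exact hXK.trans h.K_le
    obtain ⟨N, hN, hXN⟩ := MinSimpleBasic.exists_coatom_ge (MinSimpleBasic.normalizer_ne_top hG hX1 hXt)
    obtain ⟨-, L, hL, -, hXs, -, hZ⟩ := h.exists_partner_of_prime hG hXK hXp hN hXN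
    refine ⟨N, ⟨L, hL, hZ⟩, ?_⟩
    exact star_pi (M := N) (K := L) p hp (hXc ▸ Subgroup.card_dvd_of_le hXs)
  · exact ⟨M, ⟨K, h, rfl⟩, star_pi p hp hd⟩

theorem exists_fam_ne {M K : Subgroup G} (h : PPair M K) :
    ∃ N ∈ fam (K ⊔ star(M, K)), N ≠ M := by
  have h1 : Nat.card K ≠ 1 := fun h' => h.ne (Subgroup.eq_bot_of_card_eq _ h')
  obtain ⟨p, hp, hd⟩ := Nat.exists_prime_and_dvd h1
  obtain ⟨N, hN, hpN⟩ := exists_fam hG h hp (by rw [h.card_Z]; exact hd.mul_right _)
  refine ⟨N, hN, ?_⟩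
  rintro rfl
  exact kappa_not_sigma p (h.K_pi p hp hd) hpN

/-- The counting argument: some member of the family is not of type `P₁`. -/
theorem exists_not_P1 {M K : Subgroup G} (h : PPair M K) :
    ∃ N ∈ fam (K ⊔ star(M, K)), ¬ P1 N := by
  classical
  by_contra hcon
  push Not at hcon
  set Z : Subgroup G := K ⊔ star(M, K) with hZdef
  have hMf : M ∈ fam Z := ⟨K, h, rfl⟩
  obtain ⟨N₁, hN₁, hN₁M⟩ := exists_fam_ne hG h
  set I : Finset (Subgroup G) := (Set.toFinite (fam Z)).toFinset with hI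
  have hmemI : ∀ N, N ∈ I ↔ N ∈ fam Z := fun N => by rw [hI, Set.Finite.mem_toFinset]
  have hleN : ∀ N ∈ fam Z, Z ≤ N := by
    rintro N ⟨L, hL, hLZ⟩
    rw [← hLZ]
    exact hL.Z_le
  have hmaxN : ∀ N ∈ fam Z, IsCoatom N := by
    rintro N ⟨L, hL, -⟩
    exact hL.max
  have hinf : ∀ N ∈ fam Z, ∀ L : Subgroup G, PPair N L → L ⊔ star(N, L) = Z →
      sigmaCore N ⊓ Z = star(N, L) := by
    intro N _ L hL hLZ
    rw [← hLZ]
    exact hL.Z_inf_sigmaCore
  have h2 : 2 ≤ I.card := Finset.one_lt_card.2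
    ⟨N₁, (hmemI _).2 hN₁, M, (hmemI _).2 hMf, hN₁M⟩
  have hlt : ∀ N ∈ fam Z, Z < N := by
    intro N hN
    refine lt_of_le_of_ne (hleN N hN) ?_
    intro hZN
    have key : ∀ N' ∈ fam Z, N' = N := by
      intro N' hN'
      have h3 : N ≤ N' := hZN ▸ hleN N' hN'
      rcases h3.eq_or_lt with h4 | h4
      · exact h4.symm
      · exact absurd ((hmaxN N hN).2 N' h4) (hmaxN N' hN').1
    exact hN₁M ((key N₁ hN₁).trans (key M hMf).symm)
  let T : Set G := {t | t ∈ Z ∧ ∀ N ∈ fam Z, t ∉ sigmaCore N}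
  have hT1 : (1 : G) ∉ T := fun hT => hT.2 M hMf (sigmaCore M).one_mem
  refine Count147.counting hG Z T I h2 ?_ ?_ ?_ hT1 ?_ ?_ ?_ ?_
  · intro N hN
    rw [hmemI] at hN
    exact ⟨hmaxN N hN, hlt N hN⟩
  · intro N hN
    rw [hmemI] at hN
    obtain ⟨L, hL, hLZ⟩ := id hN
    rw [hinf N hN L hL hLZ, P2Prime147.card_eq_of_P1 hG N hL.max L hL.hall (hcon N hN), ← hLZ,
      hL.card_Z]
    ring
  · intro N hN N' hN' hne g hg
    rw [hmemI] at hN hN'
    exact hne (fam_conj hG hN hN' hg).symm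
  · -- the partition of `Z`
    let F : Subgroup G → Finset G := fun N =>
      (Set.toFinite ((↑(sigmaCore N ⊓ Z) : Set G) \ {1})).toFinset
    have hmemF : ∀ N x, x ∈ F N ↔ (x ∈ sigmaCore N ⊓ Z ∧ x ≠ 1) := by
      intro N x
      simp only [F, Set.Finite.mem_toFinset, Set.mem_sdiff, SetLike.mem_coe, Set.mem_singleton_iff]
    have hF : ∀ N, (F N).card = Nat.card ↥(sigmaCore N ⊓ Z) - 1 := by
      intro N
      rw [← Set.ncard_eq_toFinset_card, Set.ncard_sdiff_singleton_of_mem (sigmaCore N ⊓ Z).one_mem]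
      rfl
    have hdisj : ∀ N ∈ I, ∀ N' ∈ I, N ≠ N' → Disjoint (F N) (F N') := by
      intro N hN N' hN' hne
      rw [hmemI] at hN hN'
      rw [Finset.disjoint_left]
      intro x hx hx'
      rw [hmemF] at hx hx'
      obtain ⟨L, hL, hLZ⟩ := id hN
      obtain ⟨L', hL', hLZ'⟩ := id hN'
      apply hx.2
      exact eq_one_of_pi (fun p hp hp' => fam_disjoint hG hN hN' hne hp hp')
        (orderOf_pi (sigmaCore_isPi N) (Subgroup.mem_inf.1 hx.1).1)
        (orderOf_pi (sigmaCore_isPi N') (Subgroup.mem_inf.1 hx'.1).1)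
    have hsum : (I.biUnion F).card = ∑ N ∈ I, (Nat.card ↥(sigmaCore N ⊓ Z) - 1) := by
      rw [Finset.card_biUnion hdisj]
      exact Finset.sum_congr rfl (fun N _ => hF N)
    have hTB : Disjoint T (↑(I.biUnion F) : Set G) := by
      rw [Set.disjoint_left]
      intro x hx hx'
      rw [Finset.mem_coe, Finset.mem_biUnion] at hx'
      obtain ⟨N, hN, hxN⟩ := hx'
      rw [hmemI] at hN
      rw [hmemF] at hxN
      exact hx.2 N hN (Subgroup.mem_inf.1 hxN.1).1
    have hZeq : (Z : Set G) = insert 1 (T ∪ ↑(I.biUnion F)) := by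
      ext x
      rw [Set.mem_insert_iff, Set.mem_union, Finset.mem_coe, Finset.mem_biUnion]
      constructor
      · intro hx
        by_cases hx1 : x = 1
        · exact Or.inl hx1
        · by_cases hxT : ∀ N ∈ fam Z, x ∉ sigmaCore N
          · exact Or.inr (Or.inl ⟨hx, hxT⟩)
          · push Not at hxT
            obtain ⟨N, hN, hxN⟩ := hxT
            exact Or.inr (Or.inr ⟨N, (hmemI N).2 hN, (hmemF N x).2 ⟨⟨hxN, hx⟩, hx1⟩⟩)
      · rintro (rfl | hx | ⟨N, hN, hxN⟩)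
        · exact Z.one_mem
        · exact hx.1
        · exact (Subgroup.mem_inf.1 ((hmemF N x).1 hxN).1).2
    have h1not : (1 : G) ∉ T ∪ ↑(I.biUnion F) := by
      rw [Set.mem_union, Finset.mem_coe, Finset.mem_biUnion]
      rintro (hx | ⟨N, hN, hxN⟩)
      · exact hT1 hx
      · exact ((hmemF N 1).1 hxN).2 rfl
    have hcard : Nat.card Z = Set.ncard (Z : Set G) := rfl
    rw [hcard, hZeq, Set.ncard_insert_of_notMem h1not, Set.ncard_union_eq hTB,
      Set.ncard_coe_finset, hsum]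
    ring
  · rintro z hz t ⟨htZ, ht⟩
    refine ⟨Z.mul_mem (Z.mul_mem hz htZ) (Z.inv_mem hz), ?_⟩
    intro N hN hzt
    apply ht N hN
    exact (Subgroup.mem_normalizer_iff.1 (le_normalizer_sigmaCore N (hleN N hN hz)) t).2 hzt
  · rintro g t ⟨htZ, ht⟩ ⟨hgtZ, -⟩
    have ht1 : t ≠ 1 := by
      rintro rfl
      exact ht M hMf (sigmaCore M).one_mem
    have h3 : orderOf t ≠ 1 := fun h => ht1 (orderOf_eq_one_iff.1 h)
    obtain ⟨p, hp, hd⟩ := Nat.exists_prime_and_dvd h3
    obtain ⟨N, hN, hpN⟩ := exists_fam hG h hp (hd.trans (Subgroup.orderOf_dvd_natCard _ htZ))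
    rw [← hZdef] at hN
    obtain ⟨L, hL, hLZ⟩ := id hN
    have htL : t ∉ L := fun htL =>
      kappa_not_sigma p (hL.K_pi p hp (hd.trans (Subgroup.orderOf_dvd_natCard _ htL))) hpN
    have hts : t ∉ star(N, L) := fun h4 => ht N hN h4.1
    rw [← hLZ] at htZ hgtZ ⊢
    exact hL.mem_Z_of_TI hG htZ htL hts hgtZ
  · rintro N hN t ⟨htZ, ht⟩
    rw [hmemI] at hN
    obtain ⟨L, hL, hLZ⟩ := id hN
    have hts : t ∉ star(N, L) := fun h4 => ht N hN h4.1
    rw [← hLZ] at htZ
    exact hL.not_mem_tildeOf hG htZ hts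

/-- B & G, Theorem 14.7 (core). -/
theorem exists_partner {M K : Subgroup G} (h : PPair M K) :
    ∃ Mstar : Subgroup G, PPair Mstar star(M, K) ∧ K = star(Mstar, star(M, K)) ∧
      IsCyclic ↥(K ⊔ star(M, K)) ∧
      (((Nat.card K).Prime ∧ ¬ P1 M) ∨ ((Nat.card ↥star(M, K)).Prime ∧ ¬ P1 Mstar)) := by
  obtain ⟨N, hN, hNP⟩ := exists_not_P1 hG h
  obtain ⟨L, hL, hLZ⟩ := id hN
  obtain ⟨hLp, hnil⟩ := P2Prime147.prime_and_nilpotent_of_not_P1 hG N hL.max L hL.hall hL.ne hNP
  by_cases hNM : N = M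
  · subst hNM
    have hLK : L = K := by
      apply le_antisymm
      · intro x hx
        apply h.mem_K_of_pi
        · rw [← hLZ]; exact Subgroup.mem_sup_left hx
        · exact fun p hp hd => kappa_not_sigma p (orderOf_pi hL.K_pi hx p hp hd)
      · intro x hx
        apply hL.mem_K_of_pi
        · rw [hLZ]; exact Subgroup.mem_sup_left hx
        · exact fun p hp hd => kappa_not_sigma p (orderOf_pi h.K_pi hx p hp hd)
    subst hLK
    have hKt : L ≠ ⊤ := by
      intro hX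
      apply h.max.1
      rw [eq_top_iff, ← hX]
      exact h.K_le
    obtain ⟨N₁, hN₁, hXN⟩ := MinSimpleBasic.exists_coatom_ge
      (MinSimpleBasic.normalizer_ne_top hG h.ne hKt)
    obtain ⟨-, L₁, hL₁, hsL, hLs, hsL', hZ⟩ := h.exists_partner_of_prime hG le_rfl hLp hN₁ hXN
    have h1 : star(N₁, L₁) = L := le_antisymm hsL' hLs
    have h2 : Nat.card L₁ = Nat.card ↥star(N, L) := by
      have h3 := hL₁.card_Z
      rw [hZ, h.card_Z, h1, mul_comm] at h3
      exact (Nat.eq_of_mul_eq_mul_right Nat.card_pos h3).symm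
    have h3 : star(N, L) = L₁ := Subgroup.eq_of_le_of_card_ge hsL h2.le
    refine ⟨N₁, h3 ▸ hL₁, ?_, ?_, Or.inl ⟨hLp, hNP⟩⟩
    · rw [h3, h1]
    · refine isCyclic_sup comm h.coprime ?_ ?_
      · have : Fact (Nat.card L).Prime := ⟨hLp⟩
        exact isCyclic_of_prime_card rfl
      · exact P2Prime147.isCyclic_of_le N₁ L₁ hL₁.hall _ h3.le (isNilpotent_of_le inf_le_left hnil)
  · have hMf : M ∈ fam (K ⊔ star(M, K)) := ⟨K, h, rfl⟩
    have hsL : star(M, K) ≤ L := by
      intro x hx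
      apply hL.mem_K_of_pi
      · rw [hLZ]; exact Subgroup.mem_sup_right hx
      · exact fun p hp hd => fam_disjoint hG hMf hN (Ne.symm hNM) (orderOf_pi star_pi hx p hp hd)
    have hsL' : star(M, K) = L := by
      apply Subgroup.eq_of_le_of_card_ge hsL
      rcases (Nat.dvd_prime hLp).1 (Subgroup.card_dvd_of_le hsL) with h1 | h1
      · exact absurd (Subgroup.eq_bot_of_card_eq _ h1) (h.star_ne_bot hG)
      · exact h1.ge
    have hsK : star(N, L) ≤ K := by
      intro x hx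
      apply h.mem_K_of_pi
      · rw [← hLZ]; exact Subgroup.mem_sup_right hx
      · exact fun p hp hd => fam_disjoint hG hN hMf hNM (orderOf_pi star_pi hx p hp hd)
    have hsK' : star(N, L) = K := by
      apply Subgroup.eq_of_le_of_card_ge hsK
      have h3 := hL.card_Z
      rw [hLZ, h.card_Z, hsL', mul_comm] at h3
      exact (Nat.eq_of_mul_eq_mul_left Nat.card_pos h3).le
    refine ⟨N, hsL' ▸ hL, ?_, ?_, Or.inr ⟨hsL' ▸ hLp, hNP⟩⟩
    · rw [hsL', hsK']
    · refine isCyclic_sup comm h.coprime ?_ ?_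
      · exact P2Prime147.isCyclic_of_le M K h.hall _ le_rfl
          (isNilpotent_of_le (hsK' ▸ inf_le_left) hnil)
      · rw [hsL']
        have : Fact (Nat.card L).Prime := ⟨hLp⟩
        exact isCyclic_of_prime_card rfl

end Cfsg.Agent.OddOrderLocal.Thm147
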