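import Mathlib
import Cfsg.Prelude.Def_OddOrderLocal
import Cfsg.Agent.OddOrderLocal.IdealPrime
import Cfsg.Agent.S1350
import Cfsg.Agent.S1423
import Cfsg.Agent.S1426
import Cfsg.Agent.S1429
import Cfsg.Agent.S1430
import Cfsg.Agent.S1446

/-!
Bender-Glauberman Proposition 14.2 (c): for `K ≠ 1` a Hall `κ(M)`-subgroup of `M` and `X ≤ K* = C_{M_σ}(K)` of
prime order, `M` is the only maximal subgroup containing `C_G(X)`.
-/

set_option autoImplicit false

namespace Cfsg.Agent.OddOrderLocal.KappaStarUnique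

open Subgroup Cfsg.Agent.OddOrderLocal.IdealPrime

variable {G : Type*} [Group G]

/-- If `M` is not of type `P₁` and has a nontrivial Hall `κ(M)`-subgroup then every prime of `σ(M)` is in `β(M)`. -/
theorem mem_beta_of_not_p1 [Finite G] (hG : Cfsg.IsMinSimpleOddOrder G) (M : Subgroup G) (hM : IsCoatom M)
    (K : Subgroup G) (hK : Cfsg.IsPiHallOf (Cfsg.kappa M) K M) (hK1 : K ≠ ⊥)
    (r : ℕ) [Fact r.Prime] (hrM : r ∣ Nat.card M) (hr : r ∉ Cfsg.sigma M ∪ Cfsg.kappa M)
    (p : ℕ) [Fact p.Prime] (hp : p ∈ Cfsg.sigma M) : p ∈ Cfsg.beta M := by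
  have hKM : K ≤ M := hK.1
  obtain ⟨hHallM, hHallG, -⟩ := Cfsg.Agent.S1350.result hG M hM
  obtain ⟨hprime, ⟨U, hUab, hUhall, hKU, hUreg⟩, -⟩ := Cfsg.Agent.S1430.result hG M hM K hK hK1
  have hUM : U ≤ M := hUhall.1
  -- a Sylow `r`-subgroup of `U`
  let T : Sylow r U := default
  have hTn : (T : Subgroup U).Normal := inferInstance
  set T' : Subgroup G := (T : Subgroup U).map U.subtype with hT'
  have hT'U : T' ≤ U := by
    rintro _ ⟨y, -, rfl⟩; exact y.2
  have hT'M : T' ≤ M := hT'U.trans hUM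
  have hKT : K ≤ normalizer (T' : Set G) := hKU.trans (normalizer_le_of_normal_sylow T hTn)
  have hT'r : IsPGroup r T' := T.isPGroup'.map U.subtype
  have hT'idx : ¬ r ∣ T'.relIndex M := by
    rw [← Subgroup.relIndex_mul_relIndex T' U M hT'U hUM]
    intro h
    rcases (Fact.out : r.Prime).dvd_mul.mp h with h | h
    · apply T.not_dvd_index
      have : T'.subgroupOf U = (T : Subgroup U) :=
        Subgroup.comap_map_eq_self_of_injective U.subtype_injective _
      rw [← this]; exact h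
    · exact hUhall.2.2 r Fact.out ⟨Fact.out, fun h => hr (Or.inr h), fun h => hr (Or.inl h)⟩ h
  have hT'rM : IsPGroup r (T'.subgroupOf M) := hT'r.comap_of_injective M.subtype M.subtype_injective
  let S : Sylow r M := hT'rM.toSylow hT'idx
  have hSmap : (S : Subgroup M).map M.subtype = T' := by
    change (T'.subgroupOf M).map M.subtype = T'
    rw [Subgroup.subgroupOf_map_subtype, inf_eq_left.mpr hT'M]
  have hT'1 : T' ≠ ⊥ := by
    intro h
    rw [h, Subgroup.relIndex_bot_left] at hT'idx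
    exact hT'idx hrM
  obtain ⟨-, hcent, hnil⟩ := Cfsg.Agent.S1429.result hG M hM
    (fun h => hr (by
      by_cases hs : r ∈ Cfsg.sigma M
      · exact Or.inl hs
      · exact Or.inr (h r Fact.out hrM hs))) r hrM hr S
  rw [hSmap] at hcent
  have hcentT : Cfsg.sigmaCore M ⊓ centralizer (T' : Set G) = ⊥ := by
    rw [eq_bot_iff, ← hcent]
    refine inf_le_inf_left _ (centralizer_le ?_)
    rw [SetLike.coe_subset_coe, closure_le]
    rintro x ⟨hx, -⟩
    exact hx
  -- the Sylow `p`-subgroup of `M_σ`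
  let N := Cfsg.sigmaCore M
  have hNM : N ≤ M := sigmaCore_le M
  let Q : Sylow p N := default
  have hQn : (Q : Subgroup N).Normal :=
    ((Group.isNilpotent_of_finite_tfae (G := N)).out 0 3 rfl rfl |>.mp hnil) p inferInstance Q
  set Q' : Subgroup G := (Q : Subgroup N).map N.subtype with hQ'
  have hQ'N : Q' ≤ N := by
    rintro _ ⟨y, -, rfl⟩; exact y.2
  have hQ'p : IsPGroup p Q' := Q.isPGroup'.map N.subtype
  have hMQ : M ≤ normalizer (Q' : Set G) :=
    (le_normalizer_sigmaCore M).trans (normalizer_le_of_normal_sylow Q hQn)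
  have hpM : p ∣ Nat.card M := hp.2.1
  have hpN : p ∣ Nat.card N := by
    have h1 := Subgroup.card_mul_index (N.subgroupOf M)
    rw [Nat.card_congr (Subgroup.subgroupOfEquivOfLe hNM).toEquiv] at h1
    rw [← h1] at hpM
    rcases (Fact.out : p.Prime).dvd_mul.mp hpM with h | h
    · exact h
    · exact absurd h (hHallM.2.2 p Fact.out hp)
  have hQ'1 : Q' ≠ ⊥ := by
    intro h
    have h1 : (Q : Subgroup N) = ⊥ := by
      rw [eq_bot_iff]
      intro x hx
      have : N.subtype x ∈ Q' := ⟨x, hx, rfl⟩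
      rw [h, mem_bot] at this
      rw [mem_bot]
      exact N.subtype_injective (by simpa using this)
    have h2 := Q.not_dvd_index
    rw [h1, index_bot] at h2
    exact h2 hpN
  have hQ'idx : ¬ p ∣ Q'.index := by
    rw [← Subgroup.relIndex_mul_index hQ'N]
    intro h
    rcases (Fact.out : p.Prime).dvd_mul.mp h with h | h
    · apply Q.not_dvd_index
      have : Q'.subgroupOf N = (Q : Subgroup N) :=
        Subgroup.comap_map_eq_self_of_injective N.subtype_injective _
      rw [← this]; exact h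
    · exact hHallG.2 p Fact.out hp h
  set V : Subgroup G := omegaCenter p Q' with hV
  have hVQ : V ≤ Q' := fun x hx => hx.1
  have hVe : ∀ v ∈ V, v ^ p = 1 := fun x hx => hx.2.2
  have hQV : Q' ≤ centralizer (V : Set G) := by
    rw [le_centralizer_iff]
    exact fun x hx => hx.2.1
  have hV1 : V ≠ ⊥ := omegaCenter_ne_bot hQ'p hQ'1
  have hVN : V ≤ N := hVQ.trans hQ'N
  have hMV : M ≤ normalizer (V : Set G) := hMQ.trans (normalizer_le_normalizer_omegaCenter p Q')
  have hVp : IsPGroup p V := hQ'p.to_le hVQ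
  have hVcomm : IsMulCommutative V :=
    Subgroup.le_centralizer_iff_isMulCommutative.mp (hVQ.trans hQV)
  have hKcard : ¬ p ∣ Nat.card K := fun h => (hK.2.1 p Fact.out h).2.2.1 hp
  have hTcard : ¬ p ∣ Nat.card T' := by
    intro h
    have : p ∣ Nat.card U := h.trans (Subgroup.card_dvd_of_le hT'U)
    exact (hUhall.2.1 p Fact.out this).2.2 hp
  have hsup : ¬ p ∣ Nat.card ↥(T' ⊔ K) := by
    intro h
    have h0 := card_sup_dvd K T' hKT
    rw [sup_comm] at h0
    have h1 := h.trans h0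
    rcases (Fact.out : p.Prime).dvd_mul.mp h1 with h | h
    · exact hKcard h
    · exact hTcard h
  have hsolv : Group.IsSolvable M := hG.2.2.2 M hM.1
  have key := Cfsg.Agent.S1446.result T' K V hT'1 hK1 ?_ hKT ?_ ?_ ?_ hV1 ?_ (hT'M.trans hMV)
    (hKM.trans hMV) ?_ ?_ ?_
  · obtain ⟨hKprime, hVcard, -⟩ := key
    have hK3 : 3 ≤ Nat.card K := by
      have h2 := hKprime.two_le
      have hodd : Odd (Nat.card K) := hG.1.of_dvd_nat (Subgroup.card_subgroup_dvd_card K)
      rcases hodd with ⟨m, hm⟩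
      omega
    have hC : p ≤ Nat.card ↥(V ⊓ centralizer (K : Set G)) := by
      have hCp : IsPGroup p ↥(V ⊓ centralizer (K : Set G)) := hVp.to_le inf_le_left
      obtain ⟨n, hn⟩ := hCp.exists_card_eq
      rcases n with _ | n
      · exfalso
        rw [hn, pow_zero, one_pow] at hVcard
        exact hV1 (Subgroup.card_eq_one.mp hVcard)
      · rw [hn, pow_succ]
        exact Nat.le_mul_of_pos_left _ (pow_pos (Fact.out : p.Prime).pos n)
    have hVcard3 : p ^ 3 ≤ Nat.card V := by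
      rw [hVcard]
      calc p ^ 3 ≤ p ^ Nat.card K := Nat.pow_le_pow_right (Fact.out : p.Prime).pos hK3
        _ ≤ _ := Nat.pow_le_pow_left hC _
    have hlt : p ^ 2 < p ^ 3 := Nat.pow_lt_pow_right (Fact.out : p.Prime).one_lt (by norm_num)
    refine ⟨⟨Fact.out, ?_⟩, isIdealPrime_of_central (hQ'p.toSylow hQ'idx) V hVQ hQV hVe hVcard3⟩
    intro h
    have h1 := h (V.subgroupOf M) ?_ ?_
    · rw [Nat.card_congr (Subgroup.subgroupOfEquivOfLe (hVN.trans hNM)).toEquiv] at h1
      omega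
    · refine ⟨⟨?_⟩⟩
      rintro ⟨⟨a, ha⟩, ha'⟩ ⟨⟨b, hb⟩, hb'⟩
      have : a * b = b * a := by
        have := hVcomm.1.1 ⟨a, ha'⟩ ⟨b, hb'⟩
        exact congrArg Subtype.val this
      ext; exact this
    · rintro ⟨a, ha⟩ ha'
      ext; exact hVe a ha'
  · -- T' ⊓ K = ⊥
    refine (Subgroup.disjoint_of_coprime_natCard ?_).eq_bot
    refine coprime_of_primes fun q hq h1 h2 => ?_
    have : q ∣ Nat.card U := h1.trans (Subgroup.card_dvd_of_le hT'U)
    exact (hUhall.2.1 q hq this).2.1 (hK.2.1 q hq h2)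
  · intro k hk hk1
    rw [eq_bot_iff, ← hUreg k hk hk1]
    exact inf_le_inf_right _ hT'U
  · exact Group.isSolvable_of_isSolvable_injective (f := Subgroup.inclusion (sup_le hT'M hKM))
      (Subgroup.inclusion_injective _)
  · exact hG.1.of_dvd_nat (Subgroup.card_subgroup_dvd_card _)
  · exact hVp.isNilpotent
  · refine coprime_of_primes fun q hq h1 h2 => ?_
    obtain ⟨n, hn⟩ := hVp.exists_card_eq
    rw [hn] at h2
    have := (Nat.prime_dvd_prime_iff_eq hq Fact.out).mp (hq.dvd_of_dvd_pow h2)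
    subst this
    exact hsup h1
  · rw [eq_bot_iff, ← hcentT]
    exact inf_le_inf_right _ hVN
  · intro x hx hx1
    have h1 := hprime x hx hx1
    have : V ⊓ (Cfsg.sigmaCore M ⊓ centralizer ({x} : Set G)) =
        V ⊓ (Cfsg.sigmaCore M ⊓ centralizer (K : Set G)) := by rw [h1]
    rwa [← inf_assoc, ← inf_assoc, inf_eq_left.mpr (show V ≤ Cfsg.sigmaCore M from hVN)] at this

/-- Bender-Glauberman Proposition 14.2 (c) -/
theorem kappa_star_centralizer_unique [Finite G] (hG : Cfsg.IsMinSimpleOddOrder G) (M : Subgroup G)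
    (hM : IsCoatom M) (K : Subgroup G) (hK : Cfsg.IsPiHallOf (Cfsg.kappa M) K M) (hK1 : K ≠ ⊥)
    (X : Subgroup G) (hX : X ≤ Cfsg.sigmaCore M ⊓ centralizer (K : Set G))
    (hXp : (Nat.card X).Prime) :
    centralizer (X : Set G) ≤ M ∧
      ∀ L : Subgroup G, IsCoatom L → centralizer (X : Set G) ≤ L → L = M := by
  obtain ⟨hHallM, hHallG, -⟩ := Cfsg.Agent.S1350.result hG M hM
  have hXN : X ≤ Cfsg.sigmaCore M := hX.trans inf_le_left
  have hXM : X ≤ M := hXN.trans (sigmaCore_le M)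
  set p := Nat.card X with hp
  have : Fact p.Prime := ⟨hXp⟩
  have hpσ : p ∈ Cfsg.sigma M := hHallM.2.1 p hXp (Subgroup.card_dvd_of_le hXN)
  let P : Sylow p ↥(Cfsg.sigmaCore M) := default
  suffices h : p ∈ Cfsg.beta M ∨ X ≤ ⁅Cfsg.sigmaCore M, Cfsg.sigmaCore M⁆ from
    (Cfsg.Agent.S1423.result hG M hM p hpσ X hXM hp.symm P h).1
  by_cases h : ∀ q : ℕ, q.Prime → q ∣ Nat.card M → q ∉ Cfsg.sigma M → q ∈ Cfsg.kappa M
  · right
    obtain ⟨hc, hcard⟩ := card_mul_of_hall hK hHallM (fun q hq => hq.2.2.1) (fun q hq hqM => by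
      by_cases hs : q ∈ Cfsg.sigma M
      · exact Or.inr hs
      · exact Or.inl (h q hq hqM hs))
    have hcompl : Cfsg.IsComplIn K (Cfsg.sigmaCore M) M := isComplIn_of_card hK.1 hHallM.1 hc hcard
    exact hX.trans (Cfsg.Agent.S1426.result hG M hM K hcompl).1
  · left
    push Not at h
    obtain ⟨r, hr, hrM, hrs, hrk⟩ := h
    have : Fact r.Prime := ⟨hr⟩
    exact mem_beta_of_not_p1 hG M hM K hK hK1 r hrM (fun h => h.elim hrs hrk) p hpσ

end Cfsg.Agent.OddOrderLocal.KappaStarUnique
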