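import Mathlib
import Cfsg.Prelude.Def_OddOrderLocal
import Cfsg.Agent.OddOrderLocal.Rank
import Cfsg.Agent.OddOrderLocal.RankOneCyclic
import Cfsg.Agent.OddOrderLocal.SylowInter
import Cfsg.Agent.OddOrderLocal.SigmaCompl
import Cfsg.Agent.OddOrderLocal.Equivariance
import Cfsg.Agent.OddOrderLocal.MinSimpleBasic
import Cfsg.Agent.OddOrderLocal.SigmaCoreBasic808
import Cfsg.Agent.S1350
import Cfsg.Agent.S1405
import Cfsg.Agent.S1408
import Cfsg.Agent.S1414
import Cfsg.Agent.S1417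
import Cfsg.Agent.S1418
import Cfsg.Agent.S1420
import Cfsg.Agent.S1446

/-!
B & G, what is needed of 12.8 (e), 12.9 and 14.11 for the proof of 14.12: a subgroup `K` of prime order of
a complement `E` of `H_σ` acting nontrivially on a normal `t`-subgroup `B` of order `t ^ 2` of `E`
(`t ∈ τ₂(H)`) and freely on `H_σ` lies in another maximal subgroup `L` with `t ∈ σ(L)` and with the prime
in `κ(L)`, or `L` is the only maximal subgroup over `C_G(K)`.
-/

set_option autoImplicit false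
set_option linter.style.haveILetI false
set_option linter.unusedSectionVars false

namespace Cfsg.Agent.OddOrderLocal.Tau2Partner

open Cfsg
open Cfsg.Agent.OddOrderLocal

universe u

variable {G : Type u} [Group G]

/-- the centralizer of a nonidentity element of a subgroup of prime order -/
theorem centralizer_singleton_of_prime {K : Subgroup G} (hK : (Nat.card K).Prime) {x : G}
    (hx : x ∈ K) (hx1 : x ≠ 1) :
    Subgroup.centralizer ({x} : Set G) = Subgroup.centralizer (K : Set G) := by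
  have hz : Subgroup.zpowers x = K := by
    have h1 : Subgroup.zpowers x ≤ K := (Subgroup.zpowers_le).2 hx
    haveI : Finite K := Nat.finite_of_card_ne_zero hK.ne_zero
    apply Subgroup.eq_of_le_of_card_ge h1
    have h2 : Nat.card (Subgroup.zpowers x) ∣ Nat.card K := Subgroup.card_dvd_of_le h1
    rcases (Nat.dvd_prime hK).1 h2 with h3 | h3
    · exfalso
      apply hx1
      have h4 := Subgroup.card_eq_one.mp h3
      exact Subgroup.zpowers_eq_bot.mp h4
    · exact h3.ge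
  apply le_antisymm
  · intro g hg
    rw [Subgroup.mem_centralizer_iff] at hg ⊢
    intro k hk
    rw [← hz] at hk
    obtain ⟨n, rfl⟩ := Subgroup.mem_zpowers_iff.mp hk
    have h1 : Commute x g := hg x rfl
    exact h1.zpow_left n
  · apply Subgroup.centralizer_le
    intro y hy
    rw [Set.mem_singleton_iff] at hy
    rw [hy]; exact hx

/-- A prime `q ∉ σ(M)` such that `M` has `q`-rank `1` and some subgroup of order `q` of `M` centralizes a
nonidentity element of `M_σ` belongs to `κ(M)`. -/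
theorem mem_kappa_of_card_eq [Finite G] {M K : Subgroup G} {q : ℕ} (hq : q.Prime) (hq2 : q ≠ 2)
    (hqM : q ∉ sigma M) (hr : PRankLE q 1 M) (hKM : K ≤ M) (hK : Nat.card K = q)
    (hC : sigmaCore M ⊓ Subgroup.centralizer (K : Set G) ≠ ⊥) : q ∈ kappa M := by
  haveI : Fact q.Prime := ⟨hq⟩
  refine ⟨hq, hK ▸ Subgroup.card_dvd_of_le hKM, hqM, ?_⟩
  intro P
  refine ⟨RankOneCyclic.isCyclic_sylow_of_pRankLE_one hq2 hr P, ?_⟩
  have hKp : IsPGroup q (K.subgroupOf M) := by
    refine IsPGroup.of_card (n := 1) ?_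
    rw [Nat.card_congr (Subgroup.subgroupOfEquivOfLe hKM).toEquiv, hK, pow_one]
  obtain ⟨g, hg⟩ := MinSimpleBasic.exists_map_conj_le_sylow P hKp
  haveI : Nontrivial K := by
    rw [← Finite.one_lt_card_iff_nontrivial, hK]; exact hq.one_lt
  obtain ⟨⟨x, hx⟩, hx1⟩ := exists_ne (1 : K)
  have hx1' : x ≠ 1 := fun h => hx1 (Subtype.ext h)
  obtain ⟨⟨y, hy⟩, hy1⟩ := Subgroup.ne_bot_iff_exists_ne_one.mp hC
  have hy1' : y ≠ 1 := fun h => hy1 (Subtype.ext h)
  refine ⟨g * ⟨x, hKM hx⟩ * g⁻¹, ?_, ?_, (g : G) * y * (g : G)⁻¹, ?_, ?_, ?_⟩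
  · exact hg (MinSimpleBasic.conj_mem_map_conj (Subgroup.mem_subgroupOf.mpr hx))
  · intro h
    apply hx1'
    have h2 := congrArg Subtype.val (conj_eq_one_iff.mp h)
    exact h2
  · exact SigmaCoreBasic808.conj_mem_of_le_normalizer
      (SigmaCoreBasic808.le_normalizer_sigmaCore M) g.2 hy.1
  · intro h; exact hy1' (conj_eq_one_iff.mp h)
  · have h1 : x * y = y * x := Subgroup.mem_centralizer_iff.mp hy.2 x hx
    change ((g : G) * x * (g : G)⁻¹) * ((g : G) * y * (g : G)⁻¹) =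
      ((g : G) * y * (g : G)⁻¹) * ((g : G) * x * (g : G)⁻¹)
    have e1 : ((g : G) * x * (g : G)⁻¹) * ((g : G) * y * (g : G)⁻¹) = (g : G) * (x * y) * (g : G)⁻¹ := by
      group
    have e2 : ((g : G) * y * (g : G)⁻¹) * ((g : G) * x * (g : G)⁻¹) = (g : G) * (y * x) * (g : G)⁻¹ := by
      group
    rw [e1, e2, h1]

/-- A `t'`-subgroup normalizing a `t`-subgroup `B` inside a group with a normal `t`-complement
centralizes `B`. -/
theorem le_centralizer_of_hasNormalPComplement [Finite G] {t : ℕ} [ht : Fact t.Prime] {S B K : Subgroup G}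
    (h : HasNormalPComplement t S) (hB : B ≤ S) (hBt : IsPGroup t B) (hK : K ≤ S)
    (hKt : ¬ t ∣ Nat.card K) (hKB : K ≤ Subgroup.normalizer (B : Set G)) :
    K ≤ Subgroup.centralizer (B : Set G) := by
  obtain ⟨P, N, hN, hc⟩ := h
  have hNcard : ¬ t ∣ Nat.card N := by
    have h1 := hc.index_eq_card
    rw [← h1]
    exact P.not_dvd_index
  have hNidx : ∃ n : ℕ, N.index = t ^ n := by
    rw [hc.symm.index_eq_card]
    exact P.isPGroup'.exists_card_eq
  obtain ⟨n, hn⟩ := hNidx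
  -- `K ≤ N`
  have hKN : ∀ k ∈ K, ∀ hk : k ∈ S, (⟨k, hk⟩ : S) ∈ N := by
    intro k hkK hk
    have h2 : orderOf (QuotientGroup.mk' N ⟨k, hk⟩) ∣ 1 := by
      have hcop : (Nat.card K).Coprime (t ^ n) :=
        (Nat.Coprime.pow_right n ((ht.out.coprime_iff_not_dvd.mpr hKt).symm))
      rw [← Nat.coprime_iff_gcd_eq_one.mp hcop]
      apply Nat.dvd_gcd
      · refine (orderOf_map_dvd _ _).trans ?_
        have := orderOf_dvd_natCard (⟨k, hkK⟩ : K)
        rw [← Subgroup.orderOf_coe] at this ⊢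
        exact this
      · rw [← hn, Subgroup.index_eq_card]
        exact orderOf_dvd_natCard _
    have h3 : QuotientGroup.mk' N ⟨k, hk⟩ = 1 := by
      rw [← orderOf_eq_one_iff]; exact Nat.dvd_one.mp h2
    exact (QuotientGroup.eq_one_iff _).mp h3
  intro k hk
  rw [Subgroup.mem_centralizer_iff]
  intro b hb
  -- the commutator lies in `B ∩ N = 1`
  have h1 : k * b * k⁻¹ * b⁻¹ ∈ B :=
    B.mul_mem (SigmaCoreBasic808.conj_mem_of_le_normalizer hKB hk hb) (B.inv_mem hb)
  have h2 : (⟨k, hK hk⟩ : S) * ((⟨b, hB hb⟩ : S) * (⟨k, hK hk⟩ : S)⁻¹ * (⟨b, hB hb⟩ : S)⁻¹) ∈ N := by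
    apply N.mul_mem (hKN k hk _)
    exact hN.conj_mem _ (N.inv_mem (hKN k hk _)) _
  set z : S := (⟨k, hK hk⟩ : S) * ((⟨b, hB hb⟩ : S) * (⟨k, hK hk⟩ : S)⁻¹ * (⟨b, hB hb⟩ : S)⁻¹) with hz
  have hzc : (z : G) = k * b * k⁻¹ * b⁻¹ := by
    rw [hz]; simp [mul_assoc]
  have hz1 : z = 1 := by
    have ho1 : orderOf z ∣ Nat.card N := by
      have := orderOf_dvd_natCard (⟨z, h2⟩ : N)
      rwa [← Subgroup.orderOf_coe] at this
    obtain ⟨m, hm⟩ := (IsPGroup.iff_orderOf.mp hBt) ⟨(z : G), hzc ▸ h1⟩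
    rw [← Subgroup.orderOf_coe] at hm
    change orderOf (z : G) = t ^ m at hm
    rw [Subgroup.orderOf_coe] at hm
    rcases Nat.eq_zero_or_pos m with h0 | h0
    · rw [h0, pow_zero] at hm
      exact orderOf_eq_one_iff.mp hm
    · exfalso
      exact hNcard ((dvd_pow_self t h0.ne').trans (hm ▸ ho1))
  have h3 : k * b * k⁻¹ * b⁻¹ = 1 := by rw [← hzc, hz1]; rfl
  have h4 : k * b = b * k := by
    have := mul_inv_eq_one.mp h3
    exact mul_inv_eq_iff_eq_mul.mp this
  exact h4.symm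

/-- The order of a subgroup is the product of the orders of complementary subgroups. -/
theorem card_mul_card_of_isComplIn [Finite G] {A B M : Subgroup G} (h : IsComplIn A B M) :
    Nat.card A * Nat.card B = Nat.card M := by
  obtain ⟨hA, hB, hAB, hprod⟩ := h
  rw [← Nat.card_prod]
  refine Nat.card_congr (Equiv.ofBijective
    (fun x : A × B => (⟨x.1 * x.2, M.mul_mem (hA x.1.2) (hB x.2.2)⟩ : M)) ⟨?_, ?_⟩)
  · rintro ⟨a, b⟩ ⟨a', b'⟩ hab
    have h1 : (a : G) * b = a' * b' := congrArg Subtype.val hab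
    have h2 : (a' : G)⁻¹ * a ∈ A ⊓ B := by
      refine ⟨A.mul_mem (A.inv_mem a'.2) a.2, ?_⟩
      have h3 : (a' : G)⁻¹ * a = b' * (b : G)⁻¹ := by
        rw [inv_mul_eq_iff_eq_mul, ← mul_assoc, eq_mul_inv_iff_mul_eq]; exact h1
      rw [h3]; exact B.mul_mem b'.2 (B.inv_mem b.2)
    rw [hAB, Subgroup.mem_bot, inv_mul_eq_one] at h2
    rw [h2] at h1
    exact Prod.ext (Subtype.ext h2.symm) (Subtype.ext (mul_left_cancel h1))
  · rintro ⟨m, hm⟩
    obtain ⟨a, ha, b, hb, hab⟩ := hprod m hm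
    exact ⟨(⟨a, ha⟩, ⟨b, hb⟩), Subtype.ext hab.symm⟩

theorem card_mul_relIndex [Finite G] {H K : Subgroup G} (h : H ≤ K) :
    Nat.card H * H.relIndex K = Nat.card K := by
  rw [← Nat.card_congr (Subgroup.subgroupOfEquivOfLe h).toEquiv]
  exact (H.subgroupOf K).card_mul_index

/-- A prime dividing the order of a complement of `M_σ` is not in `σ(M)`. -/
theorem notMem_sigma_of_dvd_compl [Finite G] {M E : Subgroup G}
    (hS : IsPiHallOf (sigma M) (sigmaCore M) M) (hE : IsComplIn E (sigmaCore M) M) {p : ℕ}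
    (hp : p.Prime) (hd : p ∣ Nat.card E) : p ∉ sigma M := by
  intro hps
  apply hS.2.2 p hp hps
  have h1 := card_mul_card_of_isComplIn hE
  have h2 : Nat.card (sigmaCore M) * (sigmaCore M).relIndex M = Nat.card M :=
    card_mul_relIndex hS.1
  have h3 : (sigmaCore M).relIndex M = Nat.card E := by
    apply Nat.eq_of_mul_eq_mul_left (Nat.card_pos (α := sigmaCore M))
    rw [h2, ← h1, mul_comm]
  rw [h3]; exact hd

theorem coprime_compl [Finite G] {M E : Subgroup G}
    (hS : IsPiHallOf (sigma M) (sigmaCore M) M) (hE : IsComplIn E (sigmaCore M) M) :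
    (Nat.card E).Coprime (Nat.card (sigmaCore M)) := by
  rw [Nat.coprime_iff_gcd_eq_one]
  by_contra hne
  obtain ⟨p, hp, hd⟩ := Nat.exists_prime_and_dvd hne
  exact notMem_sigma_of_dvd_compl hS hE hp (hd.trans (Nat.gcd_dvd_left _ _))
    (hS.2.1 p hp (hd.trans (Nat.gcd_dvd_right _ _)))

theorem pRankLE_two_of_notMem_sigma [Finite G] (hG : IsMinSimpleOddOrder G) {M : Subgroup G}
    (hM : IsCoatom M) {p : ℕ} (hp : p.Prime) (hpM : p ∉ sigma M) : PRankLE p 2 M := by
  by_contra h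
  exact hpM (S1405.alpha_subset_sigma hG hM ⟨hp, h⟩)

theorem not_isCyclic_of_card_sq [Finite G] {t : ℕ} [ht : Fact t.Prime] {B : Subgroup G}
    (hB : IsElementaryAbelian t B) (hc : Nat.card B = t ^ 2) : ¬ IsCyclic B := by
  intro h
  refine Rank.not_pRankLE_of_elemAb le_rfl hB (k := 1) ?_ (RankOneCyclic.pRankLE_one_of_isCyclic h)
  rw [hc]
  exact Nat.pow_lt_pow_right ht.out.one_lt (by norm_num)

/-- For `K` of prime order `q` in a maximal subgroup `L`, `q ∉ σ(L)` and `C_{L_σ}(K) ≠ 1`: either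
`q ∈ κ(L)`, or `q ∈ τ₂(L)` and `L` is the only maximal subgroup containing `C_G(K)`. -/
theorem mem_kappa_or_tau2 [Finite G] (hG : IsMinSimpleOddOrder G) {L K : Subgroup G} (hL : IsCoatom L)
    (hKL : K ≤ L) (hK : (Nat.card K).Prime) (hqL : Nat.card K ∉ sigma L)
    (hC : sigmaCore L ⊓ Subgroup.centralizer (K : Set G) ≠ ⊥) :
    Nat.card K ∈ kappa L ∨ (Nat.card K ∈ tau2 L ∧ Subgroup.centralizer (K : Set G) ≤ L ∧
      ∀ L' : Subgroup G, IsCoatom L' → Subgroup.centralizer (K : Set G) ≤ L' → L' = L) := by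
  haveI : Fact (Nat.card K).Prime := ⟨hK⟩
  have hq2 : Nat.card K ≠ 2 :=
    MinSimpleBasic.prime_ne_two_of_dvd hG (Subgroup.card_subgroup_dvd_card K)
  by_cases hr : PRankLE (Nat.card K) 1 L
  · exact Or.inl (mem_kappa_of_card_eq hK hq2 hqL hr hKL rfl hC)
  · right
    have hr2 := pRankLE_two_of_notMem_sigma hG hL hK hqL
    have ht2 : Nat.card K ∈ tau2 L := ⟨hK, hqL, hr2, hr⟩
    have hSL := (S1350.result hG L hL).1
    obtain ⟨F, hF⟩ := SigmaCompl.exists_compl_sigmaCore hSL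
    obtain ⟨-, -, -, h4⟩ := S1420.result hG L hL F hF
    haveI : Nontrivial K := by
      rw [← Finite.one_lt_card_iff_nontrivial]; exact hK.one_lt
    obtain ⟨⟨x, hx⟩, hx1⟩ := exists_ne (1 : K)
    have hx1' : x ≠ 1 := fun h => hx1 (Subtype.ext h)
    obtain ⟨⟨y, hy⟩, hy1⟩ := Subgroup.ne_bot_iff_exists_ne_one.mp hC
    have hy1' : y ≠ 1 := fun h => hy1 (Subtype.ext h)
    have h5 := h4 x (hKL hx) hx1' ?_ ?_
    · rw [centralizer_singleton_of_prime hK hx hx1'] at h5
      exact ⟨ht2, h5⟩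
    · intro p hp hd
      have h6 : orderOf x ∣ Nat.card K := by
        have := orderOf_dvd_natCard (⟨x, hx⟩ : K)
        rwa [← Subgroup.orderOf_coe] at this
      rw [(Nat.prime_dvd_prime_iff_eq hp hK).mp (hd.trans h6)]
      exact ht2
    · exact ⟨hKL hx, y, hy.1, hy1', Subgroup.mem_centralizer_iff.mp hy.2 x hx⟩

/-- Key lemma (B & G 12.8 (e), 12.9 and 14.11 in the form needed for 14.12). -/
theorem exists_partner [Finite G] (hG : IsMinSimpleOddOrder G) {H E B K : Subgroup G} (hH : IsCoatom H)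
    (hE : IsComplIn E (sigmaCore H) H) {t : ℕ} [ht : Fact t.Prime] (htau : t ∈ tau2 H) (hBE : B ≤ E)
    (hBel : IsElementaryAbelian t B) (hBcard : Nat.card B = t ^ 2) (hKE : K ≤ E)
    (hK : (Nat.card K).Prime) (hKt : Nat.card K ≠ t)
    (hCK : sigmaCore H ⊓ Subgroup.centralizer (K : Set G) = ⊥)
    (hBK : ¬ K ≤ Subgroup.centralizer (B : Set G)) :
    ∃ L : Subgroup G, IsCoatom L ∧ t ∈ sigma L ∧ t ∉ beta L ∧
      Subgroup.normalizer (B : Set G) ≤ L ∧ E ≤ L ∧
      B ⊓ Subgroup.centralizer (K : Set G) ≠ ⊥ ∧ Nat.card K ∉ sigma L ∧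
      (Nat.card K ∈ kappa L ∨ (Nat.card K ∈ tau2 L ∧ Subgroup.centralizer (K : Set G) ≤ L ∧
        ∀ L' : Subgroup G, IsCoatom L' → Subgroup.centralizer (K : Set G) ≤ L' → L' = L)) := by
  haveI : Fact (Nat.card K).Prime := ⟨hK⟩
  have hS := (S1350.result hG H hH).1
  have hBM : B ≤ H := hBE.trans hE.1
  have hKM : K ≤ H := hKE.trans hE.1
  have hBp : IsPGroup t B := Rank.elemAb_isPGroup hBel
  have hB1 : B ≠ ⊥ := by
    rintro rfl
    rw [Subgroup.card_bot] at hBcard
    have := Nat.one_lt_pow (two_ne_zero) ht.out.one_lt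
    omega
  have hK1 : K ≠ ⊥ := by
    rintro rfl
    rw [Subgroup.card_bot] at hK
    exact Nat.not_prime_one hK
  obtain ⟨hNil, -, -, hCB, -, -⟩ := S1417.result hG H hH t htau B ⟨hBM, hBel, hBcard⟩
  obtain ⟨⟨hEB, -⟩, ⟨-, -, hNB⟩, -⟩ := S1418.result hG H hH E hE t htau B ⟨hBE, hBel, hBcard⟩
  have hKB : K ≤ Subgroup.normalizer (B : Set G) := hKE.trans hEB
  have hHN := SigmaCoreBasic808.le_normalizer_sigmaCore H
  have hσ1 : sigmaCore H ≠ ⊥ := by
    intro h0
    have hEH : H ≤ E := by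
      intro m hm
      obtain ⟨a, ha, b, hb, hab⟩ := hE.2.2.2 m hm
      rw [h0, Subgroup.mem_bot] at hb
      rw [hab, hb, mul_one]; exact ha
    apply hNB
    rw [MinSimpleBasic.normalizer_eq_of_le_coatom hG hH hB1 hBM (hEH.trans hEB)]
  have hcopBK : (Nat.card B).Coprime (Nat.card K) := by
    rw [hBcard]
    exact Nat.Coprime.pow_left 2 ((Nat.coprime_primes ht.out hK).mpr (Ne.symm hKt))
  have hBK0 : B ⊓ K = ⊥ := (Subgroup.disjoint_of_coprime_natCard hcopBK).eq_bot
  have hCBK : B ⊓ Subgroup.centralizer (K : Set G) ≠ ⊥ := by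
    intro h0
    have hsup : B ⊔ K ≤ E := sup_le hBE hKE
    haveI := MinSimpleBasic.isSolvable_of_isCoatom hG hH
    have hsolv : Group.IsSolvable ↥(B ⊔ K) :=
      Group.isSolvable_of_isSolvable_injective (f := Subgroup.inclusion (hsup.trans hE.1))
        (Subgroup.inclusion_injective _)
    have hodd := MinSimpleBasic.odd_card_subgroup hG (B ⊔ K)
    have hcop : (Nat.card ↥(B ⊔ K)).Coprime (Nat.card (sigmaCore H)) :=
      (coprime_compl hS hE).coprime_dvd_left (Subgroup.card_dvd_of_le hsup)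
    obtain ⟨-, h2, -⟩ := S1446.result B K (sigmaCore H) hB1 hK1 hBK0 hKB
      (fun r hr hr1 => by rw [centralizer_singleton_of_prime hK hr hr1]; exact h0)
      hsolv hodd hσ1 hNil (hBM.trans hHN) (hKM.trans hHN) hcop hCB
      (fun x hx hx1 => by rw [centralizer_singleton_of_prime hK hx hx1])
    rw [hCK, Subgroup.card_bot, one_pow] at h2
    exact hσ1 (Subgroup.card_eq_one.mp h2)
  obtain ⟨P, hP⟩ := hBp.exists_le_sylow
  have hP1 : (P : Subgroup G) ≠ ⊥ := fun h => hB1 (le_bot_iff.mp (h ▸ hP))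
  obtain ⟨L, hL, hNL⟩ := MinSimpleBasic.exists_coatom_normalizer_le hG hP1
    (MinSimpleBasic.sylow_ne_top hG P)
  have hPL : (P : Subgroup G) ≤ L := Subgroup.le_normalizer.trans hNL
  have htL : t ∈ sigma L := MinSimpleBasic.mem_sigma_of_normalizer_le P hP1 hNL
  have hSL := (S1350.result hG L hL).1
  have hLN := SigmaCoreBasic808.le_normalizer_sigmaCore L
  obtain ⟨F, hF⟩ := SigmaCompl.exists_compl_sigmaCore hSL
  have hNBL : Subgroup.normalizer (B : Set G) ≤ L :=
    (S1420.result hG L hL F hF).2.2.1 t B htL hBp (hP.trans hPL)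
      (not_isCyclic_of_card_sq hBel hBcard)
  have hEL : E ≤ L := hEB.trans hNBL
  have hKL : K ≤ L := hKE.trans hEL
  have hideal : ¬ IsIdealPrime t G := (S1408.result hG H hH t htau.2.1 htau.2.2.1 htau.2.2.2).1
  have htβ : t ∉ beta L := fun h => hideal h.2
  have hBLσ : B ≤ sigmaCore L := by
    refine SigmaCompl.le_of_isPiHallOf_normal hSL hLN (hP.trans hPL) ?_
    intro p hp hd
    rw [hBcard] at hd
    rw [(Nat.prime_dvd_prime_iff_eq hp ht.out).mp (hp.dvd_of_dvd_pow hd)]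
    exact htL
  have hqL : Nat.card K ∉ sigma L := by
    intro hqL
    have hKLσ : K ≤ sigmaCore L := by
      refine SigmaCompl.le_of_isPiHallOf_normal hSL hLN hKL ?_
      intro p hp hd
      rw [(Nat.prime_dvd_prime_iff_eq hp hK).mp hd]
      exact hqL
    have h14 := ((S1414.result hG L hL).2.2.2.2 t ht.out htL.2.1 htβ).2.1
    refine hBK (le_centralizer_of_hasNormalPComplement h14 hBLσ hBp hKLσ ?_ hKB)
    intro hd
    exact hKt ((Nat.prime_dvd_prime_iff_eq ht.out hK).mp hd).symm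
  have hCne : sigmaCore L ⊓ Subgroup.centralizer (K : Set G) ≠ ⊥ :=
    fun h => hCBK (le_bot_iff.mp (h ▸ inf_le_inf_right _ hBLσ))
  exact ⟨L, hL, htL, htβ, hNBL, hEL, hCBK, hqL, mem_kappa_or_tau2 hG hL hKL hK hqL hCne⟩

end Cfsg.Agent.OddOrderLocal.Tau2Partner
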