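import Mathlib
import Cfsg.Prelude.Def_OddOrderLocal
import Cfsg.Agent.OddOrderLocal.Partner147
import Cfsg.Agent.OddOrderLocal.ZhatCount

/-!
B & G, Theorem 14.7 (f), (g): `M` or `M*` is of type `P₂`, and every maximal subgroup `H` with
`κ(H)` nonempty is conjugate to `M` or to `M*`.
-/

set_option autoImplicit false
set_option linter.unusedSectionVars false

namespace Cfsg.Agent.OddOrderLocal.TwoClasses147

open Cfsg
open Cfsg.Agent.OddOrderLocal.CommProd Cfsg.Agent.OddOrderLocal.PiCoreOf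
open Cfsg.Agent.OddOrderLocal Cfsg.Agent.OddOrderLocal.Struct147
open Cfsg.Agent.OddOrderLocal.Struct147.PPair Cfsg.Agent.OddOrderLocal.Thm147
open Cfsg.Agent.OddOrderLocal.Partner147

universe u

variable {G : Type u} [Group G]

/-- `K* = C_{M_σ}(K)`. -/
local notation "star(" M ", " K ")" =>
  (sigmaCore M ⊓ Subgroup.centralizer (K : Set G) : Subgroup G)

variable [Finite G]

/-- If `M = K M_σ` then `M` is of type `P₁`. -/
theorem P1_of_decomposition {M K : Subgroup G} (h : IsSigmaDecomposition M K ⊥) : P1 M := by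
  intro q hq hqM hqσ
  have h1 : M = K ⊔ sigmaCore M := by
    apply le_antisymm
    · intro m hm
      obtain ⟨a, ha, b, hb, rfl⟩ := h.compl.2.2.2 m hm
      rw [Subgroup.mem_bot.1 ha, one_mul]
      exact hb
    · exact h.compl.2.1
  have h2 : Nat.card M ∣ Nat.card K * Nat.card (sigmaCore M) := by
    have h3 := card_sup_dvd_of_le_normalizer (H := K) (N := sigmaCore M)
      (h.hall.1.trans (le_normalizer_sigmaCore M))
    rwa [← h1] at h3
  rcases hq.dvd_mul.1 (hqM.trans h2) with h3 | h3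
  · exact h.hall.2.1 q hq h3
  · exact absurd (sigmaCore_isPi M q hq h3) hqσ

variable (hG : IsMinSimpleOddOrder G)
include hG

/-- B & G 14.7 (f). -/
theorem type_P2 {M K N : Subgroup G} (h : IsPartner M K N) : ¬ P1 M ∨ ¬ P1 N := by
  obtain ⟨N', hN', hK, -, h1⟩ := exists_partner hG h.pair
  have h2 : N' = N := h.unique hG ⟨h.pair, hN', hK⟩
  subst h2
  exact h1.imp And.right And.right

/-- The primes of `Z = K K*` lie in `σ(M) ∪ σ(M*)`. -/
theorem mem_sigma_of_dvd {M K N : Subgroup G} (h : IsPartner M K N) {p : ℕ} (hp : p.Prime)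
    (hd : p ∣ Nat.card ↥(K ⊔ star(M, K))) : p ∈ sigma M ∨ p ∈ sigma N := by
  rw [h.pair.card_Z, hp.dvd_mul] at hd
  rcases hd with hd | hd
  · exact Or.inr (sigmaCore_isPi N p hp (hd.trans (Subgroup.card_dvd_of_le h.K_le_sigmaCore)))
  · exact Or.inl (star_pi p hp hd)

/-- B & G 14.7 (g), for two pairs. -/
theorem conj_of_pairs {M K N : Subgroup G} (h : IsPartner M K N) {H L : Subgroup G}
    (hH : PPair H L) :
    ∃ g : G, H = M.map (MulAut.conj g).toMonoidHom ∨ H = N.map (MulAut.conj g).toMonoidHom := by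
  obtain ⟨H', hH', hL, -, -⟩ := exists_partner hG hH
  have hpart : IsPartner H L H' := ⟨hH, hH', hL⟩
  have hc1 := ZhatCount.card_lt_two_mul hG h.pair
  have hc2 := ZhatCount.card_lt_two_mul hG hH
  set T1 : Set G := {a : G | ∃ g : G, ∃ z ∈ ((↑(K ⊔ star(M, K)) : Set G) \
          ((K : Set G) ∪ ↑(star(M, K)))), a = g * z * g⁻¹} with hT1
  set T2 : Set G := {a : G | ∃ g : G, ∃ z ∈ ((↑(L ⊔ star(H, L)) : Set G) \
          ((L : Set G) ∪ ↑(star(H, L)))), a = g * z * g⁻¹} with hT2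
  have hne : (T1 ∩ T2).Nonempty := by
    by_contra hemp
    rw [Set.not_nonempty_iff_eq_empty] at hemp
    have h3 := Set.ncard_union_eq (Set.disjoint_iff_inter_eq_empty.2 hemp)
      (Set.toFinite T1) (Set.toFinite T2)
    have h4 : Set.ncard (T1 ∪ T2) ≤ Nat.card G := by
      rw [← Set.ncard_univ]
      exact Set.ncard_le_ncard (Set.subset_univ _) (Set.toFinite _)
    omega
  obtain ⟨a, ⟨g, z, ⟨hz, hz'⟩, rfl⟩, ⟨g', z', ⟨hw, hw'⟩, he⟩⟩ := hne
  have hord : orderOf z = orderOf z' := by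
    have e1 : orderOf (g * z * g⁻¹) = orderOf z := by simpa using (MulAut.conj g).orderOf_eq z
    have e2 : orderOf (g' * z' * g'⁻¹) = orderOf z' := by
      simpa using (MulAut.conj g').orderOf_eq z'
    rw [← e1, he, e2]
  obtain ⟨n, hn⟩ := exists_pow_eq_right comm h.pair.coprime
  obtain ⟨m, hm⟩ := exists_pow_eq_left comm h.pair.coprime
  obtain ⟨k, hk, s, hs, rfl⟩ := mem_Z.1 hz
  have hk1 : orderOf k ≠ 1 := by
    intro h1
    rw [orderOf_eq_one_iff] at h1
    apply hz'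
    right
    rw [h1, one_mul]
    exact hs
  have hs1 : orderOf s ≠ 1 := by
    intro h1
    rw [orderOf_eq_one_iff] at h1
    apply hz'
    left
    rw [h1, mul_one]
    exact hk
  have hkd : orderOf k ∣ Nat.card ↥(L ⊔ star(H, L)) := by
    have h1 : orderOf k ∣ orderOf (k * s) := by
      conv_lhs => rw [← hm k hk s hs]
      exact orderOf_pow_dvd m
    exact (h1.trans (hord ▸ dvd_rfl)).trans (Subgroup.orderOf_dvd_natCard _ hw)
  have hsd : orderOf s ∣ Nat.card ↥(L ⊔ star(H, L)) := by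
    have h1 : orderOf s ∣ orderOf (k * s) := by
      conv_lhs => rw [← hn k hk s hs]
      exact orderOf_pow_dvd n
    exact (h1.trans (hord ▸ dvd_rfl)).trans (Subgroup.orderOf_dvd_natCard _ hw)
  obtain ⟨p, hp, hpd⟩ := Nat.exists_prime_and_dvd hk1
  obtain ⟨q, hq, hqd⟩ := Nat.exists_prime_and_dvd hs1
  have hpN : p ∈ sigma N :=
    orderOf_pi (sigmaCore_isPi N) (h.K_le_sigmaCore hk) p hp hpd
  have hqM : q ∈ sigma M := orderOf_pi star_pi hs q hq hqd
  rcases mem_sigma_of_dvd hG hpart hp (hpd.trans hkd) with h1 | h1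
  · obtain ⟨c, hc⟩ := sigma_eq_of_mem hG h.pair'.max hH.max hpN h1
    exact ⟨c, Or.inr hc⟩
  · rcases mem_sigma_of_dvd hG hpart hq (hqd.trans hsd) with h2 | h2
    · obtain ⟨c, hc⟩ := sigma_eq_of_mem hG h.pair.max hH.max hqM h2
      exact ⟨c, Or.inl hc⟩
    · exfalso
      obtain ⟨c, hc⟩ := sigma_eq_of_mem hG h.pair'.max hH'.max hpN h1
      have h3 : sigma H' = sigma N := by rw [hc, Equivariance.sigma_map]
      rw [h3] at h2
      exact h.sigma_disj hG q hqM h2

/-- B & G 14.7 (g). -/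
theorem conj_of_kappa_nonempty {M K N : Subgroup G} (h : IsPartner M K N) {H : Subgroup G}
    (hH : IsCoatom H) (hκ : (kappa H).Nonempty) :
    ∃ g : G, H = M.map (MulAut.conj g).toMonoidHom ∨ H = N.map (MulAut.conj g).toMonoidHom := by
  obtain ⟨L, hL, -⟩ := HallPi.exists_isPiHallOf_ge
    (MinSimpleBasic.isSolvable_of_isCoatom hG hH) (kappa H) (X := ⊥) bot_le
    (fun p hp hd => absurd (Subgroup.card_bot (G := G) ▸ hd) hp.not_dvd_one)
  refine conj_of_pairs hG h (L := L) ⟨hH, hL, ?_⟩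
  rintro rfl
  obtain ⟨p, hp⟩ := hκ
  have h1 := hL.2.2 p hp.1 hp
  rw [Subgroup.relIndex_bot_left] at h1
  exact h1 hp.2.1

end Cfsg.Agent.OddOrderLocal.TwoClasses147
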