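import Mathlib
import Cfsg.Prelude.Def_OddOrderLocal
import Cfsg.Agent.S0058
import Cfsg.Agent.OddOrderLocal.Rank
import Cfsg.Agent.OddOrderLocal.FreeCyclic
import Cfsg.Agent.OddOrderLocal.NonabUniqAux
import Cfsg.Agent.OddOrderLocal.RankOneCyclic
import Cfsg.Agent.OddOrderLocal.RankBasics
import Cfsg.Agent.Lib.CoprimeAbelian

/-!
Generic group theory for the abelian case of S1421: a `q`-group `R` (abelian) acting on a `q'`-group `K` with
non-cyclic `R / C_R(K)` has an element acting nontrivially with nontrivial fixed points.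
-/

set_option autoImplicit false
set_option linter.style.haveILetI false

namespace Cfsg.Agent.OddOrderLocal.FrobTypeAbelianAux

variable {X : Type*} [Group X]

theorem le_of_forall_quotient [Finite X] (K Q Z C : Subgroup X) [hZn : Z.Normal] (hKZ : K ⊓ Z = ⊥)
    (hQK : Q ≤ Subgroup.normalizer (K : Set X))
    (hcomm : ∀ x ∈ Q, ∀ y ∈ Q, x * y * x⁻¹ * y⁻¹ ∈ Z)
    (hnc : ¬ IsCyclic (Q.map (QuotientGroup.mk' Z)))
    (hcop : (Nat.card Q).Coprime (Nat.card K))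
    (hfix : ∀ x ∈ Q, x ∉ Z → K ⊓ Subgroup.centralizer ({x} : Set X) ≤ C) : K ≤ C := by
  let π := QuotientGroup.mk' Z
  have hπ : ∀ x, π x = 1 ↔ x ∈ Z := fun x => QuotientGroup.eq_one_iff x
  have hAcomm : IsMulCommutative (Q.map π) := by
    refine isMulCommutative_iff_of_setLike.mpr ?_
    rintro _ ⟨x, hx, rfl⟩ _ ⟨y, hy, rfl⟩
    have h1 : π (x * y * x⁻¹ * y⁻¹) = 1 := (hπ _).mpr (hcomm x hx y hy)
    rw [map_mul, map_mul, map_inv, map_inv, map_mul] at h1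
    rw [mul_inv_eq_one, mul_inv_eq_iff_eq_mul] at h1
    exact h1
  have hnorm : Q.map π ≤ Subgroup.normalizer ((K.map π : Subgroup (X ⧸ Z)) : Set (X ⧸ Z)) := by
    rw [Subgroup.le_normalizer_iff]
    rintro _ ⟨x, hx, rfl⟩ _ ⟨k, hk, rfl⟩
    refine ⟨x * k * x⁻¹, ?_, by simp⟩
    exact (Subgroup.mem_normalizer_iff.mp (hQK hx) k).mp hk
  have hcop' : (Nat.card (Q.map π)).Coprime (Nat.card (K.map π)) :=
    Nat.Coprime.coprime_dvd_right (Subgroup.card_map_dvd _ _)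
      (Nat.Coprime.coprime_dvd_left (Subgroup.card_map_dvd _ _) hcop)
  have hgen := Cfsg.Agent.S0058.result (Q.map π) (K.map π) hnc hnorm hcop'
  have hle : K.map π ≤ (K ⊓ C).map π := by
    conv_lhs => rw [← hgen]
    refine iSup₂_le ?_
    rintro a ⟨⟨x, hx, rfl⟩, ha1⟩
    have hxZ : x ∉ Z := fun h => ha1 ((hπ x).mpr h)
    rintro _ ⟨⟨k, hk, rfl⟩, hkc⟩
    refine ⟨k, ⟨hk, hfix x hx hxZ ⟨hk, ?_⟩⟩, rfl⟩
    have h1 : π x * π k = π k * π x :=
      Subgroup.mem_centralizer_iff.mp hkc (π x) rfl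
    have h2 : x * k * x⁻¹ * k⁻¹ ∈ Z := by
      rw [← hπ, map_mul, map_mul, map_inv, map_inv, map_mul, h1]; group
    have h3 : x * k * x⁻¹ * k⁻¹ ∈ K := by
      have := (Subgroup.mem_normalizer_iff.mp (hQK hx) k).mp hk
      exact K.mul_mem this (K.inv_mem hk)
    have h4 : x * k * x⁻¹ * k⁻¹ ∈ K ⊓ Z := ⟨h3, h2⟩
    rw [hKZ, Subgroup.mem_bot, mul_inv_eq_one, mul_inv_eq_iff_eq_mul] at h4
    refine Subgroup.mem_centralizer_iff.mpr ?_
    rintro y hy
    rw [Set.mem_singleton_iff.mp hy]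
    exact h4
  intro k hk
  obtain ⟨c, ⟨hcK, hcC⟩, hc⟩ := hle ⟨k, hk, rfl⟩
  have h1 : c⁻¹ * k ∈ Z := (QuotientGroup.eq (s := Z)).mp hc
  have h2 : c⁻¹ * k ∈ K ⊓ Z := ⟨K.mul_mem (K.inv_mem hcK) hk, h1⟩
  rw [hKZ, Subgroup.mem_bot, inv_mul_eq_one] at h2
  rw [← h2]; exact hcC

/-- A finite abelian `q`-group `R` acting on a nontrivial `q'`-group `K`, with a subgroup `Q₁ ≥ C_R(K)` acting
nontrivially and an element `b` of order `q` of `R` outside `Q₁`: some element of `R` acts nontrivially on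
`K` with a nontrivial fixed point. -/
theorem exists_fixed [Finite X] {q : ℕ} [hq : Fact q.Prime] (K R Q₁ : Subgroup X)
    (hR : ∀ a ∈ R, ∀ b ∈ R, a * b = b * a) (hRq : IsPGroup q R) (hK : (Nat.card K).Coprime q)
    (hRK : R ≤ Subgroup.normalizer (K : Set X))
    (hZ : R ⊓ Subgroup.centralizer (K : Set X) ≤ Q₁) (hQ₁R : Q₁ ≤ R)
    (hne : ¬ Q₁ ≤ Subgroup.centralizer (K : Set X))
    {b : X} (hbR : b ∈ R) (hb : b ∉ Q₁) (hbq : b ^ q = 1) (hK1 : K ≠ ⊥) :
    ∃ g ∈ R, g ∉ Subgroup.centralizer (K : Set X) ∧ K ⊓ Subgroup.centralizer ({g} : Set X) ≠ ⊥ := by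
  by_contra hcon
  push Not at hcon
  apply hK1
  set Z := R ⊓ Subgroup.centralizer (K : Set X) with hZdef
  set Y := Subgroup.centralizer (Z : Set X) with hY
  have hRY : R ≤ Y := by
    intro r hr
    refine Subgroup.mem_centralizer_iff.mpr ?_
    intro z hz
    exact hR z hz.1 r hr
  have hKY : K ≤ Y := by
    intro k hk
    refine Subgroup.mem_centralizer_iff.mpr ?_
    intro z hz
    exact (Subgroup.mem_centralizer_iff.mp hz.2 k hk).symm
  have hZY : Z ≤ Y := inf_le_left.trans hRY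
  haveI hn : (Z.subgroupOf Y).Normal := by
    refine ⟨?_⟩
    rintro ⟨z, hz'⟩ hz ⟨g, hg⟩
    have h1 : z * g = g * z := Subgroup.mem_centralizer_iff.mp hg z hz
    have h2 : g * z * g⁻¹ ∈ Z := by rw [← h1, mul_assoc, mul_inv_cancel, mul_one]; exact hz
    exact h2
  have hcardK : Nat.card (K.subgroupOf Y) = Nat.card K :=
    Nat.card_congr (Subgroup.subgroupOfEquivOfLe hKY).toEquiv
  have hcardR : Nat.card (R.subgroupOf Y) = Nat.card R :=
    Nat.card_congr (Subgroup.subgroupOfEquivOfLe hRY).toEquiv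
  have hcop : (Nat.card R).Coprime (Nat.card K) := by
    obtain ⟨n, hn⟩ := IsPGroup.iff_card.1 hRq
    rw [hn]
    exact Nat.Coprime.pow_left _ hK.symm
  have hKZ : K ⊓ Z = ⊥ := NonabUniqAux.inf_eq_bot_of_coprime hK (hRq.to_le inf_le_left)
  have key := le_of_forall_quotient (K.subgroupOf Y) (R.subgroupOf Y) (Z.subgroupOf Y) ⊥ ?_ ?_ ?_ ?_
    ?_ ?_
  · rw [le_bot_iff, ← Subgroup.card_eq_one, hcardK, Subgroup.card_eq_one] at key
    exact key
  · rw [eq_bot_iff]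
    rintro ⟨x, hx'⟩ ⟨hx1, hx2⟩
    have h1 : x ∈ K ⊓ Z := ⟨hx1, hx2⟩
    rw [hKZ, Subgroup.mem_bot] at h1
    exact Subtype.ext h1
  · rw [Subgroup.le_normalizer_iff]
    rintro ⟨r, hr'⟩ hr ⟨k, hk'⟩ hk
    exact (Subgroup.mem_normalizer_iff.mp (hRK hr) k).mp hk
  · rintro ⟨x, hx'⟩ hx ⟨y, hy'⟩ hy
    have h1 : x * y * x⁻¹ * y⁻¹ = 1 := by
      rw [hR x hx y hy]; group
    have h2 : x * y * x⁻¹ * y⁻¹ ∈ Z := by rw [h1]; exact Z.one_mem
    exact h2
  · -- the quotient is not cyclic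
    intro hcyc
    obtain ⟨y, hy, hyK⟩ := Set.not_subset.mp hne
    let π := QuotientGroup.mk' (Z.subgroupOf Y)
    let yy : Y := ⟨y, hRY (hQ₁R hy)⟩
    let bb : Y := ⟨b, hRY hbR⟩
    have hyR : yy ∈ R.subgroupOf Y := hQ₁R hy
    have hbR' : bb ∈ R.subgroupOf Y := hbR
    let πy : (R.subgroupOf Y).map π := ⟨π yy, ⟨yy, hyR, rfl⟩⟩
    let πb : (R.subgroupOf Y).map π := ⟨π bb, ⟨bb, hbR', rfl⟩⟩
    have hRq' : IsPGroup q ((R.subgroupOf Y).map π) :=
      (hRq.of_equiv (Subgroup.subgroupOfEquivOfLe hRY).symm).map π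
    have hπy : πy ≠ 1 := by
      intro h
      have h1 : π yy = 1 := congrArg Subtype.val h
      have h2 : yy ∈ Z.subgroupOf Y := (QuotientGroup.eq_one_iff _).mp h1
      exact hyK (inf_le_right (a := R) h2)
    have hdb : orderOf πb ∣ q := by
      apply orderOf_dvd_of_pow_eq_one
      apply Subtype.ext
      change π bb ^ q = 1
      rw [← map_pow]
      have : bb ^ q = 1 := Subtype.ext hbq
      rw [this, map_one]
    have hdy : q ∣ orderOf πy := by
      obtain ⟨n, hn⟩ := (IsPGroup.iff_orderOf.mp hRq') πy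
      rw [hn]
      apply dvd_pow_self
      rintro rfl
      rw [pow_zero, orderOf_eq_one_iff] at hn
      exact hπy hn
    have hmem : πb ∈ Subgroup.zpowers πy :=
      FreeCyclic.mem_zpowers_of_orderOf_dvd (hdb.trans hdy)
    obtain ⟨i, hi⟩ := Subgroup.mem_zpowers_iff.mp hmem
    have h1 : π (yy ^ i) = π bb := by
      have := congrArg Subtype.val hi
      rw [map_zpow]; exact this
    have h2 : (yy ^ i)⁻¹ * bb ∈ Z.subgroupOf Y := (QuotientGroup.eq).mp h1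
    have h3 : (y ^ i)⁻¹ * b ∈ Z := h2
    apply hb
    have h4 := Q₁.mul_mem (Q₁.zpow_mem hy i) (hZ h3)
    simpa using h4
  · rw [hcardK, hcardR]; exact hcop
  · rintro ⟨x, hx'⟩ hx hxZ' ⟨k, hk'⟩ ⟨hk, hkc⟩
    have hxK : x ∉ Subgroup.centralizer (K : Set X) := fun h => hxZ' ⟨hx, h⟩
    have h1 := hcon x hx hxK
    have h2 : k ∈ K ⊓ Subgroup.centralizer ({x} : Set X) := by
      refine ⟨hk, Subgroup.mem_centralizer_iff.mpr ?_⟩
      rintro y hy
      rw [Set.mem_singleton_iff.mp hy]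
      exact congrArg Subtype.val (Subgroup.mem_centralizer_iff.mp hkc ⟨x, hx'⟩ rfl)
    rw [h1, Subgroup.mem_bot] at h2
    rw [Subgroup.mem_bot]
    exact Subtype.ext h2

/-- element of maximal order in a finite `p`-group. -/
theorem exists_max_order [Finite X] {p : ℕ} [hp : Fact p.Prime] {S : Subgroup X} (hS : IsPGroup p S) :
    ∃ g ∈ S, ∃ a : ℕ, orderOf g = p ^ a ∧ ∀ x ∈ S, x ^ p ^ a = 1 := by
  obtain ⟨⟨g, hg⟩, hmax⟩ := Finite.exists_max (fun x : S => orderOf (x : X))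
  obtain ⟨a, ha⟩ := (IsPGroup.iff_orderOf.mp hS) ⟨g, hg⟩
  rw [Subgroup.orderOf_mk] at ha
  refine ⟨g, hg, a, ha, ?_⟩
  intro x hx
  obtain ⟨b, hb⟩ := (IsPGroup.iff_orderOf.mp hS) ⟨x, hx⟩
  rw [Subgroup.orderOf_mk] at hb
  have h1 : orderOf x ≤ orderOf g := hmax ⟨x, hx⟩
  rw [ha, hb] at h1
  have h2 := (Nat.pow_le_pow_iff_right hp.out.one_lt).mp h1
  apply orderOf_dvd_iff_pow_eq_one.mp
  rw [hb]
  exact pow_dvd_pow p h2

/-- In an abelian `p`-group `S = P P'` with `P` cyclic and `#P' ∣ #P`, a generator of `P` has order the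
exponent of `S`. -/
theorem exists_gen_of_sup [Finite X] {P P' S : Subgroup X}
    (hS : ∀ a ∈ S, ∀ b ∈ S, a * b = b * a) (hsup : P ⊔ P' = S) (hP : IsCyclic P)
    (hd : Nat.card P' ∣ Nat.card P) : ∃ g ∈ P, ∀ x ∈ S, orderOf x ∣ orderOf g := by
  obtain ⟨⟨g, hg⟩, hgen⟩ := hP.exists_generator
  have hog : orderOf g = Nat.card P := by
    have := orderOf_eq_card_of_forall_mem_zpowers hgen
    rwa [Subgroup.orderOf_mk] at this
  refine ⟨g, hg, ?_⟩
  intro x hx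
  have hPS : P ≤ S := hsup ▸ le_sup_left
  have hP'S : P' ≤ S := hsup ▸ le_sup_right
  have hn : P' ≤ Subgroup.normalizer (P : Set X) := by
    rw [Subgroup.le_normalizer_iff]
    intro a ha b hb
    rw [hS a (hP'S ha) b (hPS hb), mul_assoc, mul_inv_cancel, mul_one]
    exact hb
  have hx' : x ∈ ((P ⊔ P' : Subgroup X) : Set X) := by rw [hsup]; exact hx
  rw [Subgroup.coe_mul_of_right_le_normalizer_left P P' hn] at hx'
  obtain ⟨a, ha, b, hb, rfl⟩ := hx'
  have hab : Commute a b := hS a (hPS ha) b (hP'S hb)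
  rw [hog]
  apply orderOf_dvd_of_pow_eq_one
  change (a * b) ^ Nat.card P = 1
  rw [hab.mul_pow]
  have h1 : a ^ Nat.card P = 1 := by
    have := pow_card_eq_one' (x := (⟨a, ha⟩ : P))
    exact congrArg Subtype.val this
  have h2 : b ^ Nat.card P = 1 := by
    obtain ⟨c, hc⟩ := hd
    have := pow_card_eq_one' (x := (⟨b, hb⟩ : P'))
    have h3 : b ^ Nat.card P' = 1 := congrArg Subtype.val this
    rw [hc, pow_mul, h3, one_pow]
  rw [h1, h2, one_mul]

/-- If every element of order `p` of `S` lies in `A` of order `p ^ 2`, then a subgroup of `S` with a nontrivial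
disjoint subgroup of `S` is cyclic. -/
theorem isCyclic_of_disjoint [Finite X] {p : ℕ} [hp : Fact p.Prime] (hp2 : p ≠ 2) {A S P P' : Subgroup X}
    (hS : IsPGroup p S) (hAc : Nat.card A = p ^ 2) (hA : ∀ x ∈ S, x ^ p = 1 → x ∈ A)
    (hPS : P ≤ S) (hP'S : P' ≤ S) (hdisj : P ⊓ P' = ⊥) (hP' : P' ≠ ⊥) : IsCyclic P := by
  have hPp : IsPGroup p P := hS.to_le hPS
  apply RankOneCyclic.isCyclic_of_pRankLE_one hp2 hPp
  rw [Rank.pRankLE_iff_card]
  intro B hBP hB hBc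
  have hBA : B ≤ A := fun b hb => hA b (hPS (hBP hb)) (hB.2 b hb)
  have hBA' : B = A := Subgroup.eq_of_le_of_card_ge hBA (by rw [hAc, hBc])
  -- an element of order `p` in `P'`
  haveI : Nontrivial P' := (Subgroup.nontrivial_iff_ne_bot P').mpr hP'
  obtain ⟨n, hn, hc⟩ := (hS.to_le hP'S).nontrivial_iff_card.mp inferInstance
  have hdvd : p ∣ Nat.card P' := by rw [hc]; exact dvd_pow_self p hn.ne'
  obtain ⟨⟨y, hy⟩, hyo⟩ := exists_prime_orderOf_dvd_card' p hdvd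
  rw [Subgroup.orderOf_mk] at hyo
  have hyA : y ∈ A := hA y (hP'S hy) (by rw [← hyo]; exact pow_orderOf_eq_one y)
  have h1 : y ∈ P ⊓ P' := ⟨hBP (hBA' ▸ hyA), hy⟩
  rw [hdisj, Subgroup.mem_bot] at h1
  rw [h1, orderOf_one] at hyo
  exact hp.out.one_lt.ne hyo

end Cfsg.Agent.OddOrderLocal.FrobTypeAbelianAux
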