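import Mathlib
import Cfsg.Prelude.Def_OddOrderLocal
import Cfsg.Agent.OddOrderLocal.MinSimpleBasic
import Cfsg.Agent.OddOrderLocal.CNBasic
import Cfsg.Agent.OddOrderLocal.CNNil
import Cfsg.Agent.OddOrderLocal.HallPi
import Cfsg.Agent.OddOrderLocal.FitAux
import Cfsg.Agent.OddOrderLocal.Equivariance

/-!
Nilpotent subgroups `F` of a finite group `G`: a Hall subgroup `K` of `F` contains the `π`-elements of
`F`, `N_G(F) ≤ N_G(K)`; an abelian Sylow subgroup of `F` is central in `F`.
-/

set_option autoImplicit false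
set_option linter.style.haveILetI false
set_option linter.unusedSectionVars false

namespace Cfsg.Agent.OddOrderLocal.NilpotentHall

open Cfsg
open Cfsg.Agent.OddOrderLocal.MinSimpleBasic

variable {G : Type*} [Group G] [Finite G]

/-- Sylow subgroups of nilpotent groups contain all `p`-elements. -/
theorem mem_sylow_of_nilpotent {F : Subgroup G} (hF : Group.IsNilpotent F) {p : ℕ} [Fact p.Prime]
    (P : Sylow p F) {x : G} (hx : x ∈ F) {k : ℕ} (hk : x ^ p ^ k = 1) :
    x ∈ (P : Subgroup F).map F.subtype := by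
  have hn : (P : Subgroup F).Normal :=
    (Group.isNilpotent_of_finite_tfae (G := F)).out 0 3 rfl rfl |>.mp hF p inferInstance P
  have h1 : IsPGroup p (Subgroup.zpowers (⟨x, hx⟩ : F)) := by
    rintro ⟨y, hy⟩
    obtain ⟨m, rfl⟩ := Subgroup.mem_zpowers_iff.mp hy
    refine ⟨k, Subtype.ext ?_⟩
    apply Subtype.ext
    show ((x ^ m) ^ p ^ k : G) = 1
    rw [← zpow_natCast, ← zpow_mul, mul_comm, zpow_mul, zpow_natCast, hk, one_zpow]
  obtain ⟨Q, hQ⟩ := h1.exists_le_sylow
  have hQP : Q = P := by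
    letI := Sylow.unique_of_normal P hn
    exact Subsingleton.elim Q P
  rw [hQP] at hQ
  exact ⟨⟨x, hx⟩, hQ (Subgroup.mem_zpowers _), rfl⟩

/-- If `K ≤ F`, `F` nilpotent, and the prime `p` does not divide `[F : K]`, then `K` contains all
`p`-elements of `F`. -/
theorem mem_of_not_dvd_relIndex {F K : Subgroup G} (hF : Group.IsNilpotent F) (hKF : K ≤ F) {p : ℕ}
    [hp : Fact p.Prime] (hd : ¬ p ∣ K.relIndex F) {x : G} (hx : x ∈ F) {k : ℕ}
    (hk : x ^ p ^ k = 1) : x ∈ K := by
  obtain ⟨Q⟩ : Nonempty (Sylow p K) := inferInstance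
  set Q' : Subgroup G := (Q : Subgroup K).map K.subtype with hQ'
  have hQK : Q' ≤ K := Subgroup.map_subtype_le _
  have hQF : Q' ≤ F := hQK.trans hKF
  have hQp : IsPGroup p Q' := Q.isPGroup'.map _
  have hidx : ¬ p ∣ (Q'.subgroupOf F).index := by
    have h1 : (Q'.subgroupOf F).index = Q'.relIndex K * K.relIndex F :=
      (Subgroup.relIndex_mul_relIndex Q' K F hQK hKF).symm
    have h2 : Q'.relIndex K = (Q : Subgroup K).index := HallPi.relIndex_map_subtype _
    rw [h1, h2]
    exact hp.out.not_dvd_mul Q.not_dvd_index hd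
  have hQp' : IsPGroup p (Q'.subgroupOf F) :=
    hQp.of_equiv (Subgroup.subgroupOfEquivOfLe hQF).symm
  have hfi : (Q'.subgroupOf F).FiniteIndex := inferInstance
  let S : Sylow p F := hQp'.toSylow hidx
  have h3 := mem_sylow_of_nilpotent hF S hx hk
  have h4 : (S : Subgroup F) = Q'.subgroupOf F := rfl
  rw [h4, Subgroup.subgroupOf_map_subtype] at h3
  exact hQK h3.1

/-- If `K ≤ F`, `F` nilpotent, and no prime dividing `#K` divides `[F : K]`, then
`N_G(F) ≤ N_G(K)`. -/
theorem normalizer_le_normalizer {F K : Subgroup G} (hF : Group.IsNilpotent F) (hKF : K ≤ F)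
    (hd : ∀ p : ℕ, p.Prime → p ∣ Nat.card K → ¬ p ∣ K.relIndex F) :
    Subgroup.normalizer (F : Set G) ≤ Subgroup.normalizer (K : Set G) := by
  intro g hg
  have key : ∀ g ∈ Subgroup.normalizer (F : Set G), K.map (MulAut.conj g).toMonoidHom ≤ K := by
    intro g hg
    refine CNNil.le_of_prime_pow ?_
    intro x hx p k hp hk
    haveI : Fact p.Prime := ⟨hp⟩
    by_cases hk0 : k = 0
    · rw [hk0, pow_zero, orderOf_eq_one_iff] at hk
      rw [hk]; exact K.one_mem
    have hxF : x ∈ F := by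
      have h1 := Subgroup.map_mono (f := (MulAut.conj g).toMonoidHom) hKF hx
      rwa [mem_normalizer_iff_map_conj.mp hg] at h1
    have hpK : p ∣ Nat.card K := by
      have h1 : orderOf x ∣ Nat.card (K.map (MulAut.conj g).toMonoidHom) :=
        HallPi.orderOf_dvd_card_of_mem hx
      rw [card_map_conj, hk] at h1
      exact (dvd_pow_self p hk0).trans h1
    have hxk : x ^ p ^ k = 1 := by rw [← hk, pow_orderOf_eq_one]
    exact mem_of_not_dvd_relIndex hF hKF (hd p hp hpK) hxF hxk
  rw [mem_normalizer_iff_map_conj]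
  refine le_antisymm (key g hg) ?_
  rw [← map_conj_le_iff (g := g⁻¹), ← map_conj_mul, inv_mul_cancel, map_conj_one]
  exact key g⁻¹ (inv_mem hg)

/-- If `F` is nilpotent and the `p`-subgroup `B ≤ F` commutes with the `p`-elements of `F` then
`F` centralizes `B`. -/
theorem le_centralizer_of_commute {F B : Subgroup G} (hF : Group.IsNilpotent F) {p : ℕ}
    [hp : Fact p.Prime] (hB : IsPGroup p B) (hBF : B ≤ F)
    (h : ∀ x ∈ F, ∀ k : ℕ, x ^ p ^ k = 1 → ∀ b ∈ B, b * x = x * b) :
    F ≤ Subgroup.centralizer (B : Set G) := by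
  intro x hx
  rw [Subgroup.mem_centralizer_iff]
  intro b hb
  obtain ⟨u, v, hu, hv, huv, ⟨k, hk⟩, hcop⟩ := CNBasic.exists_mul_parts hp.out x
  have hzF : Subgroup.zpowers x ≤ F := by
    rw [Subgroup.zpowers_le]; exact hx
  have h1 : b * u = u * b := h u (hzF hu) k hk b hb
  have h2 : b * v = v * b := by
    refine CNBasic.commute_of_mem_of_coprime hF (hBF hb) (hzF hv) ?_
    obtain ⟨l, hl⟩ := hB ⟨b, hb⟩
    have hl' : b ^ p ^ l = 1 := congrArg Subtype.val hl
    have h3 : orderOf b ∣ p ^ l := orderOf_dvd_of_pow_eq_one hl'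
    exact Nat.Coprime.coprime_dvd_left h3 (Nat.Coprime.pow_left l hcop.symm)
  rw [← huv, ← mul_assoc, h1, mul_assoc, h2, mul_assoc]

/-- Conjugation carries `F(M)` to `F(M^g)`. -/
theorem normalizer_le_normalizer_fittingOf (M : Subgroup G) :
    Subgroup.normalizer (M : Set G) ≤ Subgroup.normalizer (fittingOf M : Set G) := by
  intro g hg
  rw [mem_normalizer_iff_map_conj] at hg ⊢
  rw [← Equivariance.fittingOf_map, hg]

theorem normalizer_le_normalizer_centralizer (A : Subgroup G) :
    Subgroup.normalizer (A : Set G) ≤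
      Subgroup.normalizer (Subgroup.centralizer (A : Set G) : Set G) := by
  intro g hg
  rw [mem_normalizer_iff_map_conj] at hg ⊢
  rw [Equivariance.map_centralizer_subgroup, hg]

/-- If `S` is an abelian Sylow `p`-subgroup of `G`, any two elements of a `p`-subgroup commute. -/
theorem commute_of_isPGroup {p : ℕ} [Fact p.Prime] (S : Sylow p G)
    (hS : IsMulCommutative (S : Subgroup G)) {T : Subgroup G} (hT : IsPGroup p T) {x y : G}
    (hx : x ∈ T) (hy : y ∈ T) : x * y = y * x := by
  obtain ⟨g, hg⟩ := exists_map_conj_le_sylow S hT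
  have h1 : g * x * g⁻¹ ∈ (S : Subgroup G) := hg (conj_mem_map_conj hx)
  have h2 : g * y * g⁻¹ ∈ (S : Subgroup G) := hg (conj_mem_map_conj hy)
  have h3 := congrArg Subtype.val (hS.is_comm.comm ⟨_, h1⟩ ⟨_, h2⟩)
  have h4 : g * (x * y) * g⁻¹ = g * (y * x) * g⁻¹ := by
    have h5 : g * x * g⁻¹ * (g * y * g⁻¹) = g * y * g⁻¹ * (g * x * g⁻¹) := h3
    calc g * (x * y) * g⁻¹ = g * x * g⁻¹ * (g * y * g⁻¹) := by group
      _ = g * y * g⁻¹ * (g * x * g⁻¹) := h5
      _ = g * (y * x) * g⁻¹ := by group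
  exact mul_left_cancel (mul_right_cancel h4)

/-- If the Sylow `p`-subgroups of `G` are abelian, `F` is nilpotent and `B ≤ F` is a `p`-group then
`F` centralizes `B`. -/
theorem le_centralizer_of_abelian_sylow {p : ℕ} [Fact p.Prime] (S : Sylow p G)
    (hS : IsMulCommutative (S : Subgroup G)) {F B : Subgroup G} (hF : Group.IsNilpotent F)
    (hB : IsPGroup p B) (hBF : B ≤ F) : F ≤ Subgroup.centralizer (B : Set G) := by
  refine le_centralizer_of_commute hF hB hBF ?_
  intro x hx k hk b hb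
  obtain ⟨P⟩ : Nonempty (Sylow p F) := inferInstance
  obtain ⟨l, hl⟩ := hB ⟨b, hb⟩
  have hl' : b ^ p ^ l = 1 := congrArg Subtype.val hl
  have h1 := mem_sylow_of_nilpotent hF P hx hk
  have h2 := mem_sylow_of_nilpotent hF P (hBF hb) hl'
  exact commute_of_isPGroup S hS (P.isPGroup'.map F.subtype) h2 h1

/-- `F(H) = F(C_G(A))` when `C_G(A) ≤ H ≤ N_G(A)` and `A` is a `p`-subgroup, `G` with abelian Sylow
`p`-subgroups. -/
theorem fittingOf_eq_of_centralizer_le {p : ℕ} [Fact p.Prime] (S : Sylow p G)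
    (hS : IsMulCommutative (S : Subgroup G)) {A H : Subgroup G} (hA : IsPGroup p A) (hAH : A ≤ H)
    (hHN : H ≤ Subgroup.normalizer (A : Set G)) (hCH : Subgroup.centralizer (A : Set G) ≤ H) :
    fittingOf H = fittingOf (Subgroup.centralizer (A : Set G)) := by
  have hAF : A ≤ fittingOf H := FitAux.le_fittingOf hAH hHN (by
    exact hA.isNilpotent)
  have hFC : fittingOf H ≤ Subgroup.centralizer (A : Set G) :=
    le_centralizer_of_abelian_sylow S hS (FitAux.isNilpotent_fittingOf H) hA hAF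
  apply le_antisymm
  · exact FitAux.le_fittingOf hFC (hCH.trans (FitAux.le_normalizer_fittingOf H))
      (FitAux.isNilpotent_fittingOf H)
  · refine FitAux.le_fittingOf ((FitAux.fittingOf_le _).trans hCH) ?_
      (FitAux.isNilpotent_fittingOf _)
    exact hHN.trans ((normalizer_le_normalizer_centralizer A).trans
      (normalizer_le_normalizer_fittingOf _))

end Cfsg.Agent.OddOrderLocal.NilpotentHall
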