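import Mathlib
import Cfsg.Prelude.Def_OddOrderLocal
import Cfsg.Agent.S1360

/-!
B&G 15.7, piece (F): case `K = 1`. A normal subgroup `Z ≤ M_σ` of `M` of prime order `q` forces the
exponent of `M / M_F` to divide `q - 1`.
-/

set_option autoImplicit false

namespace Cfsg.Agent.OddOrderLocal.FittingNonTIExp

open Subgroup

/-- an element normalizing a subgroup of prime order `q`: its `(q-1)`-st power centralizes it. -/
theorem pow_centralizes_of_card_prime {G : Type*} [Group G] [Finite G] {q : ℕ} (hq : q.Prime)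
    {Z : Subgroup G} (hZq : Nat.card Z = q) {u : G} (hu : u ∈ normalizer (Z : Set G)) :
    ∀ z ∈ Z, u ^ (q - 1) * z = z * u ^ (q - 1) := by
  intro z hz
  have : Fact q.Prime := ⟨hq⟩
  have hcyc : IsCyclic Z := isCyclic_of_prime_card hZq
  have hcard : Nat.card (MulAut Z) = q - 1 := by
    rw [IsCyclic.card_mulAut, hZq, Nat.totient_prime hq]
  have h1 : (normalizerMonoidHom Z ⟨u, hu⟩) ^ (q - 1) = 1 := by
    rw [← hcard]; exact pow_card_eq_one'
  rw [← map_pow] at h1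
  have h2 := congrArg (fun f : MulAut Z => ((f ⟨z, hz⟩ : Z) : G)) h1
  have h3 : u ^ (q - 1) * z * (u ^ (q - 1))⁻¹ = z := h2
  rw [mul_inv_eq_iff_eq_mul] at h3
  exact h3

/-- (F) case K = 1: a normal subgroup `Z ≤ M_σ` of `M` of prime order `q` forces exponent (M/M_F) ∣ q - 1
(`U₀` of S1360 acts freely on `Z`). -/
theorem exponent_dvd_of_K_eq_bot {G : Type*} [Group G] [Finite G] (hG : Cfsg.IsMinSimpleOddOrder G)
    (M : Subgroup G) (hM : IsCoatom M) (K U : Subgroup G) (hKU : Cfsg.IsSigmaDecomposition M K U)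
    (hK : K = ⊥) (hF : Cfsg.fittingHallOf M = Cfsg.sigmaCore M) (q : ℕ) (hq : q.Prime)
    (Z : Subgroup G) (hZ : Z ≤ Cfsg.sigmaCore M) (hZq : Nat.card Z = q)
    (hnZ : M ≤ normalizer (Z : Set G)) :
    Monoid.exponent (↥M ⧸ Cfsg.fittingHall ↥M) ∣ q - 1 := by
  obtain ⟨U₀, hU₀U, hexp, hfree⟩ := Cfsg.Agent.S1360.result hG M hM K U hKU
  have hUM : U ≤ M := hKU.compl.1
  -- `exp U₀ ∣ q - 1`
  have hU₀ : Monoid.exponent U₀ ∣ q - 1 := by
    apply Monoid.exponent_dvd_of_forall_pow_eq_one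
    rintro ⟨u, hu⟩
    have hpow : u ^ (q - 1) ∈ U₀ := pow_mem hu _
    have hcent := pow_centralizes_of_card_prime hq hZq (hnZ (hUM (hU₀U hu)))
    have hne : Z ≠ ⊥ := by
      rintro rfl
      rw [Subgroup.card_bot] at hZq
      exact hq.one_lt.ne hZq
    obtain ⟨z, hz1⟩ := Subgroup.ne_bot_iff_exists_ne_one.mp hne
    have hz1' : (z : G) ≠ 1 := fun h => hz1 (Subtype.ext h)
    have hmem : u ^ (q - 1) ∈ Cfsg.sigmaHat M :=
      ⟨hUM (hU₀U hpow), z, hZ z.2, hz1', hcent z z.2⟩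
    exact Subtype.ext (hfree _ hpow hmem)
  rw [hexp] at hU₀
  refine dvd_trans ?_ hU₀
  apply Monoid.exponent_dvd_of_forall_pow_eq_one
  intro x
  obtain ⟨m, rfl⟩ := QuotientGroup.mk_surjective x
  obtain ⟨a, ha, b, hb, hab⟩ := hKU.compl.2.2.2 m m.2
  rw [hK, bot_sup_eq, ← hF] at hb
  obtain ⟨b', hb', rfl⟩ := hb
  have hm : m = ⟨a, hUM ha⟩ * b' := Subtype.ext hab
  rw [hm, QuotientGroup.mk_mul, (QuotientGroup.eq_one_iff b').mpr hb', mul_one, ← QuotientGroup.mk_pow]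
  have ha' : a ^ Monoid.exponent U = 1 := by
    have := Monoid.pow_exponent_eq_one (⟨a, ha⟩ : U)
    exact congrArg Subtype.val this
  have : (⟨a, hUM ha⟩ : M) ^ Monoid.exponent U = 1 := Subtype.ext ha'
  rw [this]; rfl

end Cfsg.Agent.OddOrderLocal.FittingNonTIExp
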