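import Mathlib
import Cfsg.Prelude.Def_OddOrderLocal
import Cfsg.Agent.OddOrderLocal.Rank
import Cfsg.Agent.OddOrderLocal.RankBasics
import Cfsg.Agent.OddOrderLocal.MinSimple
import Cfsg.Agent.OddOrderLocal.MinSimpleBasic
import Cfsg.Agent.OddOrderLocal.FitAux
import Cfsg.Agent.OddOrderLocal.HallPi
import Cfsg.Agent.Lib.NilpotentCoprime
import Cfsg.Agent.S1350
import Cfsg.Agent.S1403
import Cfsg.Agent.S1422
import Cfsg.Agent.S1426
import Cfsg.Agent.OddOrderLocal.Sec10_13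

/-!
Part of Bender-Glauberman Theorem 15.7 (`F(M)` not TI): the case where `P₀ = O_p(M_σ)` is nonabelian.
`X = F(M) ∩ F(M)^g` has order `p` and `Ω₁(C_{P₀}(X₁))` is a maximal elementary abelian `p`-subgroup of `G`,
of order `p ^ 2`.
-/

set_option autoImplicit false

namespace Cfsg.Agent.OddOrderLocal.FittingNonTI2

open Subgroup Cfsg.Agent.OddOrderLocal

variable {G : Type*} [Group G] [Finite G]

/-- If a `p`-subgroup `C` of the maximal subgroup `M` is nonabelian or of rank at least `3` and centralizes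
`x ≠ 1` then `C_G(x) ≤ M`. -/
theorem centralizer_le (hG : Cfsg.IsMinSimpleOddOrder G) {M : Subgroup G} (hM : IsCoatom M)
    {p : ℕ} [Fact p.Prime] {C : Subgroup G} (hC : IsPGroup p C) (hCM : C ≤ M)
    (hna : ¬ IsMulCommutative C ∨ ¬ Cfsg.PRankLE p 2 C) {x : G} (hx : x ≠ 1)
    (hCx : C ≤ Subgroup.centralizer ({x} : Set G)) :
    Subgroup.centralizer ({x} : Set G) ≤ M := by
  have hp : p.Prime := Fact.out
  have hU : Cfsg.InUniqueMaximal C := by
    rcases hna with h | h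
    · exact Cfsg.Agent.S1422.result hG p C hC h
    · have h2 : ¬ Cfsg.RankLE 2 C := fun h' => h (h' p hp)
      have h1 : ¬ Cfsg.RankLE 1 C := fun h' => h (Rank.pRankLE_le (by norm_num) hp.pos (h' p hp))
      exact Cfsg.Agent.S1403.result hG C (fun h' => hM.1 (top_le_iff.1 (h' ▸ hCM))) h1 (Or.inl h2)
  exact MinSimple.le_of_inUniqueMaximal hU hM hCM hCx
    (MinSimpleBasic.centralizer_singleton_ne_top hG hx)

/-- `Ω₁` of an abelian subgroup `C`. -/
def omega (p : ℕ) (C : Subgroup G) (hC : ∀ a ∈ C, ∀ b ∈ C, a * b = b * a) : Subgroup G where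
  carrier := {y | y ∈ C ∧ y ^ p = 1}
  mul_mem' := by
    rintro a b ⟨ha, ha'⟩ ⟨hb, hb'⟩
    refine ⟨mul_mem ha hb, ?_⟩
    rw [(show Commute a b from hC a ha b hb).mul_pow, ha', hb', one_mul]
  one_mem' := ⟨one_mem _, one_pow _⟩
  inv_mem' := by
    rintro a ⟨ha, ha'⟩
    refine ⟨inv_mem ha, ?_⟩
    rw [inv_pow, ha', inv_one]

omit [Finite G] in
theorem mem_omega {p : ℕ} {C : Subgroup G} {hC : ∀ a ∈ C, ∀ b ∈ C, a * b = b * a} {y : G} :
    y ∈ omega p C hC ↔ y ∈ C ∧ y ^ p = 1 := Iff.rfl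

omit [Finite G] in
theorem not_isCyclic_of_elemAb {p : ℕ} [Fact p.Prime] {B : Subgroup G}
    (hB : Cfsg.IsElementaryAbelian p B) (hc : p < Nat.card B) : ¬ IsCyclic B := by
  intro h
  obtain ⟨⟨b, hb⟩, hgen⟩ := h.exists_generator
  have h1 : Nat.card B = orderOf (⟨b, hb⟩ : B) := (orderOf_eq_card_of_forall_mem_zpowers hgen).symm
  have h2 : orderOf (⟨b, hb⟩ : B) ∣ p := by
    apply orderOf_dvd_of_pow_eq_one
    exact Subtype.ext ((Rank.elemAb_def.1 hB).2 b hb)
  have h3 := Nat.le_of_dvd (Fact.out : p.Prime).pos h2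
  omega

/-- `B = Ω₁(C_{P₀}(X₁))` is a maximal elementary abelian subgroup of `G`, of order `p ^ 2`. -/
theorem exists_maximal (hG : Cfsg.IsMinSimpleOddOrder G) {M : Subgroup G} (hM : IsCoatom M)
    {p : ℕ} [Fact p.Prime] {P₀ X₁ : Subgroup G} (hs : P₀ ≤ Cfsg.sigmaCore M)
    (hn : M ≤ Subgroup.normalizer (P₀ : Set G)) (hP : IsPGroup p P₀) (hS : ¬ p ∣ P₀.index)
    (hna : ¬ IsMulCommutative P₀) (hX₁ : X₁ ≤ P₀) (hX₁c : Nat.card X₁ = p)
    (hcent : ∀ x ∈ X₁, x ≠ 1 → ¬ Subgroup.centralizer ({x} : Set G) ≤ M) :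
    ∃ B : Subgroup G, X₁ ≤ B ∧ B ≤ P₀ ∧ Cfsg.IsElementaryAbelian p B ∧ Nat.card B = p ^ 2 ∧
      (∀ B' : Subgroup G, Cfsg.IsElementaryAbelian p B' → B ≤ B' → B' = B) ∧
      ¬ X₁ ≤ Subgroup.centralizer (P₀ : Set G) := by
  have hp : p.Prime := Fact.out
  have hPM : P₀ ≤ M := hs.trans (FitAux.sigmaCore_le M)
  have hsolv : Group.IsSolvable M := MinSimple.isSolvable hG hM.1
  have hHall := (Cfsg.Agent.S1350.result hG M hM).1
  obtain ⟨E, hE⟩ := HallPi.exists_isComplIn hsolv hHall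
  -- a generator of `X₁`
  have hX₁ne : X₁ ≠ ⊥ := by
    rintro rfl
    rw [Subgroup.card_bot] at hX₁c
    exact hp.one_lt.ne hX₁c
  obtain ⟨x, hxX, hx1⟩ : ∃ x : G, x ∈ X₁ ∧ x ≠ 1 := by
    by_contra hcon
    push Not at hcon
    exact hX₁ne ((Subgroup.eq_bot_iff_forall X₁).2 hcon)
  have hxP : x ∈ P₀ := hX₁ hxX
  have hxp : x ^ p = 1 := by
    have := pow_card_eq_one' (x := (⟨x, hxX⟩ : X₁))
    rw [hX₁c] at this
    exact congrArg Subtype.val this
  have hxo : orderOf x = p := by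
    rcases (Nat.dvd_prime hp).1 (orderOf_dvd_of_pow_eq_one hxp) with h | h
    · exact absurd (orderOf_eq_one_iff.1 h) hx1
    · exact h
  have hXz : Subgroup.zpowers x = X₁ := by
    apply Subgroup.eq_of_le_of_card_ge
    · rwa [Subgroup.zpowers_le]
    · rw [Nat.card_zpowers, hxo, hX₁c]
  set C : Subgroup G := P₀ ⊓ Subgroup.centralizer ({x} : Set G) with hCdef
  have hCP : C ≤ P₀ := inf_le_left
  have hCp : IsPGroup p C := hP.to_le hCP
  have hCx : C ≤ Subgroup.centralizer ({x} : Set G) := inf_le_right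
  have hgood : ¬ (¬ IsMulCommutative C ∨ ¬ Cfsg.PRankLE p 2 C) := fun h =>
    hcent x hxX hx1 (centralizer_le hG hM hCp (hCP.trans hPM) h hx1 hCx)
  push Not at hgood
  obtain ⟨hCcomm, hCrank⟩ := hgood
  have hCc : ∀ a ∈ C, ∀ b ∈ C, a * b = b * a := by
    intro a ha b hb
    have := hCcomm.is_comm.comm (⟨a, ha⟩ : C) ⟨b, hb⟩
    exact congrArg Subtype.val this
  have hxC : x ∈ C := by
    rw [hCdef, Subgroup.mem_inf, Subgroup.mem_centralizer_iff]
    refine ⟨hxP, ?_⟩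
    rintro y rfl
    rfl
  -- `x` is not central in `P₀`
  have hxnc : ¬ x ∈ Subgroup.centralizer (P₀ : Set G) := by
    intro h
    apply hna
    have hle : P₀ ≤ C := by
      intro y hy
      rw [hCdef, Subgroup.mem_inf, Subgroup.mem_centralizer_iff]
      refine ⟨hy, ?_⟩
      rintro z rfl
      exact (Subgroup.mem_centralizer_iff.1 h y hy).symm
    refine ⟨⟨fun a b => ?_⟩⟩
    exact Subtype.ext (hCc a (hle a.2) b (hle b.2))
  -- an element of order `p` of the centre of `P₀`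
  have hPnt : Nontrivial P₀ := by
    rw [Subgroup.nontrivial_iff_ne_bot]
    rintro rfl
    rw [Subgroup.mem_bot] at hxP
    exact hx1 hxP
  have hcne : Nontrivial (Subgroup.center P₀) := hP.center_nontrivial
  obtain ⟨z', hz'⟩ : ∃ z : Subgroup.center P₀, orderOf z = p := by
    have hcard : p ∣ Nat.card (Subgroup.center P₀) := by
      have hcp : IsPGroup p (Subgroup.center P₀) := hP.to_subgroup _
      obtain ⟨n, hn⟩ := IsPGroup.iff_card.1 hcp
      have h1 : 1 < Nat.card (Subgroup.center P₀) := Finite.one_lt_card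
      rw [hn] at h1 ⊢
      exact dvd_pow_self p (by rintro rfl; simp at h1)
    exact exists_prime_orderOf_dvd_card' p hcard
  set z : G := ((z' : P₀) : G) with hzdef
  have hzP : z ∈ P₀ := (z' : P₀).2
  have hzo : orderOf z = p := by
    rw [hzdef, Subgroup.orderOf_coe, Subgroup.orderOf_coe, hz']
  have hzp : z ^ p = 1 := by rw [← hzo]; exact pow_orderOf_eq_one z
  have hzc : ∀ y ∈ P₀, y * z = z * y := by
    intro y hy
    have := (Subgroup.mem_center_iff.1 z'.2) ⟨y, hy⟩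
    exact congrArg Subtype.val this
  have hzC : z ∈ C := by
    rw [hCdef, Subgroup.mem_inf, Subgroup.mem_centralizer_iff]
    refine ⟨hzP, ?_⟩
    rintro y rfl
    exact hzc y hxP
  have hzX : z ∉ X₁ := by
    intro h
    apply hxnc
    have hz1 : z ≠ 1 := by
      intro h1
      rw [h1, orderOf_one] at hzo
      exact hp.one_lt.ne hzo
    have hzz : Subgroup.zpowers z = X₁ := by
      apply Subgroup.eq_of_le_of_card_ge
      · rwa [Subgroup.zpowers_le]
      · rw [Nat.card_zpowers, hzo, hX₁c]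
    have hxz : x ∈ Subgroup.zpowers z := by rw [hzz]; exact hxX
    obtain ⟨k, rfl⟩ := Subgroup.mem_zpowers_iff.1 hxz
    rw [Subgroup.mem_centralizer_iff]
    intro y hy
    exact ((show Commute y z from hzc y hy).zpow_right k).eq
  -- the subgroup `B`
  set B : Subgroup G := omega p C hCc with hBdef
  have hBC : B ≤ C := fun y hy => (mem_omega.1 hy).1
  have hBe : Cfsg.IsElementaryAbelian p B := by
    rw [Rank.elemAb_def]
    exact ⟨fun a ha b hb => hCc a (hBC ha) b (hBC hb), fun a ha => (mem_omega.1 ha).2⟩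
  have hXB : X₁ ≤ B := by
    rw [← hXz, Subgroup.zpowers_le]
    exact mem_omega.2 ⟨hxC, hxp⟩
  have hzB : z ∈ B := mem_omega.2 ⟨hzC, hzp⟩
  have hBle : Nat.card B ≤ p ^ 2 := (RankBasics.pRankLE_subgroup_iff p 2 C).1 hCrank B hBC hBe
  have hBcard : Nat.card B = p ^ 2 := by
    obtain ⟨n, hn⟩ := IsPGroup.iff_card.1 (Rank.elemAb_isPGroup hBe)
    have h1 : Nat.card X₁ < Nat.card B := by
      apply Nat.lt_of_le_of_ne (Subgroup.card_le_of_le hXB)
      intro h
      have := Subgroup.eq_of_le_of_card_ge hXB h.ge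
      apply hzX
      rw [this]
      exact hzB
    rw [hX₁c, hn] at h1
    rw [hn] at hBle
    have hn1 : 1 < n := by
      by_contra hcon
      push Not at hcon
      have : p ^ n ≤ p ^ 1 := Nat.pow_le_pow_right hp.pos hcon
      rw [pow_one] at this
      omega
    have hn2 : n ≤ 2 := (Nat.pow_le_pow_iff_right hp.one_lt).1 hBle
    have hn3 : n = 2 := by omega
    rw [hn, hn3]
  have hBmax0 : ∀ D : Subgroup G, Cfsg.IsElementaryAbelian p D → B ≤ D → D ≤ P₀ → D = B := by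
    intro D hD hBD hDP
    apply le_antisymm _ hBD
    intro d hd
    have hD' := Rank.elemAb_def.1 hD
    refine mem_omega.2 ⟨?_, hD'.2 d hd⟩
    rw [hCdef, Subgroup.mem_inf, Subgroup.mem_centralizer_iff]
    refine ⟨hDP hd, ?_⟩
    rintro y rfl
    exact hD'.1 y (hBD (hXB hxX)) d hd
  refine ⟨B, hXB, hBC.trans hCP, hBe, hBcard, ?_, ?_⟩
  · intro D hD hBD
    let P : Sylow p G := hP.toSylow hS
    have hPP : (P : Subgroup G) = P₀ := rfl
    obtain ⟨y, hy⟩ := MinSimpleBasic.exists_map_conj_le_sylow P (Rank.elemAb_isPGroup hD)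
    rw [hPP] at hy
    by_cases hyM : y ∈ M
    · apply hBmax0 D hD hBD
      have h1 : P₀.map (MulAut.conj y).toMonoidHom = P₀ :=
        MinSimpleBasic.mem_normalizer_iff_map_conj.1 (hn hyM)
      rw [← h1, MinSimpleBasic.map_conj_le_iff] at hy
      exact hy
    · exfalso
      have hy' : y⁻¹ ∉ M := fun h => hyM (by simpa using inv_mem h)
      have hcyc := ((Cfsg.Agent.S1426.result hG M hM E hE).2.2 y⁻¹ hy').1
      have hBle2 : B ≤ Cfsg.sigmaCore M ⊓ M.map (MulAut.conj y⁻¹).toMonoidHom := by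
        refine le_inf ((hBC.trans hCP).trans hs) ?_
        rw [← MinSimpleBasic.map_conj_inv_le_iff]
        exact ((Subgroup.map_mono hBD).trans hy).trans hPM
      have hBcyc : IsCyclic B := by
        have := isCyclic_of_injective (Subgroup.inclusion hBle2) (Subgroup.inclusion_injective hBle2)
        exact this
      exact not_isCyclic_of_elemAb hBe (by rw [hBcard]; nlinarith [hp.two_le]) hBcyc
  · intro h
    exact hxnc (h hxX)

/-- `X` has order `p`. -/
theorem card_eq_prime (hG : Cfsg.IsMinSimpleOddOrder G) {M : Subgroup G} (hM : IsCoatom M)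
    {p : ℕ} [Fact p.Prime] {P₀ X : Subgroup G} (hnil : Group.IsNilpotent (Cfsg.sigmaCore M))
    (hs : P₀ ≤ Cfsg.sigmaCore M)
    (hn : M ≤ Subgroup.normalizer (P₀ : Set G)) (hP : IsPGroup p P₀) (hS : ¬ p ∣ P₀.index)
    (hna : ¬ IsMulCommutative P₀) (hX : X ≠ ⊥) (hXs : X ≤ Cfsg.sigmaCore M) (hXc : IsCyclic X)
    (hcent : ∀ x ∈ X, x ≠ 1 → ¬ Subgroup.centralizer ({x} : Set G) ≤ M) :
    Nat.card X = p ∧ X ≤ P₀ ∧ ∃ B : Subgroup G, X ≤ B ∧ B ≤ P₀ ∧ Cfsg.IsElementaryAbelian p B ∧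
      Nat.card B = p ^ 2 ∧
      (∀ B' : Subgroup G, Cfsg.IsElementaryAbelian p B' → B ≤ B' → B' = B) ∧
      ¬ X ≤ Subgroup.centralizer (P₀ : Set G) := by
  have hp : p.Prime := Fact.out
  have hPM : P₀ ≤ M := hs.trans (FitAux.sigmaCore_le M)
  -- every prime divisor of `|X|` is `p`
  have hXp : ∀ r : ℕ, r.Prime → r ∣ Nat.card X → r = p := by
    intro r hr hrd
    by_contra hne
    have : Fact r.Prime := ⟨hr⟩
    obtain ⟨⟨x, hxX⟩, hxo⟩ := exists_prime_orderOf_dvd_card' r hrd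
    rw [Subgroup.orderOf_mk] at hxo
    have hx1 : x ≠ 1 := by
      rintro rfl
      rw [orderOf_one] at hxo
      exact hr.one_lt.ne hxo
    apply hcent x hxX hx1
    refine centralizer_le hG hM hP hPM (Or.inl hna) hx1 ?_
    intro y hy
    rw [Subgroup.mem_centralizer_iff]
    rintro w rfl
    obtain ⟨n, hn⟩ := hP ⟨y, hy⟩
    have hyp : y ^ p ^ n = 1 := congrArg Subtype.val hn
    have hxr : w ^ r = 1 := by rw [← hxo]; exact pow_orderOf_eq_one w
    have hcop : r.Coprime (p ^ n) :=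
      Nat.Coprime.pow_right n ((Nat.coprime_primes hr hp).2 hne)
    have := hnil
    have h1 : Commute (⟨w, hXs hxX⟩ : Cfsg.sigmaCore M) ⟨y, hs hy⟩ :=
      Cfsg.Agent.Lib.NilpotentCoprime.commute_of_pow_eq_one hcop (Subtype.ext hxr) (Subtype.ext hyp)
    exact congrArg Subtype.val h1.eq
  have hXcard : ∃ n : ℕ, Nat.card X = p ^ n := by
    refine ⟨_, Nat.eq_prime_pow_of_unique_prime_dvd Nat.card_pos.ne' (fun {r} hr hd => hXp r hr hd)⟩
  have hXpg : IsPGroup p X := IsPGroup.iff_card.2 hXcard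
  have hXP : X ≤ P₀ := by
    -- `P₀` is a normal Sylow subgroup of `M`
    have hH : Cfsg.IsPiHallOf {p} P₀ M := by
      refine ⟨hPM, ?_, ?_⟩
      · intro q hq hd
        obtain ⟨n, hn⟩ := IsPGroup.iff_card.1 hP
        rw [hn] at hd
        exact (Nat.prime_dvd_prime_iff_eq hq hp).1 (hq.dvd_of_dvd_pow hd)
      · rintro q hq rfl hd
        exact hS (hd.trans (Subgroup.relIndex_dvd_index_of_le hPM))
    refine HallPi.le_of_normal_isPiHallOf hH hn (hXs.trans (FitAux.sigmaCore_le M)) ?_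
    intro q hq hd
    exact hXp q hq hd
  -- the subgroup of order `p` of `X`
  obtain ⟨n, hnX⟩ := hXcard
  have hn0 : n ≠ 0 := by
    rintro rfl
    rw [pow_zero] at hnX
    exact hX (Subgroup.card_eq_one.1 hnX)
  obtain ⟨⟨x, hxX⟩, hgen⟩ := hXc.exists_generator
  have hxo : orderOf x = p ^ n := by
    rw [← hnX, ← orderOf_eq_card_of_forall_mem_zpowers hgen, Subgroup.orderOf_mk]
  set x₁ : G := x ^ p ^ (n - 1) with hx₁def
  have hx₁o : orderOf x₁ = p := by
    rw [hx₁def, orderOf_pow_of_dvd (pow_ne_zero _ hp.ne_zero) (by rw [hxo]; exact pow_dvd_pow p (Nat.sub_le n 1)),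
      hxo]
    obtain ⟨m, rfl⟩ := Nat.exists_eq_succ_of_ne_zero hn0
    rw [Nat.succ_sub_one, pow_succ, Nat.mul_div_cancel_left _ (pow_pos hp.pos m)]
  have hx₁X : x₁ ∈ X := pow_mem hxX _
  have hx₁ne : x₁ ≠ 1 := by
    intro h
    rw [h, orderOf_one] at hx₁o
    exact hp.one_lt.ne hx₁o
  set X₁ : Subgroup G := Subgroup.zpowers x₁ with hX₁def
  have hX₁X : X₁ ≤ X := by rwa [hX₁def, Subgroup.zpowers_le]
  have hX₁c : Nat.card X₁ = p := by rw [hX₁def, Nat.card_zpowers, hx₁o]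
  obtain ⟨B, hXB, hBP, hBe, hBc, hBmax, hXnc⟩ := exists_maximal hG hM hs hn hP hS hna
    (hX₁X.trans hXP) hX₁c (fun y hy => hcent y (hX₁X hy))
  -- structure of `C_{P₀}(X₁)`
  obtain ⟨Z₀, hZB, hZc, hZ, ⟨Y, hYc, hZY, hYs⟩, -, -⟩ := Cfsg.Agent.OddOrderLocal.Sec10_13.p2max_structure
    hG p B P₀ hBe hBc hBmax hP hBP hna
  have hne : X₁ ≠ Z₀ := by
    intro h
    apply hXnc
    rw [h]
    intro w hw
    rw [Subgroup.mem_centralizer_iff]
    intro y hy
    exact (((hZ w).1 hw).2.2 y hy).symm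
  obtain ⟨hXY, hXYs, hcen⟩ := hYs X₁ hXB hX₁c hne
  have hXC : X ≤ X₁ ⊔ Y := by
    rw [hXYs, ← hcen]
    refine le_inf hXP ?_
    intro w hw
    rw [Subgroup.mem_centralizer_iff]
    intro y hy
    have := hXc
    have hcm : IsMulCommutative X := IsCyclic.isMulCommutative
    have h1 := hcm.is_comm.comm (⟨y, hX₁X hy⟩ : X) ⟨w, hw⟩
    exact congrArg Subtype.val h1
  -- `n = 1`
  have hn1 : n = 1 := by
    by_contra hn1
    have hn2 : 2 ≤ n := by omega
    apply hx₁ne
    have hx₁Y : x₁ ∈ Y := by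
      -- `x = a y`, `x ^ p = y ^ p`
      have hcomm : ∀ a ∈ X₁, ∀ b ∈ Y, a * b = b * a := by
        intro a ha b hb
        have hb' : b ∈ P₀ ⊓ Subgroup.centralizer (X₁ : Set G) := by
          rw [hcen, ← hXYs]
          exact Subgroup.mem_sup_right hb
        exact Subgroup.mem_centralizer_iff.1 hb'.2 a ha
      obtain ⟨a, ha, b, hb, hab⟩ := RankBasics.exists_mul_of_mem_sup
        (RankBasics.le_normalizer_of_commute hcomm) (hXC hxX)
      have hap : a ^ p = 1 := by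
        have := pow_card_eq_one' (x := (⟨a, ha⟩ : X₁))
        rw [hX₁c] at this
        exact congrArg Subtype.val this
      have hxp : x ^ p = b ^ p := by
        rw [← hab, (show Commute a b from hcomm a ha b hb).mul_pow, hap, one_mul]
      have : x₁ = (x ^ p) ^ p ^ (n - 2) := by
        rw [hx₁def, ← pow_mul, ← pow_succ']
        congr 2
        omega
      rw [this, hxp]
      exact pow_mem (pow_mem hb _) _
    have h3 : x₁ ∈ X₁ ⊓ Y := ⟨Subgroup.mem_zpowers x₁, hx₁Y⟩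
    rw [hXY] at h3
    exact h3
  have hXX₁ : X₁ = X := by
    apply Subgroup.eq_of_le_of_card_ge hX₁X
    rw [hnX, hn1, pow_one, hX₁c]
  refine ⟨by rw [hnX, hn1, pow_one], hXP, B, ?_, hBP, hBe, hBc, hBmax, ?_⟩
  · rw [← hXX₁]; exact hXB
  · rw [← hXX₁]; exact hXnc

end Cfsg.Agent.OddOrderLocal.FittingNonTI2
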