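import Mathlib
import Cfsg.Prelude.Def_OddOrderLocal
import Cfsg.Agent.Lib.Cores
import Cfsg.Agent.OddOrderLocal.PiCoreOf
import Cfsg.Agent.OddOrderLocal.FittingHall
import Cfsg.Agent.OddOrderLocal.MinSimple

/-!
A finite nilpotent group is generated by its `π`-core and its `π'`-core; for the Fitting subgroup of a
maximal subgroup `M` this gives `F(M) = F(M_σ) ⊔ O_{σ'}(F(M))`.
-/

set_option autoImplicit false

namespace Cfsg.Agent.OddOrderLocal.NilpotentPiSplit

open Subgroup Cfsg Cfsg.Agent.OddOrderLocal.PiCoreOf Cfsg.Agent.OddOrderLocal.FittingHall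

universe u

/-- In a finite nilpotent group, the `π`-core and the `π'`-core generate the group. -/
theorem piCore_sup_piCore_compl {N : Type u} [Group N] [Finite N] (hN : Group.IsNilpotent N)
    (π : Set ℕ) : piCore π N ⊔ piCore {q | q.Prime ∧ q ∉ π} N = ⊤ := by
  refine Lib.Cores.eq_top_of_sylow_le fun p hp => ?_
  obtain ⟨P⟩ := (inferInstance : Nonempty (Sylow p N))
  refine ⟨P, ?_⟩
  have := hN
  have hPn : (P : Subgroup N).Normal := inferInstance
  have hprime : ∀ q : ℕ, q.Prime → q ∣ Nat.card P → q = p := by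
    intro q hq hd
    obtain ⟨n, hn⟩ := (IsPGroup.iff_card).mp P.isPGroup'
    have hd' : q ∣ p ^ n := hn ▸ hd
    exact (Nat.prime_dvd_prime_iff_eq hq hp.out).mp (hq.dvd_of_dvd_pow hd')
  by_cases hpπ : p ∈ π
  · refine le_trans ?_ le_sup_left
    exact PiCoreOf.le_piCore hPn fun q hq hd => by rw [hprime q hq hd]; exact hpπ
  · refine le_trans ?_ le_sup_right
    exact PiCoreOf.le_piCore hPn fun q hq hd => by
      rw [hprime q hq hd]; exact ⟨hp.out, hpπ⟩

variable {G : Type u} [Group G]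

/-- The relative version: a nilpotent subgroup is generated by its relative `π`- and `π'`-cores. -/
theorem piCoreOf_sup_piCoreOf_compl [Finite G] {N : Subgroup G} (hN : Group.IsNilpotent N)
    (π : Set ℕ) : piCoreOf π N ⊔ piCoreOf {q | q.Prime ∧ q ∉ π} N = N := by
  have h := congrArg (Subgroup.map N.subtype) (piCore_sup_piCore_compl hN π)
  rw [Subgroup.map_sup] at h
  rw [← MonoidHom.range_eq_map, Subgroup.range_subtype] at h
  exact h

/-- Subgroups whose prime divisors are in complementary sets meet trivially. -/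
theorem inf_eq_bot_of_isPi [Finite G] {A B : Subgroup G} {π ρ : Set ℕ} (hA : IsPi π A)
    (hB : IsPi ρ B) (h : ∀ p, p ∈ π → p ∈ ρ → False) : A ⊓ B = ⊥ := by
  rw [← Subgroup.card_eq_one]
  by_contra hne
  obtain ⟨p, hp, hd⟩ := Nat.exists_prime_and_dvd hne
  exact h p (hA p hp (hd.trans (Subgroup.card_dvd_of_le inf_le_left)))
    (hB p hp (hd.trans (Subgroup.card_dvd_of_le inf_le_right)))

/-- `M_σ` is a `σ(M)`-group. -/
theorem sigmaCore_isPi [Finite G] (M : Subgroup G) : IsPi (sigma M) (sigmaCore M) :=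
  isPi_map (piCore_isPi _) _

theorem sigmaCore_eq_piCoreOf (M : Subgroup G) : sigmaCore M = piCoreOf (sigma M) M := rfl

theorem sigmaCore_le (M : Subgroup G) : sigmaCore M ≤ M := map_subtype_le _

theorem le_normalizer_sigmaCore [Finite G] (M : Subgroup G) :
    M ≤ normalizer (sigmaCore M : Set G) := by
  rw [sigmaCore_eq_piCoreOf]
  exact le_normalizer_piCoreOf _ _

/-- The `π`-core of `F(M)` is normalized by `M`. -/
theorem le_normalizer_piCoreOf_fittingOf [Finite G] (M : Subgroup G) (π : Set ℕ) :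
    M ≤ normalizer (piCoreOf π (fittingOf M) : Set G) :=
  (le_normalizer_fittingOf M).trans (normalizer_le_normalizer_piCoreOf π _)

theorem piCoreOf_fittingOf_le (M : Subgroup G) (π : Set ℕ) : piCoreOf π (fittingOf M) ≤ M :=
  (piCoreOf_le _ _).trans (fittingOf_le M)

/-- `O_σ(F(M)) ≤ M_σ`. -/
theorem piCoreOf_fittingOf_le_sigmaCore [Finite G] (M : Subgroup G) :
    piCoreOf (sigma M) (fittingOf M) ≤ sigmaCore M := by
  rw [sigmaCore_eq_piCoreOf]
  exact le_piCoreOf (piCoreOf_fittingOf_le M _) (le_normalizer_piCoreOf_fittingOf M _)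
    (piCoreOf_isPi _ _)

theorem isNilpotent_of_le {A B : Subgroup G} (hAB : A ≤ B) (hB : Group.IsNilpotent B) :
    Group.IsNilpotent A := by
  have := hB
  exact (Group.isNilpotent_congr (subgroupOfEquivOfLe hAB)).mp inferInstance

/-- `F(M_σ) ≤ F(M)`. -/
theorem fittingOf_sigmaCore_le [Finite G] (M : Subgroup G) :
    fittingOf (sigmaCore M) ≤ fittingOf M := by
  refine le_fittingOf ((fittingOf_le _).trans (sigmaCore_le M)) ?_ (fittingOf_isNilpotent _)
  exact (le_normalizer_sigmaCore M).trans (normalizer_le_normalizer_fittingOf _)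

/-- `F(M) = F(M_σ) O_{σ'}(F(M))`. -/
theorem fittingOf_eq_sup [Finite G] (M : Subgroup G) :
    fittingOf M = fittingOf (sigmaCore M) ⊔ piCoreOf {q | q.Prime ∧ q ∉ sigma M} (fittingOf M) := by
  apply le_antisymm
  · conv_lhs => rw [← piCoreOf_sup_piCoreOf_compl (fittingOf_isNilpotent M) (sigma M)]
    refine sup_le_sup_right ?_ _
    refine le_fittingOf (piCoreOf_fittingOf_le_sigmaCore M) ?_ ?_
    · exact (sigmaCore_le M).trans (le_normalizer_piCoreOf_fittingOf M _)
    · exact isNilpotent_of_le (piCoreOf_le _ _) (fittingOf_isNilpotent M)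
  · exact sup_le (fittingOf_sigmaCore_le M) (piCoreOf_le _ _)

/-- `O_{σ'}(F(M))` centralizes `M_σ`. -/
theorem sigmaPrime_fitting_le_centralizer [Finite G] (M : Subgroup G) :
    piCoreOf {q | q.Prime ∧ q ∉ sigma M} (fittingOf M) ≤ centralizer (sigmaCore M : Set G) := by
  set Y := piCoreOf {q | q.Prime ∧ q ∉ sigma M} (fittingOf M) with hY
  have hinf : Y ⊓ sigmaCore M = ⊥ :=
    inf_eq_bot_of_isPi (piCoreOf_isPi _ _) (sigmaCore_isPi M) fun p h1 h2 => h1.2 h2
  have hYM : Y ≤ M := piCoreOf_fittingOf_le M _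
  have hnY : M ≤ normalizer (Y : Set G) := le_normalizer_piCoreOf_fittingOf M _
  intro y hy
  rw [mem_centralizer_iff]
  intro s hs0
  have hs : s ∈ sigmaCore M := hs0
  have h1 : s * y * s⁻¹ ∈ Y := (mem_normalizer_iff.mp (hnY (sigmaCore_le M hs)) y).mp hy
  have h2 : y * s⁻¹ * y⁻¹ ∈ sigmaCore M :=
    (mem_normalizer_iff.mp (le_normalizer_sigmaCore M (hYM hy)) s⁻¹).mp ((sigmaCore M).inv_mem hs)
  have h3 : s * y * s⁻¹ * y⁻¹ ∈ Y ⊓ sigmaCore M := by
    refine ⟨Y.mul_mem h1 (Y.inv_mem hy), ?_⟩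
    have : s * y * s⁻¹ * y⁻¹ = s * (y * s⁻¹ * y⁻¹) := by group
    rw [this]
    exact (sigmaCore M).mul_mem hs h2
  rw [hinf, mem_bot] at h3
  have h4 : s * y * s⁻¹ = y := by
    rwa [mul_inv_eq_one] at h3
  exact mul_inv_eq_iff_eq_mul.mp h4

end Cfsg.Agent.OddOrderLocal.NilpotentPiSplit
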