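import Mathlib
import Cfsg.Prelude.Def_OddOrderLocal
import Cfsg.Agent.Lib.Cores
import Cfsg.Agent.Lib.CoprimeCommutator
import Cfsg.Agent.Lib.PGroupCoprimeAction
import Cfsg.Agent.OddOrderLocal.FitAux
import Cfsg.Agent.OddOrderLocal.FittingHall
import Cfsg.Agent.S0007
import Cfsg.Agent.S0044

/-!
# Bender-Glauberman Theorem 3.8

* `le_fittingSubgroup_of_acts`: a normal subgroup `X` of a finite solvable group `K` all of whose
  `p'`-elements centralise `O_p(K)`, for every prime `p`, lies in `F(K)`.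
-/

set_option autoImplicit false

namespace Cfsg.Agent.OddOrderLocal.Thm38

open Subgroup Cfsg
open scoped commutatorElement

section abs

variable {K : Type*} [Group K]

/-- A `p`-element of the Fitting subgroup lies in `O_p(K)`. -/
theorem mem_pCore_of_mem_fitting [Finite K] {p : ℕ} [Fact p.Prime] {z : K}
    (hz : z ∈ fittingSubgroup K) {k : ℕ} (hk : z ^ p ^ k = 1) : z ∈ pCore p K := by
  have hN : (fittingSubgroup K).Normal := Cfsg.Agent.Lib.Cores.fittingSubgroup_normal
  have hnil : Group.IsNilpotent (fittingSubgroup K) :=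
    Cfsg.Agent.Lib.Cores.fittingSubgroup_isNilpotent
  have hp : IsPGroup p (zpowers (⟨z, hz⟩ : fittingSubgroup K)) := by
    refine IsPGroup.of_card_dvd_pow (n := k) ?_
    rw [Nat.card_zpowers]
    apply orderOf_dvd_of_pow_eq_one
    apply Subtype.ext
    simpa using hk
  obtain ⟨P, hP⟩ := hp.exists_le_sylow
  have hPn : P.Normal := inferInstance
  have hPc : (P : Subgroup (fittingSubgroup K)).Characteristic :=
    Sylow.characteristic_of_normal P hPn
  have h1 : (P : Subgroup (fittingSubgroup K)).map (fittingSubgroup K).subtype ≤ pCore p K :=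
    Cfsg.Agent.Lib.Cores.le_pCore inferInstance (P.isPGroup'.map _)
  exact h1 ⟨⟨z, hz⟩, hP (mem_zpowers _), rfl⟩

/-- An element centralising all `O_q(K)` centralises `F(K)`. -/
theorem mem_centralizer_fitting [Finite K] {y : K}
    (h : ∀ q : ℕ, q.Prime → y ∈ centralizer (pCore q K : Set K)) :
    y ∈ centralizer (fittingSubgroup K : Set K) := by
  have h1 : fittingSubgroup K ≤ centralizer ({y} : Set K) := by
    rw [Cfsg.Agent.Lib.Cores.fittingSubgroup_eq_iSup_pCore]
    refine iSup_le fun q => ?_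
    intro x hx
    rw [mem_centralizer_singleton_iff]
    exact (mem_centralizer_iff.mp (h q q.2) x hx)
  rw [mem_centralizer_iff]
  intro x hx
  exact mem_centralizer_singleton_iff.mp (h1 hx)

/-- A normal subgroup `X` of a finite solvable group `K` all of whose `p'`-elements centralise
`O_p(K)`, for every prime `p`, lies in `F(K)`. -/
theorem le_fittingSubgroup_of_acts [Finite K] [Group.IsSolvable K] (X : Subgroup K)
    (hX : X.Normal)
    (h : ∀ p : ℕ, p.Prime → ∀ y ∈ X, (orderOf y).Coprime p →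
      y ∈ centralizer (pCore p K : Set K)) : X ≤ fittingSubgroup K := by
  -- it suffices to treat elements of prime power order
  refine Cfsg.Agent.Lib.CoprimeCommutator.induction_prime_power X
    (fun g => g ∈ fittingSubgroup K) (one_mem _) (fun a _ b _ ha hb => mul_mem ha hb) ?_
  intro p n hp a haX hap
  have hpf : Fact p.Prime := ⟨hp⟩
  -- `N` is the centralizer in `X` of all `O_q(K)`, `q ≠ p`
  let W : Subgroup K := sSup {M : Subgroup K | ∃ q : ℕ, q.Prime ∧ q ≠ p ∧ M = pCore q K}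
  have hWn : W.Normal := by
    refine Cfsg.Agent.Lib.Cores.sSup_normal _ ?_
    rintro M ⟨q, hq, hqp, rfl⟩
    exact Cfsg.Agent.Lib.Cores.pCore_normal q
  let N : Subgroup K := X ⊓ centralizer (W : Set K)
  have hNn : N.Normal := inferInstance
  have hmemW : ∀ {y : K}, (∀ q : ℕ, q.Prime → q ≠ p → y ∈ centralizer (pCore q K : Set K)) →
      y ∈ centralizer (W : Set K) := by
    intro y hy
    have h1 : W ≤ centralizer ({y} : Set K) := by
      refine sSup_le ?_
      rintro M ⟨q, hq, hqp, rfl⟩ x hx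
      rw [mem_centralizer_singleton_iff]
      exact (mem_centralizer_iff.mp (hy q hq hqp) x hx)
    rw [mem_centralizer_iff]
    intro x hx
    exact mem_centralizer_singleton_iff.mp (h1 hx)
  have hNW : ∀ {y : K}, y ∈ N → ∀ q : ℕ, q.Prime → q ≠ p →
      y ∈ centralizer (pCore q K : Set K) := by
    intro y hy q hq hqp
    have h1 : pCore q K ≤ W := le_sSup ⟨q, hq, hqp, rfl⟩
    exact centralizer_le h1 hy.2
  -- `N` is nilpotent
  have hNnil : Group.IsNilpotent N := by
    have hcen : IsPGroup p (N ⧸ Subgroup.center N) := by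
      intro x
      obtain ⟨n', rfl⟩ := QuotientGroup.mk_surjective x
      obtain ⟨k, m, hm, hkm⟩ := Nat.exists_eq_pow_mul_and_not_dvd
        (orderOf_pos (n' : K)).ne' p hp.ne_one
      refine ⟨k, ?_⟩
      rw [← QuotientGroup.mk_pow, QuotientGroup.eq_one_iff, Subgroup.mem_center_iff]
      intro y
      -- `w = n' ^ p ^ k` is a `p'`-element
      set w : K := (n' : K) ^ p ^ k with hw
      have hwN : w ∈ N := N.pow_mem n'.2 _
      have hword : (orderOf w).Coprime p := by
        have h1 : orderOf w = m := by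
          rw [hw, orderOf_pow_of_dvd (pow_pos hp.pos k).ne' ⟨m, hkm⟩, hkm,
            Nat.mul_div_cancel_left _ (pow_pos hp.pos k)]
        rw [h1]
        exact ((Nat.Prime.coprime_iff_not_dvd hp).mpr hm).symm
      have hwF : w ∈ fittingSubgroup K := by
        refine Cfsg.Agent.S0044.result (mem_centralizer_fitting fun q hq => ?_)
        by_cases hqp : q = p
        · subst hqp
          exact h q hq w hwN.1 hword
        · exact hNW hwN q hq hqp
      have key : ∀ a ∈ zpowers w, ∀ z ∈ N, z * a = a * z := by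
        refine Cfsg.Agent.Lib.CoprimeCommutator.induction_prime_power (zpowers w)
          (fun a => ∀ z ∈ N, z * a = a * z) (fun z _ => by rw [mul_one, one_mul]) ?_ ?_
        · intro a _ b _ ha hb z hz
          rw [← mul_assoc, ha z hz, mul_assoc, hb z hz, mul_assoc]
        · intro q j hq b hb hbq z hz
          have hqf : Fact q.Prime := ⟨hq⟩
          by_cases hqp : q = p
          · subst hqp
            have h1 : orderOf b ∣ orderOf w := orderOf_dvd_of_mem_zpowers hb
            have h2 : orderOf b ∣ q ^ j := orderOf_dvd_of_pow_eq_one hbq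
            have h3 : orderOf b ∣ 1 := by
              have := Nat.dvd_gcd h1 h2
              rwa [(Nat.Coprime.pow_right j hword).gcd_eq_one] at this
            have h4 : b = 1 := by
              rw [← orderOf_eq_one_iff]; exact Nat.dvd_one.mp h3
            rw [h4, mul_one, one_mul]
          · have hbF : b ∈ fittingSubgroup K := (zpowers_le.mpr hwF) hb
            have hbq' : b ∈ pCore q K := mem_pCore_of_mem_fitting hbF hbq
            exact (mem_centralizer_iff.mp (hNW hz q hq hqp) b hbq').symm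
      apply Subtype.ext
      exact key w (mem_zpowers w) y y.2
    have h1 : Group.IsNilpotent (N ⧸ Subgroup.center N) := hcen.isNilpotent
    exact Group.of_quotient_center_nilpotent h1
  have hNF : N ≤ fittingSubgroup K := Cfsg.Agent.Lib.Cores.le_fittingSubgroup hNn hNnil
  refine hNF ⟨haX, hmemW fun q hq hqp => ?_⟩
  refine h q hq a haX ?_
  have h2 : orderOf a ∣ p ^ n := orderOf_dvd_of_pow_eq_one hap
  exact Nat.Coprime.coprime_dvd_left h2
    (Nat.Coprime.pow_left n ((Nat.coprime_primes hp hq).mpr (Ne.symm hqp)))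

end abs

section amb

variable {G : Type*} [Group G] [Finite G]

/-- Key step: `R₀` of prime order `r` acting coprimely on `K`, `V = O_p(K)`, such that for every
prime `q ≠ p` and every `R₀`-invariant `q`-subgroup `Q` of `K`, `[Q, R₀]` centralises `V`. Then
every `p'`-element of `[K, R₀]` centralises `V`. -/
theorem mem_centralizer_of_coprime (K R₀ : Subgroup G) {r : ℕ} [hr : Fact r.Prime]
    (hR₀p : IsPGroup r R₀) (hR₀K : R₀ ≤ normalizer (K : Set G)) (hrK : ¬ r ∣ Nat.card K)
    {p : ℕ} [hp : Fact p.Prime]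
    (h : ∀ q : ℕ, q.Prime → q ≠ p → ∀ Q : Subgroup G, Q ≤ K → IsPGroup q Q →
      R₀ ≤ normalizer (Q : Set G) →
      ⁅Q, R₀⁆ ≤ centralizer (((pCore p K).map K.subtype : Subgroup G) : Set G))
    (y : G) (hy : y ∈ ⁅K, R₀⁆) (hyp : (orderOf y).Coprime p) :
    y ∈ centralizer (((pCore p K).map K.subtype : Subgroup G) : Set G) := by
  set V : Subgroup G := (pCore p K).map K.subtype with hV
  have hnV : normalizer (K : Set G) ≤ normalizer (V : Set G) :=
    Cfsg.Agent.OddOrderLocal.FittingHall.normalizer_le_normalizer_map K _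
      (Cfsg.Agent.Lib.Cores.pCore_characteristic p)
  have hKV : K ≤ normalizer (V : Set G) := le_normalizer.trans hnV
  have hRV : R₀ ≤ normalizer (V : Set G) := hR₀K.trans hnV
  -- `C = C_K(V)`
  set C : Subgroup G := K ⊓ centralizer (V : Set G) with hC
  have hcentn : ∀ g ∈ normalizer (V : Set G), ∀ c ∈ centralizer (V : Set G),
      g * c * g⁻¹ ∈ centralizer (V : Set G) := by
    intro g hg c hc
    rw [mem_centralizer_iff]
    intro v hv
    have h1 : g⁻¹ * v * g ∈ V := by
      have := (mem_normalizer_iff.mp (inv_mem hg) v).mp hv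
      rwa [inv_inv] at this
    have h2 := mem_centralizer_iff.mp hc _ h1
    calc v * (g * c * g⁻¹) = g * ((g⁻¹ * v * g) * c) * g⁻¹ := by group
      _ = g * (c * (g⁻¹ * v * g)) * g⁻¹ := by rw [h2]
      _ = g * c * g⁻¹ * v := by group
  have hCK : ∀ g ∈ K, ∀ c ∈ C, g * c * g⁻¹ ∈ C := fun g hg c hc =>
    ⟨K.mul_mem (K.mul_mem hg hc.1) (K.inv_mem hg), hcentn g (hKV hg) c hc.2⟩
  have hCR : ∀ g ∈ R₀, ∀ c ∈ C, g * c * g⁻¹ ∈ C := fun g hg c hc =>
    ⟨(mem_normalizer_iff.mp (hR₀K hg) c).mp hc.1, hcentn g (hRV hg) c hc.2⟩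
  have hC'n : (C.subgroupOf K).Normal := by
    constructor
    intro c hc g
    rw [mem_subgroupOf] at hc ⊢
    exact hCK g g.2 c hc
  let M' : Subgroup K := (K ⊓ centralizer (R₀ : Set G)).subgroupOf K ⊔ C.subgroupOf K
  have hconj : ∀ b ∈ R₀, ∀ u ∈ K, b * u * b⁻¹ ∈ K := fun b hb u hu =>
    (mem_normalizer_iff.mp (hR₀K hb) u).mp hu
  -- the invariant Sylow `p`-subgroup
  obtain ⟨P, ⟨T, hT⟩, hPinv⟩ :=
    Cfsg.Agent.Lib.PGroupCoprimeAction.exists_invariant_sylow (A := R₀) (H := K) hR₀p hrK hconj p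
  have hPK : P ≤ K := by rw [← hT]; exact map_subtype_le _
  -- the index of `M'` is a power of `p`
  have hM' : ∀ q : ℕ, q.Prime → q ≠ p → ¬ q ∣ M'.index := by
    intro q hq hqp
    have hqf : Fact q.Prime := ⟨hq⟩
    obtain ⟨S, ⟨T', hT'⟩, hSinv⟩ :=
      Cfsg.Agent.Lib.PGroupCoprimeAction.exists_invariant_sylow (A := R₀) (H := K) hR₀p hrK hconj q
    have hSK : S ≤ K := by rw [← hT']; exact map_subtype_le _
    have hSq : IsPGroup q S := by rw [← hT']; exact T'.isPGroup'.map _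
    have hRS : R₀ ≤ normalizer (S : Set G) := by
      intro b hb
      rw [mem_normalizer_iff]
      intro u
      refine ⟨hSinv b hb u, fun hu => ?_⟩
      have h1 := hSinv b⁻¹ (R₀.inv_mem hb) _ hu
      have h2 : b⁻¹ * (b * u * b⁻¹) * b⁻¹⁻¹ = u := by group
      rwa [h2] at h1
    have hrS : ¬ r ∣ Nat.card S := fun hd => hrK (hd.trans (card_dvd_of_le hSK))
    have hcS := h q hq hqp S hSK hSq hRS
    have hcS' : ⁅S, R₀⁆ ≤ S := Cfsg.Agent.Lib.CoprimeCommutator.commutator_le_left hRS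
    have hTM : (T' : Subgroup K) ≤ M' := by
      intro t ht
      have htS : (t : G) ∈ S := by rw [← hT']; exact ⟨t, ht, rfl⟩
      obtain ⟨m, hm, c, hc, hmc⟩ :=
        Cfsg.Agent.Lib.CoprimeCommutator.exists_commutator_mul_fixed_of_isPGroup r R₀ S hR₀p hRS
          hrS (t : G) htS
      have hmK : m ∈ K := hSK (hcS' hm)
      have hcK : c ∈ K := hSK hc.1
      have ht' : t = (⟨m, hmK⟩ : K) * ⟨c, hcK⟩ := Subtype.ext hmc
      rw [ht']
      refine M'.mul_mem ?_ ?_
      · refine (le_sup_right : C.subgroupOf K ≤ M') ?_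
        rw [mem_subgroupOf]
        exact ⟨hmK, hcS hm⟩
      · refine (le_sup_left : (K ⊓ centralizer (R₀ : Set G)).subgroupOf K ≤ M') ?_
        rw [mem_subgroupOf]
        exact ⟨hcK, hc.2⟩
    intro hd
    exact T'.not_dvd_index (hd.trans (index_dvd_of_le hTM))
  have hcopidx : ((T : Subgroup K).index).Coprime M'.index := by
    rw [Nat.coprime_iff_gcd_eq_one]
    by_contra hne
    obtain ⟨q, hq, hd⟩ := Nat.exists_prime_and_dvd hne
    by_cases hqp : q = p
    · subst hqp
      exact T.not_dvd_index (hd.trans (Nat.gcd_dvd_left _ _))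
    · exact hM' q hq hqp (hd.trans (Nat.gcd_dvd_right _ _))
  have hfac := (Cfsg.Agent.S0007.result (T : Subgroup K) M' hcopidx).2
  -- `[K, R₀] ≤ C ⊔ P`
  have hkey : ⁅K, R₀⁆ ≤ C ⊔ P := by
    rw [commutator_le]
    intro k hk a ha
    obtain ⟨u, hu, m, hm, hum⟩ := hfac ⟨k, hk⟩
    obtain ⟨d, hd, c, hc, hdc⟩ := mem_sup_of_normal_right.mp hm
    rw [mem_subgroupOf] at hd hc
    have huP : (u : G) ∈ P := by rw [← hT]; exact ⟨u, hu, rfl⟩
    have hk' : k = (u : G) * ((d : G) * c) := by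
      have h1 := congrArg (Subtype.val) hum
      rw [← hdc] at h1
      exact h1
    have hda : (d : G) * a = a * d := (mem_centralizer_iff.mp hd.2 a ha).symm
    have hdad : (d : G) * a * (d : G)⁻¹ = a := by rw [hda]; group
    have hc1 : (c : G) * (a * (c : G)⁻¹ * a⁻¹) ∈ C := C.mul_mem hc (hCR a ha _ (C.inv_mem hc))
    have hc2 : (d : G) * ((c : G) * (a * (c : G)⁻¹ * a⁻¹)) * (d : G)⁻¹ ∈ C :=
      hCK d d.2 _ hc1
    have hc3 : (u : G) * ((d : G) * ((c : G) * (a * (c : G)⁻¹ * a⁻¹)) * (d : G)⁻¹) * (u : G)⁻¹ ∈ C :=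
      hCK u u.2 _ hc2
    have hu1 : (u : G) * (a * (u : G)⁻¹ * a⁻¹) ∈ P := P.mul_mem huP (hPinv a ha _ (P.inv_mem huP))
    have heq : ⁅k, a⁆ = ((u : G) * ((d : G) * ((c : G) * (a * (c : G)⁻¹ * a⁻¹)) * (d : G)⁻¹) *
        (u : G)⁻¹) * ((u : G) * (a * (u : G)⁻¹ * a⁻¹)) := by
      rw [commutatorElement_def, hk']
      calc (u : G) * ((d : G) * c) * a * ((u : G) * ((d : G) * c))⁻¹ * a⁻¹
          = (u : G) * d * ((c : G) * (a * (c : G)⁻¹ * a⁻¹)) * (a * (d : G)⁻¹) * (u : G)⁻¹ * a⁻¹ := by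
            group
        _ = (u : G) * d * ((c : G) * (a * (c : G)⁻¹ * a⁻¹)) * ((d : G)⁻¹ * a) * (u : G)⁻¹ * a⁻¹ := by
            have h3 : a * (d : G)⁻¹ = (d : G)⁻¹ * a := by
              rw [eq_inv_mul_iff_mul_eq, ← mul_assoc, hda]; group
            rw [h3]
        _ = _ := by group
    rw [heq]
    exact mul_mem ((le_sup_left : C ≤ C ⊔ P) hc3) ((le_sup_right : P ≤ C ⊔ P) hu1)
  -- the image of `y` in `K / C` is trivial
  have hyK : y ∈ K := Cfsg.Agent.Lib.CoprimeCommutator.commutator_le_left hR₀K hy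
  have hyCP : (⟨y, hyK⟩ : K) ∈ C.subgroupOf K ⊔ (T : Subgroup K) := by
    have h1 : C ⊔ P = (C.subgroupOf K ⊔ (T : Subgroup K)).map K.subtype := by
      rw [Subgroup.map_sup, hT, subgroupOf_map_subtype, inf_eq_left.mpr inf_le_left]
    have h2 := hkey hy
    rw [h1] at h2
    obtain ⟨z, hz, hzy⟩ := h2
    have h3 : z = ⟨y, hyK⟩ := Subtype.ext hzy
    rwa [← h3]
  have hyC : (⟨y, hyK⟩ : K) ∈ C.subgroupOf K := by
    rw [← QuotientGroup.eq_one_iff]
    have h1 : (QuotientGroup.mk' (C.subgroupOf K)) ⟨y, hyK⟩ ∈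
        (T : Subgroup K).map (QuotientGroup.mk' (C.subgroupOf K)) := by
      have h2 : (QuotientGroup.mk' (C.subgroupOf K)) ⟨y, hyK⟩ ∈
          (C.subgroupOf K ⊔ (T : Subgroup K)).map (QuotientGroup.mk' (C.subgroupOf K)) :=
        mem_map_of_mem _ hyCP
      rwa [Subgroup.map_sup, QuotientGroup.map_mk'_self, bot_sup_eq] at h2
    have hpg : IsPGroup p ((T : Subgroup K).map (QuotientGroup.mk' (C.subgroupOf K))) :=
      T.isPGroup'.map _
    obtain ⟨k, hk⟩ := hpg ⟨_, h1⟩
    have hk' : ((QuotientGroup.mk' (C.subgroupOf K)) ⟨y, hyK⟩) ^ p ^ k = 1 :=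
      congrArg Subtype.val hk
    have ho1 : orderOf ((QuotientGroup.mk' (C.subgroupOf K)) ⟨y, hyK⟩) ∣ p ^ k :=
      orderOf_dvd_of_pow_eq_one hk'
    have ho2 : orderOf ((QuotientGroup.mk' (C.subgroupOf K)) ⟨y, hyK⟩) ∣ orderOf y := by
      refine (orderOf_map_dvd _ _).trans ?_
      rw [orderOf_mk]
    have ho3 : orderOf ((QuotientGroup.mk' (C.subgroupOf K)) ⟨y, hyK⟩) ∣ 1 := by
      have := Nat.dvd_gcd ho2 ho1
      rwa [(Nat.Coprime.pow_right k hyp).gcd_eq_one] at this
    exact orderOf_eq_one_iff.mp (Nat.dvd_one.mp ho3)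
  rw [mem_subgroupOf] at hyC
  exact hyC.2

/-- `[K, R₀] ≤ F(K)` for `R₀` of prime order, given B&G Theorem 3.4 for the actions of the
`R₀`-invariant `q`-subgroups of `K` on the `O_p(K)`. -/
theorem commutator_le_fittingOf_of_prime (K R₀ : Subgroup G) (hK : Group.IsSolvable K)
    (hodd : Odd (Nat.card K)) (hR₀ : (Nat.card R₀).Prime) (hR₀2 : Nat.card R₀ ≠ 2)
    (hR₀K : R₀ ≤ normalizer (K : Set G)) (hcop : (Nat.card K).Coprime (Nat.card R₀))
    (hfix : fittingOf K ⊓ centralizer (R₀ : Set G) = ⊥)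
    (h34 : ∀ Q R₁ V : Subgroup G, Odd (Nat.card Q) → (Nat.card R₁).Prime → Nat.card R₁ ≠ 2 →
      R₁ ≤ normalizer (Q : Set G) → (Nat.card Q).Coprime (Nat.card R₁) →
      Q ≤ normalizer (V : Set G) → R₁ ≤ normalizer (V : Set G) → Group.IsNilpotent Q →
      Group.IsNilpotent V → (Nat.card V).Coprime (Nat.card Q) →
      (Nat.card V).Coprime (Nat.card R₁) → V ⊓ centralizer (R₁ : Set G) = ⊥ →
      ⁅Q, R₁⁆ ≤ centralizer (V : Set G)) : ⁅K, R₀⁆ ≤ fittingOf K := by
  have hr : Fact (Nat.card R₀).Prime := ⟨hR₀⟩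
  have hR₀p : IsPGroup (Nat.card R₀) R₀ := IsPGroup.of_card (n := 1) (pow_one _).symm
  have hrK : ¬ Nat.card R₀ ∣ Nat.card K := by
    intro hd
    have h1 : Nat.card R₀ ∣ 1 := by
      have := Nat.dvd_gcd hd dvd_rfl
      rwa [hcop.gcd_eq_one] at this
    exact hR₀.one_lt.ne' (Nat.dvd_one.mp h1)
  have hKn : K ≤ normalizer ((⁅K, R₀⁆ : Subgroup G) : Set G) :=
    Cfsg.Agent.Lib.CoprimeCommutator.left_le_normalizer_commutator K R₀
  have hXK : ⁅K, R₀⁆ ≤ K := Cfsg.Agent.Lib.CoprimeCommutator.commutator_le_left hR₀K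
  have hXn : ((⁅K, R₀⁆ : Subgroup G).subgroupOf K).Normal :=
    Cfsg.Agent.OddOrderLocal.FitAux.subgroupOf_normal hKn
  have key : (⁅K, R₀⁆ : Subgroup G).subgroupOf K ≤ fittingSubgroup K := by
    refine le_fittingSubgroup_of_acts _ hXn ?_
    intro p hp y hy hyp
    have hpf : Fact p.Prime := ⟨hp⟩
    set V : Subgroup G := (pCore p K).map K.subtype with hV
    have hVp : IsPGroup p V := (Cfsg.Agent.Lib.Cores.pCore_isPGroup p).map _
    have hnV : normalizer (K : Set G) ≤ normalizer (V : Set G) :=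
      Cfsg.Agent.OddOrderLocal.FittingHall.normalizer_le_normalizer_map K _
        (Cfsg.Agent.Lib.Cores.pCore_characteristic p)
    have hVK : V ≤ K := map_subtype_le _
    have hVF : V ≤ fittingOf K :=
      Subgroup.map_mono (Cfsg.Agent.Lib.Cores.pCore_le_fittingSubgroup p)
    have hVfix : V ⊓ centralizer (R₀ : Set G) = ⊥ := by
      rw [eq_bot_iff, ← hfix]
      exact inf_le_inf_right _ hVF
    obtain ⟨kV, hkV⟩ := IsPGroup.iff_card.mp hVp
    have hmem := mem_centralizer_of_coprime K R₀ (r := Nat.card R₀) hR₀p hR₀K hrK (p := p)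
      (by
        intro q hq hqp Q hQK hQq hR₀Q
        have hqf : Fact q.Prime := ⟨hq⟩
        obtain ⟨kQ, hkQ⟩ := IsPGroup.iff_card.mp hQq
        have hQdvd : Nat.card Q ∣ Nat.card K := card_dvd_of_le hQK
        refine h34 Q R₀ V (Odd.of_dvd_nat hodd hQdvd) hR₀ hR₀2 hR₀Q
          (Nat.Coprime.coprime_dvd_left hQdvd hcop) (hQK.trans (le_normalizer.trans hnV))
          (hR₀K.trans hnV) hQq.isNilpotent hVp.isNilpotent ?_
          (Nat.Coprime.coprime_dvd_left (card_dvd_of_le hVK) hcop) hVfix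
        rw [hkV, hkQ]
        exact Nat.Coprime.pow _ _ ((Nat.coprime_primes hp hq).mpr (Ne.symm hqp)))
      (y : G) (mem_subgroupOf.mp hy) (by rwa [Subgroup.orderOf_coe])
    rw [mem_centralizer_iff]
    intro x hx
    apply Subtype.ext
    exact mem_centralizer_iff.mp hmem (x : G) ⟨x, hx, rfl⟩
  have h2 := Subgroup.map_mono (f := K.subtype) key
  rwa [subgroupOf_map_subtype, inf_eq_left.mpr hXK] at h2

/-- B&G Theorem 3.8, given B&G Theorem 3.4 in the form `h34`. -/
theorem commutator_le_fittingOf (K R : Subgroup G) (hK : Group.IsSolvable K)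
    (hodd : Odd (Nat.card K)) (hRodd : Odd (Nat.card R))
    (hRK : R ≤ normalizer (K : Set G)) (hcop : (Nat.card K).Coprime (Nat.card R))
    (hprime : ∀ x ∈ R, x ≠ 1 →
      K ⊓ centralizer ({x} : Set G) = K ⊓ centralizer (R : Set G))
    (hfix : fittingOf K ⊓ centralizer (R : Set G) = ⊥)
    (h34 : ∀ Q R₁ V : Subgroup G, Odd (Nat.card Q) → (Nat.card R₁).Prime → Nat.card R₁ ≠ 2 →
      R₁ ≤ normalizer (Q : Set G) → (Nat.card Q).Coprime (Nat.card R₁) →
      Q ≤ normalizer (V : Set G) → R₁ ≤ normalizer (V : Set G) → Group.IsNilpotent Q →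
      Group.IsNilpotent V → (Nat.card V).Coprime (Nat.card Q) →
      (Nat.card V).Coprime (Nat.card R₁) → V ⊓ centralizer (R₁ : Set G) = ⊥ →
      ⁅Q, R₁⁆ ≤ centralizer (V : Set G)) : ⁅K, R⁆ ≤ fittingOf K := by
  by_cases hR1 : R = ⊥
  · subst hR1
    rw [commutator_bot_right]
    exact bot_le
  -- a subgroup of prime order
  have hcard1 : Nat.card R ≠ 1 := fun h => hR1 (card_eq_one.mp h)
  obtain ⟨r, hr, hrd⟩ := Nat.exists_prime_and_dvd hcard1
  have hrf : Fact r.Prime := ⟨hr⟩
  obtain ⟨x, hx⟩ := exists_prime_orderOf_dvd_card' r hrd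
  have hxo : orderOf (x : G) = r := by rw [Subgroup.orderOf_coe]; exact hx
  have hxne : (x : G) ≠ 1 := by
    intro h1
    rw [h1, orderOf_one] at hxo
    exact hr.one_lt.ne hxo
  have hR₀R : zpowers (x : G) ≤ R := (zpowers_le).mpr x.2
  have hcR₀ : Nat.card (zpowers (x : G)) = r := by rw [Nat.card_zpowers, hxo]
  have hcent : K ⊓ centralizer ((zpowers (x : G) : Subgroup G) : Set G) =
      K ⊓ centralizer (R : Set G) := by
    rw [← hprime x x.2 hxne]
    congr 1
    exact (centralizer_closure ({(x : G)} : Set G)).symm ▸ (by rw [zpowers_eq_closure])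
  have hr2 : r ≠ 2 := by
    rintro rfl
    exact (Nat.not_odd_iff_even.mpr (even_iff_two_dvd.mpr hrd)) hRodd
  have hle : ⁅K, zpowers (x : G)⁆ ≤ fittingOf K := by
    refine commutator_le_fittingOf_of_prime K (zpowers (x : G)) hK hodd (by rwa [hcR₀])
      (by rwa [hcR₀]) (hR₀R.trans hRK)
      (Nat.Coprime.coprime_dvd_right (card_dvd_of_le hR₀R) hcop) ?_ h34
    have hFK : fittingOf K ≤ K := Cfsg.Agent.OddOrderLocal.FitAux.fittingOf_le K
    rw [← inf_eq_left.mpr hFK, inf_assoc, hcent, ← inf_assoc, inf_eq_left.mpr hFK, hfix]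
  have hnF : normalizer (K : Set G) ≤ normalizer (fittingOf K : Set G) :=
    Cfsg.Agent.OddOrderLocal.FittingHall.normalizer_le_normalizer_fittingOf K
  have hpg : IsPGroup r (zpowers (x : G)) := IsPGroup.of_card (n := 1) (by rw [hcR₀, pow_one])
  have hrK : ¬ r ∣ Nat.card K := by
    intro hd
    have h1 : r ∣ 1 := by
      have := Nat.dvd_gcd hd hrd
      rwa [hcop.gcd_eq_one] at this
    exact hr.one_lt.ne' (Nat.dvd_one.mp h1)
  rw [commutator_le]
  intro k hk b hb
  obtain ⟨m, hm, c, hc, rfl⟩ :=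
    Cfsg.Agent.Lib.CoprimeCommutator.exists_commutator_mul_fixed_of_isPGroup r (zpowers (x : G)) K
      hpg (hR₀R.trans hRK) hrK k hk
  have hc' : c ∈ K ⊓ centralizer (R : Set G) := by rw [← hcent]; exact hc
  have hcb : b * c = c * b := mem_centralizer_iff.mp hc'.2 b hb
  have hmF := hle hm
  have hbm : b * m⁻¹ * b⁻¹ ∈ fittingOf K :=
    (mem_normalizer_iff.mp (hnF (hRK hb)) _).mp ((fittingOf K).inv_mem hmF)
  have heq : ⁅m * c, b⁆ = m * (b * m⁻¹ * b⁻¹) := by
    rw [commutatorElement_def]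
    have h1 : c * b * c⁻¹ = b := by rw [← hcb]; group
    calc m * c * b * (m * c)⁻¹ * b⁻¹ = m * (c * b * c⁻¹) * m⁻¹ * b⁻¹ := by group
      _ = m * b * m⁻¹ * b⁻¹ := by rw [h1]
      _ = _ := by group
  rw [heq]
  exact mul_mem hmF hbm

end amb

end Cfsg.Agent.OddOrderLocal.Thm38
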