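import Mathlib
import Cfsg.Prelude.Def_OddOrderLocal
import Cfsg.Agent.OddOrderLocal.NilpotentPiSplit
import Cfsg.Agent.OddOrderLocal.FittingHall
import Cfsg.Agent.OddOrderLocal.MinSimpleBasic
import Cfsg.Agent.OddOrderLocal.MinSimple
import Cfsg.Agent.OddOrderLocal.CyclicSub
import Cfsg.Agent.OddOrderLocal.Rank
import Cfsg.Agent.OddOrderLocal.ZGroup
import Cfsg.Agent.OddOrderLocal.SigmaCompl
import Cfsg.Agent.S1350
import Cfsg.Agent.S1403
import Cfsg.Agent.S1404
import Cfsg.Agent.S1423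
import Cfsg.Agent.S1426
import Cfsg.Agent.S1437
import Cfsg.Agent.S1439

/-!
B&G Theorem 15.7, first part: for a maximal subgroup `M` and `g ∉ M` with `X = F(M) ∩ F(M)^g ≠ 1`:
`X ≤ M_σ`, `X` is cyclic, its primes are not in `β(M)`, `C_G(x) ≰ M` for `x ∈ X` of prime order,
`M_F = M_σ`.
-/

set_option autoImplicit false

namespace Cfsg.Agent.OddOrderLocal.FittingNonTIBasic

open Subgroup Cfsg Cfsg.Agent.OddOrderLocal.PiCoreOf Cfsg.Agent.OddOrderLocal.NilpotentPiSplit
  Cfsg.Agent.OddOrderLocal.MinSimpleBasic Cfsg.Agent.OddOrderLocal.FittingHall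
  Cfsg.Agent.OddOrderLocal.Rank

universe u

/-! ### `π`-subgroups of nilpotent groups -/

theorem index_piCore_dvd {N : Type u} [Group N] [Finite N] {π ρ : Set ℕ}
    (hsup : piCore π N ⊔ piCore ρ N = ⊤) : (piCore ρ N).index ∣ Nat.card (piCore π N) := by
  rw [← relIndex_top_right, ← hsup, relIndex_sup_right]
  exact relIndex_dvd_card _ _

theorem le_piCore_of_isPi {N : Type u} [Group N] [Finite N] {π ρ : Set ℕ}
    (hsup : piCore π N ⊔ piCore ρ N = ⊤) (hdisj : ∀ p, p ∈ π → p ∈ ρ → False) {A : Subgroup N}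
    (hA : IsPi ρ A) : A ≤ piCore ρ N := by
  apply Lib.NormalHall.le_of_card_coprime_index
  rw [Nat.coprime_iff_gcd_eq_one]
  by_contra hne
  obtain ⟨p, hp, hd⟩ := Nat.exists_prime_and_dvd hne
  refine hdisj p ?_ (hA p hp (hd.trans (Nat.gcd_dvd_left _ _)))
  exact piCore_isPi π p hp ((hd.trans (Nat.gcd_dvd_right _ _)).trans (index_piCore_dvd hsup))

variable {G : Type u} [Group G] [Finite G]

/-- a `π'`-subgroup of a nilpotent subgroup `N` lies in `O_{π'}(N)` -/
theorem le_piCoreOf_compl {N A : Subgroup G} (hN : Group.IsNilpotent N) (hA : A ≤ N) (π : Set ℕ)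
    (hπ : IsPi {q | q.Prime ∧ q ∉ π} A) : A ≤ piCoreOf {q | q.Prime ∧ q ∉ π} N := by
  have h1 : A.subgroupOf N ≤ piCore {q | q.Prime ∧ q ∉ π} N :=
    le_piCore_of_isPi (piCore_sup_piCore_compl hN π) (fun p h1 h2 => h2.2 h1)
      (isPi_subgroupOf hπ)
  have h2 := Subgroup.map_mono (f := N.subtype) h1
  rwa [Subgroup.map_subgroupOf_eq_of_le hA] at h2

/-- a `π`-subgroup of a nilpotent subgroup `N` lies in `O_π(N)` -/
theorem le_piCoreOf_self {N A : Subgroup G} (hN : Group.IsNilpotent N) (hA : A ≤ N) (π : Set ℕ)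
    (hπ : IsPi π A) : A ≤ piCoreOf π N := by
  have hsup : piCore {q | q.Prime ∧ q ∉ π} N ⊔ piCore π N = ⊤ := by
    rw [sup_comm]; exact piCore_sup_piCore_compl hN π
  have h1 : A.subgroupOf N ≤ piCore π N :=
    le_piCore_of_isPi hsup (fun p h1 h2 => h1.2 h2) (isPi_subgroupOf hπ)
  have h2 := Subgroup.map_mono (f := N.subtype) h1
  rwa [Subgroup.map_subgroupOf_eq_of_le hA] at h2

omit [Finite G] in
theorem isPi_zpowers_of_prime_order {x : G} {p : ℕ} (hp : p.Prime) (hx : orderOf x = p)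
    {π : Set ℕ} (hpπ : p ∈ π) : IsPi π (zpowers x) := by
  intro q hq hd
  rw [Nat.card_zpowers, hx] at hd
  rwa [(Nat.prime_dvd_prime_iff_eq hq hp).mp hd]

/-! ### `F(M)` and conjugation -/

/-- A subgroup of order `p ∉ σ(M)` of `F(M)` is normalized by `M`. -/
theorem le_normalizer_zpowers_of_not_mem_sigma (hG : IsMinSimpleOddOrder G) {M : Subgroup G}
    (hM : IsCoatom M) {x : G} {p : ℕ} (hp : p.Prime) (hx : orderOf x = p) (hpσ : p ∉ sigma M)
    (hxF : x ∈ fittingOf M) : normalizer ((zpowers x : Subgroup G) : Set G) = M := by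
  have hxY : zpowers x ≤ piCoreOf {q | q.Prime ∧ q ∉ sigma M} (fittingOf M) := by
    refine le_piCoreOf_compl (fittingOf_isNilpotent M) ?_ _ ?_
    · rwa [zpowers_le]
    · exact isPi_zpowers_of_prime_order hp hx ⟨hp, hpσ⟩
  have hYcyc := (Cfsg.Agent.S1439.result hG M hM).1
  have hnY : M ≤ normalizer ((piCoreOf {q | q.Prime ∧ q ∉ sigma M} (fittingOf M) : Subgroup G) : Set G) :=
    le_normalizer_piCoreOf_fittingOf M _
  have hn : M ≤ normalizer ((zpowers x : Subgroup G) : Set G) := by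
    intro m hm
    have h1 := mem_normalizer_iff_map_conj.mp (hnY hm)
    exact mem_normalizer_iff_map_conj.mpr (CyclicSub.map_conj_eq_of_le_cyclic hYcyc hxY h1)
  refine normalizer_eq_of_le_coatom hG hM ?_ ?_ hn
  · rw [Ne, zpowers_eq_bot]
    rintro rfl
    rw [orderOf_one] at hx
    exact hp.one_lt.ne hx
  · rw [zpowers_le]
    exact fittingOf_le M hxF

omit [Finite G] in
/-- Conjugating the normalizer of a cyclic group. -/
theorem map_conj_zpowers (g x : G) :
    (zpowers x).map (MulAut.conj g).toMonoidHom = zpowers (g * x * g⁻¹) := by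
  rw [MonoidHom.map_zpowers]
  rfl

omit [Finite G] in
theorem orderOf_conj (g x : G) : orderOf (g * x * g⁻¹) = orderOf x := by
  have h := orderOf_injective (MulAut.conj g).toMonoidHom (MulAut.conj g).injective x
  simpa using h

variable (M : Subgroup G) (g : G)

/-- `X = F(M) ∩ F(M)^g`. -/
abbrev interF (M : Subgroup G) (g : G) : Subgroup G :=
  fittingOf M ⊓ (fittingOf M).map (MulAut.conj g).toMonoidHom

variable {M g}

/-- Primes dividing the order of `X` are in `σ(M)`. -/
theorem mem_sigma_of_mem_interF (hG : IsMinSimpleOddOrder G) (hM : IsCoatom M) (hg : g ∉ M)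
    {x : G} (hx : x ∈ interF M g) {p : ℕ} (hp : p.Prime) (hxp : orderOf x = p) : p ∈ sigma M := by
  by_contra hpσ
  have h1 := le_normalizer_zpowers_of_not_mem_sigma hG hM hp hxp hpσ hx.1
  have hx2 : g⁻¹ * x * g ∈ fittingOf M := mem_map_conj_iff.mp hx.2
  have ho : orderOf (g⁻¹ * x * g) = p := by
    rw [← hxp]
    have := orderOf_conj g⁻¹ x
    rwa [inv_inv] at this
  have h2 := le_normalizer_zpowers_of_not_mem_sigma hG hM hp ho hpσ hx2
  have h3 : (zpowers (g⁻¹ * x * g)).map (MulAut.conj g).toMonoidHom = zpowers x := by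
    rw [map_conj_zpowers]
    congr 1
    group
  apply hg
  apply MinSimple.mem_of_map_conj_eq hG hM
  have h4 : (normalizer ((zpowers (g⁻¹ * x * g) : Subgroup G) : Set G)).map (MulAut.conj g).toMonoidHom
      = normalizer (((zpowers (g⁻¹ * x * g)).map (MulAut.conj g).toMonoidHom : Subgroup G) : Set G) :=
    Subgroup.map_equiv_normalizer_eq _ _
  rw [h3, h2, h1] at h4
  exact h4

/-- The elements of `X` of prime order exist. -/
theorem exists_prime_order {X : Subgroup G} {p : ℕ} (hp : p.Prime) (hd : p ∣ Nat.card X) :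
    ∃ x ∈ X, orderOf x = p := by
  have := Fact.mk hp
  obtain ⟨x, hx⟩ := exists_prime_orderOf_dvd_card' (G := X) p hd
  exact ⟨x, x.2, by rw [← hx, orderOf_submonoid]⟩

theorem interF_isPi (hG : IsMinSimpleOddOrder G) (hM : IsCoatom M) (hg : g ∉ M) :
    IsPi (sigma M) (interF M g) := by
  intro p hp hd
  obtain ⟨x, hx, hxp⟩ := exists_prime_order hp hd
  exact mem_sigma_of_mem_interF hG hM hg hx hp hxp

/-- (b), first part: `X ≤ M_σ`. -/
theorem interF_le_sigmaCore (hG : IsMinSimpleOddOrder G) (hM : IsCoatom M) (hg : g ∉ M) :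
    interF M g ≤ sigmaCore M :=
  (le_piCoreOf_self (fittingOf_isNilpotent M) inf_le_left _ (interF_isPi hG hM hg)).trans
    (piCoreOf_fittingOf_le_sigmaCore M)

omit [Finite G] in
theorem interF_le_map_conj : interF M g ≤ M.map (MulAut.conj g).toMonoidHom :=
  inf_le_right.trans (Subgroup.map_mono (fittingOf_le M))

/-- a complement of `M_σ` in `M` exists -/
theorem exists_compl (hG : IsMinSimpleOddOrder G) (hM : IsCoatom M) :
    ∃ E : Subgroup G, IsComplIn E (sigmaCore M) M :=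
  SigmaCompl.exists_compl_sigmaCore (Cfsg.Agent.S1350.result hG M hM).1

/-- `X` is cyclic, its primes are outside `β(M)` and it meets `(M_σ)'` trivially. -/
theorem interF_facts (hG : IsMinSimpleOddOrder G) (hM : IsCoatom M) (hg : g ∉ M) :
    IsCyclic ↥(interF M g) ∧ (∀ p : ℕ, p.Prime → p ∣ Nat.card ↥(interF M g) → p ∉ beta M) ∧
      interF M g ⊓ ⁅sigmaCore M, sigmaCore M⁆ = ⊥ := by
  obtain ⟨E, hE⟩ := exists_compl hG hM
  obtain ⟨h1, h2, h3⟩ := (Cfsg.Agent.S1426.result hG M hM E hE).2.2 g hg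
  have hle : interF M g ≤ sigmaCore M ⊓ M.map (MulAut.conj g).toMonoidHom :=
    le_inf (interF_le_sigmaCore hG hM hg) interF_le_map_conj
  refine ⟨?_, ?_, ?_⟩
  · exact isCyclic_of_injective (Subgroup.inclusion hle) (Subgroup.inclusion_injective hle)
  · intro p hp hd
    exact h2 p hp (hd.trans (Subgroup.card_dvd_of_le hle))
  · rw [eq_bot_iff, ← h3]
    exact inf_le_inf_right _ hle

/-- For `x ∈ X` of prime order, `C_G(x) ≰ M`. -/
theorem not_centralizer_le (hG : IsMinSimpleOddOrder G) (hM : IsCoatom M) (hg : g ∉ M)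
    {x : G} (hx : x ∈ interF M g) {p : ℕ} (hp : p.Prime) (hxp : orderOf x = p) :
    ¬ centralizer ({x} : Set G) ≤ M := by
  intro hcon
  have hpf := Fact.mk hp
  have hpσ := mem_sigma_of_mem_interF hG hM hg hx hp hxp
  have hX1 : zpowers x ≠ ⊥ := by
    rw [Ne, zpowers_eq_bot]
    rintro rfl
    rw [orderOf_one] at hxp
    exact hp.one_lt.ne hxp
  have hXp : IsPGroup p (zpowers x) := by
    apply IsPGroup.of_card (n := 1)
    rw [Nat.card_zpowers, hxp, pow_one]
  have hXM : zpowers x ≤ M := by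
    rw [zpowers_le]; exact fittingOf_le M hx.1
  have h := (Cfsg.Agent.S1404.result hG M hM p hpσ (zpowers x) hXp hX1 hXM).1 g⁻¹ (by
    rw [map_conj_zpowers, zpowers_le, inv_inv]
    exact fittingOf_le M (mem_map_conj_iff.mp hx.2))
  obtain ⟨m, hm, c, hc, hmc⟩ := h
  apply hg
  have hcM : c ∈ M := hcon (by
    rw [mem_centralizer_iff] at hc ⊢
    rintro y rfl
    exact hc _ (mem_zpowers _))
  have h1 : g⁻¹ ∈ M := hmc ▸ M.mul_mem hm hcM
  simpa using M.inv_mem h1

/-- A subgroup of `M ∩ C_G(x)`, `x ∈ X` of prime order, lies in more than one maximal subgroup. -/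
theorem not_inUniqueMaximal (hG : IsMinSimpleOddOrder G) (hM : IsCoatom M) (hg : g ∉ M)
    {x : G} (hx : x ∈ interF M g) {p : ℕ} (hp : p.Prime) (hxp : orderOf x = p) {L : Subgroup G}
    (hLM : L ≤ M) (hLC : L ≤ centralizer ({x} : Set G)) : ¬ InUniqueMaximal L := by
  intro hL
  apply not_centralizer_le hG hM hg hx hp hxp
  refine MinSimple.le_of_inUniqueMaximal hL hM hLM hLC ?_
  apply MinSimpleBasic.centralizer_singleton_ne_top hG
  rintro rfl
  rw [orderOf_one] at hxp
  exact hp.one_lt.ne hxp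

/-- Rank restrictions from the Uniqueness Theorem. -/
theorem rank_restrictions (hG : IsMinSimpleOddOrder G) (hM : IsCoatom M) (hg : g ∉ M)
    {x : G} (hx : x ∈ interF M g) {p : ℕ} (hp : p.Prime) (hxp : orderOf x = p) {L : Subgroup G}
    (hLM : L ≤ M) (hLC : L ≤ centralizer ({x} : Set G)) (hL : ¬ RankLE 1 L) :
    RankLE 2 L ∧ RankLE 2 (centralizer (L : Set G)) := by
  by_contra hcon
  apply not_inUniqueMaximal hG hM hg hx hp hxp hLM hLC
  refine Cfsg.Agent.S1403.result hG L ?_ hL ?_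
  · rintro rfl
    exact hM.1 (top_le_iff.mp hLM)
  · by_cases h : RankLE 2 L
    · exact Or.inr fun h2 => hcon ⟨h, h2⟩
    · exact Or.inl h

theorem rankLE_two (hG : IsMinSimpleOddOrder G) (hM : IsCoatom M) (hg : g ∉ M)
    {x : G} (hx : x ∈ interF M g) {p : ℕ} (hp : p.Prime) (hxp : orderOf x = p) {L : Subgroup G}
    (hLM : L ≤ M) (hLC : L ≤ centralizer ({x} : Set G)) : RankLE 2 L := by
  by_cases hL : RankLE 1 L
  · exact rankLE_le (by norm_num) hL
  · exact (rank_restrictions hG hM hg hx hp hxp hLM hLC hL).1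

end Cfsg.Agent.OddOrderLocal.FittingNonTIBasic
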