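import Mathlib
import Cfsg.Prelude.Def_OddOrderLocal
import Cfsg.Agent.Lib.Cores
import Cfsg.Agent.S0044

/-!
`K ≤ F(G)` for a normal subgroup `K` of a finite solvable group `G` inducing, for every prime `r`, an
`r`-group of automorphisms on `O_r(G)`.
-/

set_option autoImplicit false

namespace Cfsg.Agent.OddOrderLocal.ActFitting

open Subgroup

variable {G : Type*} [Group G]

/-- If `x ^ (s ^ k)` lies in `C` and the order of `x` is prime to `s`, then `x` lies in `C`. -/
theorem mem_of_pow_mem_of_coprime [Finite G] {C : Subgroup G} {x : G} {n : ℕ}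
    (hx : x ^ n ∈ C) (hc : (orderOf x).Coprime n) : x ∈ C := by
  have h1 : x ∈ Subgroup.zpowers (x ^ n) := by
    have h2 : Subgroup.zpowers (x ^ n) = Subgroup.zpowers x := by
      apply Subgroup.eq_of_le_of_card_ge
      · rw [Subgroup.zpowers_le]
        exact Subgroup.pow_mem _ (Subgroup.mem_zpowers x) n
      · rw [Nat.card_zpowers, Nat.card_zpowers, Nat.Coprime.orderOf_pow hc]
    rw [h2]
    exact Subgroup.mem_zpowers x
  exact (Subgroup.zpowers_le.mpr hx) h1

/-- The part of `K` centralising all the `O_s(G)`, `s ≠ r`, is contained in `F(G)`. -/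
theorem inf_centralizer_le_fitting [Finite G] [Group.IsSolvable G] (K : Subgroup G) (hK : K.Normal)
    (r : ℕ) [Fact r.Prime] (hact : ∀ g ∈ K, ∃ k : ℕ, g ^ r ^ k ∈ centralizer (Cfsg.pCore r G : Set G))
    (F' : Subgroup G) (hF' : F'.Normal) (hF : Cfsg.fittingSubgroup G = Cfsg.pCore r G ⊔ F')
    (hcomm : ∀ a ∈ Cfsg.pCore r G, ∀ b ∈ F', a * b = b * a) :
    K ⊓ centralizer (F' : Set G) ≤ Cfsg.fittingSubgroup G := by
  set N : Subgroup G := K ⊓ centralizer (F' : Set G) with hN
  have hNn : N.Normal := inferInstance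
  apply Cfsg.Agent.Lib.Cores.le_fittingSubgroup hNn
  have hrn : (Cfsg.pCore r G).Normal := Cfsg.Agent.Lib.Cores.pCore_normal r
  -- the map `N → G / F'`
  let f : N →* G ⧸ F' := (QuotientGroup.mk' F').comp N.subtype
  have hker : f.rangeRestrict.ker ≤ center N := by
    intro x hx
    rw [MonoidHom.ker_rangeRestrict, MonoidHom.mem_ker] at hx
    have hx' : (x : G) ∈ F' := (QuotientGroup.eq_one_iff (x : G)).mp hx
    rw [Subgroup.mem_center_iff]
    intro y
    apply Subtype.ext
    have hy : (y : G) ∈ centralizer (F' : Set G) := y.2.2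
    have := (Subgroup.mem_centralizer_iff.mp hy) x hx'
    exact this.symm
  have hrange : IsPGroup r f.range := by
    rintro ⟨_, x, rfl⟩
    obtain ⟨k, hk⟩ := hact x x.2.1
    -- `x ^ r ^ k` centralises `F(G)`
    have hz : (x : G) ^ r ^ k ∈ centralizer (Cfsg.fittingSubgroup G : Set G) := by
      rw [hF, Subgroup.mem_centralizer_iff]
      have hle : Cfsg.pCore r G ⊔ F' ≤ centralizer ({(x : G) ^ r ^ k} : Set G) := by
        rw [sup_le_iff]
        constructor
        · intro a ha
          rw [Subgroup.mem_centralizer_singleton_iff]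
          exact (Subgroup.mem_centralizer_iff.mp hk) a ha
        · intro b hb
          rw [Subgroup.mem_centralizer_singleton_iff]
          have hy : (x : G) ^ r ^ k ∈ centralizer (F' : Set G) := Subgroup.pow_mem _ x.2.2 _
          exact (Subgroup.mem_centralizer_iff.mp hy) b hb
      intro h hh
      exact Subgroup.mem_centralizer_singleton_iff.mp (hle hh)
    have hzF : (x : G) ^ r ^ k ∈ Cfsg.fittingSubgroup G := Cfsg.Agent.S0044.result hz
    rw [hF, Subgroup.mem_sup_of_normal_right] at hzF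
    obtain ⟨a, ha, b, hb, hab⟩ := hzF
    obtain ⟨m, hm⟩ := Cfsg.Agent.Lib.Cores.pCore_isPGroup (G := G) r ⟨a, ha⟩
    have hm' : a ^ r ^ m = 1 := by
      have := congrArg Subtype.val hm
      simpa using this
    refine ⟨k + m, ?_⟩
    apply Subtype.ext
    show (f x) ^ r ^ (k + m) = 1
    rw [← map_pow]
    refine (QuotientGroup.eq_one_iff _).mpr ?_
    show ((x : G) ^ r ^ (k + m)) ∈ F'
    rw [pow_add, pow_mul, ← hab, (show Commute a b from hcomm a ha b hb).mul_pow, hm', one_mul]
    exact Subgroup.pow_mem _ hb _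
  have hnil : Group.IsNilpotent f.range := hrange.isNilpotent
  exact Subgroup.isNilpotent_of_ker_le_center f.rangeRestrict hker

/-- If the normal subgroup `K` of the finite solvable group `G` induces an `r`-group of automorphisms
on `O_r(G)` for every prime `r`, then `K ≤ F(G)`. -/
theorem le_fitting_of_acts [Finite G] [Group.IsSolvable G] (K : Subgroup G) (hK : K.Normal)
    (hact : ∀ (r : ℕ) [Fact r.Prime], ∀ g ∈ K, ∃ k : ℕ,
      g ^ r ^ k ∈ centralizer (Cfsg.pCore r G : Set G)) :
    K ≤ Cfsg.fittingSubgroup G := by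
  rw [← Subgroup.subgroupOf_eq_top]
  refine Cfsg.Agent.Lib.Cores.eq_top_of_sylow_le fun r hr => ?_
  obtain ⟨R⟩ := (inferInstance : Nonempty (Sylow r K))
  refine ⟨R, ?_⟩
  rw [Subgroup.subgroupOf, ← Subgroup.map_le_iff_le_comap]
  set F' : Subgroup G := ⨆ s : {s : Nat.Primes // (s : ℕ) ≠ r}, Cfsg.pCore ((s : Nat.Primes) : ℕ) G
    with hF'
  have hF'n : F'.Normal := by
    have : ∀ s : {s : Nat.Primes // (s : ℕ) ≠ r},
        (Cfsg.pCore ((s : Nat.Primes) : ℕ) G).Normal := fun s => Cfsg.Agent.Lib.Cores.pCore_normal _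
    exact Subgroup.iSup_normal _
  have hF : Cfsg.fittingSubgroup G = Cfsg.pCore r G ⊔ F' := by
    rw [Cfsg.Agent.Lib.Cores.fittingSubgroup_eq_iSup_pCore]
    apply le_antisymm
    · refine iSup_le fun s => ?_
      by_cases hs : (s : ℕ) = r
      · rw [hs]; exact le_sup_left
      · exact le_sup_of_le_right
          (le_iSup (fun s : {s : Nat.Primes // (s : ℕ) ≠ r} => Cfsg.pCore ((s : Nat.Primes) : ℕ) G)
            ⟨s, hs⟩)
    · refine sup_le ?_ (iSup_le fun s => ?_)
      · exact le_iSup (fun p : Nat.Primes => Cfsg.pCore (p : ℕ) G) ⟨r, hr.out⟩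
      · exact le_iSup (fun p : Nat.Primes => Cfsg.pCore (p : ℕ) G) s.1
  have hcomm : ∀ a ∈ Cfsg.pCore r G, ∀ b ∈ F', a * b = b * a := by
    intro a ha b hb
    have hle : F' ≤ centralizer ({a} : Set G) := by
      refine iSup_le fun s => ?_
      intro b hb
      rw [Subgroup.mem_centralizer_singleton_iff]
      haveI := Fact.mk s.1.2
      have hdisj : Disjoint (Cfsg.pCore r G) (Cfsg.pCore ((s : Nat.Primes) : ℕ) G) :=
        IsPGroup.disjoint_of_ne r ((s : Nat.Primes) : ℕ) (Ne.symm s.2) _ _
          (Cfsg.Agent.Lib.Cores.pCore_isPGroup _) (Cfsg.Agent.Lib.Cores.pCore_isPGroup _)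
      exact (Subgroup.commute_of_normal_of_disjoint _ _ (Cfsg.Agent.Lib.Cores.pCore_normal _)
        (Cfsg.Agent.Lib.Cores.pCore_normal _) hdisj a b ha hb).symm
    exact (Subgroup.mem_centralizer_singleton_iff.mp (hle hb)).symm
  refine le_trans ?_ (inf_centralizer_le_fitting K hK r (fun g hg => hact r g hg) F' hF'n hF hcomm)
  rintro _ ⟨x, hx, rfl⟩
  refine ⟨x.2, ?_⟩
  show (x : G) ∈ centralizer (F' : Set G)
  rw [Subgroup.mem_centralizer_iff]
  have hle : F' ≤ centralizer ({(x : G)} : Set G) := by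
    refine iSup_le fun s => ?_
    haveI := Fact.mk s.1.2
    obtain ⟨k, hk⟩ := hact ((s : Nat.Primes) : ℕ) x x.2
    have hord : (orderOf (x : G)).Coprime (((s : Nat.Primes) : ℕ) ^ k) := by
      apply Nat.Coprime.pow_right
      rw [Subgroup.orderOf_coe]
      have h1 := R.isPGroup'
      obtain ⟨j, hj⟩ := h1 ⟨x, hx⟩
      have hj' : x ^ r ^ j = 1 := by
        have := congrArg Subtype.val hj
        simpa using this
      have h2 : orderOf x ∣ r ^ j := orderOf_dvd_of_pow_eq_one hj'
      refine Nat.Coprime.coprime_dvd_left h2 ?_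
      apply Nat.Coprime.pow_left
      rw [Nat.coprime_primes hr.out s.1.2]
      exact Ne.symm s.2
    have hxc := mem_of_pow_mem_of_coprime hk hord
    intro b hb
    rw [Subgroup.mem_centralizer_singleton_iff]
    exact (Subgroup.mem_centralizer_iff.mp hxc) b hb
  intro b hb
  exact Subgroup.mem_centralizer_singleton_iff.mp (hle hb)

end Cfsg.Agent.OddOrderLocal.ActFitting
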