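import Mathlib
import Cfsg.Prelude.Def_OddOrderLocal
import Cfsg.Agent.Lib.Cores
import Cfsg.Agent.OddOrderLocal.GLTwoOdd
import Cfsg.Agent.OddOrderLocal.OmegaCritical

/-!
Let `G` be a solvable group of odd order, `P` a normal `p`-subgroup of `G` and `E ≤ P` an elementary
abelian subgroup such that `C_P(E)` has rank at most two.  Then the derived subgroup of `G` induces a
`p`-group of automorphisms on `P` (`exists_pow_mem_centralizer`).
-/

set_option autoImplicit false

namespace Cfsg.Agent.OddOrderLocal.SmallCent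

open Subgroup
open scoped commutatorElement

variable {G : Type*} [Group G]

/-- Elementary abelian, elementwise. -/
theorem elemAb_def {p : ℕ} {A : Subgroup G} :
    Cfsg.IsElementaryAbelian p A ↔ (∀ a ∈ A, ∀ b ∈ A, a * b = b * a) ∧ ∀ a ∈ A, a ^ p = 1 := by
  constructor
  · rintro ⟨h1, h2⟩
    exact ⟨isMulCommutative_iff_of_setLike.mp h1, h2⟩
  · rintro ⟨h1, h2⟩
    exact ⟨isMulCommutative_iff_of_setLike.mpr h1, h2⟩

/-- Adding to an elementary abelian group an element of order dividing `p` centralising it. -/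
theorem elemAb_sup_zpowers {p : ℕ} {A : Subgroup G} (hA : Cfsg.IsElementaryAbelian p A) {x : G}
    (hx : x ^ p = 1) (hxA : ∀ a ∈ A, a * x = x * a) :
    Cfsg.IsElementaryAbelian p (A ⊔ zpowers x) := by
  rw [elemAb_def] at hA ⊢
  have hcomm : ∀ a ∈ A, ∀ n : ℤ, Commute a (x ^ n) := fun a ha n =>
    (show Commute a x from hxA a ha).zpow_right n
  have hmem : ∀ y ∈ A ⊔ zpowers x, ∃ a ∈ A, ∃ n : ℤ, y = a * x ^ n := by
    intro y hy
    have hn : A ≤ Subgroup.normalizer (zpowers x : Set G) := by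
      rw [Subgroup.le_normalizer_iff]
      rintro a ha _ ⟨n, rfl⟩
      show a * x ^ n * a⁻¹ ∈ zpowers x
      rw [(hcomm a ha n).eq, mul_inv_cancel_right]
      exact ⟨n, rfl⟩
    rw [← SetLike.mem_coe, Subgroup.coe_mul_of_left_le_normalizer_right A _ hn] at hy
    obtain ⟨a, ha, _, ⟨n, rfl⟩, rfl⟩ := hy
    exact ⟨a, ha, n, rfl⟩
  constructor
  · intro y hy z hz
    obtain ⟨a, ha, m, rfl⟩ := hmem y hy
    obtain ⟨b, hb, n, rfl⟩ := hmem z hz
    have h1 : Commute a b := hA.1 a ha b hb
    have h2 : Commute (a * x ^ m) (b * x ^ n) :=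
      ((h1.mul_left (hcomm b hb m).symm).mul_right
        ((hcomm a ha n).mul_left ((Commute.refl x).zpow_zpow m n)))
    exact h2
  · intro y hy
    obtain ⟨a, ha, n, rfl⟩ := hmem y hy
    rw [(hcomm a ha n).mul_pow, hA.2 a ha, one_mul, ← zpow_natCast, ← zpow_mul, mul_comm, zpow_mul,
      zpow_natCast, hx, one_zpow]

/-- If `E ≤ P` is elementary abelian and `C_P(E)` has `p`-rank at most two, then some element `s` of
`P` has all elements of order dividing `p` of `C_P(s)` in a fixed subgroup of order at most `p ^ 2`. -/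
theorem exists_small_centralizer [Finite G] {p : ℕ} [Fact p.Prime] (P E : Subgroup G)
    (hP : IsPGroup p P) (hEP : E ≤ P) (hE : Cfsg.IsElementaryAbelian p E)
    (hr : ∀ A : Subgroup G, A ≤ P → A ≤ centralizer (E : Set G) → Cfsg.IsElementaryAbelian p A →
      Nat.card A ≤ p ^ 2) :
    ∃ s ∈ P, ∃ D : Subgroup G, Nat.card D ≤ p ^ 2 ∧ ∀ x ∈ P, x ^ p = 1 → s * x = x * s → x ∈ D := by
  have hp : p.Prime := Fact.out
  -- a maximal elementary abelian subgroup `D` of `P` containing `E`
  obtain ⟨D, hDmax⟩ := (Set.toFinite {D : Subgroup G | E ≤ D ∧ D ≤ P ∧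
    Cfsg.IsElementaryAbelian p D}).exists_maximal ⟨E, le_refl _, hEP, hE⟩
  obtain ⟨⟨hED, hDP, hD⟩, hmax'⟩ := hDmax
  have hD' := elemAb_def.mp hD
  have hcard : Nat.card D ≤ p ^ 2 := by
    refine hr D hDP ?_ hD
    intro d hd
    rw [Subgroup.mem_centralizer_iff]
    intro e he
    exact hD'.1 e (hED he) d hd
  have hmax : ∀ x ∈ P, x ^ p = 1 → (∀ a ∈ D, a * x = x * a) → x ∈ D := by
    intro x hxP hx hxD
    have h1 : D ⊔ zpowers x ∈ {D : Subgroup G | E ≤ D ∧ D ≤ P ∧ Cfsg.IsElementaryAbelian p D} :=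
      ⟨hED.trans le_sup_left, sup_le hDP (Subgroup.zpowers_le.mpr hxP),
        elemAb_sup_zpowers hD hx hxD⟩
    have h2 := hmax' h1 le_sup_left
    exact h2 (Subgroup.mem_sup_right (Subgroup.mem_zpowers x))
  by_cases hPb : P = ⊥
  · refine ⟨1, P.one_mem, D, hcard, ?_⟩
    intro x hx _ _
    rw [hPb, Subgroup.mem_bot] at hx
    rw [hx]
    exact D.one_mem
  -- a central element of order `p`
  have hnt : Nontrivial P := (Subgroup.nontrivial_iff_ne_bot P).mpr hPb
  have hcn : Nontrivial (center P) := hP.center_nontrivial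
  have hdvd : p ∣ Nat.card (center P) := by
    rcases (hP.to_subgroup (center P)).card_eq_or_dvd with h | h
    · exact absurd h Finite.one_lt_card.ne'
    · exact h
  obtain ⟨z', hz'⟩ := exists_prime_orderOf_dvd_card' p hdvd
  set z : G := ((z' : P) : G) with hz
  have hzP : z ∈ P := (z' : P).2
  have hzord : orderOf z = p := by
    rw [hz, Subgroup.orderOf_coe, Subgroup.orderOf_coe, hz']
  have hzp : z ^ p = 1 := by rw [← hzord]; exact pow_orderOf_eq_one z
  have hzc : ∀ x ∈ P, z * x = x * z := by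
    intro x hx
    have := (Subgroup.mem_center_iff.mp z'.2) ⟨x, hx⟩
    exact (congrArg Subtype.val this).symm
  have hzD : z ∈ D := hmax z hzP hzp fun a ha => (hzc a (hDP ha)).symm
  have hzcard : Nat.card (zpowers z) = p := by rw [Nat.card_zpowers, hzord]
  by_cases hDz : D ≤ zpowers z
  · refine ⟨1, P.one_mem, D, hcard, ?_⟩
    intro x hx hxp _
    refine hmax x hx hxp fun a ha => ?_
    obtain ⟨n, rfl⟩ := hDz ha
    exact (show Commute z x from hzc x hx).zpow_left n
  · obtain ⟨s, hsD, hsz⟩ := Set.not_subset.mp hDz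
    refine ⟨s, hDP hsD, D, hcard, ?_⟩
    -- `D` is generated by `z` and `s`
    have hM : zpowers z ⊔ zpowers s = D := by
      have hle : zpowers z ⊔ zpowers s ≤ D :=
        sup_le (Subgroup.zpowers_le.mpr hzD) (Subgroup.zpowers_le.mpr hsD)
      apply Subgroup.eq_of_le_of_card_ge hle
      refine hcard.trans ?_
      have hMp : IsPGroup p (zpowers z ⊔ zpowers s : Subgroup G) := hP.to_le (hle.trans hDP)
      obtain ⟨m, hm⟩ := IsPGroup.iff_card.mp hMp
      have hlt : Nat.card (zpowers z) < Nat.card (zpowers z ⊔ zpowers s : Subgroup G) := by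
        have h1 : zpowers z < zpowers z ⊔ zpowers s := by
          refine lt_of_le_of_ne le_sup_left fun h => hsz ?_
          rw [h]
          exact Subgroup.mem_sup_right (Subgroup.mem_zpowers s)
        by_contra hcon
        exact h1.ne (Subgroup.eq_of_le_of_card_ge h1.le (not_lt.mp hcon))
      rw [hzcard, hm] at hlt
      rw [hm]
      apply Nat.pow_le_pow_right hp.pos
      by_contra hcon
      have hm1 : m ≤ 1 := by omega
      have h3 : p ^ m ≤ p ^ 1 := Nat.pow_le_pow_right hp.pos hm1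
      rw [pow_one] at h3
      omega
    intro x hx hxp hsx
    refine hmax x hx hxp ?_
    have hle : D ≤ centralizer ({x} : Set G) := by
      rw [← hM]
      refine sup_le ?_ ?_
      · rw [Subgroup.zpowers_le, Subgroup.mem_centralizer_singleton_iff]
        exact hzc x hx
      · rw [Subgroup.zpowers_le, Subgroup.mem_centralizer_singleton_iff]
        exact hsx
    intro a ha
    exact Subgroup.mem_centralizer_singleton_iff.mp (hle ha)

/-- A nontrivial section `X / Y` of a nilpotent normal subgroup `P`, with `X`, `Y` normal in `G`, is not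
covered by commutators with `P`. -/
theorem le_of_le_commutator_sup {P X Y : Subgroup G} [P.Normal] [Y.Normal]
    (hP : Group.IsNilpotent P) (hXP : X ≤ P) (h : X ≤ ⁅X, P⁆ ⊔ Y) : X ≤ Y := by
  have key : ∀ n : ℕ, X ≤ Y ⊔ (P.lowerCentralSeries n) := by
    intro n
    induction n with
    | zero =>
      rw [Subgroup.lowerCentralSeries_zero]
      exact hXP.trans le_sup_right
    | succ n ih =>
      refine h.trans (sup_le ?_ le_sup_left)
      have hn : (P.lowerCentralSeries n).Normal := inferInstance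
      refine (Subgroup.commutator_mono ih le_rfl).trans ?_
      rw [Subgroup.lowerCentralSeries_succ]
      have hn' : (Y ⊔ ⁅P.lowerCentralSeries n, P⁆).Normal := inferInstance
      rw [Cfsg.Agent.Lib.Cores.sup_commutator_le_iff]
      exact ⟨(Subgroup.commutator_le_left Y P).trans le_sup_left, le_sup_right⟩
  obtain ⟨n, hn⟩ := (Subgroup.isNilpotent_iff_lowerCentralSeries P).mp hP
  have := key n
  rwa [hn, sup_bot_eq] at this

/-- Counting commutators with one element: if `[X, s] ⊆ Y` and the elements of `X` commuting with `s`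
lie in `D`, then `#X ≤ #Y * #D`. -/
theorem card_le_mul [Finite G] (X Y D : Subgroup G) (s : G)
    (hY : ∀ x ∈ X, x⁻¹ * (s * x * s⁻¹) ∈ Y) (hD : ∀ x ∈ X, s * x = x * s → x ∈ D) :
    Nat.card X ≤ Nat.card Y * Nat.card D := by
  classical
  let f : X → Y := fun x => ⟨(x : G)⁻¹ * (s * x * s⁻¹), hY x x.2⟩
  let g : Y → X := fun y => if h : ∃ x, f x = y then h.choose else 1
  have hg : ∀ x, f (g (f x)) = f x := by
    intro x
    have h : ∃ x', f x' = f x := ⟨x, rfl⟩
    have : g (f x) = h.choose := dif_pos h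
    rw [this]
    exact h.choose_spec
  have hmem : ∀ x : X, (x : G) * ((g (f x) : X) : G)⁻¹ ∈ D := by
    intro x
    apply hD _ (X.mul_mem x.2 (X.inv_mem (g (f x)).2))
    have h1 : ((g (f x) : X) : G)⁻¹ * (s * (g (f x) : X) * s⁻¹) = (x : G)⁻¹ * (s * x * s⁻¹) :=
      congrArg Subtype.val (hg x)
    set u : G := ((g (f x) : X) : G) with hu
    have h2 : (x : G) * u⁻¹ * s = s * x * u⁻¹ := by
      have h3 : u⁻¹ * s * u = (x : G)⁻¹ * s * x := by
        have h4 : u⁻¹ * (s * u * s⁻¹) * s = (x : G)⁻¹ * (s * x * s⁻¹) * s := by rw [h1]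
        calc u⁻¹ * s * u = u⁻¹ * (s * u * s⁻¹) * s := by group
          _ = (x : G)⁻¹ * (s * x * s⁻¹) * s := h4
          _ = (x : G)⁻¹ * s * x := by group
      calc (x : G) * u⁻¹ * s = x * (u⁻¹ * s * u) * u⁻¹ := by group
        _ = x * ((x : G)⁻¹ * s * x) * u⁻¹ := by rw [h3]
        _ = s * x * u⁻¹ := by group
    rw [h2]
    group
  let F : X → Y × D := fun x => (f x, ⟨(x : G) * ((g (f x) : X) : G)⁻¹, hmem x⟩)
  have hF : Function.Injective F := by
    intro x x' h
    have h1 : f x = f x' := congrArg Prod.fst h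
    have h2 : (x : G) * ((g (f x) : X) : G)⁻¹ = (x' : G) * ((g (f x') : X) : G)⁻¹ :=
      congrArg (fun q => ((q : Y × D).2 : G)) h
    rw [h1] at h2
    exact Subtype.ext (mul_right_cancel h2)
  have := Nat.card_le_card_of_injective F hF
  rwa [Nat.card_prod] at this

/-- The chain argument. -/
theorem exists_pow_mem_of_exponent [Finite G] (hs : Group.IsSolvable G) (hodd : Odd (Nat.card G))
    {p : ℕ} [Fact p.Prime] (P : Subgroup G) [P.Normal] (hP : IsPGroup p P) {s : G} (hsP : s ∈ P)
    (D : Subgroup G) (hD : Nat.card D ≤ p ^ 2)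
    (hsD : ∀ x ∈ P, x ^ p = 1 → s * x = x * s → x ∈ D) {g : G} (hg : g ∈ commutator G) :
    ∀ (n : ℕ) (X : Subgroup G), X.Normal → X ≤ P → (∀ x ∈ X, x ^ p = 1) → Nat.card X ≤ n →
      ∃ k : ℕ, g ^ p ^ k ∈ centralizer (X : Set G) := by
  have hp : p.Prime := Fact.out
  intro n
  induction n with
  | zero =>
    intro X _ _ _ hX
    exact absurd (Nat.le_zero.mp hX) Nat.card_pos.ne'
  | succ n ih =>
    intro X hXn hXP hXp hX
    by_cases hXb : X = ⊥
    · refine ⟨0, ?_⟩
      rw [Subgroup.mem_centralizer_iff]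
      intro x hx
      have hx1 : x = 1 := by
        rw [hXb] at hx
        exact Subgroup.mem_bot.mp hx
      rw [hx1, one_mul, mul_one]
    -- a maximal normal subgroup `Y` of `G` properly inside `X`
    obtain ⟨Y, hY⟩ := (Set.toFinite {Y : Subgroup G | Y.Normal ∧ Y < X}).exists_maximal
      ⟨⊥, inferInstance, bot_lt_iff_ne_bot.mpr hXb⟩
    obtain ⟨⟨hYn, hYX⟩, hYmax⟩ := hY
    have hcY : ⁅X, P⁆ ≤ Y := by
      have hcX : ⁅X, P⁆ ≤ X := Subgroup.commutator_le_left X P
      by_contra hcon
      have h1 : ⁅X, P⁆ ⊔ Y ≤ X := sup_le hcX hYX.le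
      have h2 : ¬ (⁅X, P⁆ ⊔ Y < X) := by
        intro h3
        have h4 : ⁅X, P⁆ ⊔ Y ∈ {Y : Subgroup G | Y.Normal ∧ Y < X} := ⟨inferInstance, h3⟩
        exact hcon (le_sup_left.trans (hYmax h4 le_sup_right))
      have h3 : X ≤ ⁅X, P⁆ ⊔ Y := by
        rcases eq_or_lt_of_le h1 with h | h
        · exact h.ge
        · exact absurd h h2
      exact absurd (le_of_le_commutator_sup hP.isNilpotent hXP h3) (not_le_of_gt hYX)
    -- the chief factor
    obtain ⟨k, hk⟩ := ih Y hYn (hYX.le.trans hXP) (fun x hx => hXp x (hYX.le hx)) (by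
      have h1 : Nat.card Y < Nat.card X := by
        by_contra hcon
        exact hYX.ne (Subgroup.eq_of_le_of_card_ge hYX.le (not_lt.mp hcon))
      omega)
    have hcommY : ∀ x ∈ X, ∀ y ∈ P, (QuotientGroup.mk' Y) x * (QuotientGroup.mk' Y) y =
        (QuotientGroup.mk' Y) y * (QuotientGroup.mk' Y) x := by
      intro x hx y hy
      have h1 : ⁅x, y⁆ ∈ Y := hcY (Subgroup.commutator_mem_commutator hx hy)
      rw [← map_mul, ← map_mul]
      apply QuotientGroup.eq_iff_div_mem.mpr
      rw [commutatorElement_def] at h1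
      rw [div_eq_mul_inv, mul_inv_rev, ← mul_assoc]
      exact h1
    let V : Subgroup (G ⧸ Y) := X.map (QuotientGroup.mk' Y)
    have hVn : V.Normal := hXn.map _ (QuotientGroup.mk'_surjective Y)
    have hVc : ∀ a b : V, a * b = b * a := by
      rintro ⟨_, x, hx, rfl⟩ ⟨_, y, hy, rfl⟩
      exact Subtype.ext (hcommY x hx y (hXP hy))
    have hVp : ∀ a : V, a ^ p = 1 := by
      rintro ⟨_, x, hx, rfl⟩
      apply Subtype.ext
      show (QuotientGroup.mk' Y x) ^ p = 1
      rw [← map_pow, hXp x hx, map_one]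
    have hVcard : Nat.card V ≤ p ^ 2 := by
      have h1 : Nat.card V = Y.relIndex X := by
        have := Subgroup.relIndex_ker (QuotientGroup.mk' Y) (K := X)
        rw [QuotientGroup.ker_mk'] at this
        exact this.symm
      have h2 : Nat.card Y * Y.relIndex X = Nat.card X := by
        have := Subgroup.relIndex_mul_relIndex ⊥ Y X bot_le hYX.le
        rwa [Subgroup.relIndex_bot_left, Subgroup.relIndex_bot_left] at this
      have h3 : Nat.card X ≤ Nat.card Y * Nat.card D := by
        apply card_le_mul X Y D s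
        · intro x hx
          have h5 : ⁅x⁻¹, s⁆ ∈ Y := hcY (Subgroup.commutator_mem_commutator (X.inv_mem hx) hsP)
          rw [commutatorElement_def, inv_inv] at h5
          have h6 : x⁻¹ * (s * x * s⁻¹) = x⁻¹ * s * x * s⁻¹ := by group
          rw [h6]
          exact h5
        · intro x hx hsx
          exact hsD x (hXP hx) (hXp x hx) hsx
      rw [h1]
      have hpos : 0 < Nat.card Y := Nat.card_pos
      refine le_trans ?_ hD
      rw [← h2] at h3
      exact Nat.le_of_mul_le_mul_left h3 hpos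
    let φ : G →* MulAut V := (MulAut.conjNormal (H := V)).comp (QuotientGroup.mk' Y)
    have hφ : φ g ^ p = 1 :=
      Cfsg.Agent.OddOrderLocal.GLTwoOdd.mulAut_pow_eq_one_of_mem_commutator hs hodd hVc hVp
        hVcard φ hg
    set h : G := g ^ p ^ (k + 1) with hh
    have hφh : φ h = 1 := by
      rw [hh, map_pow, pow_succ', pow_mul, hφ, one_pow]
    have hhY : ∀ y ∈ Y, y * h = h * y := by
      have h1 : h ∈ centralizer (Y : Set G) := by
        rw [hh, pow_succ, pow_mul]
        exact Subgroup.pow_mem _ hk p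
      intro y hy
      exact (Subgroup.mem_centralizer_iff.mp h1) y hy
    refine ⟨k + 2, ?_⟩
    rw [Subgroup.mem_centralizer_iff]
    intro x hx
    have hx' : (QuotientGroup.mk' Y) x ∈ V := ⟨x, hx, rfl⟩
    have h1 : (φ h) ⟨(QuotientGroup.mk' Y) x, hx'⟩ = ⟨(QuotientGroup.mk' Y) x, hx'⟩ := by
      rw [hφh]; rfl
    have h2 : (QuotientGroup.mk' Y) (h * x * h⁻¹) = (QuotientGroup.mk' Y) x := by
      have := congrArg Subtype.val h1
      rw [map_mul, map_mul, map_inv]
      exact this
    have hy : x⁻¹ * (h * x * h⁻¹) ∈ Y := by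
      have := QuotientGroup.eq.mp h2.symm
      exact this
    set y : G := x⁻¹ * (h * x * h⁻¹) with hydef
    have hhx : h * x = x * y * h := by rw [hydef]; group
    have hj : ∀ j : ℕ, h ^ j * x = x * y ^ j * h ^ j := by
      intro j
      induction j with
      | zero => simp
      | succ j ihj =>
        have hc : Commute h (y ^ j) := (show Commute h y from (hhY y hy).symm).pow_right j
        calc h ^ (j + 1) * x = h * (h ^ j * x) := by rw [pow_succ', mul_assoc]
          _ = h * (x * y ^ j * h ^ j) := by rw [ihj]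
          _ = (h * x) * y ^ j * h ^ j := by group
          _ = x * y * h * y ^ j * h ^ j := by rw [hhx]
          _ = x * y * (h * y ^ j) * h ^ j := by group
          _ = x * y * (y ^ j * h) * h ^ j := by rw [hc.eq]
          _ = x * (y * y ^ j) * (h * h ^ j) := by group
          _ = x * y ^ (j + 1) * h ^ (j + 1) := by rw [← pow_succ', ← pow_succ']
    have hyp : y ^ p = 1 := hXp y (hYX.le hy)
    have h3 := hj p
    rw [hyp, mul_one] at h3
    have h4 : h ^ p = g ^ p ^ (k + 2) := by
      rw [hh, ← pow_mul, ← pow_succ]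
    rw [← h4]
    exact h3.symm

/-- **Main lemma**: `G` solvable of odd order, `P` a normal `p`-subgroup, `E ≤ P` elementary abelian
with `C_P(E)` of `p`-rank at most two.  Then `G'` induces a `p`-group on `P`. -/
theorem exists_pow_mem_centralizer [Finite G] (hs : Group.IsSolvable G) (hodd : Odd (Nat.card G))
    {p : ℕ} [Fact p.Prime] (hp2 : p ≠ 2) (P E : Subgroup G) [P.Normal]
    (hP : IsPGroup p P) (hEP : E ≤ P) (hE : Cfsg.IsElementaryAbelian p E)
    (hr : ∀ A : Subgroup G, A ≤ P → A ≤ centralizer (E : Set G) → Cfsg.IsElementaryAbelian p A →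
      Nat.card A ≤ p ^ 2) {g : G} (hg : g ∈ commutator G) :
    ∃ k : ℕ, g ^ p ^ k ∈ centralizer (P : Set G) := by
  have hp : p.Prime := Fact.out
  obtain ⟨s, hsP, D, hD, hsD⟩ := exists_small_centralizer P E hP hEP hE hr
  obtain ⟨H, hHc, hHp, -, hHa⟩ := Cfsg.Agent.OddOrderLocal.OmegaCritical.exists_omega_critical hp2 hP
  have hUn : (H.map P.subtype).Normal := inferInstance
  obtain ⟨k, hk⟩ := exists_pow_mem_of_exponent hs hodd P hP hsP D hD hsD hg
    (Nat.card (H.map P.subtype)) (H.map P.subtype) hUn (Subgroup.map_subtype_le H) (by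
      rintro _ ⟨x, hx, rfl⟩
      rw [← map_pow, hHp x hx, map_one]) le_rfl
  set h : G := g ^ p ^ k with hh
  set a : MulAut P := MulAut.conjNormal h with ha
  have hfin : Finite (MulAut P) := inferInstance
  obtain ⟨e, m, hm, hem⟩ := Nat.exists_eq_pow_mul_and_not_dvd (orderOf_pos a).ne' p hp.ne_one
  have hord : orderOf (a ^ p ^ e) = m := by
    rw [orderOf_pow_of_dvd (pow_pos hp.pos e).ne' (hem ▸ Dvd.intro _ rfl), hem,
      Nat.mul_div_cancel_left _ (pow_pos hp.pos e)]
  have hcop : (orderOf (a ^ p ^ e)).Coprime p := by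
    rw [hord]
    exact ((Nat.Prime.coprime_iff_not_dvd hp).mpr hm).symm
  have hfix1 : ∀ x ∈ H, a x = x := by
    intro x hx
    apply Subtype.ext
    rw [ha, MulAut.conjNormal_apply]
    have h1 := (Subgroup.mem_centralizer_iff.mp hk) (x : G) ⟨x, hx, rfl⟩
    rw [← h1, mul_inv_cancel_right]
  have hfix : ∀ j : ℕ, ∀ x ∈ H, (a ^ j) x = x := by
    intro j
    induction j with
    | zero => intro x _; rfl
    | succ j ihj =>
      intro x hx
      rw [pow_succ, MulAut.mul_apply, hfix1 x hx, ihj x hx]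
  have hone := hHa (a ^ p ^ e) hcop (hfix _)
  refine ⟨k + e, ?_⟩
  rw [Subgroup.mem_centralizer_iff]
  intro x hx
  have h1 : MulAut.conjNormal (H := P) (h ^ p ^ e) = 1 := by rw [map_pow, ← ha, hone]
  have h2 : (MulAut.conjNormal (H := P) (h ^ p ^ e)) ⟨x, hx⟩ = ⟨x, hx⟩ := by rw [h1]; rfl
  have h3 := congrArg Subtype.val h2
  rw [MulAut.conjNormal_apply] at h3
  have h4 : h ^ p ^ e = g ^ p ^ (k + e) := by rw [hh, ← pow_mul, ← pow_add]
  rw [← h4]
  have h5 : h ^ p ^ e * x * (h ^ p ^ e)⁻¹ = x := h3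
  calc x * h ^ p ^ e = (h ^ p ^ e * x * (h ^ p ^ e)⁻¹) * h ^ p ^ e := by rw [h5]
    _ = h ^ p ^ e * x := by group

end Cfsg.Agent.OddOrderLocal.SmallCent
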