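import Mathlib
import Cfsg.Prelude.Def_OddOrderLocal
import Cfsg.Agent.OddOrderLocal.FittingNonTIMain
import Cfsg.Agent.OddOrderLocal.FittingNonTIExp
import Cfsg.Agent.OddOrderLocal.FittingNonTIK
import Cfsg.Agent.OddOrderLocal.ComplAux

/-!
B&G Theorem 15.7 (the part provable by local analysis): assembly.
-/

set_option autoImplicit false

namespace Cfsg.Agent.OddOrderLocal.FittingNonTI

open Subgroup Cfsg Cfsg.Agent.OddOrderLocal.PiCoreOf Cfsg.Agent.OddOrderLocal.NilpotentPiSplit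
  Cfsg.Agent.OddOrderLocal.MinSimpleBasic Cfsg.Agent.OddOrderLocal.FittingHall
  Cfsg.Agent.OddOrderLocal.Rank Cfsg.Agent.OddOrderLocal.FittingNonTIBasic
  Cfsg.Agent.OddOrderLocal.NilpotentCores Cfsg.Agent.OddOrderLocal.FittingNonTIMain

/-- A subgroup of prime order `q` of the cyclic subgroup `C` normalized by `M`. -/
theorem exists_order_prime_of_cyclic {G : Type*} [Group G] [Finite G] {M C : Subgroup G}
    (hC : IsCyclic C) (hn : M ≤ normalizer (C : Set G)) {q : ℕ} (hq : q.Prime)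
    (hd : q ∣ Nat.card C) : ∃ Z : Subgroup G, Z ≤ C ∧ Nat.card Z = q ∧ M ≤ normalizer (Z : Set G) := by
  obtain ⟨x, hx, hxq⟩ := exists_prime_order hq hd
  have hZC : zpowers x ≤ C := by rwa [zpowers_le]
  refine ⟨zpowers x, hZC, by rw [Nat.card_zpowers, hxq], ?_⟩
  intro m hm
  exact mem_normalizer_iff_map_conj.mpr (CyclicSub.map_conj_eq_of_le_cyclic hC hZC
    (mem_normalizer_iff_map_conj.mp (hn hm)))

/-- The characteristic subgroup `Z = Ω₁(Z(P))` is normalized by the normalizer of `P`. -/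
theorem le_normalizer_of_mem_iff {G : Type*} [Group G] [Finite G] {M P Z : Subgroup G} {p : ℕ}
    (hn : M ≤ normalizer (P : Set G))
    (hZ : ∀ x : G, x ∈ Z ↔ x ∈ P ∧ x ^ p = 1 ∧ ∀ y ∈ P, x * y = y * x) :
    M ≤ normalizer (Z : Set G) := by
  have key : ∀ m ∈ M, ∀ x ∈ Z, m * x * m⁻¹ ∈ Z := by
    intro m hm x hx
    obtain ⟨h1, h2, h3⟩ := (hZ x).mp hx
    have hmn := hn hm
    have hmn' := hn (M.inv_mem hm)
    rw [mem_normalizer_iff] at hmn hmn'
    refine (hZ _).mpr ⟨(hmn x).mp h1, ?_, ?_⟩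
    · rw [conj_pow, h2, mul_one, mul_inv_cancel]
    · intro y hy
      have h4 := h3 (m⁻¹ * y * m) (by simpa using (hmn' y).mp hy)
      have h5 : m * x * m⁻¹ * y = m * (x * (m⁻¹ * y * m)) * m⁻¹ := by group
      rw [h5, h4]
      group
  intro m hm
  rw [mem_normalizer_iff]
  intro x
  constructor
  · exact key m hm x
  · intro hx
    have := key m⁻¹ (M.inv_mem hm) _ hx
    simpa [mul_assoc] using this

/-- `M / M_F` has order `|K|` if `U = 1` and `M_F = M_σ`. -/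
theorem relIndex_eq {G : Type*} [Group G] [Finite G] {M K U : Subgroup G}
    (hKU : IsSigmaDecomposition M K U) (hU : U = ⊥) (hF : fittingHallOf M = sigmaCore M) :
    (fittingHallOf M).relIndex M = Nat.card K := by
  rw [hF]
  exact ComplAux.relIndex_right_of_isComplIn (isComplIn_of_eq_bot hKU hU)

theorem exponent_dvd_card_K {G : Type*} [Group G] [Finite G] {M K U : Subgroup G}
    (hKU : IsSigmaDecomposition M K U) (hU : U = ⊥) (hF : fittingHallOf M = sigmaCore M) :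
    Monoid.exponent (↥M ⧸ fittingHall ↥M) ∣ Nat.card K := by
  rw [← relIndex_eq hKU hU hF, relIndex_fittingHallOf, Subgroup.index_eq_card]
  exact Group.exponent_dvd_nat_card

/-- B&G Theorem 15.7, the part provable by local analysis (compare `S1440`, which has `⁅M, M⁆ = F(M)`). -/
theorem core {G : Type*} [Group G] [Finite G] (hG : Cfsg.IsMinSimpleOddOrder G)
    (M : Subgroup G) (hM : IsCoatom M) (K U : Subgroup G) (hKU : Cfsg.IsSigmaDecomposition M K U) (g : G) (hg : g ∉ M) (hX : Cfsg.fittingOf M ⊓ (Cfsg.fittingOf M).map (MulAut.conj g).toMonoidHom ≠ ⊥) :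
    (Cfsg.fittingOf M ⊓ (Cfsg.fittingOf M).map (MulAut.conj g).toMonoidHom ≤ Cfsg.fittingHallOf M ∧ IsCyclic ↥(Cfsg.fittingOf M ⊓ (Cfsg.fittingOf M).map (MulAut.conj g).toMonoidHom)) ∧
      (⁅M, M⁆ ≤ Cfsg.fittingOf M ∧ Cfsg.fittingOf M = Cfsg.sigmaCore M ⊔ Cfsg.piCoreOf {q | q.Prime ∧ q ∉ Cfsg.sigma M} (Cfsg.fittingOf M)) ∧
      Cfsg.fittingHallOf M = Cfsg.sigmaCore M ∧ (K = ⊥ ∨ U = ⊥) ∧
      ((K = ⊥ ∧ IsMulCommutative (Cfsg.fittingHallOf M) ∧ Cfsg.RankLE 2 (Cfsg.fittingHallOf M) ∧ ¬ Cfsg.RankLE 1 (Cfsg.fittingHallOf M)) ∨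
       (∃ p : ℕ, p.Prime ∧ Nat.card ↥(Cfsg.fittingOf M ⊓ (Cfsg.fittingOf M).map (MulAut.conj g).toMonoidHom) = p ∧ p ∈ Cfsg.sigma M ∧ p ∉ Cfsg.beta M ∧
          ¬ IsMulCommutative (Cfsg.pCore p ↥(Cfsg.fittingHallOf M)) ∧ IsCyclic (Cfsg.pPrimeCore p ↥(Cfsg.fittingHallOf M)) ∧
          ∀ q : ℕ, q.Prime → q ∣ Nat.card (Cfsg.fittingHallOf M) → Monoid.exponent (↥M ⧸ Cfsg.fittingHall ↥M) ∣ q - 1) ∨
       (∃ p : ℕ, p.Prime ∧ Nat.card ↥(Cfsg.fittingOf M ⊓ (Cfsg.fittingOf M).map (MulAut.conj g).toMonoidHom) = p ∧ p ∈ Cfsg.sigma M ∧ p ∉ Cfsg.beta M ∧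
          IsCyclic (Cfsg.pPrimeCore p ↥(Cfsg.fittingHallOf M)) ∧ Nat.card (Cfsg.pCore p ↥(Cfsg.fittingHallOf M)) = p ^ 3 ∧
          ¬ IsMulCommutative (Cfsg.pCore p ↥(Cfsg.fittingHallOf M)) ∧ K ≠ ⊥ ∧ U = ⊥ ∧ (Cfsg.fittingHallOf M).relIndex M ∣ p + 1)) := by
  have hF : fittingHallOf M = sigmaCore M := fittingHallOf_eq_sigmaCore hG hM hg hX hKU
  have hnil : Group.IsNilpotent (sigmaCore M) := sigmaCore_isNilpotent hF
  refine ⟨⟨?_, (interF_facts hG hM hg).1⟩, ⟨commutator_le hG hM hg hX, fittingOf_eq hF⟩, hF,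
    eq_bot_or_eq_bot hG hM hg hX hKU, ?_⟩
  · rw [hF]
    exact interF_le_sigmaCore hG hM hg
  by_cases hab : IsMulCommutative (sigmaCore M)
  · left
    obtain ⟨h1, h2, h3⟩ := abelian_case hG hM hg hX hKU hab
    rw [hF]
    exact ⟨h1, hab, h2, h3⟩
  right
  obtain ⟨p, hp, hXc, hpσ, hpβ, hPna, hCc, Z, B, hZc, hZ, hBP, hBe, hBc, hBmax⟩ :=
    nonabelian_case hG hM hg hX hnil hab
  have hpf := Fact.mk hp
  have hPna' : ¬ IsMulCommutative (pCore p ↥(fittingHallOf M)) := by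
    rw [hF]
    rwa [← isMulCommutative_opOf]
  have hCc' : IsCyclic (pPrimeCore p ↥(fittingHallOf M)) := by
    rw [hF]
    rwa [← isCyclic_oppOf]
  have hMP : M ≤ normalizer (opOf p (sigmaCore M) : Set G) :=
    (le_normalizer_sigmaCore M).trans normalizer_le_normalizer_opOf
  have hMC : M ≤ normalizer (oppOf p (sigmaCore M) : Set G) :=
    (le_normalizer_sigmaCore M).trans normalizer_le_normalizer_oppOf
  by_cases hK : K = ⊥
  · left
    refine ⟨p, hp, hXc, hpσ, hpβ, hPna', hCc', ?_⟩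
    intro q hq hqd
    rw [hF] at hqd
    by_cases hqp : q = p
    · subst hqp
      refine FittingNonTIExp.exponent_dvd_of_K_eq_bot hG M hM K U hKU hK hF q hq Z ?_ hZc
        (le_normalizer_of_mem_iff hMP hZ)
      exact fun x hx => opOf_le ((hZ x).mp hx).1
    · have hqC : q ∣ Nat.card (oppOf p (sigmaCore M)) := by
        rw [← card_mul_card hnil p] at hqd
        rcases (hq.dvd_mul).mp hqd with h | h
        · exfalso
          obtain ⟨n, hn⟩ := (IsPGroup.iff_card).mp (isPGroup_opOf (H := sigmaCore M) (p := p))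
          rw [hn] at h
          exact hqp ((Nat.prime_dvd_prime_iff_eq hq hp).mp (hq.dvd_of_dvd_pow h))
        · exact h
      obtain ⟨Z', hZ'C, hZ'c, hZ'n⟩ := exists_order_prime_of_cyclic hCc hMC hq hqC
      exact FittingNonTIExp.exponent_dvd_of_K_eq_bot hG M hM K U hKU hK hF q hq Z'
        (hZ'C.trans oppOf_le) hZ'c hZ'n
  · have hU : U = ⊥ := (eq_bot_or_eq_bot hG hM hg hX hKU).resolve_left hK
    have hZ0 : closure {x : G | x ∈ opOf p (sigmaCore M) ⊓
        centralizer (opOf p (sigmaCore M) : Set G) ∧ x ^ p = 1} = Z := by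
      have hset : {x : G | x ∈ opOf p (sigmaCore M) ⊓
        centralizer (opOf p (sigmaCore M) : Set G) ∧ x ^ p = 1} = (Z : Set G) := by
        ext x
        rw [SetLike.mem_coe, hZ x]
        constructor
        · rintro ⟨⟨h1, h2⟩, h3⟩
          exact ⟨h1, h3, fun y hy => (mem_centralizer_iff.mp h2 y hy).symm⟩
        · rintro ⟨h1, h2, h3⟩
          exact ⟨⟨h1, mem_centralizer_iff.mpr fun y hy => (h3 y hy).symm⟩, h2⟩
      rw [hset, closure_eq]
    rcases FittingNonTIK.card_K_dvd hG M hM K U hKU hK hU p (opOf p (sigmaCore M))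
      (oppOf p (sigmaCore M)) (sup_eq hnil p) isPGroup_opOf
      (fun a ha b hb => commute_op_opp hnil ha hb) hCc (coprime_oppOf p) hMP hMC hPna
      (by rw [hZ0]; exact hZc) B hBP hBe hBc (fun B' _ h1 h2 => hBmax B' h1 h2) with h | ⟨h1, h2⟩
    · left
      refine ⟨p, hp, hXc, hpσ, hpβ, hPna', hCc', ?_⟩
      intro q hq hqd
      rw [hF] at hqd
      exact (exponent_dvd_card_K hKU hU hF).trans (h q hq hqd)
    · right
      refine ⟨p, hp, hXc, hpσ, hpβ, hCc', ?_, hPna', hK, hU, ?_⟩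
      · rw [hF, ← card_opOf]
        exact h1
      · rw [relIndex_eq hKU hU hF]
        exact h2

end Cfsg.Agent.OddOrderLocal.FittingNonTI
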