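import Mathlib
import Cfsg.Prelude.Def_OddOrderLocal
import Cfsg.Agent.OddOrderLocal.FitAux
import Cfsg.Agent.OddOrderLocal.MinSimple
import Cfsg.Agent.OddOrderLocal.TypeFData
import Cfsg.Agent.S1355
import Cfsg.Agent.S1357
import Cfsg.Agent.S1359
import Cfsg.Agent.S1360

/-!
In a minimal simple group of odd order, a maximal subgroup `M = K U M_σ` with `K = 1` is of Frobenius
type.  (Conditional on S1355, S1357, S1359, S1360.)
-/

set_option autoImplicit false
open Cfsg

namespace Cfsg.Agent.OddOrderLocal.TypeFSigma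

open Subgroup Cfsg.Agent.OddOrderLocal.TypeFData

variable {G : Type*} [Group G]

theorem le_centralizer_singleton {x u : G} : u ∈ Subgroup.centralizer ({x} : Set G) ↔ u * x = x * u := by
  rw [Subgroup.mem_centralizer_iff]
  constructor
  · intro h
    exact (h x rfl).symm
  · intro h y hy
    rw [Set.mem_singleton_iff.mp hy]
    exact h.symm

/-- `K = 1` forces `U ≠ 1`. -/
theorem ne_bot_of_eq_bot [Finite G] (hG : Cfsg.IsMinSimpleOddOrder G)
    {M : Subgroup G} (hM : IsCoatom M) {K U : Subgroup G} (hKU : Cfsg.IsSigmaDecomposition M K U)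
    (hK : K = ⊥) : U ≠ ⊥ := by
  intro hU
  have hS := Cfsg.Agent.S1355.result hG M hM
  have h1 : M ≤ Cfsg.sigmaCore M := by
    intro m hm
    obtain ⟨a, ha, b, hb, rfl⟩ := hKU.compl.2.2.2 m hm
    rw [hU, Subgroup.mem_bot] at ha
    rw [hK, bot_sup_eq] at hb
    rw [ha, one_mul]
    exact hb
  exact absurd (h1.trans hS.2.2.1) (not_le_of_gt hS.2.2.2.1)

/-- `U ≠ 1` forces `M_F = M_σ`. -/
theorem fittingHallOf_eq_sigmaCore [Finite G] (hG : Cfsg.IsMinSimpleOddOrder G)
    {M : Subgroup G} (hM : IsCoatom M) {K U : Subgroup G} (hKU : Cfsg.IsSigmaDecomposition M K U)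
    (hU : U ≠ ⊥) : Cfsg.fittingHallOf M = Cfsg.sigmaCore M := by
  by_contra hne
  exact hU (Cfsg.Agent.S1357.result hG M hM K U hKU hne).1

/-- The elements of `sigmaHat M` are permuted by conjugation in `M`. -/
theorem conj_mem_sigmaHat {M : Subgroup G} {m a : G} (hm : m ∈ M) (ha : a ∈ Cfsg.sigmaHat M) :
    m * a * m⁻¹ ∈ Cfsg.sigmaHat M := by
  obtain ⟨haM, y, hy, hy1, hay⟩ := ha
  refine ⟨M.mul_mem (M.mul_mem hm haM) (M.inv_mem hm), m * y * m⁻¹, ?_, ?_, ?_⟩
  · exact (Subgroup.mem_normalizer_iff.mp (FitAux.le_normalizer_sigmaCore M hm) y).mp hy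
  · intro h
    apply hy1
    have := congrArg (fun z => m⁻¹ * z * m) h
    simpa [mul_assoc] using this
  · calc m * a * m⁻¹ * (m * y * m⁻¹) = m * (a * y) * m⁻¹ := by group
      _ = m * (y * a) * m⁻¹ := by rw [hay]
      _ = m * y * m⁻¹ * (m * a * m⁻¹) := by group

theorem isOfTypeF_of_eq_bot [Finite G] (hG : Cfsg.IsMinSimpleOddOrder G)
    {M : Subgroup G} (hM : IsCoatom M) {K U : Subgroup G} (hKU : Cfsg.IsSigmaDecomposition M K U)
    (hK : K = ⊥) : Cfsg.IsOfTypeF M := by
  have hS := Cfsg.Agent.S1355.result hG M hM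
  have hU := ne_bot_of_eq_bot hG hM hKU hK
  have hF := fittingHallOf_eq_sigmaCore hG hM hKU hU
  have hUM : U ≤ M := hKU.compl.1
  have hcomp : Cfsg.IsComplIn U (Cfsg.sigmaCore M) M := by
    have := hKU.compl
    rwa [hK, bot_sup_eq] at this
  have hmemF : ∀ x : M, x ∈ Cfsg.fittingHall M ↔ (x : G) ∈ Cfsg.sigmaCore M := by
    intro x
    rw [← hF]
    constructor
    · intro hx
      exact Subgroup.mem_map_of_mem _ hx
    · rintro ⟨y, hy, hyx⟩
      have : y = x := Subtype.ext hyx
      rwa [← this]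
  have hmapF : (Cfsg.fittingHall M).map M.subtype = Cfsg.sigmaCore M := hF
  refine ⟨MinSimple.isSolvable hG hM.1, MinSimple.odd_card_subgroup hG M, ?_, ?_, U.subgroupOf M, ?_, ?_, ?_, ?_⟩
  · intro h
    apply hS.1
    unfold Cfsg.fittingHallOf
    rw [h, Subgroup.map_bot]
  · intro h
    have h1 : M ≤ Cfsg.sigmaCore M := by
      intro m hm
      rw [← hmapF, h]
      exact ⟨⟨m, hm⟩, Subgroup.mem_top _, rfl⟩
    exact absurd (h1.trans hS.2.2.1) (not_le_of_gt hS.2.2.2.1)
  · intro h
    apply hU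
    rw [Subgroup.subgroupOf_eq_bot] at h
    exact (disjoint_iff.mp h).symm.trans (inf_eq_left.mpr hUM) |>.symm
  · refine Subgroup.isComplement'_of_card_mul_and_disjoint ?_ ?_
    · have h1 : Nat.card (Cfsg.fittingHall M) = Nat.card (Cfsg.sigmaCore M) := by
        rw [← hmapF]
        exact (Subgroup.card_map_of_injective (Subgroup.subtype_injective M)).symm
      have h2 : Nat.card (U.subgroupOf M) = Nat.card U :=
        Nat.card_congr (Subgroup.subgroupOfEquivOfLe hUM).toEquiv
      rw [h1, h2, mul_comm]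
      exact card_mul_card_of_isComplIn hcomp
    · rw [disjoint_iff, eq_bot_iff]
      rintro x ⟨hx1, hx2⟩
      have h1 : (x : G) ∈ U ⊓ Cfsg.sigmaCore M := ⟨hx2, (hmemF x).mp hx1⟩
      rw [hcomp.2.2.1, Subgroup.mem_bot] at h1
      rw [Subgroup.mem_bot]
      exact Subtype.ext h1
  · -- the abelian normal subgroup
    have hab := Cfsg.Agent.S1359.result hG M hM K U hKU
    set C : Subgroup G := Subgroup.closure ((U : Set G) ∩ Cfsg.sigmaHat M) with hC
    have hCU : C ≤ U := by
      rw [hC, Subgroup.closure_le]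
      exact Set.inter_subset_left
    have hconj : ∀ u ∈ U, ∀ c ∈ C, u * c * u⁻¹ ∈ C := by
      intro u hu c hc
      have h1 : C ≤ C.comap (MulAut.conj u).toMonoidHom := by
        conv_lhs => rw [hC]
        rw [Subgroup.closure_le]
        rintro x ⟨hxU, hx⟩
        refine Subgroup.subset_closure ⟨?_, ?_⟩
        · exact U.mul_mem (U.mul_mem hu hxU) (U.inv_mem hu)
        · exact conj_mem_sigmaHat (hUM hu) hx
      exact h1 hc
    refine ⟨C.subgroupOf M, ?_, ?_, ?_, ?_⟩
    · intro x hx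
      exact hCU hx
    · intro u hu
      rw [Subgroup.mem_normalizer_iff]
      intro x
      constructor
      · intro hx
        exact hconj u hu x hx
      · intro hx
        have h1 := hconj (u : G)⁻¹ (U.inv_mem hu) _ hx
        have h2 : (u : G)⁻¹ * ((u : G) * (x : G) * (u : G)⁻¹) * ((u : G)⁻¹)⁻¹ = (x : G) := by group
        have h3 : (x : G) ∈ C := by
          rw [← h2]
          exact h1
        exact h3
    · refine ⟨⟨fun a b => ?_⟩⟩
      apply Subtype.ext
      apply Subtype.ext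
      have h1 := hab.is_comm.comm (⟨_, a.2⟩ : C) (⟨_, b.2⟩ : C)
      exact congrArg (fun z : C => (z : G)) h1
    · intro x hx hx1 u hu
      obtain ⟨huU, huc⟩ := hu
      refine Subgroup.subset_closure ⟨huU, u.2, (x : G), (hmemF x).mp hx, ?_, ?_⟩
      · intro h
        exact hx1 (Subtype.ext h)
      · exact congrArg Subtype.val (le_centralizer_singleton.mp huc)
  · obtain ⟨U₀, hU₀, hexp, hfree⟩ := Cfsg.Agent.S1360.result hG M hM K U hKU
    refine ⟨U₀.subgroupOf M, ?_, ?_, ?_⟩
    · intro x hx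
      exact hU₀ hx
    · rw [Monoid.exponent_eq_of_mulEquiv (Subgroup.subgroupOfEquivOfLe (hU₀.trans hUM)),
        Monoid.exponent_eq_of_mulEquiv (Subgroup.subgroupOfEquivOfLe hUM)]
      exact hexp
    · intro u hu hu1 x hx hux
      by_contra hx1
      apply hu1
      apply Subtype.ext
      refine hfree u hu ⟨u.2, x, (hmemF x).mp hx, ?_, ?_⟩
      · intro h
        exact hx1 (Subtype.ext h)
      · exact congrArg Subtype.val hux

end Cfsg.Agent.OddOrderLocal.TypeFSigma
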