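import Mathlib
import Cfsg.Prelude.Def_OddOrderLocal
import Cfsg.Agent.OddOrderLocal.FitAux

set_option autoImplicit false
open Cfsg
open scoped commutatorElement

/-!
Small general lemmas: commutators centralize cyclic normalized subgroups, central Hall subgroups meet
the derived subgroup trivially, complements of normal Hall subgroups in the `IsComplIn` form.
-/

namespace Cfsg.Agent.OddOrderLocal.CyclicCore

universe u
variable {G : Type u} [Group G]

/-- If `M` normalizes the cyclic subgroup `H`, then `⁅M, M⁆` centralizes `H`. -/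
theorem commutator_le_centralizer_of_isCyclic {M H : Subgroup G}
    (hn : M ≤ Subgroup.normalizer (H : Set G)) (hc : IsCyclic H) :
    ⁅M, M⁆ ≤ Subgroup.centralizer (H : Set G) := by
  obtain ⟨⟨g, hg⟩, hgen⟩ := hc.exists_generator
  have key : ∀ m ∈ M, ∃ a : ℤ, m * g * m⁻¹ = g ^ a := by
    intro m hm
    have h1 : m * g * m⁻¹ ∈ H := (Subgroup.mem_normalizer_iff.mp (hn hm) g).mp hg
    obtain ⟨a, ha⟩ := Subgroup.mem_zpowers_iff.mp (hgen ⟨_, h1⟩)
    refine ⟨a, ?_⟩
    have := congrArg Subtype.val ha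
    simpa using this.symm
  have hcent : ∀ x : G, x * g = g * x → x ∈ Subgroup.centralizer (H : Set G) := by
    intro x hx
    rw [Subgroup.mem_centralizer_iff]
    intro h hh
    obtain ⟨a, ha⟩ := Subgroup.mem_zpowers_iff.mp (hgen ⟨h, hh⟩)
    have h2 : g ^ a = h := by
      have := congrArg Subtype.val ha
      simpa using this
    rw [← h2]
    have hx' : Commute g x := hx.symm
    exact (hx'.zpow_left a).eq
  rw [Subgroup.commutator_le]
  intro m hm n hn'
  apply hcent
  obtain ⟨a, ha⟩ := key m hm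
  obtain ⟨b, hb⟩ := key n hn'
  have hma : ∀ k : ℤ, m * g ^ k * m⁻¹ = g ^ (a * k) := by
    intro k
    have : m * g ^ k * m⁻¹ = (m * g * m⁻¹) ^ k := by
      rw [conj_zpow]
    rw [this, ha, ← zpow_mul]
  have hnb : ∀ k : ℤ, n * g ^ k * n⁻¹ = g ^ (b * k) := by
    intro k
    have : n * g ^ k * n⁻¹ = (n * g * n⁻¹) ^ k := by
      rw [conj_zpow]
    rw [this, hb, ← zpow_mul]
  have hmn : (m * n) * g * (m * n)⁻¹ = (n * m) * g * (n * m)⁻¹ := by
    have e1 : (m * n) * g * (m * n)⁻¹ = m * (n * g * n⁻¹) * m⁻¹ := by group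
    have e2 : (n * m) * g * (n * m)⁻¹ = n * (m * g * m⁻¹) * n⁻¹ := by group
    rw [e1, e2, ha, hb, hma, hnb, mul_comm]
  -- now [m,n] = m n m⁻¹ n⁻¹ commutes with g: conjugate the relation
  have hcomm : ⁅m, n⁆ = (m * n) * (n * m)⁻¹ := by
    rw [commutatorElement_def]; group
  rw [hcomm]
  -- (mn)(nm)⁻¹ g = g (mn)(nm)⁻¹
  -- use the relation for the element g' = (nm) g (nm)⁻¹ which generates H as well
  -- write g = (nm) y (nm)⁻¹ with y ∈ H, y = g ^ j
  have hy : (n * m)⁻¹ * g * (n * m) ∈ H := by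
    have h3 : (n * m)⁻¹ ∈ Subgroup.normalizer (H : Set G) :=
      inv_mem (mul_mem (hn hn') (hn hm))
    have := (Subgroup.mem_normalizer_iff.mp h3 g).mp hg
    simpa using this
  obtain ⟨j, hj⟩ := Subgroup.mem_zpowers_iff.mp (hgen ⟨_, hy⟩)
  have hj' : g ^ j = (n * m)⁻¹ * g * (n * m) := by
    have := congrArg Subtype.val hj
    simpa using this
  have hpow : (m * n) * g ^ j * (m * n)⁻¹ = (n * m) * g ^ j * (n * m)⁻¹ := by
    rw [← conj_zpow, ← conj_zpow, hmn]
  have hg2 : (n * m) * g ^ j * (n * m)⁻¹ = g := by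
    rw [hj']; group
  have hg3 : (m * n) * ((n * m)⁻¹ * g * (n * m)) * (m * n)⁻¹ = g := by
    rw [← hj', hpow, hg2]
  calc (m * n) * (n * m)⁻¹ * g
      = ((m * n) * ((n * m)⁻¹ * g * (n * m)) * (m * n)⁻¹) * ((m * n) * (n * m)⁻¹) := by group
    _ = g * ((m * n) * (n * m)⁻¹) := by rw [hg3]

/-- A central Hall subgroup meets the derived subgroup trivially. -/
theorem inf_commutator_eq_bot_of_central_hall {X : Type u} [Group X] [Finite X] {H : Subgroup X}
    (hz : H ≤ Subgroup.center X) (hco : (Nat.card H).Coprime H.index) :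
    H ⊓ commutator X = ⊥ := by
  rw [eq_bot_iff]
  rintro h ⟨hh, hc⟩
  rw [Subgroup.mem_bot]
  have h1 : MonoidHom.transferCenterPow X h = 1 := by
    have hker : commutator X ≤ (MonoidHom.transferCenterPow X).ker := by
      rw [commutator_def, Subgroup.commutator_le]
      intro a _ b _
      have hab : Commute (MonoidHom.transferCenterPow X a) (MonoidHom.transferCenterPow X b) := by
        apply Subtype.ext
        exact (Subgroup.mem_center_iff.mp (MonoidHom.transferCenterPow X b).2 _)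
      rw [MonoidHom.mem_ker, map_commutatorElement]
      exact commutatorElement_eq_one_iff_commute.mpr hab
    exact hker hc
  have h2 : h ^ (Subgroup.center X).index = 1 := by
    have := congrArg Subtype.val h1
    simpa [MonoidHom.transferCenterPow_apply] using this
  have h3 : h ^ Nat.card H = 1 := by
    have := pow_card_eq_one' (x := (⟨h, hh⟩ : H))
    exact congrArg Subtype.val this
  have h4 : orderOf h ∣ (Subgroup.center X).index := orderOf_dvd_of_pow_eq_one h2
  have h5 : orderOf h ∣ Nat.card H := orderOf_dvd_of_pow_eq_one h3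
  have h6 : (Subgroup.center X).index ∣ H.index := Subgroup.index_dvd_of_le hz
  have h7 : orderOf h ∣ 1 := by
    have := Nat.dvd_gcd h5 (h4.trans h6)
    rwa [hco] at this
  exact orderOf_eq_one_iff.mp (Nat.dvd_one.mp h7)

/-- Subgroup form of `inf_commutator_eq_bot_of_central_hall`. -/
theorem inf_commutator_eq_bot [Finite G] {H M : Subgroup G} (hHM : H ≤ M)
    (hz : M ≤ Subgroup.centralizer (H : Set G)) (hco : (Nat.card H).Coprime (H.relIndex M)) :
    H ⊓ ⁅M, M⁆ = ⊥ := by
  have h1 : H.subgroupOf M ≤ Subgroup.center M := by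
    intro x hx
    rw [Subgroup.mem_subgroupOf] at hx
    rw [Subgroup.mem_center_iff]
    intro y
    apply Subtype.ext
    have := Subgroup.mem_centralizer_iff.mp (hz y.2) x hx
    exact this.symm
  have h2 : (Nat.card (H.subgroupOf M)).Coprime (H.subgroupOf M).index := by
    have : Nat.card (H.subgroupOf M) = Nat.card H :=
      Nat.card_congr (Subgroup.subgroupOfEquivOfLe hHM).toEquiv
    rw [this]; exact hco
  have h3 := inf_commutator_eq_bot_of_central_hall h1 h2
  rw [eq_bot_iff]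
  rintro h ⟨hh, hc⟩
  have hc' : h ∈ (commutator M).map M.subtype := by
    rw [commutator_def, Subgroup.map_commutator]
    simpa [← MonoidHom.range_eq_map] using hc
  obtain ⟨y, hy, rfl⟩ := hc'
  have : y ∈ H.subgroupOf M ⊓ commutator M := ⟨hh, hy⟩
  rw [h3, Subgroup.mem_bot] at this
  simp [this]

/-- A `p`-element of `H` lies in a normalized `Q` of index prime to `p` in `H`. -/
theorem mem_of_not_dvd_relIndex [Finite G] {p : ℕ} (hp : p.Prime) {Q H : Subgroup G}
    (hn : H ≤ Subgroup.normalizer (Q : Set G)) (hidx : ¬ p ∣ Q.relIndex H) {x : G} (hx : x ∈ H)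
    {k : ℕ} (hxp : orderOf x ∣ p ^ k) : x ∈ Q := by
  have hnor : (Q.subgroupOf H).Normal := Subgroup.normal_subgroupOf_of_le_normalizer hn
  have h1 : (⟨x, hx⟩ : H) ^ (Q.subgroupOf H).index ∈ Q.subgroupOf H := Subgroup.pow_index_mem _ _
  have h2 : x ^ Q.relIndex H ∈ Q := h1
  have hco : (Q.relIndex H).Coprime (orderOf x) := by
    apply Nat.Coprime.coprime_dvd_right hxp
    apply Nat.Coprime.pow_right
    exact ((Nat.Prime.coprime_iff_not_dvd hp).mpr hidx).symm
  have h3 : x ∈ Subgroup.zpowers (x ^ Q.relIndex H) := by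
    rw [mem_zpowers_pow_iff]
    exact hco
  have h4 : Subgroup.zpowers (x ^ Q.relIndex H) ≤ Q := by
    rw [Subgroup.zpowers_le]; exact h2
  exact h4 h3

/-- In a cyclic group `Q`, a subgroup containing all `q`-th powers has index at most `q`. -/
theorem card_le_of_isCyclic_of_pow_mem [Finite G] {q : ℕ} (hq : 0 < q) {Q Q₀ : Subgroup G} (hc : IsCyclic Q)
    (hpow : ∀ a ∈ Q, a ^ q ∈ Q₀) : Nat.card Q ≤ Nat.card Q₀ * q := by
  obtain ⟨⟨g, hg⟩, hgen⟩ := hc.exists_generator
  have hQ : Nat.card Q = orderOf g := by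
    rw [← Subgroup.orderOf_mk g hg]
    exact (orderOf_eq_card_of_forall_mem_zpowers hgen).symm
  have h1 : orderOf (g ^ q) ≤ Nat.card Q₀ := by
    have h2 : Subgroup.zpowers (g ^ q) ≤ Q₀ := by
      rw [Subgroup.zpowers_le]; exact hpow g hg
    calc orderOf (g ^ q) = Nat.card (Subgroup.zpowers (g ^ q)) := (Nat.card_zpowers _).symm
      _ ≤ Nat.card Q₀ := Nat.le_of_dvd Nat.card_pos (Subgroup.card_dvd_of_le h2)
  have h2 : orderOf g ≤ orderOf (g ^ q) * q := by
    apply Nat.le_of_dvd
    · exact Nat.mul_pos (orderOf_pos _) hq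
    · apply orderOf_dvd_of_pow_eq_one
      rw [mul_comm, pow_mul, pow_orderOf_eq_one]
  calc Nat.card Q = orderOf g := hQ
    _ ≤ orderOf (g ^ q) * q := h2
    _ ≤ Nat.card Q₀ * q := Nat.mul_le_mul_right _ h1

/-- Schur–Zassenhaus inside a subgroup, in the `IsComplIn` form. -/
theorem exists_isComplIn [Finite G] {Q H : Subgroup G} (hQH : Q ≤ H)
    (hn : H ≤ Subgroup.normalizer (Q : Set G)) (hco : (Nat.card Q).Coprime (Q.relIndex H)) :
    ∃ D : Subgroup G, IsComplIn Q D H := by
  have hnor : (Q.subgroupOf H).Normal := Subgroup.normal_subgroupOf_of_le_normalizer hn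
  have h2 : (Nat.card (Q.subgroupOf H)).Coprime (Q.subgroupOf H).index := by
    have : Nat.card (Q.subgroupOf H) = Nat.card Q :=
      Nat.card_congr (Subgroup.subgroupOfEquivOfLe hQH).toEquiv
    rw [this]; exact hco
  obtain ⟨D, hD⟩ := Subgroup.exists_right_complement'_of_coprime h2
  refine ⟨D.map H.subtype, hQH, Subgroup.map_subtype_le _, ?_, ?_⟩
  · rw [eq_bot_iff]
    rintro x ⟨hx, ⟨y, hy, rfl⟩⟩
    have h3 : y ∈ Q.subgroupOf H ⊓ D := ⟨hx, hy⟩
    rw [hD.disjoint.eq_bot, Subgroup.mem_bot] at h3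
    simp [h3]
  · intro m hm
    have h4 : (⟨m, hm⟩ : H) ∈ Q.subgroupOf H ⊔ D := by
      rw [hD.sup_eq_top]; trivial
    rw [← SetLike.mem_coe, Subgroup.normal_mul] at h4
    obtain ⟨a, ha, b, hb, hab⟩ := h4
    refine ⟨a, ha, b, ⟨b, hb, rfl⟩, ?_⟩
    have := congrArg Subtype.val hab
    simpa using this.symm

end Cfsg.Agent.OddOrderLocal.CyclicCore
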