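import Mathlib
import Cfsg.Prelude.Def_OddOrderLocal
import Cfsg.Agent.S1350
import Cfsg.Agent.S1415
import Cfsg.Agent.S1430
import Cfsg.Agent.OddOrderLocal.SigmaElements
import Cfsg.Agent.OddOrderLocal.HallPi
import Cfsg.Agent.OddOrderLocal.PiCoreOf
import Cfsg.Agent.OddOrderLocal.RankOneCyclic
import Cfsg.Agent.OddOrderLocal.MinSimple
import Cfsg.Agent.OddOrderLocal.CyclicSub

set_option autoImplicit false

/-!
`κ(M) = τ₁(M)` when the Hall `κ(M)`-subgroup `K` is cyclic and non-trivial.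
-/

namespace Cfsg.Agent.OddOrderLocal.KappaTau1

open Cfsg

universe u

variable {G : Type u} [Group G] [Finite G]

set_option linter.unusedSectionVars false

/-- The primes of `κ(M)` have `p`-rank at most one in `M`. -/
theorem pRankLE_one_of_mem_kappa {M : Subgroup G} {p : ℕ} (hp : p ∈ kappa M) : PRankLE p 1 M := by
  obtain ⟨hpp, -, -, h⟩ := hp
  have : Fact p.Prime := ⟨hpp⟩
  obtain ⟨P⟩ : Nonempty (Sylow p M) := inferInstance
  exact (Rank.pRankLE_sylow P).mp (RankOneCyclic.pRankLE_one_of_isCyclic (h P).1)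

/-- A normal subgroup of `E` whose prime divisors lie in `π` lies in every Hall `π`-subgroup of `E`. -/
theorem le_of_isPiHallOf_of_normal {π : Set ℕ} {E K X : Subgroup G} (hE : Group.IsSolvable E)
    (hK : IsPiHallOf π K E) (hXE : X ≤ E) (hX : ∀ p : ℕ, p.Prime → p ∣ Nat.card X → p ∈ π)
    (hn : E ≤ Subgroup.normalizer (X : Set G)) : X ≤ K := by
  obtain ⟨m, hm, hle⟩ := HallPi.exists_conj_le_of_isPiHallOf hE hK hXE hX
  have : X.map (MulAut.conj m).toMonoidHom = X :=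
    Subgroup.mem_normalizer_iff_map_conj_eq.mp (hn hm)
  rwa [this] at hle

/-- If `M` has a nontrivial cyclic Hall `κ(M)`-subgroup then `κ(M) = τ₁(M)`. -/
theorem kappa_eq_tau1 (hG : IsMinSimpleOddOrder G) {M : Subgroup G} (hM : IsCoatom M)
    {K : Subgroup G} (hKc : IsCyclic K) (hK : IsPiHallOf (kappa M) K M) (hK1 : K ≠ ⊥) :
    kappa M = tau1 M := by
  have hMsol : Group.IsSolvable M := MinSimple.isSolvable hG hM.1
  obtain ⟨hHall, -, -⟩ := S1350.result hG M hM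
  have hKM : K ≤ M := hK.1
  -- `K` is a `σ'`-group, contained in a complement `E` of `M_σ`
  have hKσ : ∀ p : ℕ, p.Prime → p ∣ Nat.card K → p ∉ sigma M :=
    fun p hp hd => (hK.2.1 p hp hd).2.2.1
  obtain ⟨E, hE, hKE⟩ := HallPi.exists_isComplIn_ge hMsol hHall hKM hKσ
  have hEsol : Group.IsSolvable E := by
    have hle : E ≤ M := hE.1
    exact MinSimple.isSolvable hG (fun h => hM.1 (top_le_iff.mp (h ▸ hle)))
  have hEhall := (HallPi.isPiHallOf_compl_iff hHall).mp hE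
  obtain ⟨-, h15a, h15b⟩ := S1415.result hG M hM E hE
  obtain ⟨-, -, h30⟩ := S1430.result hG M hM K hK hK1
  have hKEhall : IsPiHallOf (kappa M) K E := HallPi.isPiHallOf_mono hK hKE hE.1
  have hNσ : K ≤ Subgroup.normalizer (sigmaCore M : Set G) :=
    hKM.trans (SigmaElements.le_normalizer_sigmaCore M)
  have hcardsup : ∀ Y : Subgroup G, Y ≤ K ⊔ (sigmaCore M ⊓ Subgroup.centralizer (K : Set G)) →
      Nat.card Y ∣ Nat.card K * Nat.card (sigmaCore M) := by
    intro Y hY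
    refine (Subgroup.card_dvd_of_le (hY.trans (sup_le_sup_left inf_le_left K))).trans ?_
    exact PiCoreOf.card_sup_dvd_of_le_normalizer hNσ
  have h1 : kappa M ⊆ tau1 M := by
    intro p hp
    have hrank := pRankLE_one_of_mem_kappa hp
    refine ⟨hp.1, hp.2.2.1, hp.2.1, ?_, hrank⟩
    intro hpd
    have : Fact p.Prime := ⟨hp.1⟩
    have hp3 : p ∈ tau3 M := ⟨hp.1, hp.2.2.1, hpd, hrank⟩
    obtain ⟨E₃, hE₃⟩ := HallPi.exists_isPiHallOf hEsol (tau3 M)
    obtain ⟨hE₃c, hE₃E', hE₃n⟩ := h15b E₃ hE₃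
    have hpE : p ∣ Nat.card E := HallPi.prime_dvd_card hEhall hp.1 ⟨hp.1, hp.2.2.1⟩ hp.2.1
    have hpE₃ : p ∣ Nat.card E₃ := HallPi.prime_dvd_card hE₃ hp.1 hp3 hpE
    -- the subgroup of order `p` of `E₃`
    obtain ⟨x, hx⟩ := exists_prime_orderOf_dvd_card' p hpE₃
    set X : Subgroup G := (Subgroup.zpowers x).map E₃.subtype with hX
    have hXcard : Nat.card X = p := by
      rw [hX, Subgroup.card_subtype, Nat.card_zpowers, hx]
    have hXE₃ : X ≤ E₃ := Subgroup.map_subtype_le _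
    have hXE : X ≤ E := hXE₃.trans hE₃.1
    have hXn : E ≤ Subgroup.normalizer (X : Set G) := by
      intro e he
      rw [Subgroup.mem_normalizer_iff_map_conj_eq]
      exact CyclicSub.map_conj_eq_of_le_cyclic hE₃c hXE₃
        (Subgroup.mem_normalizer_iff_map_conj_eq.mp (hE₃n he))
    have hXK : X ≤ K := by
      refine le_of_isPiHallOf_of_normal hEsol hKEhall hXE ?_ hXn
      intro q hq hqd
      rw [hXcard] at hqd
      rwa [(Nat.prime_dvd_prime_iff_eq hq hp.1).mp hqd]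
    obtain ⟨hNX, -, -⟩ := h30 X hXK (hXcard ▸ hp.1)
    have hEsup : E ≤ K ⊔ (sigmaCore M ⊓ Subgroup.centralizer (K : Set G)) := by
      rw [← hNX]; exact le_inf hE.1 hXn
    have hcop : (Nat.card E).Coprime (Nat.card (sigmaCore M)) :=
      (HallPi.coprime_of_pi hHall.2.1 (fun q hq hd => (hEhall.2.1 q hq hd).2)).symm
    have hEK : Nat.card E ∣ Nat.card K := hcop.dvd_of_dvd_mul_right (hcardsup E hEsup)
    have hEeq : K = E := Subgroup.eq_of_le_of_card_ge hKE (Nat.le_of_dvd Nat.card_pos hEK)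
    -- `E` is cyclic, so `E' = 1`
    have hE'bot : ⁅E, E⁆ = ⊥ := by
      rw [← hEeq, Subgroup.commutator_eq_bot_iff_le_centralizer]
      intro a ha
      rw [Subgroup.mem_centralizer_iff]
      intro b hb
      obtain ⟨g, hg⟩ := hKc.exists_generator
      obtain ⟨i, hi⟩ := Subgroup.mem_zpowers_iff.mp (hg ⟨a, ha⟩)
      obtain ⟨j, hj⟩ := Subgroup.mem_zpowers_iff.mp (hg ⟨b, hb⟩)
      have hab : (⟨b, hb⟩ : K) * ⟨a, ha⟩ = ⟨a, ha⟩ * ⟨b, hb⟩ := by
        rw [← hi, ← hj, ← zpow_add, ← zpow_add, add_comm]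
      exact congrArg Subtype.val hab
    rw [hE'bot] at hE₃E'
    have : Nat.card E₃ = 1 := Subgroup.card_eq_one.mpr (le_bot_iff.mp hE₃E')
    rw [this] at hpE₃
    exact hp.1.one_lt.ne' (Nat.dvd_one.mp hpE₃)
  refine Set.Subset.antisymm h1 ?_
  intro p hp
  have : Fact p.Prime := ⟨hp.1⟩
  have hKτ : ∀ q : ℕ, q.Prime → q ∣ Nat.card K → q ∈ tau1 M :=
    fun q hq hd => h1 (hK.2.1 q hq hd)
  obtain ⟨E₁, hE₁, hKE₁⟩ := HallPi.exists_isPiHallOf_ge hEsol (tau1 M) hKE hKτ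
  have hE₁c := h15a E₁ hE₁
  have hpE : p ∣ Nat.card E := HallPi.prime_dvd_card hEhall hp.1 ⟨hp.1, hp.2.1⟩ hp.2.2.1
  have hpE₁ : p ∣ Nat.card E₁ := HallPi.prime_dvd_card hE₁ hp.1 hp hpE
  obtain ⟨x, hx⟩ := exists_prime_orderOf_dvd_card' p hpE₁
  have hxM : (x : G) ∈ M := hE.1 (hE₁.1 x.2)
  have hxC : (x : G) ∈ Subgroup.normalizer (K : Set G) := by
    apply Subgroup.centralizer_le_normalizer
    rw [Subgroup.mem_centralizer_iff]
    intro b hb
    obtain ⟨g, hg⟩ := hE₁c.exists_generator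
    obtain ⟨i, hi⟩ := Subgroup.mem_zpowers_iff.mp (hg x)
    obtain ⟨j, hj⟩ := Subgroup.mem_zpowers_iff.mp (hg ⟨b, hKE₁ hb⟩)
    have hab : (⟨b, hKE₁ hb⟩ : E₁) * x = x * ⟨b, hKE₁ hb⟩ := by
      rw [← hi, ← hj, ← zpow_add, ← zpow_add, add_comm]
    exact congrArg Subtype.val hab
  -- pick a subgroup of prime order of `K`
  have hcard : Nat.card K ≠ 1 := fun h => hK1 (Subgroup.card_eq_one.mp h)
  obtain ⟨q, hq, hqK⟩ := Nat.exists_prime_and_dvd hcard
  have : Fact q.Prime := ⟨hq⟩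
  obtain ⟨z, hz⟩ := exists_prime_orderOf_dvd_card' q hqK
  obtain ⟨-, hNK, -⟩ := h30 ((Subgroup.zpowers z).map K.subtype) (Subgroup.map_subtype_le _)
    (by rw [Subgroup.card_subtype, Nat.card_zpowers, hz]; exact hq)
  have hxsup : (x : G) ∈ K ⊔ (sigmaCore M ⊓ Subgroup.centralizer (K : Set G)) := by
    rw [← hNK]; exact ⟨hxM, hxC⟩
  have hord : orderOf (x : G) = p := by rw [Subgroup.orderOf_coe, hx]
  have hdvd : p ∣ Nat.card K * Nat.card (sigmaCore M) := by
    have := hcardsup (Subgroup.zpowers (x : G)) (by rwa [Subgroup.zpowers_le])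
    rwa [Nat.card_zpowers, hord] at this
  rcases (hp.1.dvd_mul).mp hdvd with h | h
  · exact hK.2.1 p hp.1 h
  · exact absurd (hHall.2.1 p hp.1 h) hp.2.1

end Cfsg.Agent.OddOrderLocal.KappaTau1
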