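import Mathlib
import Cfsg.Prelude.Def_OddOrderLocal
import Cfsg.Agent.S1350
import Cfsg.Agent.S1378
import Cfsg.Agent.S1431
import Cfsg.Agent.OddOrderLocal.SigmaElements
import Cfsg.Agent.OddOrderLocal.HallPi
import Cfsg.Agent.OddOrderLocal.MinSimple
import Cfsg.Agent.OddOrderLocal.Equivariance
import Cfsg.Agent.OddOrderLocal.TICount

set_option autoImplicit false

/-!
Facts on a pair `M`, `M*` of maximal subgroups with `K* = C_{M_σ}(K)`, `K = C_{M*_σ}(K*)`, `K` a Hall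
`κ(M)`-subgroup of `M` and `K*` a Hall `κ(M*)`-subgroup of `M*`.
-/

namespace Cfsg.Agent.OddOrderLocal.PartnerPair

open Cfsg

universe u

variable {G : Type u} [Group G]

/-- If `x, y` commute and have coprime orders, both are powers of `x * y`. -/
theorem exists_pow_eq_left {x y : G} (hxy : Commute x y) (hcop : (orderOf x).Coprime (orderOf y)) :
    ∃ e : ℕ, (x * y) ^ e = x := by
  obtain ⟨e, he1, he0⟩ := Nat.chineseRemainder hcop 1 0
  refine ⟨e, ?_⟩
  have hx : x ^ e = x := by simpa using (pow_eq_pow_iff_modEq (x := x)).mpr he1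
  have hy : y ^ e = 1 := by simpa using (pow_eq_pow_iff_modEq (x := y)).mpr he0
  rw [hxy.mul_pow, hx, hy, mul_one]

theorem exists_pow_eq_right {x y : G} (hxy : Commute x y) (hcop : (orderOf x).Coprime (orderOf y)) :
    ∃ e : ℕ, (x * y) ^ e = y := by
  rw [hxy.eq]
  exact exists_pow_eq_left hxy.symm hcop.symm

/-- `A ∩ B = 1` and `A`, `B` commute: elements of `A ⊔ B` are products. -/
theorem exists_mul_of_mem_sup {A B : Subgroup G} (h : B ≤ Subgroup.centralizer (A : Set G)) {z : G}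
    (hz : z ∈ A ⊔ B) : ∃ a ∈ A, ∃ b ∈ B, z = a * b := by
  have hn : A ≤ Subgroup.normalizer (B : Set G) := by
    rw [Subgroup.le_normalizer_iff]
    intro a ha b hb
    have := Subgroup.mem_centralizer_iff.mp (h hb) a ha
    rw [this, mul_inv_cancel_right]
    exact hb
  have hz' : z ∈ ((A ⊔ B : Subgroup G) : Set G) := hz
  rw [Subgroup.coe_mul_of_left_le_normalizer_right A B hn] at hz'
  obtain ⟨a, ha, b, hb, hab⟩ := hz'
  exact ⟨a, ha, b, hb, hab.symm⟩

theorem card_sup_of_centralizer [Finite G] {A B : Subgroup G}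
    (h : B ≤ Subgroup.centralizer (A : Set G)) (hAB : A ⊓ B = ⊥) :
    Nat.card ↥(A ⊔ B) = Nat.card A * Nat.card B :=
  (HallPi.isComplIn_card ⟨le_sup_left, le_sup_right, hAB, fun _ hm => exists_mul_of_mem_sup h hm⟩).symm

/-- The number of elements of `A ⊔ B` outside `A ∪ B`. -/
theorem ncard_hat [Finite G] {A B : Subgroup G}
    (h : B ≤ Subgroup.centralizer (A : Set G)) (hAB : A ⊓ B = ⊥) (hA1 : A ≠ ⊥) (hB1 : B ≠ ⊥) :
    Set.ncard (((A ⊔ B : Subgroup G) : Set G) \ ((A : Set G) ∪ (B : Set G))) =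
      Nat.card A * Nat.card B - Nat.card A - Nat.card B + 1 := by
  have hsub : ((A : Set G) ∪ (B : Set G)) ⊆ ((A ⊔ B : Subgroup G) : Set G) :=
    Set.union_subset (SetLike.coe_subset_coe.mpr le_sup_left) (SetLike.coe_subset_coe.mpr le_sup_right)
  have h1 : Set.ncard (((A ⊔ B : Subgroup G) : Set G) \ ((A : Set G) ∪ (B : Set G))) =
      Set.ncard ((A ⊔ B : Subgroup G) : Set G) - Set.ncard ((A : Set G) ∪ (B : Set G)) :=
    Set.ncard_sdiff hsub (Set.toFinite _)
  have h2 : Set.ncard ((A : Set G) ∪ (B : Set G)) + Set.ncard ((A : Set G) ∩ (B : Set G)) =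
      Set.ncard (A : Set G) + Set.ncard (B : Set G) :=
    Set.ncard_union_add_ncard_inter _ _ (Set.toFinite _) (Set.toFinite _)
  have h3 : ((A : Set G) ∩ (B : Set G)) = {1} := by
    rw [← Subgroup.coe_inf, hAB, Subgroup.coe_bot]
  have hA : Set.ncard (A : Set G) = Nat.card A := rfl
  have hB : Set.ncard (B : Set G) = Nat.card B := rfl
  have hZ : Set.ncard ((A ⊔ B : Subgroup G) : Set G) = Nat.card ↥(A ⊔ B) := rfl
  rw [h3, Set.ncard_singleton, hA, hB] at h2
  rw [h1, hZ, card_sup_of_centralizer h hAB]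
  have hposA : 1 < Nat.card A := (Subgroup.one_lt_card_iff_ne_bot A).mpr hA1
  have hposB : 1 < Nat.card B := (Subgroup.one_lt_card_iff_ne_bot B).mpr hB1
  have hmul : Nat.card A + Nat.card B ≤ Nat.card A * Nat.card B := by
    obtain ⟨a, ha⟩ := Nat.exists_eq_add_of_le hposA
    obtain ⟨b, hb⟩ := Nat.exists_eq_add_of_le hposB
    rw [ha, hb]
    nlinarith [Nat.zero_le (a * b), Nat.zero_le a, Nat.zero_le b]
  omega

variable [Finite G]

/-- `σ(M)` and `σ(M*)` are disjoint. -/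
theorem sigma_disjoint (hG : IsMinSimpleOddOrder G) {M Mstar : Subgroup G} (hM : IsCoatom M)
    (hMs : IsCoatom Mstar) {K : Subgroup G} (hK : IsPiHallOf (kappa M) K M) (hK1 : K ≠ ⊥)
    (hKMs : K ≤ sigmaCore Mstar) : ∀ p ∈ sigma M, p ∉ sigma Mstar := by
  intro p hp hp'
  obtain ⟨g, hg⟩ := (S1378.result hG).2 M Mstar hM hMs ⟨p, hp, hp'⟩
  have hσ : sigma Mstar = sigma M := by
    rw [hg]; exact Equivariance.sigma_map (MulAut.conj g) M
  have hcard : Nat.card K ≠ 1 := fun h => hK1 (Subgroup.card_eq_one.mp h)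
  obtain ⟨q, hq, hqK⟩ := Nat.exists_prime_and_dvd hcard
  have h1 := (hK.2.1 q hq hqK).2.2.1
  have h2 : q ∈ sigma Mstar :=
    SigmaElements.mem_sigma_of_dvd_card_sigmaCore hq (hqK.trans (Subgroup.card_dvd_of_le hKMs))
  exact h1 (hσ ▸ h2)

/-- `M_σ ∩ M* = K*`. -/
theorem sigmaCore_inf {M Mstar K Ks : Subgroup G} (hdis : ∀ p ∈ sigma M, p ∉ sigma Mstar)
    (hKM : K ≤ M) (hKMs : K ≤ sigmaCore Mstar)
    (hKs : Ks = sigmaCore M ⊓ Subgroup.centralizer (K : Set G)) (hKsM : Ks ≤ Mstar) :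
    sigmaCore M ⊓ Mstar = Ks := by
  apply le_antisymm
  · rintro a ⟨ha, ha'⟩
    rw [hKs]
    refine Subgroup.mem_inf.mpr ⟨ha, ?_⟩
    rw [Subgroup.mem_centralizer_iff]
    intro k hk
    have hbot : sigmaCore M ⊓ sigmaCore Mstar = ⊥ := by
      refine HallPi.inf_eq_bot_of_pi (π := sigma M)
        (fun p hp hd => SigmaElements.mem_sigma_of_dvd_card_sigmaCore hp hd) ?_
      intro p hp hd hp'
      exact hdis p hp' (SigmaElements.mem_sigma_of_dvd_card_sigmaCore hp hd)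
    have h1 : a * (k * a⁻¹ * k⁻¹) ∈ sigmaCore M := by
      refine (sigmaCore M).mul_mem ha ?_
      exact Subgroup.le_normalizer_iff.mp (SigmaElements.le_normalizer_sigmaCore M) k (hKM hk) _
        ((sigmaCore M).inv_mem ha)
    have h2 : (a * k * a⁻¹) * k⁻¹ ∈ sigmaCore Mstar := by
      refine (sigmaCore Mstar).mul_mem ?_ ((sigmaCore Mstar).inv_mem (hKMs hk))
      exact Subgroup.le_normalizer_iff.mp (SigmaElements.le_normalizer_sigmaCore Mstar) a ha' _
        (hKMs hk)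
    have h3 : a * k * a⁻¹ * k⁻¹ = 1 := by
      have : a * k * a⁻¹ * k⁻¹ ∈ sigmaCore M ⊓ sigmaCore Mstar :=
        ⟨by simpa [mul_assoc] using h1, h2⟩
      rw [hbot] at this
      exact Subgroup.mem_bot.mp this
    have h4 : a * k * a⁻¹ = k := mul_inv_eq_one.mp h3
    have h5 : a * k = k * a := mul_inv_eq_iff_eq_mul.mp h4
    exact h5.symm
  · refine le_inf ?_ hKsM
    rw [hKs]; exact inf_le_left

/-- `K*` is a Hall `σ(M)`-subgroup of `M*`. -/
theorem isPiHallOf_sigma (hG : IsMinSimpleOddOrder G) {M Mstar : Subgroup G} (hM : IsCoatom M)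
    (hMs : IsCoatom Mstar) {K Ks : Subgroup G} (hK : IsPiHallOf (kappa M) K M) (hK1 : K ≠ ⊥)
    (hKs : Ks = sigmaCore M ⊓ Subgroup.centralizer (K : Set G)) (hKs1 : Ks ≠ ⊥)
    (hKMs : K ≤ sigmaCore Mstar) (hKsM : Ks ≤ Mstar) :
    IsPiHallOf (sigma M) Ks Mstar := by
  have hdis := sigma_disjoint hG hM hMs hK hK1 hKMs
  have hcap := sigmaCore_inf hdis hK.1 hKMs hKs hKsM
  have hsol : Group.IsSolvable Mstar := MinSimple.isSolvable hG hMs.1
  have hKsσ : ∀ p : ℕ, p.Prime → p ∣ Nat.card Ks → p ∈ sigma M := by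
    intro p hp hd
    refine SigmaElements.mem_sigma_of_dvd_card_sigmaCore hp (hd.trans (Subgroup.card_dvd_of_le ?_))
    rw [hKs]; exact inf_le_left
  obtain ⟨H, hH, hKsH⟩ := HallPi.exists_isPiHallOf_ge hsol (sigma M) hKsM hKsσ
  obtain ⟨-, -, -, h4⟩ := S1431.result hG M hM K hK hK1
  have hHM : H ≤ sigmaCore M := by
    refine h4 H hH.2.1 ?_
    rw [← hKs, inf_eq_right.mpr hKsH]
    exact hKs1
  have hHle : H ≤ Ks := by
    rw [← hcap]; exact le_inf hHM hH.1
  rw [le_antisymm hKsH hHle]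
  exact hH

/-- `Ẑ` meets no `M^g`, `g ∉ M`. -/
theorem notMem_map_conj (hG : IsMinSimpleOddOrder G) {M : Subgroup G} (hM : IsCoatom M)
    {K Ks : Subgroup G} (hK : IsPiHallOf (kappa M) K M) (hK1 : K ≠ ⊥)
    (hKs : Ks = sigmaCore M ⊓ Subgroup.centralizer (K : Set G)) {g z : G} (hg : g ∉ M)
    (hz : z ∈ K ⊔ Ks) (hzK : z ∉ K) : z ∉ M.map (MulAut.conj g).toMonoidHom := by
  intro hzg
  have hKsC : Ks ≤ Subgroup.centralizer (K : Set G) := by rw [hKs]; exact inf_le_right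
  obtain ⟨k, hk, y, hy, rfl⟩ := exists_mul_of_mem_sup hKsC hz
  have hcomm : Commute k y := Subgroup.mem_centralizer_iff.mp (hKsC hy) k hk
  have hcop : (orderOf k).Coprime (orderOf y) := by
    refine (HallPi.coprime_of_pi (π := sigma M) ?_ ?_).symm
    · intro p hp hd
      have hy' : y ∈ sigmaCore M := by
        have := hy; rw [hKs] at this; exact this.1
      exact SigmaElements.mem_sigma_of_dvd_orderOf hy' hp hd
    · intro p hp hd
      exact (hK.2.1 p hp (hd.trans (HallPi.orderOf_dvd_card_of_mem hk))).2.2.1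
  obtain ⟨e, he⟩ := exists_pow_eq_right hcomm hcop
  have hy' : y ∈ M.map (MulAut.conj g).toMonoidHom := he ▸ Subgroup.pow_mem _ hzg e
  obtain ⟨h1, -, -, -⟩ := S1431.result hG M hM K hK hK1
  have hy1 : y = 1 := by
    have hmem : y ∈ (sigmaCore M ⊓ Subgroup.centralizer (K : Set G)) ⊓
        M.map (MulAut.conj g).toMonoidHom := ⟨hKs ▸ hy, hy'⟩
    rw [h1 g hg] at hmem
    exact Subgroup.mem_bot.mp hmem
  rw [hy1, mul_one] at hzK
  exact hzK hk

end Cfsg.Agent.OddOrderLocal.PartnerPair
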