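import Mathlib
import Cfsg.Agent.S1350
import Cfsg.Agent.S1354
import Cfsg.Agent.S1355
import Cfsg.Agent.S1356
import Cfsg.Agent.S1364
import Cfsg.Agent.S1365
import Cfsg.Agent.S1370

set_option autoImplicit false
open Cfsg
open scoped commutatorElement Pointwise

namespace Cfsg.Agent.OddOrderLocal.TypePData

section general

variable {G : Type*} [Group G]

/-- image in `G` of a normal subgroup of `M` is normalized by `M` -/
theorem le_normalizer_map_subtype (M : Subgroup G) (N : Subgroup M) [hN : N.Normal] :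
    M ≤ Subgroup.normalizer ((N.map M.subtype : Subgroup G) : Set G) := by
  intro m hm
  rw [Subgroup.mem_normalizer_iff]
  intro x
  constructor
  · rintro ⟨y, hy, rfl⟩
    refine ⟨⟨m, hm⟩ * y * ⟨m, hm⟩⁻¹, hN.conj_mem y hy ⟨m, hm⟩, ?_⟩
    simp
  · rintro ⟨y, hy, hyx⟩
    refine ⟨⟨m, hm⟩⁻¹ * y * ⟨m, hm⟩, ?_, ?_⟩
    · have := hN.conj_mem y hy ⟨m, hm⟩⁻¹
      simpa using this
    · have : (y : G) = m * x * m⁻¹ := hyx
      simp [this]
      group

theorem sigmaCore_le (M : Subgroup G) : sigmaCore M ≤ M := Subgroup.map_subtype_le _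

theorem le_normalizer_sigmaCore (M : Subgroup G) :
    M ≤ Subgroup.normalizer (sigmaCore M : Set G) :=
  le_normalizer_map_subtype M _

theorem fittingHallOf_le (M : Subgroup G) : fittingHallOf M ≤ M := Subgroup.map_subtype_le _

theorem le_normalizer_fittingHallOf (M : Subgroup G) :
    M ≤ Subgroup.normalizer (fittingHallOf M : Set G) :=
  le_normalizer_map_subtype M _

/-- conjugates of elements of a subgroup normalized by `M` -/
theorem conj_mem_of_le_normalizer {M N : Subgroup G} (h : M ≤ Subgroup.normalizer (N : Set G))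
    {m x : G} (hm : m ∈ M) (hx : x ∈ N) : m * x * m⁻¹ ∈ N :=
  (Subgroup.mem_normalizer_iff.mp (h hm) x).mp hx

/-- elements of `A ⊔ N` are products `a * n` if `A` normalizes `N` -/
theorem mem_sup_of_le_normalizer {A N : Subgroup G} (h : A ≤ Subgroup.normalizer (N : Set G))
    {x : G} (hx : x ∈ A ⊔ N) : ∃ a ∈ A, ∃ n ∈ N, x = a * n := by
  have h1 := Subgroup.coe_mul_of_left_le_normalizer_right A N h
  have hx' : x ∈ (↑(A ⊔ N) : Set G) := hx
  rw [h1] at hx'
  obtain ⟨a, ha, n, hn, hx'⟩ := Set.mem_mul.mp hx'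
  exact ⟨a, ha, n, hn, hx'.symm⟩

/-- `M` normalizes `M'` -/
theorem le_normalizer_derived (M : Subgroup G) :
    M ≤ Subgroup.normalizer ((⁅M, M⁆ : Subgroup G) : Set G) := by
  rw [Subgroup.le_normalizer_iff]
  intro m hm x hx
  have h1 : ⁅m, x⁆ ∈ ⁅M, M⁆ :=
    Subgroup.commutator_mem_commutator hm (Subgroup.commutator_le_self M hx)
  have h2 : m * x * m⁻¹ = ⁅m, x⁆ * x := by
    rw [commutatorElement_def]; group
  rw [h2]; exact mul_mem h1 hx

/-- the coprimality of a κ(M)-group and a σ(M)-group -/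
theorem coprime_kappa_sigma {M A B : Subgroup G}
    (hA : ∀ p : ℕ, p.Prime → p ∣ Nat.card A → p ∈ kappa M)
    (hB : ∀ p : ℕ, p.Prime → p ∣ Nat.card B → p ∈ sigma M) :
    (Nat.card A).Coprime (Nat.card B) := by
  rw [Nat.coprime_iff_gcd_eq_one]
  by_contra hne
  obtain ⟨p, hp, hpd⟩ := Nat.exists_prime_and_dvd hne
  have h1 := hA p hp (hpd.trans (Nat.gcd_dvd_left _ _))
  have h2 := hB p hp (hpd.trans (Nat.gcd_dvd_right _ _))
  exact h1.2.2.1 h2

theorem inf_eq_bot_of_kappa_sigma {M A B : Subgroup G}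
    (hA : ∀ p : ℕ, p.Prime → p ∣ Nat.card A → p ∈ kappa M)
    (hB : ∀ p : ℕ, p.Prime → p ∣ Nat.card B → p ∈ sigma M) : A ⊓ B = ⊥ :=
  (Subgroup.disjoint_of_coprime_natCard (coprime_kappa_sigma hA hB)).eq_bot

/-- the cyclicity of the join of two commuting cyclic subgroups of coprime orders -/
theorem isCyclic_sup_of_coprime [Finite G] {A B : Subgroup G} (hA : IsCyclic A) (hB : IsCyclic B)
    (hc : ∀ a ∈ A, ∀ b ∈ B, a * b = b * a) (hcop : (Nat.card A).Coprime (Nat.card B)) :
    IsCyclic ↥(A ⊔ B) := by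
  obtain ⟨a, ha⟩ := hA.exists_generator
  obtain ⟨b, hb⟩ := hB.exists_generator
  have hoa : orderOf (a : G) = Nat.card A := by
    rw [Subgroup.orderOf_coe, orderOf_eq_card_of_forall_mem_zpowers ha]
  have hob : orderOf (b : G) = Nat.card B := by
    rw [Subgroup.orderOf_coe, orderOf_eq_card_of_forall_mem_zpowers hb]
  have hab : Commute (a : G) (b : G) := hc a a.2 b b.2
  have hoab : orderOf ((a : G) * b) = Nat.card A * Nat.card B := by
    rw [hab.orderOf_mul_eq_mul_orderOf_of_coprime (by rw [hoa, hob]; exact hcop), hoa, hob]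
  have hmem : (a : G) * b ∈ A ⊔ B := Subgroup.mul_mem_sup a.2 b.2
  have hN : A ≤ Subgroup.normalizer (B : Set G) := by
    intro x hx
    rw [Subgroup.mem_normalizer_iff]
    intro y
    constructor
    · intro hy
      rw [hc x hx y hy, mul_inv_cancel_right]; exact hy
    · intro hy
      have h1 := hc x hx _ hy
      have : y = x * y * x⁻¹ := by
        have h2 : x * (x * y * x⁻¹) * x⁻¹ = x * y * x⁻¹ := by rw [h1, mul_inv_cancel_right]
        have h3 := mul_right_cancel h2
        exact (mul_left_cancel h3).symm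
      rw [this]; exact hy
  have hcard : Nat.card ↥(A ⊔ B) ≤ Nat.card A * Nat.card B := by
    have hsurj : Function.Surjective (fun x : A × B => (⟨(x.1 : G) * x.2, Subgroup.mul_mem_sup x.1.2 x.2.2⟩ : ↥(A ⊔ B))) := by
      rintro ⟨x, hx⟩
      obtain ⟨u, hu, v, hv, rfl⟩ := mem_sup_of_le_normalizer hN hx
      exact ⟨(⟨u, hu⟩, ⟨v, hv⟩), rfl⟩
    have := Nat.card_le_card_of_surjective _ hsurj
    rwa [Nat.card_prod] at this
  refine isCyclic_of_orderOf_eq_card (⟨(a : G) * b, hmem⟩ : ↥(A ⊔ B)) (le_antisymm ?_ ?_)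
  · exact Nat.le_of_dvd Nat.card_pos (orderOf_dvd_natCard _)
  · rw [← Subgroup.orderOf_coe, hoab]; exact hcard

end general

section main

variable {G : Type*} [Group G] [Finite G]

/-- In a standard factorisation with `K ≠ 1`: `M' ∩ K = 1`. -/
theorem derived_inf_kappa (hG : IsMinSimpleOddOrder G) (M : Subgroup G) (hM : IsCoatom M)
    (K U : Subgroup G) (hKU : IsSigmaDecomposition M K U) (hK1 : K ≠ ⊥) :
    ⁅M, M⁆ ⊓ K = ⊥ := by
  have hM' := (S1365.result hG M hM K U hKU hK1).1
  have hS := (S1350.result hG M hM).1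
  have hdis : K ⊓ sigmaCore M = ⊥ := inf_eq_bot_of_kappa_sigma hKU.hall.2.1 hS.2.1
  rw [hM', eq_bot_iff]
  rintro x ⟨hx1, hx2⟩
  have hUN : U ≤ Subgroup.normalizer (sigmaCore M : Set G) :=
    hKU.compl.1.trans (le_normalizer_sigmaCore M)
  obtain ⟨u, hu, s, hs, rfl⟩ := mem_sup_of_le_normalizer hUN hx1
  have hu' : u ∈ U ⊓ (K ⊔ sigmaCore M) := by
    refine ⟨hu, ?_⟩
    have : u = (u * s) * s⁻¹ := by group
    rw [this]
    exact Subgroup.mul_mem_sup hx2 (inv_mem hs)
  rw [hKU.compl.2.2.1, Subgroup.mem_bot] at hu'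
  subst hu'
  rw [one_mul] at hx2 ⊢
  have : s ∈ K ⊓ sigmaCore M := ⟨hx2, hs⟩
  rwa [hdis] at this

/-- In a standard factorisation with `K ≠ 1`: `K` is a complement to `M'` in `M`. -/
theorem isComplIn_derived_kappa (hG : IsMinSimpleOddOrder G) (M : Subgroup G) (hM : IsCoatom M)
    (K U : Subgroup G) (hKU : IsSigmaDecomposition M K U) (hK1 : K ≠ ⊥) :
    IsComplIn ⁅M, M⁆ K M := by
  have hM' := (S1365.result hG M hM K U hKU hK1).1
  refine ⟨Subgroup.commutator_le_self M, hKU.hall.1, derived_inf_kappa hG M hM K U hKU hK1, ?_⟩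
  intro m hm
  obtain ⟨u, hu, c, hc, rfl⟩ := hKU.compl.2.2.2 m hm
  obtain ⟨k, hk, s, hs, rfl⟩ := mem_sup_of_le_normalizer
    (hKU.hall.1.trans (le_normalizer_sigmaCore M)) hc
  refine ⟨u * (k * s * k⁻¹), ?_, k, hk, by group⟩
  rw [hM']
  exact Subgroup.mul_mem_sup hu
    (conj_mem_of_le_normalizer (le_normalizer_sigmaCore M) (hKU.hall.1 hk) hs)

/-- A complement of `M_F` in `M'` is nilpotent. -/
theorem nilpotent_of_compl (hG : IsMinSimpleOddOrder G) (M : Subgroup G) (hM : IsCoatom M)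
    (V : Subgroup G) (hV : IsComplIn (fittingHallOf M) V ⁅M, M⁆) : Group.IsNilpotent V := by
  have hnil := (S1355.result hG M hM).2.2.2.2
  have hVM : V ≤ M := hV.2.1.trans (Subgroup.commutator_le_self M)
  let f : V →* (↥M ⧸ fittingHall ↥M) :=
    (QuotientGroup.mk' (fittingHall ↥M)).comp (Subgroup.inclusion hVM)
  have hf : Function.Injective f := by
    rw [injective_iff_map_eq_one]
    intro v hv
    have h1 : (Subgroup.inclusion hVM v) ∈ fittingHall ↥M :=
      (QuotientGroup.eq_one_iff _).mp hv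
    have h2 : (v : G) ∈ fittingHallOf M ⊓ V := ⟨⟨_, h1, rfl⟩, v.2⟩
    rw [hV.2.2.1, Subgroup.mem_bot] at h2
    exact Subtype.ext h2
  have hf2 : ∀ v : V, f v ∈ (commutator ↥M).map (QuotientGroup.mk' (fittingHall ↥M)) := by
    intro v
    refine ⟨Subgroup.inclusion hVM v, ?_, rfl⟩
    have h3 : (v : G) ∈ (commutator ↥M).map M.subtype := by
      rw [commutator_def, Subgroup.map_commutator]
      simp only [← MonoidHom.range_eq_map, Subgroup.range_subtype]
      exact hV.2.1 v.2
    obtain ⟨y, hy, hyv⟩ := h3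
    have : y = Subgroup.inclusion hVM v := Subtype.ext hyv
    rw [← this]; exact hy
  let g : V →* ↥((commutator ↥M).map (QuotientGroup.mk' (fittingHall ↥M))) :=
    f.codRestrict _ hf2
  have hg : Function.Injective g := by
    intro a b hab
    exact hf (congrArg Subtype.val hab)
  exact Group.nilpotent_of_mulEquiv (MonoidHom.ofInjective hg).symm

/-- Half of the type P data: `(K, V, C_{M_σ}(K))` is type-P data for `M`. -/
theorem isTypePWith_of_sigmaDecomposition (hG : IsMinSimpleOddOrder G) (M : Subgroup G)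
    (hM : IsCoatom M) (K U : Subgroup G) (hKU : IsSigmaDecomposition M K U) (hK1 : K ≠ ⊥)
    (V : Subgroup G) (hVK : K ≤ Subgroup.normalizer (V : Set G))
    (hV : IsComplIn (fittingHallOf M) V ⁅M, M⁆) :
    IsTypePWith M K V (sigmaCore M ⊓ Subgroup.centralizer (K : Set G)) := by
  have hS := (S1350.result hG M hM).1
  have h54 := S1354.result hG M hM K hKU.cyclic hKU.hall
  have h55 := S1355.result hG M hM
  have h56 := S1356.result hG M hM
  have h64 := S1364.result hG M hM K U hKU hK1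
  have h65 := S1365.result hG M hM K U hKU hK1
  have h70 := S1370.result hG M hM K U hKU hK1
  have hcompl := isComplIn_derived_kappa hG M hM K U hKU hK1
  have hdis : K ⊓ sigmaCore M = ⊥ := inf_eq_bot_of_kappa_sigma hKU.hall.2.1 hS.2.1
  set Ks := sigmaCore M ⊓ Subgroup.centralizer (K : Set G) with hKs
  have hcomm : ∀ a ∈ K, ∀ b ∈ Ks, a * b = b * a := by
    intro a ha b hb
    exact (Subgroup.mem_centralizer_iff.mp hb.2 a ha)
  have hcop : (Nat.card K).Coprime (Nat.card Ks) := by
    refine coprime_kappa_sigma (M := M) hKU.hall.2.1 ?_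
    intro p hp hpd
    exact hS.2.1 p hp (hpd.trans (Subgroup.card_dvd_of_le inf_le_left))
  refine
    { W₁_ne := hK1
      W₁_cyclic := hKU.cyclic
      W₁_hall := ?_
      W₁_compl := hcompl
      U_nilpotent := nilpotent_of_compl hG M hM V hV
      U_normal := hVK
      U_compl := hV
      H_not_cyclic := h64.2.2.2
      derived_two_le := ?_
      fitting_eq := ?_
      fitting_le := ?_
      W₂_le := le_inf h64.2.2.1 h65.2
      W₂_centralizer := ?_
      selfNormalizing := ⟨hK1, h64.2.1, ?_, hcomm, ?_, ?_⟩ }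
  · rw [Nat.coprime_iff_gcd_eq_one]
    by_contra hne
    obtain ⟨p, hp, hpd⟩ := Nat.exists_prime_and_dvd hne
    exact hKU.hall.2.2 p hp (hKU.hall.2.1 p hp (hpd.trans (Nat.gcd_dvd_left _ _)))
      (hpd.trans (Nat.gcd_dvd_right _ _))
  · rw [sup_comm, ← h56.2.1]; exact h56.1
  · rw [sup_comm, ← h56.2.1]
  · apply h56.2.2
    have h1 : Nat.card K ≠ 1 := fun h => hK1 ((Subgroup.card_eq_one).mp h)
    obtain ⟨p, hp, hpd⟩ := Nat.exists_prime_and_dvd h1
    exact ⟨p, hKU.hall.2.1 p hp hpd⟩
  · intro x hx hx1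
    have h3 := h54.2 hK1 x hx hx1
    apply le_antisymm
    · rintro y ⟨hy1, hy2⟩
      have hy3 : y ∈ K ⊔ Ks := by
        rw [← h3]; exact ⟨hcompl.1 hy1, hy2⟩
      have hKN : K ≤ Subgroup.normalizer (Ks : Set G) := by
        intro k hk
        rw [Subgroup.mem_normalizer_iff]
        intro z
        constructor
        · intro hz
          rw [hcomm k hk z hz, mul_inv_cancel_right]; exact hz
        · intro hz
          have h1 := hcomm k hk _ hz
          have : z = k * z * k⁻¹ := by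
            have h2 : k * (k * z * k⁻¹) * k⁻¹ = k * z * k⁻¹ := by rw [h1, mul_inv_cancel_right]
            have h3 := mul_right_cancel h2
            exact (mul_left_cancel h3).symm
          rw [this]; exact hz
      obtain ⟨k, hk, s, hs, rfl⟩ := mem_sup_of_le_normalizer hKN hy3
      have hsM' : s ∈ ⁅M, M⁆ := h55.2.2.1 hs.1
      have hkM' : k ∈ ⁅M, M⁆ := by
        have : k = (k * s) * s⁻¹ := by group
        rw [this]; exact mul_mem hy1 (inv_mem hsM')
      have hk' : k ∈ ⁅M, M⁆ ⊓ K := ⟨hkM', hk⟩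
      rw [hcompl.2.2.1, Subgroup.mem_bot] at hk'
      subst hk'
      rw [one_mul]; exact hs
    · intro y hy
      refine ⟨h55.2.2.1 hy.1, ?_⟩
      refine Subgroup.mem_centralizer_iff.mpr ?_
      intro z hz
      rw [Set.mem_singleton_iff] at hz
      subst hz
      exact Subgroup.mem_centralizer_iff.mp hy.2 z hx
  · rw [eq_bot_iff, ← hdis]
    exact inf_le_inf_left _ inf_le_left
  · exact isCyclic_sup_of_coprime hKU.cyclic h64.1 hcomm hcop
  · intro X hX hXne
    have hcyc : IsCyclic ↥(K ⊔ Ks) := isCyclic_sup_of_coprime hKU.cyclic h64.1 hcomm hcop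
    apply le_antisymm
    · intro n hn
      by_contra hnot
      obtain ⟨x, hx⟩ := hXne
      have h5 := h70.1 n (by rw [h70.2]; exact hnot) x (hX hx)
        (hX ((Subgroup.mem_set_normalizer_iff.mp hn x).mp hx))
      exact (hX hx).2 (Or.inl (by rw [h5]; exact one_mem K))
    · intro n hn
      rw [Subgroup.mem_set_normalizer_iff]
      intro y
      let _ := hcyc.commGroup
      have key : ∀ z ∈ K ⊔ Ks, n * z * n⁻¹ = z := by
        intro z hz
        have h1 : (⟨n, hn⟩ : ↥(K ⊔ Ks)) * ⟨z, hz⟩ = ⟨z, hz⟩ * ⟨n, hn⟩ := mul_comm _ _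
        have h2 : n * z = z * n := congrArg Subtype.val h1
        rw [h2, mul_inv_cancel_right]
      constructor
      · intro hy
        have hy' : y ∈ K ⊔ Ks := (hX hy).1
        rw [key y hy']; exact hy
      · intro hy
        have hy' : n * y * n⁻¹ ∈ K ⊔ Ks := (hX hy).1
        have hy'' : y ∈ K ⊔ Ks := by
          have : y = n⁻¹ * (n * y * n⁻¹) * n := by group
          rw [this]
          exact mul_mem (mul_mem (inv_mem hn) hy') hn
        rw [key y hy''] at hy; exact hy

omit [Finite G] in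
/-- The relative index of `A` in `M` equals `|W|` for a complement `W` of a normal subgroup `A`. -/
theorem card_eq_relIndex_of_isComplIn {A W M : Subgroup G} (hN : M ≤ Subgroup.normalizer (A : Set G))
    (h : IsComplIn A W M) : Nat.card W = A.relIndex M := by
  have h1 : (A.subgroupOf M).Normal := by
    refine ⟨?_⟩
    intro n hn g
    rw [Subgroup.mem_subgroupOf] at hn ⊢
    exact conj_mem_of_le_normalizer hN g.2 hn
  have h2 : Subgroup.IsComplement' (A.subgroupOf M) (W.subgroupOf M) := by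
    refine Subgroup.isComplement'_of_disjoint_and_mul_eq_univ ?_ ?_
    · rw [disjoint_iff, eq_bot_iff]
      rintro x ⟨hx1, hx2⟩
      have : (x : G) ∈ A ⊓ W := ⟨hx1, hx2⟩
      rw [h.2.2.1, Subgroup.mem_bot] at this
      exact Subtype.ext this
    · rw [Set.eq_univ_iff_forall]
      intro x
      obtain ⟨a, ha, b, hb, hab⟩ := h.2.2.2 x x.2
      exact Set.mem_mul.mpr ⟨⟨a, h.1 ha⟩, ha, ⟨b, h.2.1 hb⟩, hb, Subtype.ext hab.symm⟩
  have h3 := h2.index_eq_card
  rw [Subgroup.relIndex]
  have h4 : Nat.card (W.subgroupOf M) = Nat.card W :=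
    Nat.card_congr (Subgroup.subgroupOfEquivOfLe h.2.1).toEquiv
  rw [← h4]
  exact (h2.symm.index_eq_card).symm

/-- From type-P data `(W₁, V, W₂)` of a maximal subgroup `M`: every prime divisor of `|W₁|` lies in
`κ(M)`. -/
theorem kappa_of_isTypePWith (hG : IsMinSimpleOddOrder G) (M : Subgroup G) (hM : IsCoatom M)
    {W₁ V W₂ : Subgroup G} (h : IsTypePWith M W₁ V W₂) :
    ∀ p : ℕ, p.Prime → p ∣ Nat.card W₁ → p ∈ kappa M := by
  intro p hp hpd
  have : Fact p.Prime := ⟨hp⟩
  have hS := (S1350.result hG M hM).1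
  have h55 := S1355.result hG M hM
  have hW₁M : W₁ ≤ M := h.W₁_compl.2.1
  have hM'N := le_normalizer_derived M
  have hcardW : Nat.card W₁ = (⁅M, M⁆ : Subgroup G).relIndex M :=
    card_eq_relIndex_of_isComplIn hM'N h.W₁_compl
  have hpM : p ∣ Nat.card M := hpd.trans (Subgroup.card_dvd_of_le hW₁M)
  refine ⟨hp, hpM, ?_, ?_⟩
  · intro hps
    refine hS.2.2 p hp hps ?_
    have h1 : (sigmaCore M).relIndex M =
        (sigmaCore M).relIndex ⁅M, M⁆ * (⁅M, M⁆ : Subgroup G).relIndex M :=
      (Subgroup.relIndex_mul_relIndex _ _ _ h55.2.2.1 (Subgroup.commutator_le_self M)).symm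
    rw [h1, ← hcardW]
    exact hpd.mul_left _
  · -- the Sylow subgroups
    set W : Subgroup M := W₁.subgroupOf M with hW
    have hcW : Nat.card W = Nat.card W₁ :=
      Nat.card_congr (Subgroup.subgroupOfEquivOfLe hW₁M).toEquiv
    have hWcyc : IsCyclic W := by
      have := h.W₁_cyclic
      exact isCyclic_of_injective (Subgroup.subgroupOfEquivOfLe hW₁M).toMonoidHom
        (Subgroup.subgroupOfEquivOfLe hW₁M).injective
    -- a Sylow subgroup of `W` is a Sylow subgroup of `M`
    obtain ⟨Q⟩ : Nonempty (Sylow p W) := inferInstance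
    have hWindex : ¬ p ∣ W.index := by
      intro hpi
      have h2 : p ∣ Nat.gcd (Nat.card W₁) (W₁.relIndex M) := Nat.dvd_gcd hpd hpi
      rw [Nat.Coprime.gcd_eq_one h.W₁_hall] at h2
      exact hp.one_lt.ne' (Nat.dvd_one.mp h2)
    have hQP : IsPGroup p ((Q : Subgroup W).map W.subtype) := Q.isPGroup'.map _
    have hQindex : ¬ p ∣ ((Q : Subgroup W).map W.subtype).index := by
      intro hd
      rw [Subgroup.index_map_subtype] at hd
      rcases (hp.dvd_mul).mp hd with h3 | h3
      · exact Q.not_dvd_index h3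
      · exact hWindex h3
    let P₀ : Sylow p M := hQP.toSylow hQindex
    have hP₀W : (P₀ : Subgroup M) ≤ W := by
      change (Q : Subgroup W).map W.subtype ≤ W
      exact Subgroup.map_subtype_le _
    have hP₀cyc : IsCyclic P₀ := by
      have := hWcyc
      exact isCyclic_of_injective (Subgroup.inclusion hP₀W) (Subgroup.inclusion_injective hP₀W)
    have hW₂ne : W₂ ≠ ⊥ := h.selfNormalizing.2.1
    obtain ⟨y, hy, hy1⟩ := (Subgroup.ne_bot_iff_exists_ne_one).mp hW₂ne |>.imp
      (fun y hy => And.intro y.2 hy) |> fun ⟨y, hy⟩ => (⟨(y : G), hy.1, fun h => hy.2 (Subtype.ext h)⟩ :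
        ∃ y : G, y ∈ W₂ ∧ y ≠ 1)
    have hyS : y ∈ sigmaCore M := h55.2.1 ((h.W₂_le hy).1)
    have hP₀ne : (P₀ : Subgroup M) ≠ ⊥ := P₀.ne_bot_of_dvd_card hpM
    obtain ⟨x, hxne⟩ := (Subgroup.ne_bot_iff_exists_ne_one).mp hP₀ne
    have hxW₁ : ((x : M) : G) ∈ W₁ := hP₀W x.2
    have hx1 : ((x : M) : G) ≠ 1 := fun h => hxne (Subtype.ext (Subtype.ext h))
    have hcent : y ∈ ⁅M, M⁆ ⊓ Subgroup.centralizer ({((x : M) : G)} : Set G) := by
      rw [h.W₂_centralizer _ hxW₁ hx1]; exact hy
    have hxy : ((x : M) : G) * y = y * ((x : M) : G) :=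
      (Subgroup.mem_centralizer_iff.mp hcent.2) _ (Set.mem_singleton _)
    intro P
    obtain ⟨m, hm⟩ := MulAction.exists_smul_eq M P₀ P
    have hPeq : (P : Subgroup M) = MulAut.conj m • (P₀ : Subgroup M) := by
      rw [← hm]; rfl
    constructor
    · have e : P₀ ≃* P := Sylow.equiv P₀ P
      exact isCyclic_of_surjective e.toMonoidHom e.surjective
    · refine ⟨m * x * m⁻¹, ?_, ?_, (m : G) * y * (m : G)⁻¹, ?_, ?_, ?_⟩
      · rw [hPeq]
        have := Subgroup.smul_mem_pointwise_smul (x : M) (MulAut.conj m) (P₀ : Subgroup M) x.2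
        simpa [MulAut.smul_def] using this
      · intro h1
        apply hxne
        have h2 : (x : M) = 1 := by
          have : m⁻¹ * (m * x * m⁻¹) * m = (x : M) := by group
          rw [← this, h1]; group
        exact Subtype.ext h2
      · exact conj_mem_of_le_normalizer (le_normalizer_sigmaCore M) m.2 hyS
      · intro h1
        apply hy1
        have : (m : G)⁻¹ * ((m : G) * y * (m : G)⁻¹) * m = y := by group
        rw [← this, h1]; group
      · push_cast
        calc (m : G) * x * (m : G)⁻¹ * ((m : G) * y * (m : G)⁻¹)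
            = (m : G) * (((x : M) : G) * y) * (m : G)⁻¹ := by group
          _ = (m : G) * (y * ((x : M) : G)) * (m : G)⁻¹ := by rw [hxy]
          _ = (m : G) * y * (m : G)⁻¹ * ((m : G) * x * (m : G)⁻¹) := by group

/-- If `M` has type-P data, then `K ≠ 1` in a standard factorisation of `M`. -/
theorem kappa_ne_bot_of_isTypePWith (hG : IsMinSimpleOddOrder G) (M : Subgroup G) (hM : IsCoatom M)
    {W₁ V W₂ : Subgroup G} (h : IsTypePWith M W₁ V W₂) (K : Subgroup G)
    (hK : IsPiHallOf (kappa M) K M) : K ≠ ⊥ := by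
  have h1 : Nat.card W₁ ≠ 1 := fun h0 => h.W₁_ne ((Subgroup.card_eq_one).mp h0)
  obtain ⟨p, hp, hpd⟩ := Nat.exists_prime_and_dvd h1
  have hk := kappa_of_isTypePWith hG M hM h p hp hpd
  rintro rfl
  refine hK.2.2 p hp hk ?_
  rw [Subgroup.relIndex_bot_left]
  exact hk.2.1

/-- If `M` has type-P data, then `|K| = |W₁|` in a standard factorisation of `M`. -/
theorem card_kappa_eq_of_isTypePWith (hG : IsMinSimpleOddOrder G) (M : Subgroup G) (hM : IsCoatom M)
    {W₁ V W₂ : Subgroup G} (h : IsTypePWith M W₁ V W₂) (K U : Subgroup G)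
    (hKU : IsSigmaDecomposition M K U) : Nat.card K = Nat.card W₁ := by
  have hK1 := kappa_ne_bot_of_isTypePWith hG M hM h K hKU.hall
  have hM'N := le_normalizer_derived M
  rw [card_eq_relIndex_of_isComplIn hM'N h.W₁_compl,
    card_eq_relIndex_of_isComplIn hM'N (isComplIn_derived_kappa hG M hM K U hKU hK1)]

end main

end Cfsg.Agent.OddOrderLocal.TypePData
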