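import Mathlib
import Cfsg.Prelude.Def_OddOrderLocal
import Cfsg.Agent.S1350
import Cfsg.Agent.S1405
import Cfsg.Agent.OddOrderLocal.SigmaCoreBasic808
import Cfsg.Agent.OddOrderLocal.MinSimple
import Cfsg.Agent.OddOrderLocal.Rank
import Cfsg.Agent.OddOrderLocal.ZGroup

/-!
The standard factorisation `M = K U M_σ`: `K U` is a complement of `M_σ`; a prime dividing the order of a
subgroup of `U` centralizing a non-identity element of `M_σ` lies in `τ₂(M)`; elementary abelian subgroups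
of a complement.
-/

set_option autoImplicit false

namespace Cfsg.Agent.OddOrderLocal.SigmaDecomp772

open Cfsg Cfsg.Agent.OddOrderLocal Cfsg.Agent.OddOrderLocal.SigmaCoreBasic808

variable {G : Type*} [Group G]

/-- the order of a subgroup is the product of the orders of two complements. -/
theorem card_mul_card_of_isComplIn {A B M : Subgroup G} (h : IsComplIn A B M) :
    Nat.card A * Nat.card B = Nat.card M := by
  obtain ⟨hUM, hBM, hdisj, hcov⟩ := h
  rw [← Nat.card_prod]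
  refine Nat.card_congr (Equiv.ofBijective
    (fun x : A × B => (⟨(x.1 : G) * x.2, M.mul_mem (hUM x.1.2) (hBM x.2.2)⟩ : M)) ⟨?_, ?_⟩)
  · rintro ⟨⟨u, hu⟩, ⟨b, hb⟩⟩ ⟨⟨u', hu'⟩, ⟨b', hb'⟩⟩ h
    simp only [Subtype.mk.injEq] at h
    have h1 : u'⁻¹ * u = b' * b⁻¹ := by
      rw [inv_mul_eq_iff_eq_mul, ← mul_assoc, ← h]; group
    have h2 : u'⁻¹ * u ∈ A ⊓ B :=
      ⟨A.mul_mem (A.inv_mem hu') hu, h1 ▸ Subgroup.mul_mem _ hb' (Subgroup.inv_mem _ hb)⟩
    rw [hdisj, Subgroup.mem_bot] at h2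
    have h3 : u = u' := by rw [inv_mul_eq_one] at h2; exact h2.symm
    have h4 : b = b' := by
      rw [h2] at h1
      exact (mul_inv_eq_one.mp h1.symm).symm
    subst h3; subst h4; rfl
  · rintro ⟨m, hm⟩
    obtain ⟨u, hu, b, hb, rfl⟩ := hcov m hm
    exact ⟨(⟨u, hu⟩, ⟨b, hb⟩), rfl⟩

theorem card_mul_relIndex {H K : Subgroup G} (h : H ≤ K) :
    Nat.card H * H.relIndex K = Nat.card K := by
  have := Subgroup.relIndex_mul_relIndex (⊥ : Subgroup G) H K bot_le h
  simpa [Subgroup.relIndex_bot_left] using this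

/-- `K U` is a complement of `M_σ` in `M`. -/
theorem isComplIn_sup [Finite G] {M K U : Subgroup G} (hKU : IsSigmaDecomposition M K U)
    (hall : IsPiHallOf (sigma M) (sigmaCore M) M) :
    IsComplIn (K ⊔ U) (sigmaCore M) M := by
  obtain ⟨hUM, hBM, hdisj, hcov⟩ := hKU.compl
  have hKσ : K ⊓ sigmaCore M = ⊥ := by
    rw [← disjoint_iff]
    apply Subgroup.disjoint_of_coprime_natCard
    rw [Nat.coprime_iff_gcd_eq_one]
    by_contra hne
    obtain ⟨q, hq, hqd⟩ := Nat.exists_prime_and_dvd hne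
    have h1 := hKU.hall.2.1 q hq (hqd.trans (Nat.gcd_dvd_left _ _))
    have h2 := hall.2.1 q hq (hqd.trans (Nat.gcd_dvd_right _ _))
    exact h1.2.2.1 h2
  have hσN := le_normalizer_sigmaCore M
  have hKM : K ≤ M := hKU.hall.1
  have hmul : ∀ b ∈ K ⊔ sigmaCore M, ∃ k ∈ K, ∃ s ∈ sigmaCore M, b = k * s := by
    intro b hb
    have : b ∈ ((K ⊔ sigmaCore M : Subgroup G) : Set G) := hb
    rw [Subgroup.coe_mul_of_left_le_normalizer_right _ _ (hKM.trans hσN)] at this
    obtain ⟨k, hk, s, hs, rfl⟩ := this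
    exact ⟨k, hk, s, hs, rfl⟩
  have hmulE : ∀ b ∈ K ⊔ U, ∃ u ∈ U, ∃ k ∈ K, b = u * k := by
    intro b hb
    rw [sup_comm] at hb
    have : b ∈ ((U ⊔ K : Subgroup G) : Set G) := hb
    rw [Subgroup.coe_mul_of_right_le_normalizer_left _ _ hKU.normal] at this
    obtain ⟨k, hk, s, hs, rfl⟩ := this
    exact ⟨k, hk, s, hs, rfl⟩
  refine ⟨sup_le hKM hUM, hall.1, ?_, ?_⟩
  · rw [eq_bot_iff]
    rintro x ⟨hx1, hx2⟩
    obtain ⟨u, hu, k, hk, rfl⟩ := hmulE x hx1
    have hu1 : u ∈ K ⊔ sigmaCore M := by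
      have : u = (u * k) * k⁻¹ := by group
      rw [this]
      exact Subgroup.mul_mem _ ((le_sup_right : sigmaCore M ≤ K ⊔ sigmaCore M) hx2)
        (Subgroup.inv_mem _ ((le_sup_left : K ≤ K ⊔ sigmaCore M) hk))
    have hu2 : u ∈ U ⊓ (K ⊔ sigmaCore M) := ⟨hu, hu1⟩
    rw [hdisj, Subgroup.mem_bot] at hu2
    subst hu2
    rw [one_mul] at hx2 ⊢
    have : k ∈ K ⊓ sigmaCore M := ⟨hk, hx2⟩
    rwa [hKσ] at this
  · intro m hm
    obtain ⟨u, hu, b, hb, rfl⟩ := hcov m hm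
    obtain ⟨k, hk, s, hs, rfl⟩ := hmul b hb
    refine ⟨u * k, ?_, s, hs, by group⟩
    exact Subgroup.mul_mem _ ((le_sup_right : U ≤ K ⊔ U) hu) ((le_sup_left : K ≤ K ⊔ U) hk)

/-- no prime of the order of a complement of the Hall `π`-subgroup `N` lies in `π`. -/
theorem not_dvd_of_isComplIn [Finite G] {π : Set ℕ} {E N M : Subgroup G} (hN : IsPiHallOf π N M)
    (hE : IsComplIn E N M) {p : ℕ} (hp : p.Prime) (hpE : p ∣ Nat.card E) : p ∉ π := by
  intro hπ
  apply hN.2.2 p hp hπ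
  have h1 := card_mul_card_of_isComplIn hE
  have h2 := card_mul_relIndex hN.1
  have h3 : N.relIndex M = Nat.card E := by
    have hpos : 0 < Nat.card N := Nat.card_pos
    apply Nat.eq_of_mul_eq_mul_left hpos
    rw [h2, ← h1, mul_comm]
  rw [h3]
  exact hpE

/-- The elementary abelian `p`-subgroups of a complement `E` of a normal `p'`-subgroup are as large as those
of the whole group. -/
theorem exists_elemAb_le_compl [Finite G] {M E N : Subgroup G} (hE : IsComplIn E N M)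
    (hn : M ≤ Subgroup.normalizer (N : Set G)) {p k : ℕ} [Fact p.Prime] (hpN : ¬ p ∣ Nat.card N)
    (h : ¬ PRankLE p k M) :
    ∃ A : Subgroup G, A ≤ E ∧ IsElementaryAbelian p A ∧ Nat.card A = p ^ (k + 1) := by
  apply Rank.exists_elemAb_of_not_pRankLE
  intro hEr
  apply h
  haveI hnn : (N.subgroupOf M).Normal := by
    constructor
    intro n hn' g
    rw [Subgroup.mem_subgroupOf] at hn' ⊢
    exact (Subgroup.mem_normalizer_iff.mp (hn g.2) n).mp hn'
  let g : E →* (M ⧸ N.subgroupOf M) :=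
    (QuotientGroup.mk' (N.subgroupOf M)).comp (Subgroup.inclusion hE.1)
  have hg : Function.Bijective g := by
    constructor
    · rw [injective_iff_map_eq_one]
      intro e he
      have h1 : (Subgroup.inclusion hE.1 e) ∈ N.subgroupOf M :=
        (QuotientGroup.eq_one_iff _).mp he
      rw [Subgroup.mem_subgroupOf] at h1
      have h2 : (e : G) ∈ E ⊓ N := ⟨e.2, h1⟩
      rw [hE.2.2.1, Subgroup.mem_bot] at h2
      exact Subtype.ext h2
    · intro q
      obtain ⟨m, rfl⟩ := QuotientGroup.mk'_surjective _ q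
      obtain ⟨e, he, n, hnN, hm⟩ := hE.2.2.2 m m.2
      refine ⟨⟨e, he⟩, ?_⟩
      change ((Subgroup.inclusion hE.1 ⟨e, he⟩ : M) : M ⧸ N.subgroupOf M) = (m : M ⧸ N.subgroupOf M)
      rw [QuotientGroup.eq, Subgroup.mem_subgroupOf]
      change e⁻¹ * (m : G) ∈ N
      rw [hm]
      simpa using hnN
  have h3 : PRankLE p k (M ⧸ N.subgroupOf M) :=
    (Rank.pRankLE_congr (MulEquiv.ofBijective g hg)).mp hEr
  refine Rank.pRankLE_of_surjective_coprime (QuotientGroup.mk' (N.subgroupOf M)) ?_ h3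
  rw [QuotientGroup.ker_mk', Nat.card_congr (Subgroup.subgroupOfEquivOfLe hE.2.1).toEquiv]
  exact hpN

/-- If the Sylow `p`-subgroups of `M` are cyclic, `p ∉ σ(M)`, and some element of order `p` of `M`
centralizes a non-identity element of `M_σ`, then `p ∈ κ(M)`. -/
theorem mem_kappa [Finite G] {M : Subgroup G} (hodd : Odd (Nat.card M)) {p : ℕ} [hp : Fact p.Prime]
    (hr : PRankLE p 1 M) (hs : p ∉ sigma M) {x y : G} (hx : x ∈ M) (hxo : orderOf x = p)
    (hy : y ∈ sigmaCore M) (hy1 : y ≠ 1) (hxy : x * y = y * x) : p ∈ kappa M := by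
  have hpM : p ∣ Nat.card M := by
    rw [← hxo, ← Subgroup.orderOf_mk x hx]
    exact orderOf_dvd_natCard _
  refine ⟨hp.out, hpM, hs, fun P => ⟨(ZGroup.sylow_isCyclic_iff hodd P).mpr hr, ?_⟩⟩
  -- a Sylow subgroup containing `x`
  have h1 : IsPGroup p (Subgroup.zpowers (⟨x, hx⟩ : M)) := by
    apply IsPGroup.of_card (n := 1)
    rw [Nat.card_zpowers, Subgroup.orderOf_mk, hxo, pow_one]
  obtain ⟨Q, hQ⟩ := h1.exists_le_sylow
  obtain ⟨m, hm⟩ := MulAction.exists_smul_eq M Q P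
  have hxQ : (⟨x, hx⟩ : M) ∈ (Q : Subgroup M) := hQ (Subgroup.mem_zpowers _)
  refine ⟨m * ⟨x, hx⟩ * m⁻¹, ?_, ?_, (m : G) * y * (m : G)⁻¹, ?_, ?_, ?_⟩
  · rw [← hm]
    exact ⟨⟨x, hx⟩, hxQ, rfl⟩
  · intro h
    rw [conj_eq_one_iff] at h
    have h2 : x = 1 := congrArg Subtype.val h
    rw [h2, orderOf_one] at hxo
    exact hp.out.one_lt.ne hxo
  · exact conj_mem_of_le_normalizer (le_normalizer_sigmaCore M) m.2 hy
  · intro h
    rw [conj_eq_one_iff] at h
    exact hy1 h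
  · change ((m : G) * x * (m : G)⁻¹) * ((m : G) * y * (m : G)⁻¹) =
      ((m : G) * y * (m : G)⁻¹) * ((m : G) * x * (m : G)⁻¹)
    have e1 : ((m : G) * x * (m : G)⁻¹) * ((m : G) * y * (m : G)⁻¹) = m * (x * y) * (m : G)⁻¹ := by group
    have e2 : ((m : G) * y * (m : G)⁻¹) * ((m : G) * x * (m : G)⁻¹) = m * (y * x) * (m : G)⁻¹ := by group
    rw [e1, e2, hxy]

/-- In the standard factorisation `M = K U M_σ`, no prime dividing the order of `U` lies in `κ(M)`. -/
theorem not_mem_kappa_of_dvd [Finite G] {M K U : Subgroup G} (hKU : IsSigmaDecomposition M K U)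
    {p : ℕ} (hp : p.Prime) (hpU : p ∣ Nat.card U) : p ∉ kappa M := by
  intro hκ
  apply hKU.hall.2.2 p hp hκ
  have h1 := card_mul_card_of_isComplIn hKU.compl
  have h2 := card_mul_relIndex hKU.hall.1
  have h3 := card_mul_relIndex (le_sup_left : K ≤ K ⊔ sigmaCore M)
  have h4 : K.relIndex M = Nat.card U * K.relIndex (K ⊔ sigmaCore M) := by
    have hpos : 0 < Nat.card K := Nat.card_pos
    apply Nat.eq_of_mul_eq_mul_left hpos
    rw [h2, ← h1, ← h3]
    ring
  rw [h4]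
  exact hpU.mul_right _

/-- In the standard factorisation `M = K U M_σ`, the primes of a subgroup of `U` centralizing a non-identity
element of `M_σ` lie in `τ₂(M)`. -/
theorem mem_tau2_of_dvd [Finite G] (hG : IsMinSimpleOddOrder G) {M : Subgroup G} (hM : IsCoatom M)
    {K U : Subgroup G} (hKU : IsSigmaDecomposition M K U) {X : Subgroup G} (hXU : X ≤ U)
    (hXc : sigmaCore M ⊓ Subgroup.centralizer (X : Set G) ≠ ⊥) {p : ℕ} (hp : p.Prime)
    (hpX : p ∣ Nat.card X) : p ∈ tau2 M := by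
  haveI : Fact p.Prime := ⟨hp⟩
  obtain ⟨hall, -, -⟩ := Cfsg.Agent.S1350.result hG M hM
  have hpU : p ∣ Nat.card U := hpX.trans (Subgroup.card_dvd_of_le hXU)
  have hps : p ∉ sigma M :=
    not_dvd_of_isComplIn hall (isComplIn_sup hKU hall) hp
      (hpU.trans (Subgroup.card_dvd_of_le (le_sup_right : U ≤ K ⊔ U)))
  refine ⟨hp, hps, ?_, ?_⟩
  · by_contra h
    exact hps (Cfsg.Agent.S1405.alpha_subset_sigma hG hM ⟨hp, h⟩)
  · intro hr
    apply not_mem_kappa_of_dvd hKU hp hpU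
    obtain ⟨x, hx⟩ := exists_prime_orderOf_dvd_card' (G := X) p hpX
    obtain ⟨y, hy⟩ := Subgroup.ne_bot_iff_exists_ne_one.mp hXc
    have hy1 : (y : G) ≠ 1 := fun h => hy (Subtype.ext h)
    have hxy : (x : G) * y = y * x := Subgroup.mem_centralizer_iff.mp y.2.2 x x.2
    exact mem_kappa (MinSimple.odd_card_subgroup hG M) hr hps (hKU.compl.1 (hXU x.2))
      (by rw [Subgroup.orderOf_coe]; exact hx) y.2.1 hy1 hxy

end Cfsg.Agent.OddOrderLocal.SigmaDecomp772
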