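import Mathlib
import Cfsg.Prelude.Def_OddOrderLocal
import Cfsg.Agent.OddOrderLocal.FitAux
import Cfsg.Agent.OddOrderLocal.FittingHall
import Cfsg.Agent.OddOrderLocal.TypeFData

/-!
Two general facts used for type II: `N_F = M_F` for a normal Hall subgroup `N` of `M` containing `M_F`,
and a criterion for a subgroup `L` of `G` to be of Frobenius type in terms of subgroups of `G`.
Unconditional.
-/

set_option autoImplicit false
open Cfsg

namespace Cfsg.Agent.OddOrderLocal.TypeTwoBasic

open Subgroup Cfsg.Agent.OddOrderLocal Cfsg.Agent.OddOrderLocal.TypeFData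

variable {G : Type*} [Group G] [Finite G]

/-- `N_F = M_F` for a normal Hall subgroup `N` of `M` containing `M_F`. -/
theorem fittingHallOf_eq_of_hall {M N : Subgroup G} (hNM : N ≤ M)
    (hn : M ≤ Subgroup.normalizer (N : Set G)) (hF : fittingHallOf M ≤ N)
    (hcop : (Nat.card N).Coprime (N.relIndex M)) : fittingHallOf N = fittingHallOf M := by
  apply le_antisymm
  · refine FitAux.le_fittingHallOf ((FitAux.fittingHallOf_le N).trans hNM) ?_
      (FitAux.isNilpotent_fittingHallOf N) ?_
    · exact hn.trans (FittingHall.normalizer_le_normalizer_fittingHallOf N)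
    · rw [← Subgroup.relIndex_mul_relIndex (fittingHallOf N) N M (FitAux.fittingHallOf_le N) hNM]
      refine Nat.Coprime.mul_right (FittingHall.fittingHallOf_coprime_relIndex N) ?_
      exact Nat.Coprime.coprime_dvd_left (Subgroup.card_dvd_of_le (FitAux.fittingHallOf_le N)) hcop
  · refine FitAux.le_fittingHallOf hF (hNM.trans (FitAux.le_normalizer_fittingHallOf M))
      (FitAux.isNilpotent_fittingHallOf M) ?_
    have h := FittingHall.fittingHallOf_coprime_relIndex M
    rw [← Subgroup.relIndex_mul_relIndex (fittingHallOf M) N M hF hNM] at h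
    exact Nat.Coprime.coprime_mul_right_right h

/-- A criterion for `L` to be of Frobenius type. -/
theorem isOfTypeF_of_compl {L H U U₁ U₀ : Subgroup G} (hsol : Group.IsSolvable L)
    (hodd : Odd (Nat.card L)) (hH : fittingHallOf L = H) (hH1 : H ≠ ⊥) (hU : U ≠ ⊥)
    (hcomp : IsComplIn U H L) (hU₁ : U₁ ≤ U) (hU₁n : U ≤ Subgroup.normalizer (U₁ : Set G))
    (hU₁c : IsMulCommutative U₁)
    (hU₁f : ∀ u ∈ U, ∀ x ∈ H, x ≠ 1 → u * x = x * u → u ∈ U₁)
    (hU₀ : U₀ ≤ U) (hexp : Monoid.exponent U₀ = Monoid.exponent U)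
    (hfree : ∀ u ∈ U₀, u ≠ 1 → ∀ x ∈ H, u * x = x * u → x = 1) : IsOfTypeF L := by
  have hUL : U ≤ L := hcomp.1
  have hmapF : (Cfsg.fittingHall L).map L.subtype = H := hH
  have hmemF : ∀ x : L, x ∈ Cfsg.fittingHall L ↔ (x : G) ∈ H := by
    intro x
    rw [← hmapF]
    constructor
    · intro hx
      exact Subgroup.mem_map_of_mem _ hx
    · rintro ⟨y, hy, hyx⟩
      have : y = x := Subtype.ext hyx
      rwa [← this]
  refine ⟨hsol, hodd, ?_, ?_, U.subgroupOf L, ?_, ?_, ?_, ?_⟩
  · intro h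
    apply hH1
    rw [← hmapF, h, Subgroup.map_bot]
  · intro h
    apply hU
    rw [eq_bot_iff]
    intro u hu
    have h1 : u ∈ U ⊓ H := ⟨hu, (hmemF ⟨u, hUL hu⟩).mp (by rw [h]; trivial)⟩
    rw [hcomp.2.2.1] at h1
    exact h1
  · intro h
    apply hU
    rw [Subgroup.subgroupOf_eq_bot] at h
    exact (disjoint_iff.mp h).symm.trans (inf_eq_left.mpr hUL) |>.symm
  · refine Subgroup.isComplement'_of_card_mul_and_disjoint ?_ ?_
    · have h1 : Nat.card (Cfsg.fittingHall L) = Nat.card H := by
        rw [← hmapF]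
        exact (Subgroup.card_map_of_injective (Subgroup.subtype_injective L)).symm
      have h2 : Nat.card (U.subgroupOf L) = Nat.card U :=
        Nat.card_congr (Subgroup.subgroupOfEquivOfLe hUL).toEquiv
      rw [h1, h2, mul_comm]
      exact card_mul_card_of_isComplIn hcomp
    · rw [disjoint_iff, eq_bot_iff]
      rintro x ⟨hx1, hx2⟩
      have h1 : (x : G) ∈ U ⊓ H := ⟨hx2, (hmemF x).mp hx1⟩
      rw [hcomp.2.2.1, Subgroup.mem_bot] at h1
      rw [Subgroup.mem_bot]
      exact Subtype.ext h1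
  · refine ⟨U₁.subgroupOf L, ?_, ?_, ?_, ?_⟩
    · intro x hx
      exact hU₁ hx
    · intro u hu
      rw [Subgroup.mem_normalizer_iff]
      intro x
      exact Subgroup.mem_normalizer_iff.mp (hU₁n hu) x
    · refine ⟨⟨fun a b => ?_⟩⟩
      apply Subtype.ext
      apply Subtype.ext
      have h1 := hU₁c.is_comm.comm (⟨_, a.2⟩ : U₁) (⟨_, b.2⟩ : U₁)
      exact congrArg (fun z : U₁ => (z : G)) h1
    · intro x hx hx1 u hu
      obtain ⟨huU, huc⟩ := hu
      refine hU₁f u huU x ((hmemF x).mp hx) (fun h => hx1 (Subtype.ext h)) ?_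
      have := (Subgroup.mem_centralizer_iff.mp huc) x (Set.mem_singleton x)
      exact congrArg Subtype.val this.symm
  · refine ⟨U₀.subgroupOf L, ?_, ?_, ?_⟩
    · intro x hx
      exact hU₀ hx
    · rw [Monoid.exponent_eq_of_mulEquiv (Subgroup.subgroupOfEquivOfLe (hU₀.trans hUL)),
        Monoid.exponent_eq_of_mulEquiv (Subgroup.subgroupOfEquivOfLe hUL)]
      exact hexp
    · intro u hu hu1 x hx hux
      apply Subtype.ext
      exact hfree u hu (fun h => hu1 (Subtype.ext h)) x ((hmemF x).mp hx) (congrArg Subtype.val hux)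

end Cfsg.Agent.OddOrderLocal.TypeTwoBasic
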