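import Mathlib
import Cfsg.Prelude.Def_OddOrderLocal
import Cfsg.Agent.S1350
import Cfsg.Agent.S1351
import Cfsg.Agent.S1352
import Cfsg.Agent.S1357
import Cfsg.Agent.S1365
import Cfsg.Agent.S1382

/-!
`M_s = M_σ` for every maximal subgroup of a minimal simple group of odd order, in terms of the
listed statements (conditional on S1350, S1351, S1352, S1357, S1365, S1382).
-/

set_option autoImplicit false

namespace Cfsg.Agent.OddOrderLocal.TypeCore

open Cfsg

variable {G : Type*} [Group G] [Finite G]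

theorem exists_sigmaDecomposition (hG : IsMinSimpleOddOrder G) (M : Subgroup G) (hM : IsCoatom M) :
    ∃ K U : Subgroup G, IsSigmaDecomposition M K U := by
  obtain ⟨⟨K, hK⟩, hc⟩ := Cfsg.Agent.S1351.result hG M hM
  obtain ⟨⟨U, hU⟩, -⟩ := Cfsg.Agent.S1352.result hG M hM K (hc K hK) hK
  exact ⟨K, U, hU⟩

/-- If `K = 1` then `M_F = M_σ`. -/
theorem fittingHallOf_eq_of_K_eq_bot (hG : IsMinSimpleOddOrder G) {M K U : Subgroup G}
    (hM : IsCoatom M) (hKU : IsSigmaDecomposition M K U) (hK : K = ⊥) :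
    fittingHallOf M = sigmaCore M := by
  by_contra hne
  obtain ⟨-, -, hp⟩ := Cfsg.Agent.S1357.result hG M hM K U hKU hne
  rw [hK, Subgroup.card_bot] at hp
  exact Nat.not_prime_one hp

/-- If `U ≠ 1` then `M_F = M_σ`. -/
theorem fittingHallOf_eq_of_U_ne_bot (hG : IsMinSimpleOddOrder G) {M K U : Subgroup G}
    (hM : IsCoatom M) (hKU : IsSigmaDecomposition M K U) (hU : U ≠ ⊥) :
    fittingHallOf M = sigmaCore M := by
  by_contra hne
  exact hU (Cfsg.Agent.S1357.result hG M hM K U hKU hne).1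

/-- `M_s = M_σ`. -/
theorem typeCore_eq_sigmaCore (hG : IsMinSimpleOddOrder G) (M : Subgroup G) (hM : IsCoatom M) :
    typeCore M = sigmaCore M := by
  obtain ⟨K, U, hKU⟩ := exists_sigmaDecomposition hG M hM
  unfold typeCore
  split_ifs with h
  · obtain ⟨hK, hU, -⟩ := (Cfsg.Agent.S1382.result hG M hM K U hKU).mp h
    rw [(Cfsg.Agent.S1365.result hG M hM K U hKU hK).1, hU, bot_sup_eq]
  · by_contra hne
    obtain ⟨hU, -, hp⟩ := Cfsg.Agent.S1357.result hG M hM K U hKU hne
    refine h ((Cfsg.Agent.S1382.result hG M hM K U hKU).mpr ⟨?_, hU, hne⟩)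
    rintro rfl
    rw [Subgroup.card_bot] at hp
    exact Nat.not_prime_one hp

end Cfsg.Agent.OddOrderLocal.TypeCore
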