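import Mathlib

/-!
# Field facts for the final contradiction (Bender–Glauberman, Appendix C)

`F` is a field with `p ^ q` elements, `p, q` primes with `(p^q - 1)/(p - 1)` coprime to `p - 1`.
-/

set_option autoImplicit false

namespace Cfsg.Agent.OddOrderLocal.AppendixCField

/-- The number of elements of norm one in the field with `p ^ q` elements. -/
abbrev nU (p q : ℕ) : ℕ := (p ^ q - 1) / (p - 1)

theorem nU_mul (p q : ℕ) : nU p q * (p - 1) = p ^ q - 1 := by
  apply Nat.div_mul_cancel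
  simpa using Nat.sub_dvd_pow_sub_pow p 1 q

theorem nU_coprime_p (p q : ℕ) (hp : p.Prime) (hq : q ≠ 0) : Nat.Coprime (nU p q) p := by
  rw [Nat.coprime_comm, Nat.Prime.coprime_iff_not_dvd hp]
  intro h
  have h1 : p ∣ p ^ q - 1 := by
    rw [← nU_mul]
    exact h.mul_right _
  have h2 : p ∣ p ^ q := dvd_pow_self p hq
  have h3 : p ∣ p ^ q - (p ^ q - 1) := Nat.dvd_sub h2 h1
  have h4 : 0 < p ^ q := Nat.pow_pos hp.pos
  rw [Nat.sub_sub_self h4] at h3
  exact hp.one_lt.ne' (Nat.dvd_one.mp h3)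

theorem nU_gt (p q : ℕ) (hp : p.Prime) (hq : 2 ≤ q) : p < nU p q := by
  have h0 := hp.two_le
  have h1 : nU p q * (p - 1) = p ^ q - 1 := nU_mul p q
  have h2 : p ^ 2 ≤ p ^ q := Nat.pow_le_pow_right hp.pos hq
  by_contra hcon
  push Not at hcon
  have h3 : nU p q * (p - 1) ≤ p * (p - 1) := Nat.mul_le_mul_right _ hcon
  rw [h1] at h3
  obtain ⟨k, rfl⟩ : ∃ k, p = k + 2 := ⟨p - 2, by omega⟩
  have h4 : (k + 2) * (k + 2 - 1) = (k + 2) ^ 2 - (k + 2) := by
    have : k + 2 - 1 = k + 1 := by omega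
    rw [this]
    have h5 : (k + 2) ^ 2 = (k + 2) * (k + 1) + (k + 2) := by ring
    omega
  have h6 : (k + 2) ≤ (k + 2) ^ 2 := by nlinarith
  omega

section

variable {F : Type*} [Field F] [Finite F] {p q : ℕ} [hp : Fact p.Prime] [hq : Fact q.Prime]
  [Algebra (ZMod p) F]

omit hp hq [Algebra (ZMod p) F] in
theorem pow_char_sub_one {x : F} (hF : Nat.card F = p ^ q) (hx : x ≠ 0) : x ^ (p ^ q - 1) = 1 := by
  have := Fintype.ofFinite F
  rw [← hF, Nat.card_eq_fintype_card]
  exact FiniteField.pow_card_sub_one_eq_one x hx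

omit [Finite F] in
theorem exists_int_of_pow_eq (x : F) (hx : x ^ p = x) : ∃ k : ℤ, (k : F) = x := by
  have : CharP F p := charP_of_injective_algebraMap (algebraMap (ZMod p) F).injective p
  have h := (Subfield.mem_bot_iff_pow_eq_self F p).mpr hx
  exact (mem_bot_iff_intCast p F).mp h

omit [Finite F] in
theorem int_pow_char (k : ℤ) : (k : F) ^ p = (k : F) := by
  have h : ((k : ZMod p)) ^ p = (k : ZMod p) := ZMod.pow_card _
  have h2 := congrArg (algebraMap (ZMod p) F) h
  rw [map_pow, map_intCast] at h2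
  exact h2

omit [Finite F] in
theorem int_pow_char_sub_one {k : ℤ} (hk : (k : F) ≠ 0) : (k : F) ^ (p - 1) = 1 := by
  have h : (k : F) ^ p = (k : F) := int_pow_char (p := p) k
  have h1 : p = (p - 1) + 1 := (Nat.succ_pred_prime hp.out).symm
  rw [h1, pow_succ] at h
  exact mul_right_cancel₀ hk (by rw [h, one_mul])

/-- A norm one element in the prime field is one. -/
theorem eq_one_of_int (hA : Nat.Coprime (nU p q) (p - 1)) {w : F} (hw : w ^ (nU p q) = 1)
    (k : ℤ) (hk : (k : F) = w) : w = 1 := by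
  have hp1 := hp.out.one_lt
  have hn : nU p q ≠ 0 := (lt_trans hp.out.pos (nU_gt p q hp.out hq.out.two_le)).ne'
  have hw0 : w ≠ 0 := by
    rintro rfl
    rw [zero_pow hn] at hw
    exact zero_ne_one hw
  have h2 : w ^ (p - 1) = 1 := by
    rw [← hk] at hw0 ⊢
    exact int_pow_char_sub_one hw0
  have h3 : w ^ (Nat.gcd (nU p q) (p - 1)) = 1 := by
    rw [pow_gcd_eq_one]
    exact ⟨hw, h2⟩
  rwa [Nat.Coprime.gcd_eq_one hA, pow_one] at h3

omit hp hq in
/-- If `w ^ n = 1` and `w ^ (p - 1) = 1` then `w = 1`. -/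
theorem eq_one_of_pow (hA : Nat.Coprime (nU p q) (p - 1)) {M : Type*} [Monoid M]
    {w : M} (hw : w ^ (nU p q) = 1)
    (hk : w ^ (p - 1) = 1) : w = 1 := by
  have h3 : w ^ (Nat.gcd (nU p q) (p - 1)) = 1 := by
    rw [pow_gcd_eq_one]
    exact ⟨hw, hk⟩
  rwa [Nat.Coprime.gcd_eq_one hA, pow_one] at h3

/-- Every nonzero element is a product of a prime field element and a norm one element. -/
theorem exists_int_mul (hF : Nat.card F = p ^ q) (hA : Nat.Coprime (nU p q) (p - 1))
    {x : F} (hx : x ≠ 0) : ∃ k : ℤ, ∃ w : F, w ^ (nU p q) = 1 ∧ (k : F) ≠ 0 ∧ x = w * k := by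
  have hp1 := hp.out.one_lt
  -- `x ^ n` is in the prime field
  have h1 : (x ^ nU p q) ^ (p - 1) = 1 := by
    rw [← pow_mul, nU_mul]
    exact pow_char_sub_one hF hx
  have h2 : (x ^ nU p q) ^ p = x ^ nU p q := by
    calc (x ^ nU p q) ^ p = (x ^ nU p q) ^ ((p - 1) + 1) := by
          congr 1
          omega
      _ = x ^ nU p q := by rw [pow_succ, h1, one_mul]
  obtain ⟨c, hc⟩ := exists_int_of_pow_eq _ h2
  -- find `m` with `n m ≡ 1 mod p - 1`
  obtain ⟨m, hm⟩ : ∃ m : ℕ, nU p q * m ≡ 1 [MOD (p - 1)] := by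
    rcases Nat.eq_or_lt_of_le (show 1 ≤ p - 1 by omega) with h | h
    · exact ⟨0, by rw [← h]; exact Nat.modEq_one⟩
    · exact Nat.exists_mul_mod_eq_one_of_coprime hA h |>.imp fun m hm => by
        unfold Nat.ModEq
        rw [hm.2, Nat.mod_eq_of_lt h]
  have hc0 : (c : F) ≠ 0 := by
    rw [hc]
    exact pow_ne_zero _ hx
  have hcm : ((c : F) ^ m) ^ (nU p q) = c := by
    rw [← pow_mul, mul_comm]
    have h4 : (c : F) ^ (p - 1) = 1 := int_pow_char_sub_one hc0
    have h5 : (c : F) ^ (nU p q * m) = (c : F) ^ 1 := by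
      apply pow_eq_pow_of_modEq hm h4
    rw [h5, pow_one]
  refine ⟨c ^ m, x / (c : F) ^ m, ?_, ?_, ?_⟩
  · rw [div_pow, hcm, hc, div_self]
    rw [← hc]
    exact hc0
  · push_cast
    exact pow_ne_zero _ hc0
  · push_cast
    rw [div_mul_cancel₀]
    exact pow_ne_zero _ hc0

omit hq in
theorem finrank_eq (hF : Nat.card F = p ^ q) : Module.finrank (ZMod p) F = q := by
  have h := Module.natCard_eq_pow_finrank (K := ZMod p) (V := F)
  rw [hF, Nat.card_zmod] at h
  exact (Nat.pow_right_injective hp.out.two_le h).symm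

/-- There are norm one elements other than `1`. -/
theorem exists_ne_one (hF : Nat.card F = p ^ q) (hA : Nat.Coprime (nU p q) (p - 1)) :
    ∃ w : F, w ^ (nU p q) = 1 ∧ w ≠ 1 := by
  by_contra hcon
  push Not at hcon
  -- then every element is in the prime field
  have h1 : ∀ x : F, x ∈ (⊥ : Subalgebra (ZMod p) F) := by
    intro x
    by_cases hx : x = 0
    · rw [hx]
      exact Subalgebra.zero_mem _
    · obtain ⟨k, w, hw, -, rfl⟩ := exists_int_mul hF hA hx
      rw [hcon w hw, one_mul]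
      exact intCast_mem _ k
  have h2 : (⊥ : Subalgebra (ZMod p) F) = ⊤ := by
    rw [eq_top_iff]
    intro x _
    exact h1 x
  have h3 := Subalgebra.bot_eq_top_iff_finrank_eq_one.mp h2
  rw [finrank_eq hF] at h3
  exact hq.out.one_lt.ne' h3

/-- An additive subgroup containing all norm one elements is everything. -/
theorem mem_of_forall_norm_one (hF : Nat.card F = p ^ q) (hA : Nat.Coprime (nU p q) (p - 1))
    (R : AddSubgroup F) (hR : ∀ w : F, w ^ (nU p q) = 1 → w ∈ R) (x : F) : x ∈ R := by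
  by_cases hx : x = 0
  · rw [hx]
    exact R.zero_mem
  · obtain ⟨k, w, hw, -, rfl⟩ := exists_int_mul hF hA hx
    rw [mul_comm, ← zsmul_eq_mul]
    exact R.zsmul_mem (hR w hw) k

end

end Cfsg.Agent.OddOrderLocal.AppendixCField
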