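import Mathlib
import Cfsg.Agent.OddOrderLocal.AppendixC

/-!
# The final contradiction (Bender–Glauberman, Appendix C, Lemma C.3), second part
-/

set_option autoImplicit false

namespace Cfsg.Agent.OddOrderLocal.AppendixC2

open Cfsg.Agent.OddOrderLocal.AppendixCField
open Cfsg.Agent.OddOrderLocal.AppendixC
open Cfsg.Agent.OddOrderLocal.AppendixC.Conf

universe u v

variable {F : Type u} {G : Type v} [Field F] [Group G] {p q : ℕ} (c : Conf F G p q)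

/-- coercion of a norm one element to the field -/
abbrev co (w : rootsOfUnity (nU p q) F) : F := ((w : Fˣ) : F)

theorem co_mul (w w' : rootsOfUnity (nU p q) F) : co (w * w') = co w * co w' := by
  simp [co]

theorem co_pow (w : rootsOfUnity (nU p q) F) (n : ℕ) : co (w ^ n) = co w ^ n := by
  simp [co]

theorem co_inv (w : rootsOfUnity (nU p q) F) : co (w⁻¹) = (co w)⁻¹ := by
  simp [co]

theorem co_ne (w : rootsOfUnity (nU p q) F) : co w ≠ 0 := Units.ne_zero _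

theorem co_inj {w w' : rootsOfUnity (nU p q) F} (h : co w = co w') : w = w' := by
  ext
  exact h

theorem split_iff (m n k : ℤ) (w μ ν : rootsOfUnity (nU p q) F) :
    c.s ^ m * c.d w * c.s ^ n = c.d μ * c.s ^ k * c.d ν ↔
      ((m : F) + co w * n = co μ * k ∧ w = μ * ν) := by
  have h1 : c.s ^ m * c.d w * c.s ^ n = c.e ((m : F) + co w * n) * c.d w := by
    rw [← c.e_int, ← c.e_int, mul_assoc, c.d_mul_e, ← mul_assoc, ← c.e_add]
  have h2 : c.d μ * c.s ^ k * c.d ν = c.e (co μ * k) * c.d (μ * ν) := by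
    rw [← c.e_int, c.d_mul_e, map_mul, mul_assoc]
  rw [h1, h2]
  constructor
  · intro h
    exact c.ed_inj h
  · rintro ⟨h3, h4⟩
    rw [h3, h4]

variable [hp : Fact p.Prime] [hq : Fact q.Prime] [Algebra (ZMod p) F] [Finite F]

omit hq [Finite F] in
theorem split_pow (m n k : ℤ) (w μ ν : rootsOfUnity (nU p q) F)
    (h : c.s ^ m * c.d w * c.s ^ n = c.d μ * c.s ^ k * c.d ν) :
    c.s ^ m * c.d (w ^ p) * c.s ^ n = c.d (μ ^ p) * c.s ^ k * c.d (ν ^ p) := by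
  rw [split_iff] at h ⊢
  obtain ⟨h1, h2⟩ := h
  have : CharP F p := charP_of_injective_algebraMap (algebraMap (ZMod p) F).injective p
  constructor
  · rw [co_pow, co_pow]
    have h3 : ((m : F) + co w * n) ^ p = (co μ * k) ^ p := by rw [h1]
    rw [add_pow_char, mul_pow, mul_pow, int_pow_char, int_pow_char, int_pow_char] at h3
    exact h3
  · rw [h2, mul_pow]

theorem split_exists (hF : Nat.card F = p ^ q) (hA : Nat.Coprime (nU p q) (p - 1)) (m n : ℤ)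
    (w : rootsOfUnity (nU p q) F) :
    ∃ (μ ν : rootsOfUnity (nU p q) F) (k : ℤ),
      c.s ^ m * c.d w * c.s ^ n = c.d μ * c.s ^ k * c.d ν := by
  have hn : nU p q ≠ 0 := (lt_trans hp.out.pos (nU_gt p q hp.out hq.out.two_le)).ne'
  have hnz : NeZero (nU p q) := ⟨hn⟩
  by_cases h : (m : F) + co w * n = 0
  · refine ⟨1, w, 0, ?_⟩
    rw [split_iff, h]
    simp
  · obtain ⟨k, v, hv, hk, hx⟩ := exists_int_mul hF hA h
    refine ⟨rootsOfUnity.mkOfPowEq v hv, (rootsOfUnity.mkOfPowEq v hv)⁻¹ * w, k, ?_⟩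
    rw [split_iff]
    refine ⟨hx, ?_⟩
    rw [mul_inv_cancel_left]

omit hq [Finite F] hp [Algebra (ZMod p) F] in
/-- Three identities in `Q ⋊ P₀`. -/
theorem X1 : c.t * c.s ^ (-2 : ℤ) * c.t * c.s * c.t ^ (-2 : ℤ) = c.s ^ (-1 : ℤ) := by
  have h1 : c.t = c.t ^ (1 : ℤ) := (zpow_one _).symm
  have h2 : c.s = c.s ^ (1 : ℤ) := (zpow_one _).symm
  rw [h1, h2, ← zpow_mul, ← zpow_mul, ← zpow_mul]
  simp only [t_eq_pt, s_eq_pt, pt_mul, map_sub, map_zero, σp_Y]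
  norm_num

omit hq [Finite F] hp [Algebra (ZMod p) F] in
theorem X3 : c.t ^ (2 : ℤ) * c.s ^ (-3 : ℤ) * c.t * c.s ^ (2 : ℤ) * c.t ^ (-3 : ℤ) =
    c.s ^ (-1 : ℤ) := by
  have h1 : c.t = c.t ^ (1 : ℤ) := (zpow_one _).symm
  have h2 : c.s = c.s ^ (1 : ℤ) := (zpow_one _).symm
  rw [h1, h2]
  simp only [← zpow_mul]
  simp only [t_eq_pt, s_eq_pt, pt_mul, map_sub, map_zero, σp_Y]
  norm_num

omit hq [Finite F] hp [Algebra (ZMod p) F] in
theorem X2 : c.t * c.s ^ (-3 : ℤ) * c.t ^ (2 : ℤ) * c.s * c.t ^ (-3 : ℤ) =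
    c.s ^ (-2 : ℤ) := by
  have h1 : c.t = c.t ^ (1 : ℤ) := (zpow_one _).symm
  have h2 : c.s = c.s ^ (1 : ℤ) := (zpow_one _).symm
  rw [h1, h2]
  simp only [← zpow_mul]
  simp only [t_eq_pt, s_eq_pt, pt_mul, map_sub, map_zero, σp_Y]
  norm_num

omit hq [Finite F] hp [Algebra (ZMod p) F] in
/-- The main relation, before the elements of `H` are split. -/
theorem relation0 (a b : rootsOfUnity (nU p q) F) (hab : co a + co b = 2) :
    c.t * (c.s ^ (1 : ℤ) * c.d ((c.τ ^ (-2 : ℤ)) (b⁻¹ * a)) * c.s ^ (-3 : ℤ)) * c.t =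
    (c.s ^ (2 : ℤ) * c.d ((c.τ ^ (-1 : ℤ)) b⁻¹) * c.s ^ (-3 : ℤ)) * c.t ^ (2 : ℤ) *
      (c.s ^ (1 : ℤ) * c.d ((c.τ ^ (-3 : ℤ)) a) * c.s ^ (-2 : ℤ)) := by
  -- the relation in `H`
  have hH : c.s ^ (-1 : ℤ) * c.d (b⁻¹ * a) * c.s ^ (-1 : ℤ) =
      c.d b⁻¹ * c.s ^ (-2 : ℤ) * c.d a := by
    rw [split_iff]
    refine ⟨?_, rfl⟩
    rw [co_mul, co_inv]
    have hb := co_ne b
    have ha : co a = 2 - co b := by rw [← hab]; ring
    rw [ha]
    push_cast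
    field_simp
    ring
  have e1 := X1 c
  have e2 := X2 c
  have e3 := X3 c
  rw [← c.tpow_mul_d, ← c.tpow_mul_d, ← c.tpow_mul_d]
  have f1 : c.t * c.s * c.t ^ (-2 : ℤ) = c.s ^ (2 : ℤ) * c.t⁻¹ * c.s ^ (-1 : ℤ) := by
    rw [← e1]
    group
  have f3 : c.t ^ (2 : ℤ) * c.s ^ (-3 : ℤ) * c.t = c.s ^ (-1 : ℤ) * c.t ^ (3 : ℤ) *
      c.s ^ (-2 : ℤ) := by
    rw [← e3]
    group
  calc c.t * (c.s ^ (1 : ℤ) * (c.t ^ (-2 : ℤ) * c.d (b⁻¹ * a) * (c.t ^ (-2 : ℤ))⁻¹) *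
        c.s ^ (-3 : ℤ)) * c.t
      = (c.t * c.s * c.t ^ (-2 : ℤ)) * c.d (b⁻¹ * a) *
        (c.t ^ (2 : ℤ) * c.s ^ (-3 : ℤ) * c.t) := by group
    _ = c.s ^ (2 : ℤ) * c.t⁻¹ * (c.s ^ (-1 : ℤ) * c.d (b⁻¹ * a) * c.s ^ (-1 : ℤ)) *
        c.t ^ (3 : ℤ) * c.s ^ (-2 : ℤ) := by
          rw [f1, f3]
          simp only [mul_assoc]
    _ = c.s ^ (2 : ℤ) * c.t⁻¹ * (c.d b⁻¹ * c.s ^ (-2 : ℤ) * c.d a) *
        c.t ^ (3 : ℤ) * c.s ^ (-2 : ℤ) := by rw [hH]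
    _ = c.s ^ (2 : ℤ) * c.t⁻¹ * (c.d b⁻¹ * (c.t * c.s ^ (-3 : ℤ) * c.t ^ (2 : ℤ) * c.s *
        c.t ^ (-3 : ℤ)) * c.d a) * c.t ^ (3 : ℤ) * c.s ^ (-2 : ℤ) := by rw [e2]
    _ = _ := by group

omit hq [Finite F] hp [Algebra (ZMod p) F] in
/-- The main relation. -/
theorem relation (a b μ1 ν1 μ2 ν2 μ3 ν3 : rootsOfUnity (nU p q) F) (k1 k2 k3 : ℤ)
    (hab : co a + co b = 2)
    (h1 : c.s ^ (1 : ℤ) * c.d ((c.τ ^ (-3 : ℤ)) a) * c.s ^ (-2 : ℤ) = c.d μ1 * c.s ^ k1 * c.d ν1)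
    (h2 : c.s ^ (1 : ℤ) * c.d ((c.τ ^ (-2 : ℤ)) (b⁻¹ * a)) * c.s ^ (-3 : ℤ) =
      c.d μ2 * c.s ^ k2 * c.d ν2)
    (h3 : c.s ^ (2 : ℤ) * c.d ((c.τ ^ (-1 : ℤ)) b⁻¹) * c.s ^ (-3 : ℤ) =
      c.d μ3 * c.s ^ k3 * c.d ν3) :
    c.t * c.s ^ k2 * c.t = c.d ((c.τ μ2)⁻¹ * μ3) * c.s ^ k3 *
      c.d (ν3 * (c.τ ^ (2 : ℤ)) μ1) * c.t ^ (2 : ℤ) * c.s ^ k1 *
      c.d (ν1 * ((c.τ ^ (-1 : ℤ)) ν2)⁻¹) := by
  have h := relation0 c a b hab
  rw [h1, h2, h3] at h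
  have e1 : c.d (c.τ μ2) = c.t * c.d μ2 * c.t⁻¹ := (c.t_mul_d μ2).symm
  have e2 : c.d ((c.τ ^ (2 : ℤ)) μ1) = c.t ^ (2 : ℤ) * c.d μ1 * (c.t ^ (2 : ℤ))⁻¹ :=
    (c.tpow_mul_d 2 μ1).symm
  have e3 : c.d ((c.τ ^ (-1 : ℤ)) ν2) = c.t ^ (-1 : ℤ) * c.d ν2 * (c.t ^ (-1 : ℤ))⁻¹ :=
    (c.tpow_mul_d (-1) ν2).symm
  rw [map_mul, map_mul, map_mul, map_inv, map_inv, e1, e2, e3]
  have h' : c.t * c.s ^ k2 * c.t = (c.t * c.d μ2 * c.t⁻¹)⁻¹ *
      (c.t * (c.d μ2 * c.s ^ k2 * c.d ν2) * c.t) *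
      (c.t ^ (-1 : ℤ) * c.d ν2 * (c.t ^ (-1 : ℤ))⁻¹)⁻¹ := by group
  rw [h', h]
  group

theorem relation_trivial (hF : Nat.card F = p ^ q) (hA : Nat.Coprime (nU p q) (p - 1))
    (hp2 : p ≠ 2)
    (a b : rootsOfUnity (nU p q) F) (hab : co a + co b = 2) :
    ∃ (μ1 : rootsOfUnity (nU p q) F) (k1 k2 k3 : ℤ), (k1 : F) ≠ 0 ∧ (k3 : F) ≠ 0 ∧
      1 + co ((c.τ ^ (-3 : ℤ)) a) * (-2 : ℤ) = co μ1 * k1 ∧
      c.t * c.s ^ k2 * c.t = c.s ^ k3 * c.t ^ (2 : ℤ) * c.s ^ k1 := by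
  have : CharP F p := charP_of_injective_algebraMap (algebraMap (ZMod p) F).injective p
  have h20 : (2 : F) ≠ 0 := by
    intro h
    have h1 : ((2 : ℕ) : F) = 0 := by exact_mod_cast h
    rw [CharP.cast_eq_zero_iff F p] at h1
    exact hp2 ((Nat.prime_dvd_prime_iff_eq hp.out Nat.prime_two).mp h1)
  obtain ⟨μ1, ν1, k1, h1⟩ := split_exists c hF hA 1 (-2) ((c.τ ^ (-3 : ℤ)) a)
  obtain ⟨μ2, ν2, k2, h2⟩ := split_exists c hF hA 1 (-3) ((c.τ ^ (-2 : ℤ)) (b⁻¹ * a))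
  obtain ⟨μ3, ν3, k3, h3⟩ := split_exists c hF hA 2 (-3) ((c.τ ^ (-1 : ℤ)) b⁻¹)
  have hpow : ∀ (w : rootsOfUnity (nU p q) F), co w ^ nU p q = 1 := by
    intro w
    rw [← co_pow, pow_nU_eq_one]
    rfl
  have hk1 : (k1 : F) ≠ 0 := by
    intro h0
    have h4 := ((split_iff c _ _ _ _ _ _).mp h1).1
    rw [h0, mul_zero] at h4
    push_cast at h4
    -- `co w = 1 / 2` is in the prime field, hence is `1`
    have h5 : co ((c.τ ^ (-3 : ℤ)) a) * 2 = 1 := by linear_combination -h4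
    have h6 : co ((c.τ ^ (-3 : ℤ)) a) ^ p = co ((c.τ ^ (-3 : ℤ)) a) := by
      have h7 := congrArg (fun x : F => x ^ p) h5
      simp only [mul_pow, one_pow] at h7
      have h8 : (2 : F) ^ p = 2 := by
        have := int_pow_char (F := F) (p := p) 2
        exact_mod_cast this
      rw [h8, ← h5] at h7
      exact mul_right_cancel₀ h20 h7
    have h9 := eq_one_of_pow_pred hA (w := (c.τ ^ (-3 : ℤ)) a) (by
      apply co_inj
      rw [co_pow]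
      exact h6)
    rw [h9] at h5
    have h10 : co (1 : rootsOfUnity (nU p q) F) = 1 := rfl
    rw [h10] at h5
    have h11 : (1 : F) = 0 := by linear_combination h5
    exact one_ne_zero h11
  have hk3 : (k3 : F) ≠ 0 := by
    intro h0
    have h4 := ((split_iff c _ _ _ _ _ _).mp h3).1
    rw [h0, mul_zero] at h4
    push_cast at h4
    have h5 : co ((c.τ ^ (-1 : ℤ)) b⁻¹) * 3 = 2 := by linear_combination -h4
    have h30 : (3 : F) ≠ 0 := by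
      intro h
      rw [h, mul_zero] at h5
      exact h20 h5.symm
    have h6 : co ((c.τ ^ (-1 : ℤ)) b⁻¹) ^ p = co ((c.τ ^ (-1 : ℤ)) b⁻¹) := by
      have h7 := congrArg (fun x : F => x ^ p) h5
      simp only [mul_pow] at h7
      have h8 : (2 : F) ^ p = 2 := by
        have := int_pow_char (F := F) (p := p) 2
        exact_mod_cast this
      have h8' : (3 : F) ^ p = 3 := by
        have := int_pow_char (F := F) (p := p) 3
        exact_mod_cast this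
      rw [h8, h8', ← h5] at h7
      exact mul_right_cancel₀ h30 h7
    have h9 := eq_one_of_pow_pred hA (w := (c.τ ^ (-1 : ℤ)) b⁻¹) (by
      apply co_inj
      rw [co_pow]
      exact h6)
    rw [h9] at h5
    have h10 : co (1 : rootsOfUnity (nU p q) F) = 1 := rfl
    rw [h10] at h5
    have h11 : (1 : F) = 0 := by linear_combination h5
    exact one_ne_zero h11
  refine ⟨μ1, k1, k2, k3, hk1, hk3, ?_, ?_⟩
  · have := ((split_iff c _ _ _ _ _ _).mp h1).1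
    simpa using this
  -- the two relations
  have r1 := relation c a b μ1 ν1 μ2 ν2 μ3 ν3 k1 k2 k3 hab h1 h2 h3
  have hab' : co (a ^ p) + co (b ^ p) = 2 := by
    rw [co_pow, co_pow, ← add_pow_char, hab]
    have := int_pow_char (F := F) (p := p) 2
    exact_mod_cast this
  have r2 := relation c (a ^ p) (b ^ p) (μ1 ^ p) (ν1 ^ p) (μ2 ^ p) (ν2 ^ p) (μ3 ^ p) (ν3 ^ p)
    k1 k2 k3 hab' (by rw [map_pow]; exact split_pow c _ _ _ _ _ _ h1)
    (by rw [← inv_pow, ← mul_pow, map_pow]; exact split_pow c _ _ _ _ _ _ h2)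
    (by rw [← inv_pow, map_pow]; exact split_pow c _ _ _ _ _ _ h3)
  rw [map_pow, map_pow, map_pow, ← inv_pow, ← inv_pow, ← mul_pow, ← mul_pow, ← mul_pow] at r2
  generalize (c.τ μ2)⁻¹ * μ3 = w1 at r1 r2
  generalize ν3 * (c.τ ^ (2 : ℤ)) μ1 = w2 at r1 r2
  generalize ν1 * ((c.τ ^ (-1 : ℤ)) ν2)⁻¹ = w3 at r1 r2
  rw [r1] at r2
  -- an element of `H ∩ t^2 H t^-2`
  have key : c.d (w2 ^ p)⁻¹ * (c.s ^ (-k3) * c.d ((w1 ^ p)⁻¹ * w1) * (c.s ^ (-k3))⁻¹) * c.d w2 =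
      c.t ^ (2 : ℤ) * (c.s ^ k1 * c.d (w3 ^ p * w3⁻¹) * (c.s ^ k1)⁻¹) * (c.t ^ (2 : ℤ))⁻¹ := by
    have r3 : (c.d (w1 ^ p) * c.s ^ k3 * c.d (w2 ^ p))⁻¹ * (c.d w1 * c.s ^ k3 * c.d w2) =
        c.t ^ (2 : ℤ) * (c.s ^ k1 * (c.d (w3 ^ p) * (c.d w3)⁻¹) * (c.s ^ k1)⁻¹) *
          (c.t ^ (2 : ℤ))⁻¹ := by
      rw [inv_mul_eq_iff_eq_mul]
      have r4 : c.d w1 * c.s ^ k3 * c.d w2 = (c.d w1 * c.s ^ k3 * c.d w2 * c.t ^ (2 : ℤ) *
        c.s ^ k1 * c.d w3) * ((c.d w3)⁻¹ * (c.s ^ k1)⁻¹ * (c.t ^ (2 : ℤ))⁻¹) := by group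
      rw [r4, r2]
      group
    rw [map_mul, map_mul, map_inv, map_inv, map_inv, ← r3]
    group
  have h2F : ((2 : ℤ) : F) ≠ 0 := by exact_mod_cast h20
  have h2F' : ((-2 : ℤ) : F) ≠ 0 := by
    push_cast
    exact neg_ne_zero.mpr h20
  rw [c.s_mul_d, c.s_mul_d, ← mul_assoc, c.d_mul_e, mul_assoc, mul_assoc, ← map_mul,
    ← map_mul] at key
  have s1 := c.step3 hF hA 2 h2F key
  have key' := key
  have s2 : (k1 : F) * (1 - co (w3 ^ p * w3⁻¹)) = 0 := by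
    apply c.step3 hF hA (-2) h2F' (w := w3 ^ p * w3⁻¹)
    rw [zpow_neg, inv_inv, eq_comm, mul_assoc, inv_mul_eq_iff_eq_mul, ← eq_mul_inv_iff_mul_eq]
    exact key
  have hw3 : w3 = 1 := by
    have h12 := (mul_eq_zero.mp s2).resolve_left hk1
    have h13 : w3 ^ p * w3⁻¹ = 1 := by
      apply co_inj
      exact (sub_eq_zero.mp h12).symm
    exact eq_one_of_pow_pred hA (mul_inv_eq_one.mp h13)
  have hw1 : w1 = 1 := by
    have h12 := (mul_eq_zero.mp s1).resolve_left (Units.ne_zero _)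
    have h13 : ((-k3 : ℤ) : F) ≠ 0 := by
      push_cast
      exact neg_ne_zero.mpr hk3
    have h14 := (mul_eq_zero.mp h12).resolve_left h13
    have h15 : (w1 ^ p)⁻¹ * w1 = 1 := by
      apply co_inj
      exact (sub_eq_zero.mp h14).symm
    exact eq_one_of_pow_pred hA (inv_mul_eq_one.mp h15)
  have hw2 : w2 = 1 := by
    rw [s1, hw3, hw1] at key
    simp only [one_pow, inv_one, mul_one, map_one] at key
    have h16 : (((1 : rootsOfUnity (nU p q) F) : Fˣ) : F) = 1 := rfl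
    rw [h16] at key
    simp only [sub_self, mul_zero, c.e_zero, one_mul, mul_one, mul_inv_cancel] at key
    have h17 : (w2 ^ p)⁻¹ * w2 = 1 := c.d_inj (by rw [key, map_one])
    exact eq_one_of_pow_pred hA (inv_mul_eq_one.mp h17)
  rw [r1, hw1, hw2, hw3]
  simp only [map_one, one_mul, mul_one]


omit hq [Finite F] hp [Algebra (ZMod p) F] in
theorem pt_conj (i j : ℤ) : c.s ^ j * c.t ^ (i - j) * c.s ^ (-i) = c.pt (c.Y j - c.Y i) 0 := by
  simp only [t_eq_pt, s_eq_pt, pt_mul, map_sub, map_zero, σp_Y]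
  norm_num

/-- Two "lines" through two distinct points are equal. -/
theorem collinear (hF : Nat.card F = p ^ q) (hA : Nat.Coprime (nU p q) (p - 1)) (i j k l : ℤ)
    (h : c.Y i - c.Y j = c.Y k - c.Y l) (hij : ((i - j : ℤ) : F) ≠ 0) : (j : F) = (l : F) := by
  have h1 : c.s ^ j * c.t ^ (i - j) * c.s ^ (-i) = c.s ^ l * c.t ^ (k - l) * c.s ^ (-k) := by
    rw [pt_conj, pt_conj, ← neg_sub, h, neg_sub]
  by_cases hkl : ((k - l : ℤ) : F) = 0
  · exfalso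
    have h2 : c.t ^ (k - l) = 1 := by
      have := c.tpow_congr (k := k - l) (l := 0) (by rw [hkl]; simp)
      rw [this, zpow_zero]
    have h3 : c.s ^ (l - k) = 1 := by
      have := c.spow_congr (k := l - k) (l := 0) (by
        have : ((l - k : ℤ) : F) = -((k - l : ℤ) : F) := by push_cast; ring
        rw [this, hkl]; simp)
      rw [this, zpow_zero]
    rw [h2, mul_one, ← zpow_add] at h1
    have h4 : l + -k = l - k := by ring
    rw [h4, h3] at h1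
    apply c.not_eq_of_pow hF hA (i - j) hij
    have h5 : c.t ^ (i - j) = (c.s ^ j)⁻¹ * (c.s ^ j * c.t ^ (i - j) * c.s ^ (-i)) *
        (c.s ^ (-i))⁻¹ := by group
    rw [h5, h1, mul_one, zpow_neg, inv_inv, ← zpow_neg, ← zpow_add]
    congr 1
    ring
  · obtain ⟨w, hw⟩ := exists_W (F := F) hF hA
    -- `w'` with `t^(i-j) d(w') t^(j-i) = d(w)`
    have e1 : c.d w = c.t ^ (i - j) * c.d ((c.τ ^ (-(i - j))) w) * (c.t ^ (i - j))⁻¹ := by
      rw [c.tpow_mul_d, ← MulAut.mul_apply, ← zpow_add, add_neg_cancel, zpow_zero,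
        MulAut.one_apply]
    set w' := (c.τ ^ (-(i - j))) w with hw'
    have e2 : c.s ^ (j - l) * c.d w * (c.s ^ (j - l))⁻¹ =
        c.t ^ (k - l) * (c.s ^ (i - k) * c.d w' * (c.s ^ (i - k))⁻¹) * (c.t ^ (k - l))⁻¹ := by
      have e3 : c.s ^ (j - l) * c.d w * (c.s ^ (j - l))⁻¹ =
        (c.s ^ l)⁻¹ * (c.s ^ j * c.t ^ (i - j) * c.s ^ (-i)) * (c.s ^ i * c.d w' * (c.s ^ i)⁻¹) *
          (c.s ^ j * c.t ^ (i - j) * c.s ^ (-i))⁻¹ * c.s ^ l := by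
        rw [e1, zpow_sub, zpow_neg]
        have hc : c.s ^ j * (c.s ^ l)⁻¹ = (c.s ^ l)⁻¹ * c.s ^ j := by
          rw [← zpow_neg, ← zpow_add, ← zpow_add, add_comm]
        rw [hc]
        group
      have hc : c.s ^ (i - k) = (c.s ^ k)⁻¹ * c.s ^ i := by
        rw [← zpow_neg, ← zpow_add]
        congr 1
        ring
      rw [e3, h1, hc]
      group
    rw [c.s_mul_d, c.s_mul_d] at e2
    have e4 := c.step3 hF hA (k - l) hkl e2
    rcases mul_eq_zero.mp e4 with e5 | e5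
    · push_cast at e5
      exact sub_eq_zero.mp e5
    · exact absurd (sub_eq_zero.mp e5).symm hw

/-- The exponents in the main relation are the obvious ones. -/
theorem exponent (hF : Nat.card F = p ^ q) (hA : Nat.Coprime (nU p q) (p - 1)) (k1 k2 k3 : ℤ)
    (hk3 : (k3 : F) ≠ 0)
    (h : c.t * c.s ^ k2 * c.t = c.s ^ k3 * c.t ^ (2 : ℤ) * c.s ^ k1) : (k1 : F) = -1 := by
  have h1 : c.t = c.t ^ (1 : ℤ) := (zpow_one _).symm
  rw [h1, ← zpow_mul] at h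
  simp only [t_eq_pt, s_eq_pt, pt_mul, map_sub, map_add, map_zero, σp_Y] at h
  obtain ⟨h2, h3⟩ := c.pt_inj h
  push_cast at h3
  -- the element `z`
  set z : c.A := c.Y 0 + c.Y (1 + k2) - c.Y k3 - c.Y (k3 + 1) with hz
  have hz0 : z = 0 := by
    obtain ⟨x1, hx1⟩ := c.Y_sub_Y k3
    obtain ⟨x2, hx2⟩ := c.Y_sub_Y (k3 + 1)
    obtain ⟨x3, hx3⟩ := c.Y_sub_Y (1 + k2)
    apply c.eq_zero_of_fixed (x := x1 + x2 - x3)
    · rw [hz]
      simp only [map_sub, map_add, σp_Y]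
      have e1 : (1 : ℤ) + (1 + k2) = 1 + k2 + 1 := by ring
      have e2 : (1 : ℤ) + k3 = k3 + 1 := by ring
      have e3 : (1 : ℤ) + (k3 + 1) = k3 + 2 := by ring
      rw [e1, e2, e3]
      norm_num at h2 ⊢
      have h4 := sub_eq_zero.mpr h2
      rw [← sub_eq_zero, ← neg_eq_zero, ← h4]
      abel
    · have : z = (c.Y 0 - c.Y k3) + (c.Y 0 - c.Y (k3 + 1)) - (c.Y 0 - c.Y (1 + k2)) := by
        rw [hz]; abel
      rw [this, hx1, hx2, hx3, map_sub, map_add]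
      abel
  have h5 : c.Y 0 - c.Y k3 = c.Y (k3 + 1) - c.Y (1 + k2) := by
    rw [← sub_eq_zero, ← hz0, hz]
    abel
  have h6 := collinear c hF hA 0 k3 (k3 + 1) (1 + k2) h5 (by
    push_cast
    rw [zero_sub]
    exact neg_ne_zero.mpr hk3)
  have h7 : c.Y k3 - c.Y 0 = c.Y (1 + k2) - c.Y (k3 + 1) := by
    rw [← neg_sub, h5, neg_sub]
  have h8 := collinear c hF hA k3 0 (1 + k2) (k3 + 1) h7 (by
    push_cast
    rw [sub_zero]
    exact hk3)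
  push_cast at h6 h8
  linear_combination -h3 - h6

/-- If `a` and `2 - a` have norm one, then so have `c⁻¹` and `2 - c⁻¹` for `c = τ⁻³ a`. -/
theorem inv_mem_twist (hF : Nat.card F = p ^ q) (hA : Nat.Coprime (nU p q) (p - 1))
    (hp2 : p ≠ 2) (a b : rootsOfUnity (nU p q) F) (hab : co a + co b = 2) :
    ∃ b' : rootsOfUnity (nU p q) F, co ((c.τ ^ (-3 : ℤ)) a)⁻¹ + co b' = 2 := by
  obtain ⟨μ1, k1, k2, k3, hk1, hk3, h1, h2⟩ := relation_trivial c hF hA hp2 a b hab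
  have h3 := exponent c hF hA k1 k2 k3 hk3 h2
  rw [h3] at h1
  refine ⟨μ1 * ((c.τ ^ (-3 : ℤ)) a)⁻¹, ?_⟩
  rw [co_mul, co_inv]
  have h4 := co_ne ((c.τ ^ (-3 : ℤ)) a)
  field_simp
  push_cast at h1
  linear_combination h1

include c in
/-- `E` is closed under inversion. -/
theorem inv_mem (hF : Nat.card F = p ^ q) (hA : Nat.Coprime (nU p q) (p - 1))
    (hp2 : p ≠ 2) (a b : rootsOfUnity (nU p q) F) (hab : co a + co b = 2) :
    ∃ b' : rootsOfUnity (nU p q) F, co a⁻¹ + co b' = 2 := by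
  have key : ∀ n : ℕ, ∃ b' : rootsOfUnity (nU p q) F,
      co ((c.τ ^ (-3 * (2 * n + 1) : ℤ)) a)⁻¹ + co b' = 2 := by
    intro n
    induction n with
    | zero =>
      simpa using inv_mem_twist c hF hA hp2 a b hab
    | succ n ih =>
      obtain ⟨b1, hb1⟩ := ih
      obtain ⟨b2, hb2⟩ := inv_mem_twist c hF hA hp2 _ b1 hb1
      obtain ⟨b3, hb3⟩ := inv_mem_twist c hF hA hp2 _ b2 hb2
      refine ⟨b3, ?_⟩
      rw [← hb3]
      congr 2
      rw [map_inv, map_inv, map_inv, inv_inv, ← MulAut.mul_apply, ← MulAut.mul_apply,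
        ← zpow_add, ← zpow_add]
      congr 3
      push_cast
      ring
  obtain ⟨m, hm⟩ : Odd p := hp.out.odd_of_ne_two hp2
  obtain ⟨b', hb'⟩ := key m
  refine ⟨b', ?_⟩
  rw [← hb']
  congr 2
  have h1 : (-3 * (2 * (m : ℤ) + 1)) = -3 * (p : ℤ) := by rw [hm]; push_cast; ring
  rw [h1]
  apply congrArg
  apply c.d_inj
  have h2 : c.t ^ (-3 * (p : ℤ)) = 1 := by
    have := c.tpow_congr (k := -3 * (p : ℤ)) (l := 0) (by
      push_cast
      rw [char_cast (F := F), mul_zero])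
    rw [this, zpow_zero]
  rw [← c.tpow_mul_d, h2]
  group


end Cfsg.Agent.OddOrderLocal.AppendixC2
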