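import Mathlib

/-!
# Appendix C of Bender–Glauberman: the two field lemmas, for an arbitrary field with `p ^ q` elements

`E` is the set of `a` with `a ^ N = (2 - a) ^ N = 1`, `N = (p ^ q - 1) / (p - 1)`.
* `le_of_inv_closed` (Lemma C.1): if `E` is closed under inversion and contains some `a ≠ 1` then `p ≤ q`.
* `exists_ne_one` (Lemma C.2): for `p`, `q` odd primes `E` contains some `a ≠ 1`.
-/

set_option autoImplicit false

namespace Cfsg.Agent.OddOrderLocal.AppCField

open Polynomial Finset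

theorem geom_eq (p q : ℕ) (hp : 2 ≤ p) : (p ^ q - 1) / (p - 1) = ∑ i ∈ range q, p ^ i :=
  (Nat.geomSum_eq hp q).symm

theorem pow_geom_eq_prod {F : Type*} [Field F] (p q : ℕ) (hp : 2 ≤ p) (x : F) :
    x ^ ((p ^ q - 1) / (p - 1)) = ∏ i ∈ range q, x ^ p ^ i := by
  rw [geom_eq p q hp, Finset.prod_pow_eq_pow_sum]

theorem natCast_pow_char_pow {F : Type*} [Field F] (p : ℕ) [Fact p.Prime] [CharP F p] (k i : ℕ) :
    (k : F) ^ p ^ i = k := by
  have : ExpChar F p := ExpChar.prime Fact.out
  have := map_natCast (iterateFrobenius F p i) k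
  rwa [iterateFrobenius_def] at this

/-- Lemma C.1 of Bender–Glauberman. -/
theorem le_of_inv_closed {F : Type*} [Field F] [Fintype F] (p q : ℕ) [Fact p.Prime]
    (hq : 0 < q) (hF : Fintype.card F = p ^ q)
    (hinv : ∀ a : F, a ^ ((p ^ q - 1) / (p - 1)) = 1 → (2 - a) ^ ((p ^ q - 1) / (p - 1)) = 1 →
      (2 - a⁻¹) ^ ((p ^ q - 1) / (p - 1)) = 1)
    (a : F) (ha1 : a ≠ 1) (ha : a ^ ((p ^ q - 1) / (p - 1)) = 1)
    (ha2 : (2 - a) ^ ((p ^ q - 1) / (p - 1)) = 1) : p ≤ q := by
  classical
  have hp2 : 2 ≤ p := (Fact.out : p.Prime).two_le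
  have : CharP F p := charP_of_card_eq_prime_pow hF
  have : ExpChar F p := ExpChar.prime Fact.out
  set N := (p ^ q - 1) / (p - 1) with hN
  have hN0 : N ≠ 0 := by
    rw [hN, geom_eq p q hp2]
    have : 0 < ∑ i ∈ range q, p ^ i := Finset.sum_pos (fun i _ => by positivity) ⟨0, by simp [hq]⟩
    omega
  -- membership in E
  have E0 : ∀ x : F, x ^ N = 1 → x ≠ 0 := by
    intro x hx h0
    rw [h0, zero_pow hN0] at hx
    exact zero_ne_one hx
  -- closure under τ
  have hτ : ∀ x : F, x ^ N = 1 → (2 - x) ^ N = 1 →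
      ((2 - x)⁻¹ ^ N = 1 ∧ (2 - (2 - x)⁻¹) ^ N = 1) := by
    intro x hx hx2
    refine ⟨by rw [inv_pow, hx2, inv_one], hinv (2 - x) hx2 (by rw [sub_sub_cancel]; exact hx)⟩
  -- h k = 1 + k (1 - a)
  let h : ℕ → F := fun k => 1 + k * (1 - a)
  have hstep : ∀ k : ℕ, h (k + 1) ≠ 0 ∧ (h k / h (k + 1)) ^ N = 1 ∧
      (2 - h k / h (k + 1)) ^ N = 1 := by
    intro k
    induction k with
    | zero =>
      have e0 : h 0 = 1 := by simp [h]
      have e1 : h (0 + 1) = 2 - a := by simp [h]; ring
      rw [e0, e1]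
      refine ⟨E0 _ ha2, ?_⟩
      rw [one_div]
      exact hτ a ha ha2
    | succ k ih =>
      obtain ⟨h0, h1, h2⟩ := ih
      have hk2 : h (k + 1 + 1) = 2 * h (k + 1) - h k := by
        simp only [h]; push_cast; ring
      have key : 2 - h k / h (k + 1) = h (k + 1 + 1) / h (k + 1) := by
        rw [hk2]; field_simp
      have hne : h (k + 1 + 1) ≠ 0 := by
        intro h0'
        have := E0 _ h2
        rw [key, h0', zero_div] at this
        exact this rfl
      refine ⟨hne, ?_⟩
      have := hτ _ h1 h2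
      rw [key, inv_div] at this
      exact this
  have hNk : ∀ k : ℕ, h k ^ N = 1 := by
    intro k
    induction k with
    | zero => simp [h]
    | succ k ih =>
      obtain ⟨h0, h1, h2⟩ := hstep k
      rw [div_pow, ih, one_div] at h1
      exact inv_eq_one.mp h1
  -- the polynomial
  by_contra hlt
  push Not at hlt
  let Pa : F[X] := ∏ i ∈ range q, (C ((1 - a) ^ p ^ i) * X + C 1)
  have hdegfac : ∀ i ∈ range q, (C ((1 - a) ^ p ^ i) * X + C 1 : F[X]).natDegree = 1 := by
    intro i _
    exact natDegree_linear (pow_ne_zero _ (sub_ne_zero.mpr (Ne.symm ha1)))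
  have hdeg : Pa.natDegree = q := by
    have : Pa.natDegree = ∑ i ∈ range q, (C ((1 - a) ^ p ^ i) * X + C 1 : F[X]).natDegree := by
      apply natDegree_prod
      intro i hi h0
      have := hdegfac i hi
      rw [h0] at this
      simp at this
    rw [this, Finset.sum_congr rfl hdegfac]
    simp
  have hdeg1 : (Pa - C 1).natDegree = q := by
    rw [natDegree_sub_C, hdeg]
  have hz : Pa - C 1 = 0 := by
    apply eq_zero_of_natDegree_lt_card_of_eval_eq_zero' (Pa - C 1)
      ((Finset.range p).image (fun k : ℕ => (k : F)))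
    · intro x hx
      obtain ⟨k, hk, rfl⟩ := Finset.mem_image.mp hx
      have : Pa.eval (k : F) = h k ^ N := by
        rw [hN, pow_geom_eq_prod p q hp2, eval_prod]
        apply Finset.prod_congr rfl
        intro i _
        simp only [eval_add, eval_mul, eval_C, eval_X, h]
        rw [add_pow_char_pow, one_pow, mul_pow, natCast_pow_char_pow]
        ring
      rw [eval_sub, this, hNk, eval_C, sub_self]
    · rw [hdeg1, Finset.card_image_of_injOn, Finset.card_range]
      · exact hlt
      · intro i hi j hj hij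
        simp only [Finset.coe_range, Set.mem_Iio] at hi hj
        have := (CharP.natCast_eq_natCast F p).mp hij
        exact Nat.ModEq.eq_of_lt_of_lt this hi hj
  rw [hz] at hdeg1
  simp at hdeg1
  omega

theorem card_filter_pow_eq_one {F : Type*} [Field F] [Fintype F] [DecidableEq F] (N : ℕ)
    (hN : N ∣ Fintype.card F - 1) (hN0 : 0 < N) :
    (univ.filter (fun x : F => x ^ N = 1)).card = N := by
  have h1 := IsCyclic.card_powMonoidHom_ker Fˣ N
  rw [Nat.card_units, Nat.card_eq_fintype_card (α := F), Nat.gcd_eq_right hN] at h1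
  have h2 : Nat.card {x : F // x ^ N = 1} = Nat.card (powMonoidHom N : Fˣ →* Fˣ).ker := by
    refine Nat.card_congr (Equiv.ofBijective (fun x => ⟨Units.mk0 x.1 ?_, ?_⟩) ⟨?_, ?_⟩)
    · intro h0
      have := x.2
      rw [h0, zero_pow hN0.ne'] at this
      exact zero_ne_one this
    · rw [MonoidHom.mem_ker]
      ext
      exact x.2
    · intro x y hxy
      have := congrArg (fun z => ((z.1 : Fˣ) : F)) hxy
      exact Subtype.ext this
    · rintro ⟨x, hx⟩
      refine ⟨⟨x, ?_⟩, ?_⟩
      · rw [MonoidHom.mem_ker] at hx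
        have := congrArg (fun z : Fˣ => (z : F)) hx
        exact this
      · ext; rfl
  rw [Nat.card_eq_fintype_card, Fintype.card_subtype, h1] at h2
  exact h2

theorem sq_le_aux {F : Type*} [Field F] [Fintype F] [DecidableEq F] (N : ℕ)
    (hN : N ∣ Fintype.card F - 1) (hN0 : 0 < N) (c : F) (hc : c ≠ 0) :
    (N : ℝ) ^ 2 ≤ Fintype.card F *
      ((univ.filter (fun u : F => u ^ N = 1)).filter (fun u : F => (c - u) ^ N = 1)).card
      + Fintype.card F * Real.sqrt (Fintype.card F) := by
  obtain ⟨ψ, hψ1⟩ : ∃ ψ : AddChar F ℂ, ψ 1 ≠ 1 := AddChar.exists_apply_ne_zero.mpr one_ne_zero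
  have hψ : ψ.IsPrimitive := by
    apply AddChar.IsPrimitive.of_ne_one
    intro h
    rw [h] at hψ1
    exact hψ1 rfl
  set n := Fintype.card F with hn
  have hnpos : 0 < n := Fintype.card_pos
  set U : Finset F := univ.filter (fun x : F => x ^ N = 1) with hU
  have hUcard : U.card = N := card_filter_pow_eq_one N hN hN0
  have hmem : ∀ x, x ∈ U ↔ x ^ N = 1 := by intro x; simp [hU]
  have hU0 : ∀ x ∈ U, x ≠ 0 := by
    intro x hx h0
    rw [hmem, h0, zero_pow hN0.ne'] at hx
    exact zero_ne_one hx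
  have hUmul : ∀ x ∈ U, ∀ y ∈ U, x * y ∈ U := by
    intro x hx y hy
    rw [hmem] at *
    rw [mul_pow, hx, hy, one_mul]
  have orth : ∀ b : F, ∑ x : F, ψ (x * b) = if b = 0 then (n : ℂ) else 0 := by
    intro b
    rw [AddChar.sum_mulShift b hψ]
    split_ifs <;> simp [hn]
  let η : F → ℂ := fun b => ∑ u ∈ U, ψ (u * b)
  -- first moment
  have h1 : ∑ b : F, η b ^ 2 * ψ (-(b * c)) =
      n * ((U.filter (fun u : F => (c - u) ^ N = 1)).card : ℂ) := by
    have : ∀ b : F, η b ^ 2 * ψ (-(b * c)) = ∑ u ∈ U, ∑ v ∈ U, ψ (b * (u + v - c)) := by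
      intro b
      simp only [η]
      rw [sq, Finset.sum_mul_sum, Finset.sum_mul]
      refine Finset.sum_congr rfl (fun u _ => ?_)
      rw [Finset.sum_mul]
      refine Finset.sum_congr rfl (fun v _ => ?_)
      rw [← AddChar.map_add_eq_mul, ← AddChar.map_add_eq_mul]
      congr 1; ring
    simp_rw [this]
    rw [Finset.sum_comm]
    have h2 : ∀ u ∈ U, ∑ b : F, ∑ v ∈ U, ψ (b * (u + v - c)) =
        if (c - u) ^ N = 1 then (n : ℂ) else 0 := by
      intro u _
      rw [Finset.sum_comm]
      have : ∀ v ∈ U, ∑ b : F, ψ (b * (u + v - c)) = if v = c - u then (n : ℂ) else 0 := by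
        intro v _
        rw [orth]
        have : (u + v - c = 0) ↔ v = c - u := by
          constructor
          · intro h; linear_combination h
          · intro h; linear_combination h
        simp only [this]
      rw [Finset.sum_congr rfl this, Finset.sum_ite_eq']
      simp only [hmem]
    rw [Finset.sum_congr rfl h2, ← Finset.sum_filter, Finset.sum_const, nsmul_eq_mul, mul_comm]
  -- second moment
  have h2 : ∑ b : F, ‖η b‖ ^ 2 = n * N := by
    have hC : ∑ b : F, ((‖η b‖ ^ 2 : ℝ) : ℂ) = n * N := by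
      have : ∀ b : F, ((‖η b‖ ^ 2 : ℝ) : ℂ) = ∑ u ∈ U, ∑ v ∈ U, ψ (b * (u - v)) := by
        intro b
        rw [← Complex.normSq_eq_norm_sq, ← Complex.mul_conj]
        simp only [η]
        rw [map_sum, Finset.sum_mul_sum]
        refine Finset.sum_congr rfl (fun u _ => ?_)
        refine Finset.sum_congr rfl (fun v _ => ?_)
        rw [← AddChar.map_neg_eq_conj, ← AddChar.map_add_eq_mul]
        congr 1; ring
      simp_rw [this]
      rw [Finset.sum_comm]
      have h2 : ∀ u ∈ U, ∑ b : F, ∑ v ∈ U, ψ (b * (u - v)) = (n : ℂ) := by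
        intro u hu
        rw [Finset.sum_comm]
        have : ∀ v ∈ U, ∑ b : F, ψ (b * (u - v)) = if v = u then (n : ℂ) else 0 := by
          intro v _
          rw [orth]
          have : (u - v = 0) ↔ v = u := by
            rw [sub_eq_zero, eq_comm]
          simp only [this]
        rw [Finset.sum_congr rfl this, Finset.sum_ite_eq', if_pos hu]
      rw [Finset.sum_congr rfl h2, Finset.sum_const, nsmul_eq_mul, hUcard, mul_comm]
    exact_mod_cast hC
  -- invariance
  have h3 : ∀ w ∈ U, ∀ b : F, η (b * w) = η b := by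
    intro w hw b
    simp only [η]
    refine Finset.sum_bij' (fun u _ => u * w) (fun u _ => u * w⁻¹) ?_ ?_ ?_ ?_ ?_
    · intro u hu; exact hUmul u hu w hw
    · intro u hu
      refine hUmul u hu _ ?_
      rw [hmem] at *
      rw [inv_pow, hw, inv_one]
    · intro u hu
      exact mul_inv_cancel_right₀ (hU0 w hw) u
    · intro u hu
      exact inv_mul_cancel_right₀ (hU0 w hw) u
    · intro u hu
      congr 1; ring
  -- bound
  have h4 : ∀ b : F, b ≠ 0 → ‖η b‖ ≤ Real.sqrt n := by
    intro b hb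
    have : (N : ℝ) * ‖η b‖ ^ 2 ≤ n * N := by
      rw [← h2, ← hUcard]
      have e1 : (U.card : ℝ) * ‖η b‖ ^ 2 = ∑ w ∈ U, ‖η (b * w)‖ ^ 2 := by
        rw [Finset.sum_congr rfl (fun w hw => by rw [h3 w hw b]), Finset.sum_const, nsmul_eq_mul]
      rw [e1]
      have e2 : ∑ w ∈ U, ‖η (b * w)‖ ^ 2 = ∑ x ∈ U.image (fun w => b * w), ‖η x‖ ^ 2 := by
        rw [Finset.sum_image]
        intro x _ y _ hxy
        exact mul_left_cancel₀ hb hxy
      rw [e2]
      exact Finset.sum_le_sum_of_subset_of_nonneg (Finset.subset_univ _)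
        (fun _ _ _ => by positivity)
    have hNpos : (0 : ℝ) < N := by exact_mod_cast hN0
    have h5 : ‖η b‖ ^ 2 ≤ n := by nlinarith
    exact Real.le_sqrt_of_sq_le h5
  -- grouped sum
  have h5 : (N : ℂ) * ∑ b ∈ univ.erase (0 : F), η b ^ 2 * ψ (-(b * c)) =
      ∑ b ∈ univ.erase (0 : F), η b ^ 2 * η (-(b * c)) := by
    have e1 : ∀ w ∈ U, ∑ b ∈ univ.erase (0 : F), η b ^ 2 * ψ (-(b * c)) =
        ∑ b ∈ univ.erase (0 : F), η b ^ 2 * ψ (w * (-(b * c))) := by
      intro w hw
      symm
      refine Finset.sum_bij' (fun b _ => b * w) (fun b _ => b * w⁻¹) ?_ ?_ ?_ ?_ ?_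
      · intro b hb
        simp only [Finset.mem_erase, Finset.mem_univ, and_true] at *
        exact mul_ne_zero hb (hU0 w hw)
      · intro b hb
        simp only [Finset.mem_erase, Finset.mem_univ, and_true] at *
        exact mul_ne_zero hb (inv_ne_zero (hU0 w hw))
      · intro u hu
        exact mul_inv_cancel_right₀ (hU0 w hw) u
      · intro u hu
        exact inv_mul_cancel_right₀ (hU0 w hw) u
      · intro b hb
        rw [h3 w hw b]
        congr 2; ring
    calc (N : ℂ) * ∑ b ∈ univ.erase (0 : F), η b ^ 2 * ψ (-(b * c))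
        = ∑ w ∈ U, ∑ b ∈ univ.erase (0 : F), η b ^ 2 * ψ (-(b * c)) := by
          rw [Finset.sum_const, nsmul_eq_mul, hUcard]
      _ = ∑ w ∈ U, ∑ b ∈ univ.erase (0 : F), η b ^ 2 * ψ (w * (-(b * c))) :=
          Finset.sum_congr rfl e1
      _ = ∑ b ∈ univ.erase (0 : F), η b ^ 2 * η (-(b * c)) := by
          rw [Finset.sum_comm]
          refine Finset.sum_congr rfl (fun b _ => ?_)
          rw [← Finset.mul_sum]
  have h6 : ‖∑ b ∈ univ.erase (0 : F), η b ^ 2 * ψ (-(b * c))‖ ≤ n * Real.sqrt n := by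
    have hNpos : (0 : ℝ) < N := by exact_mod_cast hN0
    have e1 : (N : ℝ) * ‖∑ b ∈ univ.erase (0 : F), η b ^ 2 * ψ (-(b * c))‖ ≤
        N * (n * Real.sqrt n) := by
      calc (N : ℝ) * ‖∑ b ∈ univ.erase (0 : F), η b ^ 2 * ψ (-(b * c))‖
          = ‖(N : ℂ) * ∑ b ∈ univ.erase (0 : F), η b ^ 2 * ψ (-(b * c))‖ := by
            rw [norm_mul]; simp
        _ = ‖∑ b ∈ univ.erase (0 : F), η b ^ 2 * η (-(b * c))‖ := by rw [h5]
        _ ≤ ∑ b ∈ univ.erase (0 : F), ‖η b ^ 2 * η (-(b * c))‖ := norm_sum_le _ _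
        _ ≤ ∑ b ∈ univ.erase (0 : F), ‖η b‖ ^ 2 * Real.sqrt n := by
            refine Finset.sum_le_sum (fun b hb => ?_)
            simp only [Finset.mem_erase, Finset.mem_univ, and_true] at hb
            rw [norm_mul, norm_pow]
            exact mul_le_mul_of_nonneg_left (h4 _ (neg_ne_zero.mpr (mul_ne_zero hb hc)))
              (by positivity)
        _ = (∑ b ∈ univ.erase (0 : F), ‖η b‖ ^ 2) * Real.sqrt n := by rw [Finset.sum_mul]
        _ ≤ (∑ b : F, ‖η b‖ ^ 2) * Real.sqrt n := by
            refine mul_le_mul_of_nonneg_right ?_ (Real.sqrt_nonneg _)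
            exact Finset.sum_le_sum_of_subset_of_nonneg (Finset.subset_univ _)
              (fun _ _ _ => by positivity)
        _ = N * (n * Real.sqrt n) := by rw [h2]; ring
    exact le_of_mul_le_mul_left e1 hNpos
  have h7 : η 0 = N := by
    simp only [η, mul_zero, AddChar.map_zero_eq_one, Finset.sum_const, nsmul_eq_mul, mul_one, hUcard]
  have h8 : (N : ℂ) ^ 2 = n * ((U.filter (fun u : F => (c - u) ^ N = 1)).card : ℂ)
      - ∑ b ∈ univ.erase (0 : F), η b ^ 2 * ψ (-(b * c)) := by
    rw [← h1, ← Finset.add_sum_erase univ _ (Finset.mem_univ (0 : F)), h7]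
    simp
  have h9 : ‖(N : ℂ) ^ 2‖ ≤ ‖(n * ((U.filter (fun u : F => (c - u) ^ N = 1)).card : ℂ) : ℂ)‖ +
      ‖∑ b ∈ univ.erase (0 : F), η b ^ 2 * ψ (-(b * c))‖ := by
    rw [h8]; exact norm_sub_le _ _
  have h10 : ‖(N : ℂ) ^ 2‖ = (N : ℝ) ^ 2 := by simp
  have h11 : ‖(n * ((U.filter (fun u : F => (c - u) ^ N = 1)).card : ℂ) : ℂ)‖ =
      n * ((U.filter (fun u : F => (c - u) ^ N = 1)).card : ℝ) := by simp
  rw [h10, h11] at h9
  linarith

theorem pow_char_eq_self_iff {F : Type*} [Field F] (p : ℕ) [Fact p.Prime] [CharP F p] (x : F) :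
    x ^ p = x ↔ ∃ k : ℤ, (k : F) = x := by
  rw [← Subfield.mem_bot_iff_pow_eq_self, mem_bot_iff_intCast p]

theorem cubic_case {F : Type*} [Field F] [Fintype F] (p : ℕ) [Fact p.Prime] (hp : p ≠ 2)
    (hF : Fintype.card F = p ^ 3) :
    ∃ a : F, a ≠ 1 ∧ a * a ^ p * (a ^ p) ^ p = 1 ∧
      (2 - a) * (2 - a) ^ p * ((2 - a) ^ p) ^ p = 1 := by
  classical
  have hp2 : 2 ≤ p := (Fact.out : p.Prime).two_le
  have : CharP F p := charP_of_card_eq_prime_pow hF
  let _ : Algebra (ZMod p) F := ZMod.algebra F p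
  have h2ne : (2 : ZMod p) ≠ 0 := by
    intro h
    have h' : ((2 : ℕ) : ZMod p) = 0 := by exact_mod_cast h
    rw [ZMod.natCast_eq_zero_iff] at h'
    have := Nat.le_of_dvd (by norm_num) h'
    omega
  -- a cubic without roots in the prime field
  obtain ⟨c, hc⟩ : ∃ c : ZMod p, ∀ r : ZMod p, r * (r - 2) * (r - c) + (r - 1) ≠ 0 := by
    by_contra hcon
    push Not at hcon
    choose rf hrf using hcon
    have hrf0 : ∀ c, rf c ≠ 0 := by
      intro c h0
      have := hrf c
      rw [h0] at this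
      simp at this
    have hrf2 : ∀ c, rf c ≠ 2 := by
      intro c h0
      have := hrf c
      rw [h0] at this
      norm_num at this
    have hinj : Function.Injective rf := by
      intro a b hab
      have h1 := hrf a
      have h2 := hrf b
      rw [← hab] at h2
      have h3 : rf a * (rf a - 2) * (b - a) = 0 := by linear_combination h1 - h2
      rcases mul_eq_zero.mp h3 with h4 | h4
      · rcases mul_eq_zero.mp h4 with h5 | h5
        · exact absurd h5 (hrf0 a)
        · exact absurd (sub_eq_zero.mp h5) (hrf2 a)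
      · exact (sub_eq_zero.mp h4).symm
    obtain ⟨c, hc⟩ := (Finite.injective_iff_surjective.mp hinj) 0
    exact hrf0 c hc
  let f : (ZMod p)[X] := X ^ 3 + C (-(2 + c)) * X ^ 2 + C (2 * c + 1) * X + C (-1)
  have hfdeg : f.natDegree = 3 := by
    simp only [f]
    compute_degree!
  have hfmonic : f.Monic := by
    simp only [f]
    monicity!
  have hfeval : ∀ r : ZMod p, f.eval r = r * (r - 2) * (r - c) + (r - 1) := by
    intro r
    simp only [f, eval_add, eval_mul, eval_pow, eval_X, eval_C]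
    ring
  have hirr : Irreducible f := by
    rw [hfmonic.irreducible_iff_roots_eq_zero_of_degree_le_three (by omega) (by omega)]
    rw [Multiset.eq_zero_iff_forall_notMem]
    intro r hr
    rw [mem_roots hfmonic.ne_zero, IsRoot, hfeval] at hr
    exact hc r hr
  have hdvd : f ∣ X ^ (Nat.card (ZMod p)) ^ 3 - X :=
    hirr.natDegree_dvd_iff_dvd_X_pow_card_pow_sub_X.mp (by rw [hfdeg])
  rw [Nat.card_zmod, ← hF] at hdvd
  have hsplit : Splits (map (algebraMap (ZMod p) F) f) := by
    refine Splits.of_dvd (FiniteField.splits_X_pow_card_sub_X p (K := F)) ?_ (Polynomial.map_dvd (algebraMap (ZMod p) F) hdvd)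
    rw [Ne, Polynomial.map_eq_zero]
    exact FiniteField.X_pow_card_sub_X_ne_zero _ Fintype.one_lt_card
  obtain ⟨a, ha⟩ := hsplit.exists_eval_eq_zero (by
    rw [degree_map, degree_eq_natDegree hfmonic.ne_zero, hfdeg]; norm_num)
  set c' : F := algebraMap (ZMod p) F c with hc'
  have hroot : ∀ x : F, (map (algebraMap (ZMod p) F) f).eval x
      = x * (x - 2) * (x - c') + (x - 1) := by
    intro x
    simp only [f, Polynomial.map_add, Polynomial.map_mul, Polynomial.map_pow, map_X, map_C,
      eval_add, eval_mul, eval_pow, eval_X, eval_C]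
    simp only [map_add, map_mul, map_neg, map_one, map_ofNat]
    ring
  rw [hroot] at ha
  have hc'p : c' ^ p = c' := by
    rw [hc', ← map_pow, ZMod.pow_card]
  have h2p : (2 : F) ^ p = 2 := (pow_char_eq_self_iff p _).mpr ⟨2, by norm_num⟩
  have hexp : ExpChar F p := ExpChar.prime Fact.out
  have hfrob : ∀ x : F, x * (x - 2) * (x - c') + (x - 1) = 0 →
      x ^ p * (x ^ p - 2) * (x ^ p - c') + (x ^ p - 1) = 0 := by
    intro x hx
    have h1 : (x * (x - 2) * (x - c') + (x - 1)) ^ p = 0 := by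
      rw [hx, zero_pow (by omega)]
    rw [add_pow_char, mul_pow, mul_pow, sub_pow_char, sub_pow_char, sub_pow_char, h2p, hc'p,
      one_pow] at h1
    exact h1
  have hap : a ^ p ≠ a := by
    intro h
    obtain ⟨k, hk⟩ := (pow_char_eq_self_iff p a).mp h
    have h1 : algebraMap (ZMod p) F (k : ZMod p) = a := by
      rw [← hk]; simp
    rw [← h1, hc'] at ha
    refine hc (k : ZMod p) ?_
    apply (algebraMap (ZMod p) F).injective
    rw [map_zero, ← ha]
    simp only [map_add, map_mul, map_sub, map_one, map_ofNat]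
  have hap3 : ((a ^ p) ^ p) ^ p = a := by
    rw [← pow_mul, ← pow_mul]
    have : p * (p * p) = Fintype.card F := by rw [hF]; ring
    rw [this, FiniteField.pow_card]
  have hinjp : ∀ x y : F, x ^ p = y ^ p → x = y := by
    intro x y hxy
    exact frobenius_inj F p hxy
  set b := a ^ p with hb
  set d := b ^ p with hd
  have hbd : d ≠ b := by
    intro h
    exact hap (hinjp _ _ h)
  have hda : d ≠ a := by
    intro h
    rw [h] at hap3
    exact hap hap3
  have hb1 := hfrob a ha
  rw [← hb] at hb1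
  have hd1 := hfrob b hb1
  rw [← hd] at hd1
  -- Vieta
  have hq1 : (a - b) * (a ^ 2 + a * b + b ^ 2 - (2 + c') * (a + b) + (2 * c' + 1)) = 0 := by
    linear_combination ha - hb1
  have hq2 : (a - d) * (a ^ 2 + a * d + d ^ 2 - (2 + c') * (a + d) + (2 * c' + 1)) = 0 := by
    linear_combination ha - hd1
  have hq1' : a ^ 2 + a * b + b ^ 2 - (2 + c') * (a + b) + (2 * c' + 1) = 0 := by
    rcases mul_eq_zero.mp hq1 with h | h
    · exact absurd (sub_eq_zero.mp h).symm hap
    · exact h
  have hq2' : a ^ 2 + a * d + d ^ 2 - (2 + c') * (a + d) + (2 * c' + 1) = 0 := by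
    rcases mul_eq_zero.mp hq2 with h | h
    · exact absurd (sub_eq_zero.mp h).symm hda
    · exact h
  have hq3 : (b - d) * (a + b + d - (2 + c')) = 0 := by
    linear_combination hq1' - hq2'
  have hs1 : a + b + d - (2 + c') = 0 := by
    rcases mul_eq_zero.mp hq3 with h | h
    · exact absurd (sub_eq_zero.mp h).symm hbd
    · exact h
  have hs2 : a * b + a * d + b * d = 2 * c' + 1 := by
    linear_combination (a + b) * hs1 - hq1'
  have hs3 : a * b * d = 1 := by
    linear_combination ha - (a ^ 2) * hs1 + a * hs2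
  refine ⟨a, ?_, hs3, ?_⟩
  · intro h1
    apply hap
    rw [hb, h1, one_pow]
  · have e1 : (2 - a) ^ p = 2 - b := by rw [sub_pow_char, h2p, hb]
    have e2 : (2 - b) ^ p = 2 - d := by rw [sub_pow_char, h2p, hd]
    rw [e1, e2]
    linear_combination (-4) * hs1 + 2 * hs2 - hs3

/-- Lemma C.2 of Bender–Glauberman. -/
theorem exists_ne_one {F : Type*} [Field F] [Fintype F] (p q : ℕ) [Fact p.Prime] [Fact q.Prime]
    (hp : p ≠ 2) (hq : q ≠ 2) (hF : Fintype.card F = p ^ q) :
    ∃ a : F, a ≠ 1 ∧ a ^ ((p ^ q - 1) / (p - 1)) = 1 ∧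
      (2 - a) ^ ((p ^ q - 1) / (p - 1)) = 1 := by
  classical
  have hp2 : 2 ≤ p := (Fact.out : p.Prime).two_le
  have hp3 : 3 ≤ p := by omega
  have hq2 : 2 ≤ q := (Fact.out : q.Prime).two_le
  rcases Nat.lt_or_ge q 5 with hlt | hge
  · have hq3 : q = 3 := by
      have hq4 : q ≠ 4 := by
        rintro rfl
        exact absurd (Fact.out : Nat.Prime 4) (by norm_num)
      omega
    subst hq3
    obtain ⟨a, ha1, ha2, ha3⟩ := cubic_case p hp hF
    refine ⟨a, ha1, ?_, ?_⟩
    · rw [pow_geom_eq_prod p 3 hp2]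
      simp only [Finset.prod_range_succ, Finset.prod_range_zero, pow_zero, pow_one, one_mul]
      rw [← ha2, ← pow_mul, sq]
    · rw [pow_geom_eq_prod p 3 hp2]
      simp only [Finset.prod_range_succ, Finset.prod_range_zero, pow_zero, pow_one, one_mul]
      rw [← ha3, ← pow_mul, sq]
  · have : CharP F p := charP_of_card_eq_prime_pow hF
    have h2 : (2 : F) ≠ 0 := by
      intro h
      have h' : ((2 : ℕ) : F) = 0 := by exact_mod_cast h
      rw [CharP.cast_eq_zero_iff F p] at h'
      have := Nat.le_of_dvd (by norm_num) h'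
      omega
    set N := (p ^ q - 1) / (p - 1) with hNdef
    have hNmul : N * (p - 1) = p ^ q - 1 := by
      have := Nat.sub_dvd_pow_sub_pow p 1 q
      rw [one_pow] at this
      exact Nat.div_mul_cancel this
    have hNdvd : N ∣ Fintype.card F - 1 := by
      rw [hF, ← hNmul]
      exact dvd_mul_right _ _
    have hNge : p ^ (q - 1) ≤ N := by
      rw [hNdef, geom_eq p q hp2]
      exact Finset.single_le_sum (f := fun i => p ^ i) (fun i _ => Nat.zero_le _)
        (Finset.mem_range.mpr (by omega))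
    have hN0 : 0 < N := lt_of_lt_of_le (pow_pos (by omega) _) hNge
    have key := sq_le_aux N hNdvd hN0 (2 : F) h2
    set E := (univ.filter (fun u : F => u ^ N = 1)).filter (fun u : F => (2 - u) ^ N = 1) with hE
    have hcard : 1 < E.card := by
      by_contra hle
      push Not at hle
      have hle' : (E.card : ℝ) ≤ 1 := by exact_mod_cast hle
      set R := Real.sqrt (Fintype.card F) with hR
      have hR0 : 0 ≤ R := Real.sqrt_nonneg _
      have hR2 : R ^ 2 = (p : ℝ) ^ q := by
        rw [hR, Real.sq_sqrt (by positivity), hF]; push_cast; ring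
      set x : ℝ := (p : ℝ) ^ (q - 2) with hx
      have hpR : (3 : ℝ) ≤ p := by exact_mod_cast hp3
      have hn : (Fintype.card F : ℝ) = p ^ 2 * x := by
        rw [hF, hx, ← pow_add]; push_cast; congr 1; omega
      have hNge' : (p : ℝ) * x ≤ N := by
        have : ((p ^ (q - 1) : ℕ) : ℝ) ≤ N := by exact_mod_cast hNge
        calc (p : ℝ) * x = (p : ℝ) ^ (q - 1) := by
              rw [hx, ← pow_succ']; congr 1; omega
          _ ≤ N := by push_cast at this; exact this
      have hx3 : (p : ℝ) ^ 3 ≤ x := by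
        rw [hx]
        exact pow_le_pow_right₀ (by linarith) (by omega)
      have hx27 : (27 : ℝ) ≤ x := by
        have : (3 : ℝ) ^ 3 ≤ (p : ℝ) ^ 3 := pow_le_pow_left₀ (by norm_num) hpR 3
        linarith [this]
      have hxp : (p : ℝ) ^ 2 * 3 ≤ x := by nlinarith [sq_nonneg (p : ℝ)]
      have hR2' : R ^ 2 = p ^ 2 * x := by
        rw [hR2, hx, ← pow_add]; congr 1; omega
      rw [hn] at key
      have hpx : 0 < (p : ℝ) ^ 2 * x := by positivity
      have k1 : ((p : ℝ) * x) ^ 2 ≤ (N : ℝ) ^ 2 := pow_le_pow_left₀ (by positivity) hNge' 2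
      have k2 : (p : ℝ) ^ 2 * x * x ≤ (p : ℝ) ^ 2 * x * (1 + R) := by
        have : (p : ℝ) ^ 2 * x * E.card ≤ (p : ℝ) ^ 2 * x * 1 :=
          mul_le_mul_of_nonneg_left hle' hpx.le
        nlinarith
      have k3 : x ≤ 1 + R := le_of_mul_le_mul_left k2 hpx
      have k4 : (x - 1) ^ 2 ≤ R ^ 2 := pow_le_pow_left₀ (by linarith) (by linarith) 2
      rw [hR2'] at k4
      nlinarith
    obtain ⟨a, ha, b, hb, hab⟩ := Finset.one_lt_card.mp hcard
    rcases eq_or_ne a 1 with h | h
    · refine ⟨b, ?_, ?_⟩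
      · rintro rfl; exact hab h
      · simp only [hE, Finset.mem_filter, Finset.mem_univ, true_and] at hb
        exact hb
    · refine ⟨a, h, ?_⟩
      simp only [hE, Finset.mem_filter, Finset.mem_univ, true_and] at ha
      exact ha

end Cfsg.Agent.OddOrderLocal.AppCField
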