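import Mathlib
import Cfsg.Prelude.Def_OddOrderLocal
import Cfsg.Agent.OddOrderLocal.HallPi

/-!
The decomposition of an element of finite order into its `π`-part and its `π'`-part.
-/

set_option autoImplicit false

namespace Cfsg.Agent.OddOrderLocal.PiDecomp

open Cfsg

variable {G : Type*} [Group G]

/-- `g` is the product of its `π`-part and its `π'`-part, both powers of `g`. -/
theorem exists_pi_decomp [Finite G] (π : Set ℕ) (g : G) :
    ∃ a ∈ Subgroup.zpowers g, ∃ b ∈ Subgroup.zpowers g, g = a * b ∧ Commute a b ∧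
      (∀ p : ℕ, p.Prime → p ∣ orderOf a → p ∈ π) ∧ (∀ p : ℕ, p.Prime → p ∣ orderOf b → p ∉ π) := by
  obtain ⟨m, n, hmn, hm, hn⟩ := HallPi.exists_pi_factor π (orderOf g) (orderOf_pos g).ne'
  have hcop : m.Coprime n := HallPi.coprime_of_pi hm hn
  obtain ⟨e, he1, he0⟩ := Nat.chineseRemainder hcop 1 0
  obtain ⟨f, hf0, hf1⟩ := Nat.chineseRemainder hcop 0 1
  have hne : n ∣ e := (Nat.modEq_zero_iff_dvd).mp he0
  have hmf : m ∣ f := (Nat.modEq_zero_iff_dvd).mp hf0
  have ha : orderOf (g ^ e) ∣ m := by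
    rw [orderOf_dvd_iff_pow_eq_one, ← pow_mul]
    apply orderOf_dvd_iff_pow_eq_one.mp
    rw [hmn, mul_comm e m]
    exact Nat.mul_dvd_mul_left m hne
  have hb : orderOf (g ^ f) ∣ n := by
    rw [orderOf_dvd_iff_pow_eq_one, ← pow_mul]
    apply orderOf_dvd_iff_pow_eq_one.mp
    rw [hmn]
    exact Nat.mul_dvd_mul_right hmf n
  refine ⟨g ^ e, Subgroup.pow_mem _ (Subgroup.mem_zpowers g) e, g ^ f,
    Subgroup.pow_mem _ (Subgroup.mem_zpowers g) f, ?_, ?_, ?_, ?_⟩
  · rw [← pow_add]
    have h1 : e + f ≡ 1 [MOD orderOf g] := by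
      rw [hmn]
      refine (Nat.modEq_and_modEq_iff_modEq_mul hcop).mp ⟨?_, ?_⟩
      · simpa using he1.add hf0
      · simpa using he0.add hf1
    have := (pow_eq_pow_iff_modEq (x := g)).mpr h1
    rw [this, pow_one]
  · exact (Commute.refl g).pow_pow e f
  · exact fun p hp hd => hm p hp (hd.trans ha)
  · exact fun p hp hd => hn p hp (hd.trans hb)

/-- if `a`, `b` commute and have coprime orders then `a` is a power of `a * b`. -/
theorem mem_zpowers_mul_left {a b : G} (h : Commute a b) (hc : (orderOf a).Coprime (orderOf b)) :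
    a ∈ Subgroup.zpowers (a * b) := by
  obtain ⟨e, he1, he0⟩ := Nat.chineseRemainder hc 1 0
  have ha : a ^ e = a := by
    simpa using (pow_eq_pow_iff_modEq (x := a)).mpr he1
  have hb : b ^ e = 1 := by
    simpa using (pow_eq_pow_iff_modEq (x := b)).mpr he0
  refine ⟨(e : ℤ), ?_⟩
  simp only [zpow_natCast]
  rw [h.mul_pow, ha, hb, mul_one]

theorem mem_zpowers_mul_right {a b : G} (h : Commute a b) (hc : (orderOf a).Coprime (orderOf b)) :
    b ∈ Subgroup.zpowers (a * b) := by
  rw [h.eq]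
  exact mem_zpowers_mul_left h.symm hc.symm

/-- uniqueness of the `π`-part. -/
theorem decomp_unique {π : Set ℕ} {a b c d : G} (hab : Commute a b) (hcd : Commute c d)
    (ha : ∀ p : ℕ, p.Prime → p ∣ orderOf a → p ∈ π) (hb : ∀ p : ℕ, p.Prime → p ∣ orderOf b → p ∉ π)
    (hc : ∀ p : ℕ, p.Prime → p ∣ orderOf c → p ∈ π) (hd : ∀ p : ℕ, p.Prime → p ∣ orderOf d → p ∉ π)
    (h : a * b = c * d) : a = c ∧ b = d := by
  have hcop : (orderOf a * orderOf c).Coprime (orderOf b * orderOf d) := by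
    apply HallPi.coprime_of_pi (π := π)
    · intro p hp hdvd
      rcases (hp.dvd_mul).mp hdvd with h1 | h1
      exacts [ha p hp h1, hc p hp h1]
    · intro p hp hdvd
      rcases (hp.dvd_mul).mp hdvd with h1 | h1
      exacts [hb p hp h1, hd p hp h1]
  obtain ⟨e, he1, he0⟩ := Nat.chineseRemainder hcop 1 0
  have key : ∀ x : G, orderOf x ∣ orderOf a * orderOf c → x ^ e = x := by
    intro x hx
    have : e ≡ 1 [MOD orderOf x] := he1.of_dvd hx
    simpa using (pow_eq_pow_iff_modEq (x := x)).mpr this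
  have key0 : ∀ x : G, orderOf x ∣ orderOf b * orderOf d → x ^ e = 1 := by
    intro x hx
    have : e ≡ 0 [MOD orderOf x] := he0.of_dvd hx
    simpa using (pow_eq_pow_iff_modEq (x := x)).mpr this
  have h1 : (a * b) ^ e = (c * d) ^ e := by rw [h]
  rw [hab.mul_pow, hcd.mul_pow, key a (dvd_mul_right _ _), key c (dvd_mul_left _ _),
    key0 b (dvd_mul_right _ _), key0 d (dvd_mul_left _ _), mul_one, mul_one] at h1
  refine ⟨h1, ?_⟩
  rw [h1] at h
  exact mul_left_cancel h

/-- elements of `zpowers g` commute with what `g` commutes with. -/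
theorem mem_centralizer_of_mem_zpowers {x a g : G} (hg : g ∈ Subgroup.centralizer ({x} : Set G))
    (ha : a ∈ Subgroup.zpowers g) : a ∈ Subgroup.centralizer ({x} : Set G) := by
  have : Subgroup.zpowers g ≤ Subgroup.centralizer ({x} : Set G) := by
    rw [Subgroup.zpowers_le]; exact hg
  exact this ha

end Cfsg.Agent.OddOrderLocal.PiDecomp
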