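import Mathlib
import Cfsg.Prelude.Def_OddOrderLocal
import Cfsg.Agent.OddOrderLocal.PiDecomp
import Cfsg.Agent.OddOrderLocal.SigmaElements
import Cfsg.Agent.OddOrderLocal.Equivariance
import Cfsg.Agent.OddOrderLocal.SupportR
import Cfsg.Agent.OddOrderLocal.SupportRConj
import Cfsg.Agent.OddOrderLocal.MinSimpleBasic
import Cfsg.Agent.OddOrderLocal.HallPi
import Cfsg.Agent.S1350
import Cfsg.Agent.S1375
import Cfsg.Agent.S1378
import Cfsg.Agent.S1425
import Cfsg.Agent.S1432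

/-!
B&G Lemma 14.6: in a minimal simple group of odd order every non-identity element lies in some `M̃`
or is the product of an element `x ≠ 1` of `H_σ` and a `κ(H)`-element `x' ≠ 1` of `C_H(x)`, for some
maximal subgroup `H`.
-/

set_option autoImplicit false

namespace Cfsg.Agent.OddOrderLocal.Sec14F

open Cfsg Cfsg.Agent.OddOrderLocal Cfsg.Agent.OddOrderLocal.MinSimpleBasic

variable {G : Type*} [Group G] [Finite G]

/-- `g = x x'` with `1 ≠ x ∈ H_σ`, `x' ≠ 1` a `κ(H)`-element of `C_H(x)`. -/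
def IsKappaProduct (g : G) : Prop :=
  ∃ H : Subgroup G, IsCoatom H ∧ ∃ x ∈ sigmaCore H, x ≠ 1 ∧
    ∃ x' ∈ H ⊓ Subgroup.centralizer ({x} : Set G), x' ≠ 1 ∧
      (∀ p : ℕ, p.Prime → p ∣ orderOf x' → p ∈ kappa H) ∧ g = x * x'

/-- `g` lies in some `Ñ`. -/
def InTilde (g : G) : Prop :=
  ∃ N : Subgroup G, IsCoatom N ∧ g ∈ tildeOf N ((sigmaCore N : Set G) \ {1})

omit [Finite G] in
theorem orderOf_conj (w x : G) : orderOf (w * x * w⁻¹) = orderOf x := by
  have := orderOf_injective (MulAut.conj w).toMonoidHom (MulAut.conj w).injective x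
  exact this

omit [Finite G] in
theorem isKappaProduct_conj {g : G} (w : G) (h : IsKappaProduct g) :
    IsKappaProduct (w * g * w⁻¹) := by
  obtain ⟨H, hH, x, hx, hx1, x', hx', hx'1, hk, rfl⟩ := h
  refine ⟨H.map (MulAut.conj w).toMonoidHom, isCoatom_map_conj hH w, w * x * w⁻¹, ?_, ?_,
    w * x' * w⁻¹, ⟨?_, ?_⟩, ?_, ?_, by group⟩
  · rw [Equivariance.sigmaCore_map]; exact conj_mem_map_conj hx
  · intro h; apply hx1; simpa using h
  · exact conj_mem_map_conj hx'.1
  · show w * x' * w⁻¹ ∈ Subgroup.centralizer ({w * x * w⁻¹} : Set G)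
    rw [SupportRConj.centralizer_conj]; exact conj_mem_map_conj hx'.2
  · intro h; apply hx'1; simpa using h
  · intro p hp hd
    rw [Equivariance.kappa_map]
    rw [orderOf_conj] at hd
    exact hk p hp hd

omit [Finite G] in
theorem inTilde_conj {g : G} (w : G) (h : InTilde g) : InTilde (w * g * w⁻¹) := by
  obtain ⟨N, hN, a, ha, r, hr, y, rfl⟩ := h
  exact ⟨N, hN, a, ha, r, hr, w * y, by group⟩

/-- if `σ(M)` and `σ(N)` meet they are equal. -/
theorem sigma_eq_of_mem (hG : IsMinSimpleOddOrder G) {M N : Subgroup G} (hM : IsCoatom M)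
    (hN : IsCoatom N) {p : ℕ} (h1 : p ∈ sigma M) (h2 : p ∈ sigma N) : sigma N = sigma M := by
  obtain ⟨g, rfl⟩ := (Cfsg.Agent.S1378.result hG).2 M N hM hN ⟨p, h1, h2⟩
  exact Equivariance.sigma_map _ _

/-- every element of a conjugate of `M_σ`. -/
theorem exists_conj_mem_sigmaCore (hG : IsMinSimpleOddOrder G) {M : Subgroup G} (hM : IsCoatom M)
    {a : G} (ha1 : a ≠ 1) (ha : ∀ p : ℕ, p.Prime → p ∣ orderOf a → p ∈ sigma M) :
    ∃ N : Subgroup G, IsCoatom N ∧ sigma N = sigma M ∧ a ∈ sigmaCore N := by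
  obtain ⟨h, hh⟩ := Cfsg.Agent.S1425.result hG M hM (Subgroup.zpowers a)
    (by rwa [Ne, Subgroup.zpowers_eq_bot]) (by rw [Nat.card_zpowers]; exact ha)
  refine ⟨M.map (MulAut.conj h⁻¹).toMonoidHom, isCoatom_map_conj hM _,
    Equivariance.sigma_map _ _, ?_⟩
  rw [Equivariance.sigmaCore_map, mem_map_conj_iff]
  have h1 := hh (conj_mem_map_conj (g := h) (Subgroup.mem_zpowers a))
  simpa using h1

/-- the `σ(M)`-part of `g`. -/
theorem exists_sigma_part (hG : IsMinSimpleOddOrder G) {g : G} (hg : g ≠ 1) :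
    ∃ M : Subgroup G, IsCoatom M ∧ ∃ x ∈ sigmaCore M, x ≠ 1 ∧ ∃ x' : G, Commute x x' ∧ g = x * x' ∧
      x ∈ Subgroup.zpowers g ∧
      ∀ p : ℕ, p.Prime → p ∣ orderOf x' → p ∉ sigma M := by
  obtain ⟨p, hp, hpg⟩ := SigmaElements.exists_prime_dvd_orderOf hg
  obtain ⟨M, hM, hpM⟩ := (Cfsg.Agent.S1378.result hG).1 p hp (hpg.trans (orderOf_dvd_natCard g))
  obtain ⟨a, ha, b, hb, hab, hcomm, hπa, hπb⟩ := PiDecomp.exists_pi_decomp (sigma M) g
  have ha1 : a ≠ 1 := by
    rintro rfl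
    rw [one_mul] at hab
    subst hab
    exact hπb p hp hpg hpM
  obtain ⟨N, hN, hNM, haN⟩ := exists_conj_mem_sigmaCore hG hM ha1 hπa
  exact ⟨N, hN, a, haN, ha1, b, hcomm, hab, ha, by rw [hNM]; exact hπb⟩

/-- the case `x' ∈ C_M(x)`. -/
theorem cover_of_mem (hG : IsMinSimpleOddOrder G) {M : Subgroup G} (hM : IsCoatom M) {x x' : G}
    (hx : x ∈ sigmaCore M) (hx1 : x ≠ 1) (hx' : x' ∈ M ⊓ Subgroup.centralizer ({x} : Set G))
    (hx'1 : x' ≠ 1) (hσ : ∀ p : ℕ, p.Prime → p ∣ orderOf x' → p ∉ sigma M) :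
    InTilde (x * x') ∨ IsKappaProduct (x * x') := by
  rcases Cfsg.Agent.S1432.result hG M hM x hx hx1 x' hx' hx'1 hσ with ⟨hk, -⟩ |
    ⟨-, ⟨L, hL, hLσ⟩, hCM, hCu⟩
  · exact Or.inr ⟨M, hM, x, hx, hx1, x', hx', hx'1, hk, rfl⟩
  · left
    obtain ⟨L', hL', hσL, hxL'⟩ := exists_conj_mem_sigmaCore hG hL hx'1 hLσ
    obtain ⟨p, hp, hpx'⟩ := SigmaElements.exists_prime_dvd_orderOf hx'1
    have hnot : ¬ Subgroup.centralizer ({x'} : Set G) ≤ L' := by
      intro hle
      have h1 := hCu L' hL' hle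
      subst h1
      exact hσ p hp hpx' (SigmaElements.mem_sigma_of_dvd_orderOf hxL' hp hpx')
    obtain ⟨N, ⟨hN, hCN⟩, hNu, hNF, -, -, -, -⟩ :=
      Cfsg.Agent.S1375.result hG L' hL' x' hxL' hx'1 hnot
    have hNM : N = M := hCu N hN hCN
    subst hNM
    have hR := SupportR.supportR_eq hnot hN hCN hNu
    refine ⟨L', hL', x', ⟨hxL', hx'1⟩, x, ?_, 1, ?_⟩
    · rw [hR, ← hNF]
      have h2 := Subgroup.mem_centralizer_singleton_iff.mp (Subgroup.mem_inf.mp hx').2
      exact Subgroup.mem_inf.mpr ⟨hx, Subgroup.mem_centralizer_singleton_iff.mpr h2.symm⟩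
    · have h2 := Subgroup.mem_centralizer_singleton_iff.mp (Subgroup.mem_inf.mp hx').2
      rw [← h2]; group

/-- B&G 14.6: every `g ≠ 1` lies in some `Ñ` or is a product `x x'` with `1 ≠ x ∈ H_σ` and
`x' ≠ 1` a `κ(H)`-element of `C_H(x)`. -/
theorem cover (hG : IsMinSimpleOddOrder G) {g : G} (hg : g ≠ 1) :
    InTilde g ∨ IsKappaProduct g := by
  obtain ⟨M, hM, x, hx, hx1, x', hcomm, hgx, hxg, hσ'⟩ := exists_sigma_part hG hg
  by_cases hx'1 : x' = 1
  · left
    subst hx'1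
    exact ⟨M, hM, x, ⟨hx, hx1⟩, 1, one_mem _, 1, by simp [hgx]⟩
  by_cases hCM : Subgroup.centralizer ({x} : Set G) ≤ M
  · rw [hgx]
    apply cover_of_mem hG hM hx hx1 _ hx'1 hσ'
    have h1 : x' ∈ Subgroup.centralizer ({x} : Set G) := by
      rw [Subgroup.mem_centralizer_singleton_iff]; exact hcomm.eq.symm
    exact ⟨hCM h1, h1⟩
  obtain ⟨N, ⟨hN, hCN⟩, hNu, hNF, hRn, hRc, hMN, -⟩ := Cfsg.Agent.S1375.result hG M hM x hx hx1 hCM
  have hHallN := (Cfsg.Agent.S1350.result hG N hN).1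
  have hxM : x ∈ M := SigmaElements.sigmaCore_le M hx
  have hxC : x ∈ Subgroup.centralizer ({x} : Set G) := by
    rw [Subgroup.mem_centralizer_singleton_iff]
  have hxN : x ∉ sigmaCore N := by
    intro h
    have : x ∈ (M ⊓ N) ⊓ sigmaCore N := ⟨⟨hxM, hCN hxC⟩, h⟩
    rw [hMN.2.2.1, Subgroup.mem_bot] at this
    exact hx1 this
  have hgC : g ∈ Subgroup.centralizer ({x} : Set G) := by
    rw [Subgroup.mem_centralizer_singleton_iff, hgx]
    rw [mul_assoc, ← hcomm.eq]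
  -- there is a prime `t` of the order of `x` outside `σ(N)`
  obtain ⟨t, ht, htx, htN⟩ : ∃ t : ℕ, t.Prime ∧ t ∣ orderOf x ∧ t ∉ sigma N := by
    by_contra hcon
    push Not at hcon
    exact hxN (SigmaElements.mem_sigmaCore_of_orderOf hHallN (hCN hxC) hcon)
  have htM : t ∈ sigma M := SigmaElements.mem_sigma_of_dvd_orderOf hx ht htx
  have hdisj : ∀ q : ℕ, q ∈ sigma N → q ∉ sigma M := by
    intro q hqN hqM
    exact htN ((sigma_eq_of_mem hG hM hN hqM hqN) ▸ htM)
  obtain ⟨z, hz, z', hz', hzz', hcz, hπz, hπz'⟩ := PiDecomp.exists_pi_decomp (sigma N) g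
  have hR := SupportR.supportR_eq hCM hN hCN hNu
  by_cases hz1 : z = 1
  · -- `g` is a `σ(N)'`-element of `C_G(x)`
    subst hz1
    rw [one_mul] at hzz'
    subst hzz'
    have hCsol : Group.IsSolvable (Subgroup.centralizer ({x} : Set G)) :=
      isSolvable_of_ne_top hG (centralizer_singleton_ne_top hG hx1)
    -- `C_{N_σ}(x)` is a Hall `σ(N)`-subgroup of `C_G(x)`
    have hRHall : IsPiHallOf (sigma N) (sigmaCore N ⊓ Subgroup.centralizer ({x} : Set G))
        (Subgroup.centralizer ({x} : Set G)) := by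
      refine ⟨inf_le_right, ?_, ?_⟩
      · intro p hp hd
        exact hHallN.2.1 p hp (hd.trans (Subgroup.card_dvd_of_le inf_le_left))
      · intro p hp hpN hd
        have h1 := HallPi.card_compl_eq_relIndex hRc
        rw [← h1] at hd
        have h2 := HallPi.card_compl_eq_relIndex hMN
        have h3 : p ∣ Nat.card ↥(M ⊓ N) :=
          hd.trans (Subgroup.card_dvd_of_le (le_inf inf_le_left (inf_le_right.trans hCN)))
        rw [h2] at h3
        exact hHallN.2.2 p hp hpN h3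
    obtain ⟨m, hm, hmle⟩ := HallPi.exists_conj_le_of_isComplIn hCsol hRHall hRc
      (X := Subgroup.zpowers g) (by rw [Subgroup.zpowers_le]; exact hgC)
      (by rw [Nat.card_zpowers]; exact hπz')
    have hgm : m * g * m⁻¹ ∈ M ⊓ Subgroup.centralizer ({x} : Set G) :=
      hmle (conj_mem_map_conj (Subgroup.mem_zpowers g))
    have hmx : m * x * m⁻¹ = x := by
      rw [Subgroup.mem_centralizer_singleton_iff] at hm
      rw [hm]; group
    have hg2 : m * g * m⁻¹ = x * (m * x' * m⁻¹) := by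
      rw [hgx]
      calc m * (x * x') * m⁻¹ = (m * x * m⁻¹) * (m * x' * m⁻¹) := by group
        _ = x * (m * x' * m⁻¹) := by rw [hmx]
    have hx'2 : m * x' * m⁻¹ ∈ M ⊓ Subgroup.centralizer ({x} : Set G) := by
      have h1 : m * x' * m⁻¹ = x⁻¹ * (m * g * m⁻¹) := by rw [hg2]; group
      rw [h1]
      exact Subgroup.mul_mem _ (Subgroup.inv_mem _ ⟨hxM, hxC⟩) hgm
    have hx'3 : m * x' * m⁻¹ ≠ 1 := by
      intro h; apply hx'1; simpa using h
    have hcov := cover_of_mem hG hM hx hx1 hx'2 hx'3 (by rw [orderOf_conj]; exact hσ')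
    rw [← hg2] at hcov
    have hback : m⁻¹ * (m * g * m⁻¹) * m⁻¹⁻¹ = g := by group
    rcases hcov with h | h
    · left; rw [← hback]; exact inTilde_conj m⁻¹ h
    · right; rw [← hback]; exact isKappaProduct_conj m⁻¹ h
  · -- `z ≠ 1`
    have hzC : z ∈ Subgroup.centralizer ({x} : Set G) :=
      PiDecomp.mem_centralizer_of_mem_zpowers hgC hz
    have hz'C : z' ∈ Subgroup.centralizer ({x} : Set G) :=
      PiDecomp.mem_centralizer_of_mem_zpowers hgC hz'
    have hzN : z ∈ sigmaCore N := SigmaElements.mem_sigmaCore_of_orderOf hHallN (hCN hzC) hπz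
    have hcop : (orderOf z).Coprime (orderOf z') := HallPi.coprime_of_pi hπz hπz'
    have horder : orderOf g = orderOf z * orderOf z' := by
      rw [hzz', hcz.orderOf_mul_eq_mul_orderOf_of_coprime hcop]
    have htg : t ∣ orderOf g := by
      refine htx.trans ?_
      exact orderOf_dvd_of_mem_zpowers hxg
    have htz' : t ∣ orderOf z' := by
      rw [horder] at htg
      rcases (ht.dvd_mul).mp htg with h | h
      · exact absurd (hπz t ht h) htN
      · exact h
    have hz'1 : z' ≠ 1 := by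
      rintro rfl
      rw [orderOf_one] at htz'
      exact ht.one_lt.ne' (Nat.dvd_one.mp htz')
    have hz'N : z' ∈ N ⊓ Subgroup.centralizer ({z} : Set G) := by
      exact Subgroup.mem_inf.mpr ⟨hCN hz'C, Subgroup.mem_centralizer_singleton_iff.mpr hcz.eq.symm⟩
    rcases Cfsg.Agent.S1432.result hG N hN z hzN hz1 z' hz'N hz'1 hπz' with ⟨hk, -⟩ |
      ⟨-, ⟨L, hL, hLσ⟩, -, -⟩
    · right
      exact ⟨N, hN, z, hzN, hz1, z', hz'N, hz'1, hk, hzz'⟩
    · left
      have hLM : sigma L = sigma M := sigma_eq_of_mem hG hM hL htM (hLσ t ht htz')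
      have h1 : x * x' = z' * z := by rw [← hgx, hzz', hcz.eq]
      obtain ⟨-, h3⟩ := PiDecomp.decomp_unique (π := sigma M) hcomm hcz.symm
        (fun p hp hd => SigmaElements.mem_sigma_of_dvd_orderOf hx hp hd) hσ'
        (fun p hp hd => hLM ▸ hLσ p hp hd) (fun p hp hd => hdisj p (hπz p hp hd)) h1
      refine ⟨M, hM, x, ⟨hx, hx1⟩, x', ?_, 1, ?_⟩
      · rw [hR, ← hNF, h3]
        exact ⟨hzN, hzC⟩
      · rw [hgx]; group

end Cfsg.Agent.OddOrderLocal.Sec14F
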