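import Mathlib
import Cfsg.Prelude.Def_OddOrderLocal
import Cfsg.Agent.OddOrderLocal.PiDecomp
import Cfsg.Agent.OddOrderLocal.SigmaElements
import Cfsg.Agent.OddOrderLocal.Equivariance
import Cfsg.Agent.OddOrderLocal.SupportR
import Cfsg.Agent.OddOrderLocal.SupportRConj
import Cfsg.Agent.OddOrderLocal.MinSimpleBasic
import Cfsg.Agent.OddOrderLocal.HallPi
import Cfsg.Agent.OddOrderLocal.Sec14F
import Cfsg.Agent.S1350
import Cfsg.Agent.S1366
import Cfsg.Agent.S1367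
import Cfsg.Agent.S1369
import Cfsg.Agent.S1375
import Cfsg.Agent.S1378
import Cfsg.Agent.S1430
import Cfsg.Agent.S1431

/-!
B&G Theorem 14.7/Corollary 14.8: the set `Ẑ = K K* − (K ∪ K*)` and the sets `Ñ`.
-/

set_option autoImplicit false

namespace Cfsg.Agent.OddOrderLocal.Sec14Z

open Cfsg Cfsg.Agent.OddOrderLocal Cfsg.Agent.OddOrderLocal.MinSimpleBasic
open Cfsg.Agent.OddOrderLocal.Sec14F (InTilde IsKappaProduct orderOf_conj sigma_eq_of_mem)

variable {G : Type*} [Group G] [Finite G]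

/-- a nontrivial element has a subgroup of prime order of its powers, whose centralizer contains the
centralizer of the element. -/
theorem exists_prime_zpowers {c : G} (hc : c ≠ 1) :
    ∃ X : Subgroup G, X ≤ Subgroup.zpowers c ∧ (Nat.card X).Prime ∧
      Subgroup.centralizer ({c} : Set G) ≤ Subgroup.centralizer (X : Set G) := by
  obtain ⟨p, hp, hd⟩ := SigmaElements.exists_prime_dvd_orderOf hc
  haveI : Fact p.Prime := ⟨hp⟩
  obtain ⟨x, hx⟩ := exists_prime_orderOf_dvd_card' (G := Subgroup.zpowers c) p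
    (by rw [Nat.card_zpowers]; exact hd)
  refine ⟨Subgroup.zpowers (x : G), by rw [Subgroup.zpowers_le]; exact x.2, ?_, ?_⟩
  · rw [Nat.card_zpowers, Subgroup.orderOf_coe, hx]; exact hp
  · intro y hy
    rw [Subgroup.mem_centralizer_iff]
    intro z hz
    have hz' : z ∈ Subgroup.zpowers c := by
      have : Subgroup.zpowers (x : G) ≤ Subgroup.zpowers c := by
        rw [Subgroup.zpowers_le]; exact x.2
      exact this hz
    obtain ⟨k, rfl⟩ := Subgroup.mem_zpowers_iff.mp hz'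
    rw [Subgroup.mem_centralizer_singleton_iff] at hy
    exact ((show Commute y c from hy).zpow_right k).eq.symm

/-- the `κ`-product is conjugate into `K* K`. -/
theorem exists_conj_mem (hG : IsMinSimpleOddOrder G) {H L : Subgroup G} (hH : IsCoatom H)
    (hL : IsPiHallOf (kappa H) L H) {x x' : G} (hx : x ∈ sigmaCore H)
    (hx' : x' ∈ H ⊓ Subgroup.centralizer ({x} : Set G)) (hx'1 : x' ≠ 1)
    (hk : ∀ p : ℕ, p.Prime → p ∣ orderOf x' → p ∈ kappa H) :
    ∃ h ∈ H, h * x' * h⁻¹ ∈ L ∧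
      h * x * h⁻¹ ∈ sigmaCore H ⊓ Subgroup.centralizer (L : Set G) := by
  have hx'2 := Subgroup.mem_inf.mp hx'
  obtain ⟨h, hh, hle⟩ := HallPi.exists_conj_le_of_isPiHallOf (isSolvable_of_isCoatom hG hH) hL
    (X := Subgroup.zpowers x') (by rw [Subgroup.zpowers_le]; exact hx'2.1)
    (by rw [Nat.card_zpowers]; exact hk)
  have h1 : h * x' * h⁻¹ ∈ L := hle (conj_mem_map_conj (Subgroup.mem_zpowers x'))
  have h2 : h * x' * h⁻¹ ≠ 1 := by
    intro h3; apply hx'1; simpa using h3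
  have hL1 : L ≠ ⊥ := by
    rintro rfl
    exact h2 (Subgroup.mem_bot.mp h1)
  refine ⟨h, hh, h1, ?_⟩
  rw [← (Cfsg.Agent.S1430.result hG H hH L hL hL1).1 _ h1 h2]
  refine Subgroup.mem_inf.mpr ⟨?_, ?_⟩
  · exact (Subgroup.mem_normalizer_iff.mp (SigmaElements.le_normalizer_sigmaCore H hh) x).mp hx
  · rw [Subgroup.mem_centralizer_singleton_iff]
    have h3 := Subgroup.mem_centralizer_singleton_iff.mp hx'2.2
    calc h * x * h⁻¹ * (h * x' * h⁻¹) = h * (x * x') * h⁻¹ := by group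
      _ = h * (x' * x) * h⁻¹ := by rw [h3]
      _ = h * x' * h⁻¹ * (h * x * h⁻¹) := by group

/-- if `c ∈ K*`, `c ∈ N_σ`, `c ≠ 1` then `C_G(c) ≤ N`. -/
theorem centralizer_le (hG : IsMinSimpleOddOrder G) {M N Kst : Subgroup G} (hM : IsCoatom M)
    (hN : IsCoatom N) (hKst : Kst ≤ sigmaCore M)
    (hTI : ∀ g : G, g ∉ M → Kst ⊓ M.map (MulAut.conj g).toMonoidHom = ⊥)
    (hC : ∀ c ∈ Kst, c ≠ 1 → Subgroup.centralizer ({c} : Set G) ≤ M)
    {c : G} (hc : c ∈ Kst) (hc1 : c ≠ 1) (hcN : c ∈ sigmaCore N) :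
    Subgroup.centralizer ({c} : Set G) ≤ N := by
  obtain ⟨p, hp, hd⟩ := SigmaElements.exists_prime_dvd_orderOf hc1
  obtain ⟨g, rfl⟩ := (Cfsg.Agent.S1378.result hG).2 M N hM hN
    ⟨p, SigmaElements.mem_sigma_of_dvd_orderOf (hKst hc) hp hd,
      SigmaElements.mem_sigma_of_dvd_orderOf hcN hp hd⟩
  have hg : g ∈ M := by
    by_contra hg
    have h1 : c ∈ Kst ⊓ M.map (MulAut.conj g).toMonoidHom :=
      Subgroup.mem_inf.mpr ⟨hc, SigmaElements.sigmaCore_le _ hcN⟩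
    rw [hTI g hg, Subgroup.mem_bot] at h1
    exact hc1 h1
  rw [map_conj_of_mem hg]
  exact hC c hc hc1

/-- `Ẑ` does not meet `Ñ`, unconjugated form. -/
theorem zhat_aux (hG : IsMinSimpleOddOrder G) {M Mstar K Kst : Subgroup G} (hM : IsCoatom M)
    (hMstar : IsCoatom Mstar) (hdisj : ∀ p ∈ sigma M, p ∉ sigma Mstar)
    (hKst : Kst ≤ sigmaCore M) (hK : K ≤ sigmaCore Mstar)
    (hTI1 : ∀ g : G, g ∉ M → Kst ⊓ M.map (MulAut.conj g).toMonoidHom = ⊥)
    (hTI2 : ∀ g : G, g ∉ Mstar → K ⊓ Mstar.map (MulAut.conj g).toMonoidHom = ⊥)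
    (hC1 : ∀ c ∈ Kst, c ≠ 1 → Subgroup.centralizer ({c} : Set G) ≤ M)
    (hC2 : ∀ k ∈ K, k ≠ 1 → Subgroup.centralizer ({k} : Set G) ≤ Mstar)
    {k c : G} (hk : k ∈ K) (hk1 : k ≠ 1) (hc : c ∈ Kst) (hc1 : c ≠ 1) (hcomm : Commute k c)
    {N : Subgroup G} (hN : IsCoatom N) {a r : G} (ha : a ∈ sigmaCore N) (ha1 : a ≠ 1)
    (hr : r ∈ supportR N a) (h : k * c = a * r) : False := by
  obtain ⟨t, ht, htc⟩ := SigmaElements.exists_prime_dvd_orderOf hc1
  obtain ⟨t', ht', htk⟩ := SigmaElements.exists_prime_dvd_orderOf hk1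
  have hcσ : ∀ p : ℕ, p.Prime → p ∣ orderOf c → p ∈ sigma M := fun p hp hd =>
    SigmaElements.mem_sigma_of_dvd_orderOf (hKst hc) hp hd
  have hkσ : ∀ p : ℕ, p.Prime → p ∣ orderOf k → p ∈ sigma Mstar := fun p hp hd =>
    SigmaElements.mem_sigma_of_dvd_orderOf (hK hk) hp hd
  have hkσ' : ∀ p : ℕ, p.Prime → p ∣ orderOf k → p ∉ sigma M := fun p hp hd hpM =>
    hdisj p hpM (hkσ p hp hd)
  have htM : t ∈ sigma M := hcσ t ht htc
  have ht'M : t' ∈ sigma Mstar := hkσ t' ht' htk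
  have hcop1 : (orderOf k).Coprime (orderOf c) :=
    (HallPi.coprime_of_pi hcσ hkσ').symm
  have ho1 : orderOf (k * c) = orderOf k * orderOf c :=
    hcomm.orderOf_mul_eq_mul_orderOf_of_coprime hcop1
  have har : Commute a r := by
    have := SupportR.supportR_le_centralizer N a hr
    rw [Subgroup.mem_centralizer_singleton_iff] at this
    exact this.symm
  have haσ : ∀ p : ℕ, p.Prime → p ∣ orderOf a → p ∈ sigma N := fun p hp hd =>
    SigmaElements.mem_sigma_of_dvd_orderOf ha hp hd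
  by_cases hr1 : r = 1
  · subst hr1
    rw [mul_one] at h
    have h1 : t ∈ sigma N := haσ t ht (by rw [← h, ho1]; exact htc.mul_left _)
    have h2 : t' ∈ sigma N := haσ t' ht' (by rw [← h, ho1]; exact htk.mul_right _)
    have h3 := sigma_eq_of_mem hG hM hN htM h1
    rw [h3] at h2
    exact hdisj t' h2 ht'M
  · obtain ⟨hCN, L, hL, hCL, hLu, hR⟩ := SupportR.exists_of_mem_supportR hr hr1
    obtain ⟨L', ⟨hL', hCL'⟩, -, hLF, -, -, hNL, -⟩ :=
      Cfsg.Agent.S1375.result hG N hN a ha ha1 hCN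
    have hLL : L' = L := hLu L' hL' hCL'
    subst hLL
    rw [hR, ← hLF] at hr
    have hrL : r ∈ sigmaCore L' := (Subgroup.mem_inf.mp hr).1
    have hrσ : ∀ p : ℕ, p.Prime → p ∣ orderOf r → p ∈ sigma L' := fun p hp hd =>
      SigmaElements.mem_sigma_of_dvd_orderOf hrL hp hd
    have hdisj2 : ∀ p ∈ sigma L', p ∉ sigma N := by
      intro p hpL hpN
      have h1 := sigma_eq_of_mem hG hL' hN hpL hpN
      have haC : a ∈ Subgroup.centralizer ({a} : Set G) := by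
        rw [Subgroup.mem_centralizer_singleton_iff]
      have h2 : a ∈ sigmaCore L' := SigmaElements.mem_sigmaCore_of_orderOf
        (Cfsg.Agent.S1350.result hG L' hL').1 (hCL' haC) (by rw [← h1]; exact haσ)
      have h3 : a ∈ (N ⊓ L') ⊓ sigmaCore L' :=
        Subgroup.mem_inf.mpr ⟨Subgroup.mem_inf.mpr ⟨SigmaElements.sigmaCore_le N ha, hCL' haC⟩, h2⟩
      rw [hNL.2.2.1, Subgroup.mem_bot] at h3
      exact ha1 h3
    have hrσ' : ∀ p : ℕ, p.Prime → p ∣ orderOf r → p ∉ sigma N := fun p hp hd =>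
      hdisj2 p (hrσ p hp hd)
    have hcop2 : (orderOf a).Coprime (orderOf r) := HallPi.coprime_of_pi haσ hrσ'
    have ho2 : orderOf (a * r) = orderOf a * orderOf r :=
      har.orderOf_mul_eq_mul_orderOf_of_coprime hcop2
    have ho3 : orderOf k * orderOf c = orderOf a * orderOf r := by
      rw [← ho1, ← ho2, h]
    have hsplit : ∀ p : ℕ, p.Prime → p ∣ orderOf k * orderOf c → p ∈ sigma N ∨ p ∈ sigma L' := by
      intro p hp hd
      rw [ho3] at hd
      rcases (hp.dvd_mul).mp hd with h1 | h1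
      · exact Or.inl (haσ p hp h1)
      · exact Or.inr (hrσ p hp h1)
    rcases hsplit t ht (htc.mul_left _) with h1 | h1
    · have hNM := sigma_eq_of_mem hG hM hN htM h1
      obtain ⟨h2, -⟩ := PiDecomp.decomp_unique (π := sigma N) hcomm.symm har
        (by rw [hNM]; exact hcσ) (by rw [hNM]; exact hkσ') haσ hrσ' (by rw [← hcomm.eq, h])
      subst h2
      exact hCN (centralizer_le hG hM hN hKst hTI1 hC1 hc hc1 ha)
    · rcases hsplit t' ht' (htk.mul_right _) with h2 | h2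
      · have hNM := sigma_eq_of_mem hG hMstar hN ht'M h2
        obtain ⟨h3, -⟩ := PiDecomp.decomp_unique (π := sigma N) hcomm har
          (by rw [hNM]; exact hkσ) (by rw [hNM]; exact fun p hp hd => hdisj p (hcσ p hp hd))
          haσ hrσ' h
        subst h3
        exact hCN (centralizer_le hG hMstar hN hK hTI2 hC2 hk hk1 ha)
      · have h3 := sigma_eq_of_mem hG hM hL' htM h1
        rw [h3] at h2
        exact hdisj t' h2 ht'M

/-- `Ẑ` does not meet `Ñ`. -/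
theorem zhat_not_mem (hG : IsMinSimpleOddOrder G) {M Mstar K Kst : Subgroup G} (hM : IsCoatom M)
    (hMstar : IsCoatom Mstar) (hdisj : ∀ p ∈ sigma M, p ∉ sigma Mstar)
    (hKst : Kst ≤ sigmaCore M) (hK : K ≤ sigmaCore Mstar)
    (hTI1 : ∀ g : G, g ∉ M → Kst ⊓ M.map (MulAut.conj g).toMonoidHom = ⊥)
    (hTI2 : ∀ g : G, g ∉ Mstar → K ⊓ Mstar.map (MulAut.conj g).toMonoidHom = ⊥)
    (hC1 : ∀ c ∈ Kst, c ≠ 1 → Subgroup.centralizer ({c} : Set G) ≤ M)
    (hC2 : ∀ k ∈ K, k ≠ 1 → Subgroup.centralizer ({k} : Set G) ≤ Mstar)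
    {k c : G} (hk : k ∈ K) (hk1 : k ≠ 1) (hc : c ∈ Kst) (hc1 : c ≠ 1) (hcomm : Commute k c)
    {N : Subgroup G} (hN : IsCoatom N) (y : G) :
    y * (k * c) * y⁻¹ ∉ tildeOf N ((sigmaCore N : Set G) \ {1}) := by
  rintro ⟨a, ⟨ha, ha1⟩, r, hr, w, h⟩
  have ha1' : a ≠ 1 := fun h => ha1 (by rw [h]; rfl)
  have h1 : k * c = (y⁻¹ * w) * (a * r) * (y⁻¹ * w)⁻¹ := by
    have : k * c = y⁻¹ * (y * (k * c) * y⁻¹) * y := by group
    rw [this, h]; group
  have hconj : k * c = ((y⁻¹ * w) * a * (y⁻¹ * w)⁻¹) * ((y⁻¹ * w) * r * (y⁻¹ * w)⁻¹) := by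
    rw [h1]; group
  refine zhat_aux hG hM hMstar hdisj hKst hK hTI1 hTI2 hC1 hC2 hk hk1 hc hc1 hcomm
    (isCoatom_map_conj hN (y⁻¹ * w)) ?_ ?_ ?_ hconj
  · rw [Equivariance.sigmaCore_map]; exact conj_mem_map_conj ha
  · intro h2; exact ha1' (conj_eq_one_iff.mp h2)
  · rw [SupportRConj.supportR_conj]; exact conj_mem_map_conj hr

end Cfsg.Agent.OddOrderLocal.Sec14Z
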