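import Mathlib

/-!
Element-wise facts on fixed-point-free action of a group `N` on a finite (commutative) group `V`,
given by a homomorphism `φ : N →* MulAut V`: a commuting pair of elements of order `q` generates a
cyclic group, and an element of prime order `r` normalising a subgroup of prime order `q ≠ r`
centralises it.
-/

set_option autoImplicit false

namespace Cfsg.Agent.OddOrderLocal.FPFElem

open Subgroup

/-- If `y` is an `r`-element that conjugates `z`, with `z ^ r = 1` and `r` prime, to a power of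
`z`, then `y` commutes with `z`. -/
theorem commute_of_pow_prime_pow {N : Type*} [Group N] {y z : N} {r k : ℕ} (hr : r.Prime)
    (hz : z ^ r = 1) (hy : y ^ r ^ k = 1) {c : ℕ} (hc : y * z * y⁻¹ = z ^ c) : Commute y z := by
  have h1 : ∀ n : ℕ, y ^ n * z * (y ^ n)⁻¹ = z ^ c ^ n := by
    intro n
    induction n with
    | zero => simp
    | succ n ih =>
      have : y ^ (n + 1) * z * (y ^ (n + 1))⁻¹ = y * (y ^ n * z * (y ^ n)⁻¹) * y⁻¹ := by
        rw [pow_succ' y n]; group
      rw [this, ih, ← conj_pow, hc, ← pow_mul, pow_succ', mul_comm]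
  have h2 := h1 (r ^ k)
  rw [hy] at h2
  simp only [one_mul, inv_one, mul_one] at h2
  haveI := Fact.mk hr
  have h3 : ∀ m : ℕ, c ^ r ^ m ≡ c [MOD r] := by
    intro m
    rw [← ZMod.natCast_eq_natCast_iff]
    push_cast
    exact ZMod.pow_card_pow (c : ZMod r)
  have h4 : z ^ c ^ r ^ k = z ^ c := by
    have hd : orderOf z ∣ r := orderOf_dvd_of_pow_eq_one hz
    rw [pow_eq_pow_iff_modEq]
    exact (h3 k).of_dvd hd
  have h5 : y * z * y⁻¹ = z := by rw [hc, ← h4, ← h2]
  show y * z = z * y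
  calc y * z = (y * z * y⁻¹) * y := by group
    _ = z * y := by rw [h5]

section Action

variable {N V : Type*} [Group N] [Group V] (φ : N →* MulAut V)

/-- Coprimality: an element of prime order acting fixed-point-freely on `V`. -/
theorem card_modEq_one [Finite V] {x : N} {q : ℕ} (hq : q.Prime) (hx : orderOf x = q)
    (hfix : ∀ v : V, φ x v = v → v = 1) : Nat.card V ≡ 1 [MOD q] := by
  haveI := Fact.mk hq
  letI : MulAction (zpowers x) V := MulAction.compHom V (φ.comp (zpowers x).subtype)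
  have hP : IsPGroup q (zpowers x) := by
    apply IsPGroup.of_card (n := 1)
    rw [Nat.card_zpowers, hx, pow_one]
  have h1 := hP.card_modEq_card_fixedPoints V
  have h2 : Nat.card (MulAction.fixedPoints (zpowers x) V) = 1 := by
    rw [Nat.card_eq_one_iff_unique]
    constructor
    · constructor
      rintro ⟨a, ha⟩ ⟨b, hb⟩
      have ha' : φ x a = a := ha ⟨x, mem_zpowers x⟩
      have hb' : φ x b = b := hb ⟨x, mem_zpowers x⟩
      exact Subtype.ext ((hfix a ha').trans (hfix b hb').symm)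
    · refine ⟨⟨1, ?_⟩⟩
      intro g
      show φ (g : N) 1 = 1
      exact map_one _
  rw [h2] at h1
  exact h1

/-- If `x` of prime order `q` acts fixed-point-freely on a finite `V` of exponent dividing `q` then
`V` is trivial. -/
theorem eq_one_of_pow_eq_one [Finite V] {x : N} {q : ℕ} (hq : q.Prime) (hx : orderOf x = q)
    (hfix : ∀ v : V, φ x v = v → v = 1) {v : V} (hv : v ^ q = 1) : v = 1 := by
  have h1 := card_modEq_one φ hq hx hfix
  have h2 : (Nat.card V).Coprime q := by
    have := h1.gcd_eq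
    rw [Nat.gcd_one_left] at this
    exact this
  have h3 : orderOf v ∣ Nat.card V := orderOf_dvd_natCard v
  have h4 : orderOf v ∣ q := orderOf_dvd_of_pow_eq_one hv
  have h5 : orderOf v ∣ 1 := by
    rw [← h2]
    exact Nat.dvd_gcd h3 h4
  exact orderOf_eq_one_iff.mp (Nat.dvd_one.mp h5)

end Action

section Comm

variable {N V : Type*} [Group N] [CommGroup V] (φ : N →* MulAut V)

theorem prod_pow_eq_one {g : N} {r : ℕ} (hr : g ^ r = 1)
    (hfix : ∀ v : V, φ g v = v → v = 1) (v : V) :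
    ∏ j ∈ Finset.range r, φ (g ^ j) v = 1 := by
  apply hfix
  rw [map_prod]
  have h1 : ∏ j ∈ Finset.range r, φ g (φ (g ^ j) v) = ∏ j ∈ Finset.range r, φ (g ^ (j + 1)) v := by
    refine Finset.prod_congr rfl fun j _ => ?_
    rw [pow_succ', map_mul]; rfl
  rw [h1]
  have h2 := Finset.prod_range_succ (fun j => φ (g ^ j) v) r
  have h3 := Finset.prod_range_succ' (fun j => φ (g ^ j) v) r
  rw [h2] at h3
  simp only [pow_zero, hr] at h3
  exact (mul_right_cancel h3).symm

/-- The common computation: elements `y k` (`k < q`) with `(y k) ^ j = (g j) ^ k * h j` for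
`0 < j < r`. -/
theorem pow_eq_one_of_family {q r : ℕ} (hr0 : 0 < r) (y : ℕ → N) (g h : ℕ → N)
    (hyr : ∀ k, (y k) ^ r = 1) (hyf : ∀ k, ∀ v : V, φ (y k) v = v → v = 1)
    (hgr : ∀ j, 0 < j → j < r → (g j) ^ q = 1)
    (hgf : ∀ j, 0 < j → j < r → ∀ v : V, φ (g j) v = v → v = 1)
    (hyg : ∀ k j, 0 < j → j < r → (y k) ^ j = (g j) ^ k * h j) (v : V) : v ^ q = 1 := by
  have h1 : ∏ k ∈ Finset.range q, ∏ j ∈ Finset.range r, φ ((y k) ^ j) v = 1 := by
    refine Finset.prod_eq_one fun k _ => ?_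
    exact prod_pow_eq_one φ (hyr k) (hyf k) v
  rw [Finset.prod_comm] at h1
  obtain ⟨r', rfl⟩ : ∃ r', r = r' + 1 := ⟨r - 1, by omega⟩
  rw [Finset.prod_range_succ'] at h1
  have h2 : ∏ j ∈ Finset.range r', ∏ k ∈ Finset.range q, φ ((y k) ^ (j + 1)) v = 1 := by
    refine Finset.prod_eq_one fun j hj => ?_
    rw [Finset.mem_range] at hj
    have h3 : ∏ k ∈ Finset.range q, φ ((y k) ^ (j + 1)) v
        = ∏ k ∈ Finset.range q, φ ((g (j + 1)) ^ k) (φ (h (j + 1)) v) := by
      refine Finset.prod_congr rfl fun k _ => ?_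
      rw [hyg k (j + 1) (Nat.succ_pos j) (by omega), map_mul]; rfl
    rw [h3]
    exact prod_pow_eq_one φ (hgr (j + 1) (Nat.succ_pos j) (by omega))
      (hgf (j + 1) (Nat.succ_pos j) (by omega)) _
  rw [h2, one_mul] at h1
  simpa using h1

end Comm

section Main

variable {N V : Type*} [Group N] [Group V] [Finite V] [Nontrivial V] (hV : ∀ a b : V, a * b = b * a)
  (φ : N →* MulAut V)

include hV in
/-- Commuting elements `x, y` of the same prime order `q`, all of whose products act
fixed-point-freely on the abelian group `V ≠ 1`, generate a cyclic group. -/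
theorem mem_zpowers_of_commute {x y : N} {q : ℕ} (hq : q.Prime) (hx : orderOf x = q)
    (hy : orderOf y = q) (hxy : Commute x y)
    (hf : ∀ g : N, g ≠ 1 → g ^ q = 1 → ∀ v : V, φ g v = v → v = 1) : y ∈ zpowers x := by
  by_contra hnot
  letI : CommGroup V := { (inferInstance : Group V) with mul_comm := hV }
  have hxq : x ^ q = 1 := by rw [← hx]; exact pow_orderOf_eq_one x
  have hyq : y ^ q = 1 := by rw [← hy]; exact pow_orderOf_eq_one y
  have hx1 : x ≠ 1 := by
    rintro rfl
    rw [orderOf_one] at hx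
    exact hq.one_lt.ne hx
  obtain ⟨v, hv⟩ := exists_ne (1 : V)
  have hvq : v ^ q = 1 := by
    refine pow_eq_one_of_family φ hq.pos (fun k => x ^ k * y) (fun j => x ^ j) (fun j => y ^ j)
      ?_ ?_ ?_ ?_ ?_ v
    · intro k
      show (x ^ k * y) ^ q = 1
      rw [(hxy.pow_left k).mul_pow, ← pow_mul, mul_comm k q, pow_mul, hxq, one_pow, one_mul, hyq]
    · intro k
      refine hf (x ^ k * y) ?_ ?_
      · intro h
        apply hnot
        have : y = (x ^ k)⁻¹ := by
          rw [eq_comm, inv_eq_iff_mul_eq_one]; exact h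
        rw [this]
        exact inv_mem (pow_mem (mem_zpowers x) k)
      · rw [(hxy.pow_left k).mul_pow, ← pow_mul, mul_comm k q, pow_mul, hxq, one_pow, one_mul, hyq]
    · intro j _ _
      show (x ^ j) ^ q = 1
      rw [← pow_mul, mul_comm, pow_mul, hxq, one_pow]
    · intro j hj0 hjq
      refine hf (x ^ j) ?_ ?_
      · intro h
        have := orderOf_dvd_of_pow_eq_one h
        rw [hx] at this
        exact absurd (Nat.le_of_dvd hj0 this) (by omega)
      · rw [← pow_mul, mul_comm, pow_mul, hxq, one_pow]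
    · intro k j _ _
      show (x ^ k * y) ^ j = (x ^ j) ^ k * y ^ j
      rw [(hxy.pow_left k).mul_pow, ← pow_mul, ← pow_mul, mul_comm k j]
  exact hv (eq_one_of_pow_eq_one φ hq hx (hf x hx1 hxq) hvq)

include hV in
/-- `x` of prime order `q`, `y` of prime order `r ≠ q` normalising `⟨x⟩`, everything acting
fixed-point-freely on the abelian group `V ≠ 1`: then `x` and `y` commute. -/
theorem commute_of_normalizes {x y : N} {q r : ℕ} (hq : q.Prime) (hr : r.Prime) (hx : orderOf x = q)
    (hy : orderOf y = r) {c : ℕ} (hc : y * x * y⁻¹ = x ^ c)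
    (hf : ∀ g : N, g ≠ 1 → (g ^ q = 1 ∨ g ^ r = 1) → ∀ v : V, φ g v = v → v = 1) :
    Commute x y := by
  by_contra hnot
  letI : CommGroup V := { (inferInstance : Group V) with mul_comm := hV }
  have hxq : x ^ q = 1 := by rw [← hx]; exact pow_orderOf_eq_one x
  have hyr : y ^ r = 1 := by rw [← hy]; exact pow_orderOf_eq_one y
  have hx1 : x ≠ 1 := by
    rintro rfl
    rw [orderOf_one] at hx
    exact hq.one_lt.ne hx
  have hy1 : y ≠ 1 := by
    rintro rfl
    rw [orderOf_one] at hy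
    exact hr.one_lt.ne hy
  -- conjugates of powers of `x` by powers of `y` are powers of `x`
  have hconj : ∀ j : ℕ, ∃ d : ℕ, y ^ j * x⁻¹ * (y ^ j)⁻¹ = x⁻¹ ^ d := by
    intro j
    induction j with
    | zero => exact ⟨1, by simp⟩
    | succ j ih =>
      obtain ⟨d, hd⟩ := ih
      refine ⟨c * d, ?_⟩
      have h1 : y ^ (j + 1) * x⁻¹ * (y ^ (j + 1))⁻¹ = y * (y ^ j * x⁻¹ * (y ^ j)⁻¹) * y⁻¹ := by
        rw [pow_succ' y j]; group
      have h2 : y * x⁻¹ * y⁻¹ = x⁻¹ ^ c := by
        have : y * x⁻¹ * y⁻¹ = (y * x * y⁻¹)⁻¹ := by group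
        rw [this, hc, inv_pow]
      rw [h1, hd, ← conj_pow, h2, ← pow_mul]
  -- `y ^ j` does not commute with `x` for `0 < j < r`
  have hncomm : ∀ j : ℕ, 0 < j → j < r → ¬ Commute x (y ^ j) := by
    intro j hj0 hjr hcomm
    apply hnot
    have hcop : j.Coprime (orderOf y) := by
      rw [hy]
      exact (Nat.Coprime.symm ((Nat.Prime.coprime_iff_not_dvd hr).mpr
        (Nat.not_dvd_of_pos_of_lt hj0 hjr)))
    obtain ⟨m, hm⟩ := exists_pow_eq_self_of_coprime hcop
    rw [← hm]
    exact hcomm.pow_right m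
  obtain ⟨v, hv⟩ := exists_ne (1 : V)
  have hg : ∀ j : ℕ, (x * (y ^ j * x⁻¹ * (y ^ j)⁻¹)) ^ q = 1 := by
    intro j
    obtain ⟨d, hd⟩ := hconj j
    have hcm : Commute x (x⁻¹ ^ d) := ((Commute.refl x).inv_right).pow_right d
    rw [hd, hcm.mul_pow, hxq, one_mul, ← pow_mul, mul_comm, pow_mul, inv_pow, hxq, inv_one,
      one_pow]
  have hg1 : ∀ j : ℕ, 0 < j → j < r → x * (y ^ j * x⁻¹ * (y ^ j)⁻¹) ≠ 1 := by
    intro j hj0 hjr h
    apply hncomm j hj0 hjr
    have h3 : y ^ j * x⁻¹ * (y ^ j)⁻¹ = x⁻¹ := eq_inv_of_mul_eq_one_right h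
    have h4 : y ^ j * x⁻¹ = x⁻¹ * y ^ j := by
      calc y ^ j * x⁻¹ = (y ^ j * x⁻¹ * (y ^ j)⁻¹) * y ^ j := by group
        _ = x⁻¹ * y ^ j := by rw [h3]
    have h5 : Commute x⁻¹ (y ^ j) := h4.symm
    exact Commute.inv_left_iff.mp h5
  have hvq : v ^ q = 1 := by
    refine pow_eq_one_of_family φ hr.pos (fun k => x ^ k * y * (x ^ k)⁻¹)
      (fun j => x * (y ^ j * x⁻¹ * (y ^ j)⁻¹)) (fun j => y ^ j) ?_ ?_ ?_ ?_ ?_ v
    · intro k
      show (x ^ k * y * (x ^ k)⁻¹) ^ r = 1
      rw [conj_pow, hyr]; group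
    · intro k
      refine hf (x ^ k * y * (x ^ k)⁻¹) ?_ (Or.inr ?_)
      · intro h
        rw [conj_eq_one_iff] at h
        exact hy1 h
      · rw [conj_pow, hyr]; group
    · intro j _ _
      exact hg j
    · intro j hj0 hjr
      exact hf _ (hg1 j hj0 hjr) (Or.inl (hg j))
    · intro k j _ _
      show (x ^ k * y * (x ^ k)⁻¹) ^ j = (x * (y ^ j * x⁻¹ * (y ^ j)⁻¹)) ^ k * y ^ j
      obtain ⟨d, hd⟩ := hconj j
      have hcm : Commute x (y ^ j * x⁻¹ * (y ^ j)⁻¹) := by
        rw [hd]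
        exact ((Commute.refl x).inv_right).pow_right d
      rw [conj_pow, hcm.mul_pow, conj_pow]
      group
  exact hv (eq_one_of_pow_eq_one φ hq hx (hf x hx1 (Or.inl hxq)) hvq)

end Main

end Cfsg.Agent.OddOrderLocal.FPFElem
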