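import Mathlib
import Cfsg.Prelude.Def_OddOrderLocal
import Cfsg.Agent.OddOrderLocal.FPFElem
import Cfsg.Agent.OddOrderLocal.ZGroup

/-!
Subgroup form of fixed-point-free action: a subgroup `D` of odd order normalising a nontrivial
nilpotent subgroup `V`, no non-identity element of `D` centralising a non-identity element of `V`,
is a Z-group, and an element of prime order normalising a subgroup of `D` of prime order
centralises it.  Also: an abelian Sylow `p`-subgroup meets `Z(G) ∩ G'` trivially.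
-/

set_option autoImplicit false

namespace Cfsg.Agent.OddOrderLocal.FreeAction

open Subgroup

variable {G : Type*} [Group G]

/-- If `P` is an abelian Sylow `p`-subgroup of `G` then `P ∩ Z(G) ∩ G' = 1` (transfer). -/
theorem eq_one_of_mem_sylow_center_commutator [Finite G] {p : ℕ} [Fact p.Prime] (P : Sylow p G)
    (hP : IsMulCommutative (P : Subgroup G)) {z : G} (hz : z ∈ (P : Subgroup G))
    (hzc : z ∈ Subgroup.center G) (hzd : z ∈ commutator G) : z = 1 := by
  have key : ∀ (k : ℕ) (g₀ : G), g₀⁻¹ * z ^ k * g₀ ∈ (P : Subgroup G) → g₀⁻¹ * z ^ k * g₀ = z ^ k := by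
    intro k g₀ _
    have h1 : z ^ k ∈ Subgroup.center G := pow_mem hzc k
    rw [mul_assoc, ← Subgroup.mem_center_iff.mp h1 g₀, inv_mul_cancel_left]
  let _ : CommGroup (P : Subgroup G) := { (inferInstance : Group (P : Subgroup G)) with
    mul_comm := fun a b => hP.is_comm.comm a b }
  have h1 := MonoidHom.transfer_eq_pow (H := (P : Subgroup G)) (MonoidHom.id (P : Subgroup G)) z key
  have h2 : MonoidHom.transfer (H := (P : Subgroup G)) (MonoidHom.id (P : Subgroup G)) z = 1 :=
    Abelianization.commutator_subset_ker _ hzd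
  rw [h2] at h1
  have h3 : z ^ (P : Subgroup G).index = 1 := by
    have := congrArg Subtype.val h1
    simpa using this.symm
  obtain ⟨n, hn⟩ := P.2 ⟨z, hz⟩
  have h4 : z ^ p ^ n = 1 := by
    have := congrArg Subtype.val hn
    simpa using this
  have hcop : (p ^ n).Coprime (P : Subgroup G).index := by
    apply Nat.Coprime.pow_left
    exact (Nat.Prime.coprime_iff_not_dvd Fact.out).mpr P.not_dvd_index
  have h5 := Nat.dvd_gcd (orderOf_dvd_of_pow_eq_one h4) (orderOf_dvd_of_pow_eq_one h3)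
  rw [hcop] at h5
  exact orderOf_eq_one_iff.mp (Nat.dvd_one.mp h5)

/-- Passage to an abelian subgroup: a nontrivial nilpotent subgroup normalised by `D` contains a nontrivial
abelian subgroup normalised by `D`. -/
theorem exists_abelian [Finite G] {D V : Subgroup G} (hV : V ≠ ⊥) (hVn : Group.IsNilpotent V)
    (hDV : D ≤ Subgroup.normalizer (V : Set G)) :
    ∃ C : Subgroup G, C ≤ V ∧ C ≠ ⊥ ∧ (∀ a ∈ C, ∀ b ∈ C, a * b = b * a) ∧
      D ≤ Subgroup.normalizer (C : Set G) := by
  have hVnt : Nontrivial V := (Subgroup.nontrivial_iff_ne_bot V).mpr hV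
  have hc : Subgroup.center V ≠ ⊥ := Group.IsNilpotent.center_ne_bot V
  refine ⟨(Subgroup.center V).map V.subtype, Subgroup.map_subtype_le _, ?_, ?_, ?_⟩
  · intro h
    apply hc
    rwa [Subgroup.map_eq_bot_iff_of_injective _ (Subgroup.subtype_injective V)] at h
  · rintro _ ⟨a, ha, rfl⟩ _ ⟨b, hb, rfl⟩
    have := Subgroup.mem_center_iff.mp hb a
    exact congrArg Subtype.val this
  · intro d hd
    rw [Subgroup.mem_normalizer_iff]
    have key : ∀ d ∈ D, ∀ x ∈ (Subgroup.center V).map V.subtype,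
        d * x * d⁻¹ ∈ (Subgroup.center V).map V.subtype := by
      rintro d hd _ ⟨a, ha, rfl⟩
      have hdV := Subgroup.mem_normalizer_iff.mp (hDV hd)
      have h1 : d * (a : G) * d⁻¹ ∈ V := (hdV a).mp a.2
      refine ⟨⟨d * (a : G) * d⁻¹, h1⟩, ?_, rfl⟩
      rw [SetLike.mem_coe, Subgroup.mem_center_iff]
      intro b
      apply Subtype.ext
      have h2 : d⁻¹ * (b : G) * d ∈ V := by
        have := (Subgroup.mem_normalizer_iff.mp (hDV (D.inv_mem hd)) (b : G)).mp b.2
        simpa using this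
      have h3 := congrArg Subtype.val (Subgroup.mem_center_iff.mp ha ⟨_, h2⟩)
      have h3' : d⁻¹ * (b : G) * d * (a : G) = (a : G) * (d⁻¹ * (b : G) * d) := h3
      show (b : G) * (d * (a : G) * d⁻¹) = d * (a : G) * d⁻¹ * (b : G)
      calc (b : G) * (d * (a : G) * d⁻¹) = d * (d⁻¹ * (b : G) * d * (a : G)) * d⁻¹ := by group
        _ = d * ((a : G) * (d⁻¹ * (b : G) * d)) * d⁻¹ := by rw [h3']
        _ = d * (a : G) * d⁻¹ * (b : G) := by group
    intro x
    constructor
    · exact key d hd x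
    · intro hx
      have := key d⁻¹ (D.inv_mem hd) _ hx
      simpa [mul_assoc] using this

section

variable [Finite G] {D V : Subgroup G} (hV : V ≠ ⊥) (hVn : Group.IsNilpotent V)
  (hDV : D ≤ Subgroup.normalizer (V : Set G))
  (hfree : ∀ d ∈ D, d ≠ 1 → ∀ z ∈ V, z ≠ 1 → d * z ≠ z * d)

include hV hVn hDV hfree

theorem commute_of_free {x y : G} (hx : x ∈ D) (hy : y ∈ D) {q r : ℕ} (hq : q.Prime) (hr : r.Prime)
    (hxq : orderOf x = q) (hyr : orderOf y = r) {c : ℕ} (hc : y * x * y⁻¹ = x ^ c) :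
    x * y = y * x := by
  obtain ⟨C, hCV, hC1, hCc, hDC⟩ := exists_abelian hV hVn hDV
  have hCnt : Nontrivial C := (Subgroup.nontrivial_iff_ne_bot C).mpr hC1
  set φ : D →* MulAut C := C.normalizerMonoidHom.comp (Subgroup.inclusion hDC) with hφ
  have hφa : ∀ (d : D) (v : C), ((φ d v : C) : G) = (d : G) * (v : G) * (d : G)⁻¹ := by
    intro d v
    rfl
  have h1 := FPFElem.commute_of_normalizes (V := C) (fun a b => Subtype.ext (hCc a a.2 b b.2)) φ
    (x := ⟨x, hx⟩) (y := ⟨y, hy⟩) hq hr (by rw [Subgroup.orderOf_mk]; exact hxq)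
    (by rw [Subgroup.orderOf_mk]; exact hyr) (c := c) (Subtype.ext hc) (by
      intro g hg1 _ v hv
      by_contra hv1
      have h2 := hfree g g.2 (fun h => hg1 (Subtype.ext h)) v (hCV v.2) (fun h => hv1 (Subtype.ext h))
      apply h2
      have h3 := congrArg Subtype.val hv
      rw [hφa] at h3
      calc (g : G) * (v : G) = ((g : G) * (v : G) * (g : G)⁻¹) * (g : G) := by group
        _ = (v : G) * (g : G) := by rw [h3])
  exact congrArg Subtype.val h1.eq

/-- A group of odd order acting freely on a nontrivial nilpotent group is a Z-group. -/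
theorem isZGroup_of_free (hodd : Odd (Nat.card D)) : IsZGroup D := by
  obtain ⟨C, hCV, hC1, hCc, hDC⟩ := exists_abelian hV hVn hDV
  have hCnt : Nontrivial C := (Subgroup.nontrivial_iff_ne_bot C).mpr hC1
  set φ : D →* MulAut C := C.normalizerMonoidHom.comp (Subgroup.inclusion hDC) with hφ
  have hφa : ∀ (d : D) (v : C), ((φ d v : C) : G) = (d : G) * (v : G) * (d : G)⁻¹ := by
    intro d v
    rfl
  rw [ZGroup.isZGroup_iff_rankLE_one hodd]
  intro p hp
  have : Fact p.Prime := ⟨hp⟩
  by_contra hnr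
  obtain ⟨A, hA, hAc⟩ := Rank.exists_elemAb_of_not_pRankLE_top hnr
  obtain ⟨hAcomm, hAp⟩ := Rank.elemAb_def.mp hA
  have hA1 : A ≠ ⊥ := by
    rintro rfl
    rw [Subgroup.card_bot] at hAc
    have := Nat.one_lt_pow (n := 1 + 1) (by norm_num) hp.one_lt
    omega
  obtain ⟨x, hx1⟩ := Subgroup.ne_bot_iff_exists_ne_one.mp hA1
  have hx1' : (x : D) ≠ 1 := fun h => hx1 (Subtype.ext h)
  have hxo : orderOf (x : D) = p := orderOf_eq_prime (hAp x x.2) hx1'
  have hlt : ∃ y ∈ A, y ∉ Subgroup.zpowers (x : D) := by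
    by_contra hcon
    push Not at hcon
    have h1 : A ≤ Subgroup.zpowers (x : D) := hcon
    have h2 := Subgroup.card_le_of_le h1
    rw [Nat.card_zpowers, hxo, hAc] at h2
    have h3 : p ^ 1 < p ^ (1 + 1) := Nat.pow_lt_pow_right hp.one_lt (by norm_num)
    rw [pow_one] at h3
    omega
  obtain ⟨y, hyA, hyx⟩ := hlt
  have hy1 : y ≠ 1 := by
    rintro rfl
    exact hyx (Subgroup.one_mem _)
  have hyo : orderOf y = p := orderOf_eq_prime (hAp y hyA) hy1
  refine hyx (FPFElem.mem_zpowers_of_commute (V := C) (fun a b => Subtype.ext (hCc a a.2 b b.2)) φ hp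
    hxo hyo (hAcomm x x.2 y hyA) ?_)
  intro g hg1 _ v hv
  by_contra hv1
  have h2 := hfree g g.2 (fun h => hg1 (Subtype.ext h)) v (hCV v.2) (fun h => hv1 (Subtype.ext h))
  apply h2
  have h3 := congrArg Subtype.val hv
  rw [hφa] at h3
  calc (g : G) * (v : G) = ((g : G) * (v : G) * (g : G)⁻¹) * (g : G) := by group
    _ = (v : G) * (g : G) := by rw [h3]

end

end Cfsg.Agent.OddOrderLocal.FreeAction
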