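import Mathlib
import Cfsg.Prelude.Def_CaseTheorems
import Cfsg.Agent.OddOrderLocal.OmegaCritical
import Cfsg.Agent.OddOrderLocal.AutRankTwo

set_option autoImplicit false

/-!
For `p` odd and a finite `p`-group `R` of `p`-rank at most two there is a homomorphism from `MulAut R` to
the monoid of `2 × 2` matrices over `ZMod p` whose kernel contains no nontrivial `p'`-element.
-/

namespace Cfsg.Agent.OddOrderLocal.RankTwoRep

open Subgroup
open scoped commutatorElement

theorem exists_rep_addEnd {p : ℕ} [hpf : Fact p.Prime] {V : Type*} [AddCommGroup V] [Finite V]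
    (hVp : ∀ a : V, p • a = 0) (hV : Nat.card V ≤ p ^ 2) :
    ∃ ρ : AddMonoid.End V →* Matrix (Fin 2) (Fin 2) (ZMod p), Function.Injective ρ := by
  have hp : p.Prime := hpf.out
  let _ : Module (ZMod p) V := AddCommGroup.zmodModule (n := p) hVp
  have hfm : Module.Finite (ZMod p) V := Module.Finite.of_finite
  have hrank : Module.finrank (ZMod p) V ≤ 2 := by
    have h1 : Nat.card V = Nat.card (ZMod p) ^ Module.finrank (ZMod p) V :=
      Module.natCard_eq_pow_finrank
    rw [Nat.card_zmod] at h1
    rw [h1] at hV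
    exact (Nat.pow_le_pow_iff_right hp.one_lt).1 hV
  let U := Fin (2 - Module.finrank (ZMod p) V) → ZMod p
  have hrank2 : Module.finrank (ZMod p) (V × U) = 2 := by
    rw [Module.finrank_prod, Module.finrank_fin_fun]
    omega
  let b := Module.finBasisOfFinrankEq (ZMod p) (V × U) hrank2
  let ψ : AddMonoid.End V →* Module.End (ZMod p) (V × U) :=
    { toFun := fun f => LinearMap.prodMap ((f : V →+ V).toZModLinearMap p) LinearMap.id
      map_one' := by
        apply LinearMap.ext
        rintro ⟨x, y⟩
        rfl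
      map_mul' := by
        intro f g
        apply LinearMap.ext
        rintro ⟨x, y⟩
        rfl }
  refine ⟨((LinearMap.toMatrixAlgEquiv b).toRingEquiv.toMonoidHom).comp ψ, ?_⟩
  intro f g hfg
  have h1 : ψ f = ψ g := (LinearMap.toMatrixAlgEquiv b).injective hfg
  apply AddMonoidHom.ext
  intro x
  have := congrArg (fun f : Module.End (ZMod p) (V × U) => (f (x, 0)).1) h1
  exact this

/-- The automorphism group of an elementary abelian group of order at most `p ^ 2` embeds in the
`2 × 2` matrices. -/
theorem exists_rep_mulAut {p : ℕ} [hpf : Fact p.Prime] {V : Type*} [CommGroup V] [Finite V]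
    (hVp : ∀ a : V, a ^ p = 1) (hV : Nat.card V ≤ p ^ 2) :
    ∃ ρ : MulAut V →* Matrix (Fin 2) (Fin 2) (ZMod p), Function.Injective ρ := by
  have hfin : Finite (Additive V) := ‹Finite V›
  obtain ⟨ρ, hρ⟩ := exists_rep_addEnd (p := p) (V := Additive V) (fun a => hVp a.toMul) hV
  let ψ : MulAut V →* AddMonoid.End (Additive V) :=
    { toFun := fun a => MonoidHom.toAdditive (a.toMonoidHom)
      map_one' := by
        apply AddMonoidHom.ext
        intro x
        rfl
      map_mul' := by
        intro x y
        apply AddMonoidHom.ext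
        intro z
        rfl }
  refine ⟨ρ.comp ψ, ?_⟩
  intro a b hab
  have h1 : ψ a = ψ b := hρ hab
  ext x
  exact congrArg (fun f : AddMonoid.End (Additive V) => (f (Additive.ofMul x)).toMul) h1

/-- A `p'`-automorphism acting trivially on the abelianization of a `p`-group of class at most `2` is
trivial. -/
theorem eq_one_of_abelianization {H : Type*} [Group H] {p : ℕ} (hHP : IsPGroup p H)
    (hcl : ∀ x y z : H, Commute ⁅x, y⁆ z) (a : MulAut H) (ha : (orderOf a).Coprime p)
    (htriv : ∀ x : H, x⁻¹ * a x ∈ commutator H) : a = 1 := by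
  have hcen : ∀ z ∈ commutator H, ∀ y : H, Commute z y := by
    have h1 : commutator H ≤ Subgroup.center H := by
      rw [commutator_def, Subgroup.commutator_le]
      intro a _ b _
      rw [Subgroup.mem_center_iff]
      intro g
      exact (hcl a b g).symm.eq
    intro z hz y
    exact (Subgroup.mem_center_iff.1 (h1 hz) y).symm
  have hfixc : ∀ z ∈ commutator H, a z = z := by
    have h1 : commutator H ≤ (a.toMonoidHom.eqLocus (MonoidHom.id H)) := by
      rw [commutator_def, Subgroup.commutator_le]
      intro x _ b _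
      change a ⁅x, b⁆ = ⁅x, b⁆
      have hx : a x = x * (x⁻¹ * a x) := by group
      have hb : a b = b * (b⁻¹ * a b) := by group
      have hza := hcen _ (htriv x)
      have hzb := hcen _ (htriv b)
      rw [map_commutatorElement, hx, hb]
      generalize x⁻¹ * a x = u at hza
      generalize b⁻¹ * a b = v at hzb
      rw [commutatorElement_def, commutatorElement_def]
      calc x * u * (b * v) * (x * u)⁻¹ * (b * v)⁻¹
          = x * (u * b) * v * u⁻¹ * x⁻¹ * v⁻¹ * b⁻¹ := by group
        _ = x * (b * u) * v * u⁻¹ * x⁻¹ * v⁻¹ * b⁻¹ := by rw [(hza b).eq]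
        _ = x * b * (u * v) * u⁻¹ * x⁻¹ * v⁻¹ * b⁻¹ := by group
        _ = x * b * (v * u) * u⁻¹ * x⁻¹ * v⁻¹ * b⁻¹ := by rw [(hza v).eq]
        _ = x * b * (v * x⁻¹) * v⁻¹ * b⁻¹ := by group
        _ = x * b * (x⁻¹ * v) * v⁻¹ * b⁻¹ := by rw [(hzb x⁻¹).eq]
        _ = x * b * x⁻¹ * b⁻¹ := by group
    intro z hz
    exact h1 hz
  ext x
  exact Cfsg.Agent.OddOrderLocal.OmegaCritical.fix_of_fix_div hHP a ha x (hfixc _ (htriv x))

/-- For `p` odd and a finite `p`-group `R` of rank at most two there is a homomorphism from `MulAut R`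
to `2 × 2` matrices over `ZMod p` with no nontrivial `p'`-element in its kernel. -/
theorem exists_rep {R : Type*} [Group R] [Finite R] {p : ℕ} [hpf : Fact p.Prime] (hp : p ≠ 2)
    (hR : IsPGroup p R) (hr : Cfsg.PRankLE p 2 R) :
    ∃ ρ : MulAut R →* Matrix (Fin 2) (Fin 2) (ZMod p),
      ∀ a : MulAut R, (orderOf a).Coprime p → ρ a = 1 → a = 1 := by
  obtain ⟨H, hH, hexp, hcl, hfaith⟩ :=
    Cfsg.Agent.OddOrderLocal.OmegaCritical.exists_omega_critical hp hR
  have hexp' : ∀ x : H, x ^ p = 1 := fun x => Subtype.ext (hexp x x.2)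
  have hcl' : ∀ x y z : H, Commute ⁅x, y⁆ z := fun x y z =>
    Subtype.ext (hcl x x.2 y y.2 z z.2).eq
  have hcard := Cfsg.Agent.OddOrderLocal.OmegaCritical.card_abelianization_le hexp' hcl'
    (Cfsg.Agent.OddOrderLocal.AutRankTwo.pRankLE_subgroup hr H)
  have hexpA : ∀ a : Abelianization H, a ^ p = 1 := by
    intro a
    obtain ⟨x, rfl⟩ := QuotientGroup.mk_surjective a
    change (Abelianization.of x) ^ p = 1
    rw [← map_pow, hexp' x, map_one]
  obtain ⟨ρ, hρ⟩ := exists_rep_mulAut (p := p) (V := Abelianization H) hexpA hcard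
  let θ : MulAut H →* MulAut (Abelianization H) :=
    { toFun := fun a => a.abelianizationCongr
      map_one' := abelianizationCongr_refl
      map_mul' := fun a b => (abelianizationCongr_trans b a).symm }
  refine ⟨(ρ.comp θ).comp (MulAut.characteristic H), ?_⟩
  intro a ha h1
  have h2 : θ (MulAut.characteristic H a) = 1 := by
    apply hρ
    rw [map_one]
    exact h1
  have h3 : MulAut.characteristic H a = 1 := by
    apply eq_one_of_abelianization (hR.to_subgroup H) hcl'
    · exact Nat.Coprime.coprime_dvd_left (orderOf_map_dvd _ a) ha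
    · intro x
      have h4 : θ (MulAut.characteristic H a) (Abelianization.of x) = Abelianization.of x := by
        rw [h2]; rfl
      have h5 : θ (MulAut.characteristic H a) (Abelianization.of x) =
          Abelianization.of (MulAut.characteristic H a x) := rfl
      rw [h5] at h4
      exact QuotientGroup.eq.1 h4.symm
  apply hfaith a ha
  intro x hx
  have h6 : MulAut.characteristic H a ⟨x, hx⟩ = ⟨x, hx⟩ := by rw [h3]; rfl
  exact congrArg Subtype.val h6

end Cfsg.Agent.OddOrderLocal.RankTwoRep
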