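import Mathlib
import Cfsg.Prelude.Def_OddOrderLocal
import Cfsg.Agent.OddOrderLocal.TypeCore
import Cfsg.Agent.OddOrderLocal.SigmaElements
import Cfsg.Agent.OddOrderLocal.DecompBasic
import Cfsg.Agent.OddOrderLocal.MinSimpleBasic
import Cfsg.Agent.S0001
import Cfsg.Agent.S1354
import Cfsg.Agent.S1380

/-!
The sets `A(M)`, `A₀(M)` in the language of types (`Cfsg.typeA`, `Cfsg.typeA0`) in terms of the
`σ`-sets `Cfsg.sigmaA`, `Cfsg.sigmaHat` and the standard factorisation `M = K U M_σ`.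
-/

set_option autoImplicit false
set_option linter.unusedSectionVars false

namespace Cfsg.Agent.OddOrderLocal.TypeSets

open Cfsg

variable {G : Type*} [Group G] [Finite G]

/-- no element of `K ⊓ (U M_σ)`. -/
theorem coprime_K (hG : IsMinSimpleOddOrder G) {M K U : Subgroup G} (hM : IsCoatom M)
    (hKU : IsSigmaDecomposition M K U) :
    (Nat.card K).Coprime (Nat.card ↥(U ⊔ sigmaCore M)) := by
  have hs := (Cfsg.Agent.S1350.result hG M hM).1
  have hU := DecompBasic.isPiHallOf_compl hs hKU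
  rw [← DecompBasic.card_eq_of_isComplIn (DecompBasic.isComplIn_sup hs hKU)]
  by_contra hne
  rw [Nat.Prime.not_coprime_iff_dvd] at hne
  obtain ⟨p, hp, h1, h2⟩ := hne
  have hk := hKU.hall.2.1 p hp h1
  rcases (hp.dvd_mul).mp h2 with h3 | h3
  · exact (hU.2.1 p hp h3).2.1 hk
  · exact hk.2.2.1 (hs.2.1 p hp h3)

theorem inf_K (hG : IsMinSimpleOddOrder G) {M K U : Subgroup G} (hM : IsCoatom M)
    (hKU : IsSigmaDecomposition M K U) : (U ⊔ sigmaCore M) ⊓ K = ⊥ :=
  (Subgroup.disjoint_of_coprime_natCard (coprime_K hG hM hKU).symm).eq_bot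

/-- `M = (U M_σ) K`. -/
theorem isComplIn_K (hG : IsMinSimpleOddOrder G) {M K U : Subgroup G} (hM : IsCoatom M)
    (hKU : IsSigmaDecomposition M K U) : IsComplIn (U ⊔ sigmaCore M) K M := by
  have hKM : K ≤ M := hKU.hall.1
  refine ⟨sup_le hKU.compl.1 (SigmaElements.sigmaCore_le M), hKM, inf_K hG hM hKU, ?_⟩
  intro m hm
  obtain ⟨u, hu, x, hx, rfl⟩ := hKU.compl.2.2.2 m hm
  have hn : K ≤ Subgroup.normalizer (sigmaCore M : Set G) :=
    hKM.trans (SigmaElements.le_normalizer_sigmaCore M)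
  rw [sup_comm, ← SetLike.mem_coe, Subgroup.coe_mul_of_right_le_normalizer_left _ _ hn] at hx
  obtain ⟨s, hs, k, hk, rfl⟩ := hx
  exact ⟨u * s, mul_mem ((le_sup_left : U ≤ U ⊔ sigmaCore M) hu)
    ((le_sup_right : sigmaCore M ≤ U ⊔ sigmaCore M) hs), k, hk, by simp [mul_assoc]⟩

/-- if `K = 1` then `M = U M_σ`. -/
theorem sup_eq_of_K_eq_bot {M K U : Subgroup G}
    (hKU : IsSigmaDecomposition M K U) (hK : K = ⊥) : U ⊔ sigmaCore M = M := by
  apply le_antisymm
  · exact sup_le hKU.compl.1 (SigmaElements.sigmaCore_le M)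
  · intro m hm
    obtain ⟨u, hu, x, hx, rfl⟩ := hKU.compl.2.2.2 m hm
    rw [hK, bot_sup_eq] at hx
    exact mul_mem ((le_sup_left : U ≤ U ⊔ sigmaCore M) hu)
      ((le_sup_right : sigmaCore M ≤ U ⊔ sigmaCore M) hx)

/-- `K = 1` and `U = 1` is impossible. -/
theorem K_ne_bot_of_U_eq_bot (hG : IsMinSimpleOddOrder G) {M K U : Subgroup G} (hM : IsCoatom M)
    (hKU : IsSigmaDecomposition M K U) (hU : U = ⊥) : K ≠ ⊥ := by
  intro hK
  have h1 := sup_eq_of_K_eq_bot hKU hK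
  rw [hU, bot_sup_eq] at h1
  obtain ⟨-, -, h2, h3, -⟩ := Cfsg.Agent.S1355.result hG M hM
  rw [h1] at h2
  exact absurd h2 (not_le_of_gt h3)

theorem not_isOfTypeI_iff (hG : IsMinSimpleOddOrder G) {M K U : Subgroup G} (hM : IsCoatom M)
    (hKU : IsSigmaDecomposition M K U) : ¬ IsOfTypeI M ↔ K ≠ ⊥ := by
  rw [Cfsg.Agent.S1380.result hG M hM K U hKU]
  constructor
  · intro h hK
    by_cases hU : U = ⊥
    · exact K_ne_bot_of_U_eq_bot hG hM hKU hU hK
    · exact h ⟨hK, hU⟩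
  · rintro h ⟨h1, -⟩
    exact h h1

/-- `A(M)` is `sigmaA M U` without the identity. -/
theorem typeA_eq (hG : IsMinSimpleOddOrder G) (M : Subgroup G) (hM : IsCoatom M) (K U : Subgroup G)
    (hKU : IsSigmaDecomposition M K U) : typeA M = sigmaA M U \ {1} := by
  by_cases hI : IsOfTypeI M
  · obtain ⟨hK, hU⟩ := (Cfsg.Agent.S1380.result hG M hM K U hKU).1 hI
    have hF := TypeCore.fittingHallOf_eq_of_K_eq_bot hG hM hKU hK
    have hM' := sup_eq_of_K_eq_bot hKU hK
    unfold typeA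
    rw [if_pos hI, hF]
    ext a
    constructor
    · rintro ⟨ha, ha1, x, hx, hx1, hax⟩
      exact ⟨⟨⟨ha, x, hx, hx1, hax⟩, by rw [SetLike.mem_coe, hM']; exact ha⟩, ha1⟩
    · rintro ⟨⟨⟨ha, x, hx, hx1, hax⟩, -⟩, ha1⟩
      exact ⟨ha, ha1, x, hx, hx1, hax⟩
  · have hK := (not_isOfTypeI_iff hG hM hKU).1 hI
    have hM' := (Cfsg.Agent.S1365.result hG M hM K U hKU hK).1
    unfold typeA
    rw [if_neg hI, TypeCore.typeCore_eq_sigmaCore hG M hM, hM']
    ext a
    constructor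
    · rintro ⟨ha, ha1, x, hx, hx1, hax⟩
      exact ⟨⟨⟨(isComplIn_K hG hM hKU).1 ha, x, hx, hx1, hax⟩, ha⟩, ha1⟩
    · rintro ⟨⟨⟨-, x, hx, hx1, hax⟩, ha⟩, ha1⟩
      exact ⟨ha, ha1, x, hx, hx1, hax⟩

/-- Data of type P for `M` are conjugate in `M` to `(K, K*)`. -/
theorem exists_conj_of_isTypePWith (hG : IsMinSimpleOddOrder G) {M K U : Subgroup G} (hM : IsCoatom M)
    (hKU : IsSigmaDecomposition M K U) (hK : K ≠ ⊥) {W₁ V W₂ : Subgroup G}
    (hP : IsTypePWith M W₁ V W₂) :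
    ∃ m ∈ M, W₁ = K.map (MulAut.conj m).toMonoidHom ∧
      W₂ = (sigmaCore M ⊓ Subgroup.centralizer (K : Set G)).map (MulAut.conj m).toMonoidHom := by
  have hM' := (Cfsg.Agent.S1365.result hG M hM K U hKU hK).1
  have hcK := isComplIn_K hG hM hKU
  rw [← hM'] at hcK
  have hcW := hP.W₁_compl
  have hsol : Group.IsSolvable M := MinSimpleBasic.isSolvable_of_isCoatom hG hM
  -- the complements inside `M`
  have hcop : (Nat.card K).Coprime (Nat.card ↥⁅M, M⁆) := by rw [hM']; exact coprime_K hG hM hKU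
  have hDM : ⁅M, M⁆ ≤ M := hcK.1
  have hcardD : Nat.card ↥(⁅M, M⁆.subgroupOf M) = Nat.card ↥⁅M, M⁆ :=
    Nat.card_congr (Subgroup.subgroupOfEquivOfLe hDM).toEquiv
  have hcardeq : Nat.card W₁ = Nat.card K := by
    have h1 := DecompBasic.card_eq_of_isComplIn hcK
    have h2 := DecompBasic.card_eq_of_isComplIn hcW
    rw [← h1] at h2
    exact Nat.eq_of_mul_eq_mul_left Nat.card_pos h2
  have key : ∀ W : Subgroup G, IsComplIn ⁅M, M⁆ W M → Nat.card W = Nat.card K →
      Subgroup.IsComplement' (⁅M, M⁆.subgroupOf M) (W.subgroupOf M) := by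
    intro W hW hc
    have hcardW : Nat.card ↥(W.subgroupOf M) = Nat.card W :=
      Nat.card_congr (Subgroup.subgroupOfEquivOfLe hW.2.1).toEquiv
    apply Subgroup.isComplement'_of_coprime
    · rw [hcardD, hcardW]
      exact DecompBasic.card_eq_of_isComplIn hW
    · rw [hcardD, hcardW, hc]
      exact hcop.symm
  have hDn : (⁅M, M⁆.subgroupOf M).Normal := by
    rw [Subgroup.normal_subgroupOf_iff_le_normalizer hDM, hM']
    exact DecompBasic.le_normalizer_sup hKU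
  have hidx : (⁅M, M⁆.subgroupOf M).index = Nat.card K :=
    (DecompBasic.relIndex_eq_of_isComplIn hcK).1
  obtain ⟨m, hm⟩ := Cfsg.Agent.S0001.result (⁅M, M⁆.subgroupOf M)
    (by rw [hcardD, hidx]; exact hcop.symm) (Or.inl inferInstance) (K.subgroupOf M) (W₁.subgroupOf M)
    (key K hcK rfl) (key W₁ hcW hcardeq)
  have hW₁ : W₁ = K.map (MulAut.conj (m : G)).toMonoidHom := by
    ext x
    rw [Subgroup.mem_map]
    constructor
    · intro hx
      have h1 : (⟨x, hcW.2.1 hx⟩ : M) ∈ W₁.subgroupOf M := Subgroup.mem_subgroupOf.2 hx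
      rw [← hm, Subgroup.mem_smul_pointwise_iff_exists] at h1
      obtain ⟨k, hk, hkx⟩ := h1
      refine ⟨k, Subgroup.mem_subgroupOf.1 hk, ?_⟩
      exact congrArg Subtype.val hkx
    · rintro ⟨k, hk, rfl⟩
      have h1 : (MulAut.conj m) ⟨k, hKU.hall.1 hk⟩ ∈ W₁.subgroupOf M := by
        rw [← hm]
        exact Subgroup.smul_mem_pointwise_smul _ (MulAut.conj m) _ (Subgroup.mem_subgroupOf.2 hk)
      exact Subgroup.mem_subgroupOf.1 h1
  refine ⟨m, m.2, hW₁, ?_⟩
  obtain ⟨k, hk, hk1⟩ := (Subgroup.bot_or_exists_ne_one K).resolve_left hK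
  have hkW : (m : G) * k * (m : G)⁻¹ ∈ W₁ := by
    rw [hW₁]; exact ⟨k, hk, rfl⟩
  have hkW1 : (m : G) * k * (m : G)⁻¹ ≠ 1 := by
    intro h
    apply hk1
    rw [mul_inv_eq_one] at h
    exact mul_eq_left.1 h
  have h54 := (Cfsg.Agent.S1354.result hG M hM K hKU.cyclic hKU.hall).2 hK k hk hk1
  have hDs : sigmaCore M ≤ ⁅M, M⁆ := by rw [hM']; exact le_sup_right
  have hDK : ⁅M, M⁆ ⊓ K = ⊥ := hcK.2.2.1
  have hDk : ∀ x : G, x ∈ ⁅M, M⁆ ∧ k * x = x * k ↔
      x ∈ sigmaCore M ⊓ Subgroup.centralizer (K : Set G) := by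
    intro x
    constructor
    · rintro ⟨hx, hkx⟩
      have h1 : x ∈ M ⊓ Subgroup.centralizer ({k} : Set G) :=
        ⟨hDM hx, Subgroup.mem_centralizer_singleton_iff.2 hkx.symm⟩
      rw [h54] at h1
      have hn : K ≤ Subgroup.normalizer
          ((sigmaCore M ⊓ Subgroup.centralizer (K : Set G) : Subgroup G) : Set G) := by
        intro a ha
        have h2 := SigmaElements.le_normalizer_sigmaCore M (hKU.hall.1 ha)
        have h3 : a ∈ Subgroup.normalizer (Subgroup.centralizer (K : Set G) : Set G) := by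
          rw [Subgroup.mem_normalizer_iff]
          intro y
          have h4 : ∀ a ∈ K, ∀ y ∈ Subgroup.centralizer (K : Set G),
              a * y * a⁻¹ ∈ Subgroup.centralizer (K : Set G) := by
            intro a ha y hy
            rw [(Subgroup.mem_centralizer_iff.1 hy) a ha, mul_inv_cancel_right]
            exact hy
          refine ⟨h4 a ha y, fun hy => ?_⟩
          have h5 := h4 a⁻¹ (inv_mem ha) _ hy
          simpa [mul_assoc] using h5
        rw [Subgroup.mem_normalizer_iff] at h2 h3 ⊢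
        intro y
        simp only [Subgroup.mem_inf]
        exact and_congr (h2 y) (h3 y)
      rw [← SetLike.mem_coe, Subgroup.coe_mul_of_left_le_normalizer_right _ _ hn] at h1
      obtain ⟨a, ha, b, hb, rfl⟩ := h1
      have h6 : a ∈ ⁅M, M⁆ ⊓ K := by
        refine ⟨?_, ha⟩
        have := mul_mem hx (inv_mem (hDs hb.1))
        simpa using this
      rw [hDK, Subgroup.mem_bot] at h6
      have h6' : a = 1 := h6
      simpa [h6'] using hb
    · rintro ⟨hx, hxK⟩
      exact ⟨hDs hx, (Subgroup.mem_centralizer_iff.1 hxK) k hk⟩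
  rw [← hP.W₂_centralizer _ hkW hkW1]
  ext x
  rw [Subgroup.mem_inf, Subgroup.mem_centralizer_singleton_iff, Subgroup.mem_map]
  constructor
  · rintro ⟨hx, hcx⟩
    refine ⟨(m : G)⁻¹ * x * m, (hDk _).1 ⟨?_, ?_⟩, by simp [mul_assoc]⟩
    · have h7 := (Subgroup.normal_subgroupOf_iff_le_normalizer hDM).1 hDn (inv_mem m.2)
      have h8 := (Subgroup.mem_normalizer_iff.1 h7 x).1 hx
      simpa using h8
    · have : k = (m : G)⁻¹ * ((m : G) * k * (m : G)⁻¹) * m := by group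
      rw [this]
      calc (m : G)⁻¹ * ((m : G) * k * (m : G)⁻¹) * m * ((m : G)⁻¹ * x * m)
          = (m : G)⁻¹ * (((m : G) * k * (m : G)⁻¹) * x) * m := by group
        _ = (m : G)⁻¹ * (x * ((m : G) * k * (m : G)⁻¹)) * m := by rw [hcx]
        _ = _ := by group
  · rintro ⟨y, hy, rfl⟩
    obtain ⟨h9, h10⟩ := (hDk y).2 hy
    constructor
    · have h7 := (Subgroup.normal_subgroupOf_iff_le_normalizer hDM).1 hDn m.2
      exact (Subgroup.mem_normalizer_iff.1 h7 y).1 h9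
    · show (m : G) * y * (m : G)⁻¹ * ((m : G) * k * (m : G)⁻¹) =
        ((m : G) * k * (m : G)⁻¹) * ((m : G) * y * (m : G)⁻¹)
      calc (m : G) * y * (m : G)⁻¹ * ((m : G) * k * (m : G)⁻¹) = (m : G) * (y * k) * (m : G)⁻¹ := by group
        _ = (m : G) * (k * y) * (m : G)⁻¹ := by rw [h10]
        _ = _ := by group

/-- The elements of `A₀(M)` outside `A(M)` are `M`-conjugates of elements of `K K*` outside `K ∪ K*`. -/
theorem mem_typeA0 (hG : IsMinSimpleOddOrder G) {M K U : Subgroup G} (hM : IsCoatom M)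
    (hKU : IsSigmaDecomposition M K U) {v : G} (hv : v ∈ typeA0 M) (hv' : v ∉ typeA M) :
    K ≠ ⊥ ∧ ∃ m ∈ M, ∃ z ∈ ((↑(K ⊔ (sigmaCore M ⊓ Subgroup.centralizer (K : Set G))) : Set G) \
      ((K : Set G) ∪ ↑(sigmaCore M ⊓ Subgroup.centralizer (K : Set G)))), v = m * z * m⁻¹ := by
  rcases hv with hv | ⟨hI, W₁, V, W₂, hP, m, hm, w, hw, hw1, hw2, rfl⟩
  · exact absurd hv hv'
  · have hK := (not_isOfTypeI_iff hG hM hKU).1 hI
    obtain ⟨n, hn, rfl, rfl⟩ := exists_conj_of_isTypePWith hG hM hKU hK hP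
    refine ⟨hK, m * n, mul_mem hm hn, n⁻¹ * w * n, ⟨?_, ?_⟩, by simp [mul_assoc]⟩
    · rw [← Subgroup.map_sup] at hw
      obtain ⟨y, hy, rfl⟩ := hw
      simpa [mul_assoc] using hy
    · rintro (h | h)
      · exact hw1 ⟨_, h, by simp [mul_assoc]⟩
      · exact hw2 ⟨_, h, by simp [mul_assoc]⟩

theorem typeA_subset_typeA0 (M : Subgroup G) : typeA M ⊆ typeA0 M := Set.subset_union_left

end Cfsg.Agent.OddOrderLocal.TypeSets
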