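import Mathlib
import Cfsg.Agent.Lib.Cores
import Cfsg.Agent.S0044
import Cfsg.Agent.OddOrderLocal.CNBasic
import Cfsg.Agent.OddOrderLocal.FPFElem

/-!
Structure of a finite solvable CN-group `N` acting on a nontrivial finite abelian group `V` such
that nontrivial elements of order prime to `p` act without fixed points, when `p` does not divide
the order of the Fitting subgroup of `N`.
-/

set_option autoImplicit false

namespace Cfsg.Agent.OddOrderLocal.CNComplement

open Subgroup Cfsg
open Cfsg.Agent.OddOrderLocal.CNBasic Cfsg.Agent.OddOrderLocal.FPFElem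

/-- Any finite group: `r`-elements (`r` prime) of the nilpotent subgroup `F` lie in a normal
`r`-subgroup; a nontrivial `r`-part has a central element of order `r`. -/
theorem exists_central_in_part {N : Type*} [Group N] [Finite N] {F : Subgroup N}
    (hF : Group.IsNilpotent F) {r : ℕ} (hr : r.Prime) (hrF : r ∣ Nat.card F) :
    ∃ z : N, z ∈ F ∧ orderOf z = r ∧ ∀ y ∈ F, (∃ k : ℕ, y ^ r ^ k = 1) → Commute z y := by
  haveI := Fact.mk hr
  haveI := hF
  -- the Sylow `r`-subgroup of `F`
  let P : Sylow r F := default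
  have hPn : (P : Subgroup F).Normal := inferInstance
  have hPne : Nontrivial (P : Subgroup F) := by
    rw [Subgroup.nontrivial_iff_ne_bot]
    exact P.ne_bot_of_dvd_card hrF
  have hPp : IsPGroup r (P : Subgroup F) := P.isPGroup'
  have hc : Nontrivial (center (P : Subgroup F)) := hPp.center_nontrivial
  have hcp : IsPGroup r (center (P : Subgroup F)) := hPp.to_subgroup _
  obtain ⟨n, hn0, hn⟩ := hcp.nontrivial_iff_card.mp hc
  have hdvd : r ∣ Nat.card (center (P : Subgroup F)) := by
    rw [hn]; exact dvd_pow_self r hn0.ne'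
  obtain ⟨z, hz⟩ := exists_prime_orderOf_dvd_card' r hdvd
  refine ⟨(((z : (P : Subgroup F)) : F) : N), ((z : (P : Subgroup F)) : F).2, ?_, ?_⟩
  · rw [Subgroup.orderOf_coe, Subgroup.orderOf_coe, Subgroup.orderOf_coe, hz]
  · rintro y hy ⟨k, hk⟩
    have hyP : (⟨y, hy⟩ : F) ∈ (P : Subgroup F) := by
      have h1 : IsPGroup r (zpowers (⟨y, hy⟩ : F)) := by
        rw [IsPGroup.iff_card]
        rw [Nat.card_zpowers]
        have h2 : orderOf (⟨y, hy⟩ : F) ∣ r ^ k := by
          apply orderOf_dvd_of_pow_eq_one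
          apply Subtype.ext
          exact hk
        obtain ⟨m, _, hm⟩ := (Nat.dvd_prime_pow hr).mp h2
        exact ⟨m, hm⟩
      obtain ⟨Q, hQ⟩ := h1.exists_le_sylow
      have h4 : Q = P := by
        letI := Sylow.unique_of_normal P hPn
        exact Subsingleton.elim _ _
      rw [← h4]
      exact hQ (mem_zpowers _)
    have h5 := z.2
    rw [mem_center_iff] at h5
    have h6 := h5 ⟨⟨y, hy⟩, hyP⟩
    have h7 : ((⟨y, hy⟩ : F) : F) * ((z : (P : Subgroup F)) : F)
        = ((z : (P : Subgroup F)) : F) * (⟨y, hy⟩ : F) := congrArg Subtype.val h6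
    have h8 := congrArg Subtype.val h7
    exact (show y * (((z : (P : Subgroup F)) : F) : N) = (((z : (P : Subgroup F)) : F) : N) * y
      from h8).symm

section Main

variable {N V : Type*} [Group N] [Finite N] [Group V] [Finite V] [Nontrivial V]
  (hV : ∀ a b : V, a * b = b * a) (φ : N →* MulAut V)
  {p : ℕ} (hf : ∀ g : N, g ≠ 1 → (orderOf g).Coprime p → ∀ v : V, φ g v = v → v = 1)

include hf in
omit [Finite N] [Finite V] [Nontrivial V] in
theorem fpf_of_pow {r : ℕ} (hr : r.Coprime p) (g : N) (hg : g ≠ 1) (hgr : g ^ r = 1) (v : V)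
    (hv : φ g v = v) : v = 1 :=
  hf g hg (Nat.Coprime.coprime_dvd_left (orderOf_dvd_of_pow_eq_one hgr) hr) v hv

include hV hf in
/-- For a prime `r ≠ p` dividing the order of the Fitting subgroup, the elements of order dividing
`r` of the Fitting subgroup form a normal subgroup of order `r`. -/
theorem exists_zpowers {r : ℕ} (hr : r.Prime) (hrp : r.Coprime p)
    (hrF : r ∣ Nat.card (fittingSubgroup N)) :
    ∃ z : N, orderOf z = r ∧ z ∈ fittingSubgroup N ∧
      (∀ y ∈ fittingSubgroup N, y ^ r = 1 → y ∈ zpowers z) ∧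
      ∀ y : N, ∃ c : ℕ, y * z * y⁻¹ = z ^ c := by
  obtain ⟨z, hzF, hz, hzc⟩ := exists_central_in_part
    (Cfsg.Agent.Lib.Cores.fittingSubgroup_isNilpotent (G := N)) hr hrF
  have hzr : z ^ r = 1 := by rw [← hz]; exact pow_orderOf_eq_one z
  have h1 : ∀ y ∈ fittingSubgroup N, y ^ r = 1 → y ∈ zpowers z := by
    intro y hy hyr
    by_cases hy1 : y = 1
    · rw [hy1]; exact one_mem _
    · have hyo : orderOf y = r := orderOf_eq_prime_iff (hp := ⟨hr⟩) |>.mpr ⟨hyr, hy1⟩
      refine mem_zpowers_of_commute hV φ hr hz hyo (hzc y hy ⟨1, by rw [pow_one]; exact hyr⟩) ?_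
      intro g hg hgr v hv
      exact fpf_of_pow φ hf hrp g hg hgr v hv
  refine ⟨z, hz, hzF, h1, ?_⟩
  intro y
  have h2 : y * z * y⁻¹ ∈ fittingSubgroup N :=
    (Cfsg.Agent.Lib.Cores.fittingSubgroup_normal (G := N)).conj_mem z hzF y
  have h3 : y * z * y⁻¹ ∈ zpowers z := by
    apply h1 _ h2
    rw [conj_pow, hzr]; group
  rw [← mem_powers_iff_mem_zpowers] at h3
  obtain ⟨c, hc⟩ := h3
  exact ⟨c, hc.symm⟩

omit [Finite N] in
/-- If `z` generates a normal subgroup (elementwise form), its centralizer is normal. -/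
theorem normal_centralizer_of_conj {z : N} (hz : ∀ y : N, ∃ c : ℕ, y * z * y⁻¹ = z ^ c) :
    (centralizer ({z} : Set N)).Normal := by
  constructor
  intro a ha g
  rw [mem_centralizer_singleton_iff] at ha ⊢
  obtain ⟨c, hc⟩ := hz g⁻¹
  have h1 : Commute a (g⁻¹ * z * g⁻¹⁻¹) := by
    rw [hc]
    exact Commute.pow_right ha c
  rw [inv_inv] at h1
  have h2 : a * (g⁻¹ * z * g) = (g⁻¹ * z * g) * a := h1
  calc g * a * g⁻¹ * z = g * (a * (g⁻¹ * z * g)) * g⁻¹ := by group
    _ = g * ((g⁻¹ * z * g) * a) * g⁻¹ := by rw [h2]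
    _ = z * (g * a * g⁻¹) := by group

omit [Finite N] in
/-- In a CN-group such a centralizer lies in the Fitting subgroup. -/
theorem centralizer_le_fitting (hCN : IsCNGroup N) {z : N} (hz1 : z ≠ 1)
    (hz : ∀ y : N, ∃ c : ℕ, y * z * y⁻¹ = z ^ c) :
    centralizer ({z} : Set N) ≤ fittingSubgroup N :=
  Cfsg.Agent.Lib.Cores.le_fittingSubgroup (normal_centralizer_of_conj hz) (hCN z hz1)

include hV hf in
omit [Finite N] in
/-- Every element of prime order `s ≠ p` commutes with the `z` of `exists_zpowers`. -/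
theorem commute_of_prime {r s : ℕ} (hr : r.Prime) (hrp : r.Coprime p) (hs : s.Prime)
    (hsp : s.Coprime p) {y z : N} (hz : orderOf z = r)
    (hzn : ∀ y : N, ∃ c : ℕ, y * z * y⁻¹ = z ^ c) (hy : orderOf y = s) : Commute z y := by
  obtain ⟨c, hc⟩ := hzn y
  refine commute_of_normalizes hV φ hr hs hz hy hc ?_
  rintro g hg (hg1 | hg1) v hv
  · exact fpf_of_pow φ hf hrp g hg hg1 v hv
  · exact fpf_of_pow φ hf hsp g hg hg1 v hv

variable [Group.IsSolvable N] [Nontrivial N] (hCN : IsCNGroup N) (hp : p.Prime)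
  (hpF : ¬ p ∣ Nat.card (fittingSubgroup N))

omit [Finite N] in
theorem fittingSubgroup_ne_bot : fittingSubgroup N ≠ ⊥ := by
  intro h
  have h1 := Cfsg.Agent.S0044.centralizer_fitting_le N (Cfsg.Agent.S0044.fittingSubgroup_normal N)
  rw [h] at h1
  have h2 : centralizer ((⊥ : Subgroup N) : Set N) = ⊤ := by
    rw [eq_top_iff]
    intro x _
    rw [mem_centralizer_iff]
    intro y hy
    have : y = 1 := by simpa using hy
    rw [this]; simp
  rw [h2] at h1
  exact bot_ne_top (le_antisymm bot_le h1)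

include hV hf hCN hp hpF in
/-- Elements of prime power order `s ^ k`, `s ≠ p`, lie in the Fitting subgroup. -/
theorem mem_fitting_of_pow_prime_pow {s k : ℕ} (hs : s.Prime) (hsp : s ≠ p) {y : N}
    (hy : y ^ s ^ k = 1) : y ∈ fittingSubgroup N := by
  by_cases hy1 : y = 1
  · rw [hy1]; exact one_mem _
  haveI := Fact.mk hs
  have hsp' : s.Coprime p := (Nat.coprime_primes hs hp).mpr hsp
  -- a prime dividing the order of the Fitting subgroup
  obtain ⟨r, hr, hrF⟩ : ∃ r : ℕ, r.Prime ∧ r ∣ Nat.card (fittingSubgroup N) := by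
    apply Nat.exists_prime_and_dvd
    intro h
    exact fittingSubgroup_ne_bot (N := N) (Subgroup.card_eq_one.mp h)
  have hrp : r ≠ p := by rintro rfl; exact hpF hrF
  have hrp' : r.Coprime p := (Nat.coprime_primes hr hp).mpr hrp
  obtain ⟨z, hz, _, _, hzn⟩ := exists_zpowers hV φ hf hr hrp' hrF
  have hz1 : z ≠ 1 := by
    rintro rfl
    rw [orderOf_one] at hz
    exact hr.one_lt.ne hz
  -- an element of order `s`
  have hsN : s ∣ Nat.card N := by
    obtain ⟨m, _, hm⟩ := (Nat.dvd_prime_pow hs).mp (orderOf_dvd_of_pow_eq_one hy)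
    have hm0 : m ≠ 0 := by
      rintro rfl
      rw [pow_zero, orderOf_eq_one_iff] at hm
      exact hy1 hm
    exact ((dvd_pow_self s hm0).trans (dvd_of_eq hm.symm)).trans (orderOf_dvd_natCard y)
  obtain ⟨w, hw⟩ := exists_prime_orderOf_dvd_card' s hsN
  have hwF : w ∈ fittingSubgroup N := by
    apply centralizer_le_fitting hCN hz1 hzn
    rw [mem_centralizer_singleton_iff]
    exact (commute_of_prime hV φ hf hr hrp' hs hsp' hz hzn hw).symm
  have hsF : s ∣ Nat.card (fittingSubgroup N) := by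
    rw [← hw, ← Subgroup.orderOf_mk w hwF]
    exact orderOf_dvd_natCard _
  obtain ⟨u, hu, _, _, hun⟩ := exists_zpowers hV φ hf hs hsp' hsF
  have hu1 : u ≠ 1 := by
    rintro rfl
    rw [orderOf_one] at hu
    exact hs.one_lt.ne hu
  apply centralizer_le_fitting hCN hu1 hun
  rw [mem_centralizer_singleton_iff]
  obtain ⟨c, hc⟩ := hun y
  exact commute_of_pow_prime_pow hs (by rw [← hu]; exact pow_orderOf_eq_one u) hy hc

include hV hf hCN hp hpF in
/-- Primes `s ≠ p` do not divide the index of the Fitting subgroup. -/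
theorem not_dvd_index {s : ℕ} (hs : s.Prime) (hsp : s ≠ p) :
    ¬ s ∣ (fittingSubgroup N).index := by
  haveI := Fact.mk hs
  let S : Sylow s N := default
  have hS : (S : Subgroup N) ≤ fittingSubgroup N := by
    intro y hy
    obtain ⟨k, hk⟩ := S.isPGroup' ⟨y, hy⟩
    exact mem_fitting_of_pow_prime_pow hV φ hf hCN hp hpF hs hsp (congrArg Subtype.val hk)
  intro h
  exact S.not_dvd_index (h.trans (index_dvd_of_le hS))

include hV hf hCN hp hpF in
/-- If `p` does not divide the order of `N`, then `N` is nilpotent. -/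
theorem fittingSubgroup_eq_top (hpN : ¬ p ∣ Nat.card N) : fittingSubgroup N = ⊤ := by
  rw [← index_eq_one]
  by_contra h
  obtain ⟨s, hs, hsd⟩ := Nat.exists_prime_and_dvd h
  by_cases hsp : s = p
  · rw [hsp] at hsd
    exact hpN (hsd.trans (index_dvd_card _))
  · exact not_dvd_index hV φ hf hCN hp hpF hs hsp hsd

include hV hf hCN hp hpF in
theorem exists_index_eq : ∃ n : ℕ, (fittingSubgroup N).index = p ^ n := by
  refine ⟨_, Nat.eq_prime_pow_of_unique_prime_dvd index_ne_zero_of_finite ?_⟩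
  intro s hs hsd
  by_contra hsp
  exact not_dvd_index hV φ hf hCN hp hpF hs hsp hsd

include hV hf hp hpF in
omit [Group.IsSolvable N] [Nontrivial N] in
/-- Unique subgroups of prime order in the Fitting subgroup. -/
theorem mem_zpowers_of_orderOf_eq {r : ℕ} (hr : r.Prime) {x y : N} (hx : x ∈ fittingSubgroup N)
    (hy : y ∈ fittingSubgroup N) (hxr : orderOf x = r) (hyr : y ^ r = 1) : y ∈ zpowers x := by
  have hrF : r ∣ Nat.card (fittingSubgroup N) := by
    rw [← hxr, ← Subgroup.orderOf_mk x hx]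
    exact orderOf_dvd_natCard _
  have hrp : r ≠ p := by rintro rfl; exact hpF hrF
  have hrp' : r.Coprime p := (Nat.coprime_primes hr hp).mpr hrp
  obtain ⟨z, hz, _, hzu, _⟩ := exists_zpowers hV φ hf hr hrp' hrF
  have h1 : x ∈ zpowers z := hzu x hx (by rw [← hxr]; exact pow_orderOf_eq_one x)
  have h2 : zpowers x = zpowers z := by
    apply eq_of_le_of_card_ge ((zpowers_le).mpr h1)
    rw [Nat.card_zpowers, Nat.card_zpowers, hz, hxr]
  rw [h2]
  exact hzu y hy hyr

include hV hf hCN hp hpF in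
omit [Group.IsSolvable N] [Nontrivial N] in
/-- The centralizer of a nontrivial element of the Fitting subgroup lies in it. -/
theorem centralizer_le {a : N} (ha : a ∈ fittingSubgroup N) (ha1 : a ≠ 1) :
    centralizer ({a} : Set N) ≤ fittingSubgroup N := by
  obtain ⟨r, hr, hrd⟩ := Nat.exists_prime_and_dvd (n := orderOf a)
    (fun h => ha1 (orderOf_eq_one_iff.mp h))
  -- an element of order `r` that is a power of `a`
  have hb : orderOf (a ^ (orderOf a / r)) = r := by
    rw [orderOf_pow_of_dvd (Nat.div_pos (Nat.le_of_dvd (orderOf_pos a) hrd) hr.pos).ne'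
      (Nat.div_dvd_of_dvd hrd)]
    exact Nat.div_div_self hrd (orderOf_pos a).ne'
  have hbF : a ^ (orderOf a / r) ∈ fittingSubgroup N := pow_mem ha _
  have hb1 : a ^ (orderOf a / r) ≠ 1 := by
    intro h
    rw [h, orderOf_one] at hb
    exact hr.one_lt.ne hb
  have hbn : ∀ y : N, ∃ c : ℕ, y * (a ^ (orderOf a / r)) * y⁻¹ = (a ^ (orderOf a / r)) ^ c := by
    intro y
    have h2 : y * (a ^ (orderOf a / r)) * y⁻¹ ∈ fittingSubgroup N :=
      (Cfsg.Agent.Lib.Cores.fittingSubgroup_normal (G := N)).conj_mem _ hbF y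
    have h3 : y * (a ^ (orderOf a / r)) * y⁻¹ ∈ zpowers (a ^ (orderOf a / r)) := by
      apply mem_zpowers_of_orderOf_eq hV φ hf hp hpF hr hbF h2 hb
      have h5 : (a ^ (orderOf a / r)) ^ r = 1 := orderOf_dvd_iff_pow_eq_one.mp (dvd_of_eq hb)
      rw [conj_pow, h5]; group
    rw [← mem_powers_iff_mem_zpowers] at h3
    obtain ⟨c, hc⟩ := h3
    exact ⟨c, hc.symm⟩
  refine le_trans ?_ (centralizer_le_fitting hCN hb1 hbn)
  intro x hx
  rw [mem_centralizer_singleton_iff] at hx ⊢
  exact Commute.pow_right hx _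

include hV hf hCN hp hpF in
omit [Group.IsSolvable N] [Nontrivial N] in
/-- If `p` divides the order of `N` then its Fitting subgroup has odd order. -/
theorem odd_card_fitting (hpN : p ∣ Nat.card N) : Odd (Nat.card (fittingSubgroup N)) := by
  by_contra hodd
  rw [Nat.not_odd_iff_even, even_iff_two_dvd] at hodd
  have h2p : 2 ≠ p := by rintro rfl; exact hpF hodd
  have h2p' : Nat.Coprime 2 p := (Nat.coprime_primes Nat.prime_two hp).mpr h2p
  obtain ⟨z, hz, _, _, hzn⟩ := exists_zpowers hV φ hf Nat.prime_two h2p' hodd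
  have hz1 : z ≠ 1 := by
    rintro rfl
    rw [orderOf_one] at hz
    exact absurd hz (by decide)
  have hz2 : z ^ 2 = 1 := by rw [← hz]; exact pow_orderOf_eq_one z
  have htop : fittingSubgroup N = ⊤ := by
    rw [eq_top_iff]
    intro y _
    apply centralizer_le_fitting hCN hz1 hzn
    rw [mem_centralizer_singleton_iff]
    obtain ⟨c, hc⟩ := hzn y
    have h1 : y * z * y⁻¹ = z := by
      rcases Nat.even_or_odd' c with ⟨m, rfl | rfl⟩
      · exfalso
        rw [pow_mul, hz2, one_pow, conj_eq_one_iff] at hc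
        exact hz1 hc
      · rw [hc, pow_succ, pow_mul, hz2, one_pow, one_mul]
    calc y * z = (y * z * y⁻¹) * y := by group
      _ = z * y := by rw [h1]
  apply hpF
  rw [htop, Subgroup.card_top]
  exact hpN

end Main

end Cfsg.Agent.OddOrderLocal.CNComplement
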