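import Mathlib

/-!
A commutative group of exponent `r` acting fixed point freely on a nontrivial commutative group of
order prime to `r` is cyclic (element-wise form, inside a group).
-/

set_option autoImplicit false
set_option linter.style.haveILetI false
set_option linter.unusedSectionVars false

namespace Cfsg.Agent.OddOrderLocal.CNFpf

open Finset

section Ring

variable {E : Type*} [Ring E]

theorem natCast_eq_zero_of_sums {r : ℕ} (hr : 0 < r) (X Y : E) (hXY : Commute X Y)
    (h1 : ∀ k < r, ∑ i ∈ range r, (X * Y ^ k) ^ i = 0)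
    (h2 : ∀ i < r, 0 < i → ∑ k ∈ range r, (Y ^ i) ^ k = 0) : (r : E) = 0 := by
  have e1 : ∑ k ∈ range r, ∑ i ∈ range r, X ^ i * (Y ^ i) ^ k = 0 := by
    apply Finset.sum_eq_zero
    intro k hk
    rw [← h1 k (Finset.mem_range.mp hk)]
    apply Finset.sum_congr rfl
    intro i _
    rw [(hXY.pow_right k).mul_pow, ← pow_mul, ← pow_mul, mul_comm i k]
  rw [Finset.sum_comm] at e1
  have e2 : ∀ i ∈ range r, (∑ k ∈ range r, X ^ i * (Y ^ i) ^ k) = if i = 0 then (r : E) else 0 := by
    intro i hi
    by_cases h0 : i = 0
    · subst h0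
      simp
    · rw [if_neg h0, ← Finset.mul_sum, h2 i (Finset.mem_range.mp hi) (Nat.pos_of_ne_zero h0),
        mul_zero]
  rw [Finset.sum_congr rfl e2] at e1
  simpa [hr] using e1

end Ring

section Group

variable {N : Type*} [Group N]

/-- If `V` is a commutative normal subgroup, `x` and `y` commute and have order dividing the prime
`r`, and no nontrivial product `x ^ i * y ^ j` centralizes a nontrivial element of `V`, then
`x` is a power of `y`, provided `V` contains a non-identity element `v` with `v ^ r ≠ 1`. -/
theorem mem_zpowers_of_fpf {r : ℕ} (hr : r.Prime) (V : Subgroup N) [V.Normal]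
    [IsMulCommutative V] {x y : N} (hxy : Commute x y) (hx : x ^ r = 1) (hy : y ^ r = 1)
    (hfpf : ∀ z ∈ Subgroup.closure ({x, y} : Set N), z ≠ 1 → ∀ v ∈ V, z * v = v * z → v = 1)
    (hV : ∃ v ∈ V, v ^ r ≠ 1) (hy1 : y ≠ 1) : x ∈ Subgroup.zpowers y := by
  classical
  by_contra hcon
  letI : CommGroup V := { (inferInstance : Group V) with mul_comm := fun a b => mul_comm' a b }
  -- the conjugation action
  let φ : N →* AddMonoid.End (Additive V) :=
    { toFun := fun g =>
        { toFun := fun v => Additive.ofMul ((MulAut.conjNormal g : MulAut V) v.toMul)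
          map_zero' := by simp
          map_add' := fun v w => by
            change Additive.ofMul ((MulAut.conjNormal g : MulAut V) (v.toMul * w.toMul)) = _
            rw [map_mul]; rfl }
      map_one' := by
        refine AddMonoidHom.ext fun v => ?_
        change Additive.ofMul ((MulAut.conjNormal (1 : N) : MulAut V) v.toMul) = v
        rw [map_one]; rfl
      map_mul' := fun g h => by
        refine AddMonoidHom.ext fun v => ?_
        change Additive.ofMul ((MulAut.conjNormal (g * h) : MulAut V) v.toMul) =
          Additive.ofMul ((MulAut.conjNormal g : MulAut V) ((MulAut.conjNormal h : MulAut V) v.toMul))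
        rw [map_mul]; rfl }
  have hφ : ∀ (g : N) (v : Additive V), ((φ g v).toMul : N) = g * (v.toMul : N) * g⁻¹ := by
    intro g v
    exact MulAut.conjNormal_apply g v.toMul
  have hx_mem : x ∈ Subgroup.closure ({x, y} : Set N) := Subgroup.subset_closure (by simp)
  have hy_mem : y ∈ Subgroup.closure ({x, y} : Set N) := Subgroup.subset_closure (by simp)
  -- norms vanish
  have hnorm : ∀ z ∈ Subgroup.closure ({x, y} : Set N), z ≠ 1 → z ^ r = 1 →
      ∑ i ∈ range r, (φ z) ^ i = 0 := by
    intro z hz hz1 hzr
    have hfix : φ z * ∑ i ∈ range r, (φ z) ^ i = ∑ i ∈ range r, (φ z) ^ i := by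
      have e1 := Finset.sum_range_succ (fun i => (φ z) ^ i) r
      have e2 := Finset.sum_range_succ' (fun i => (φ z) ^ i) r
      have e3 : (φ z) ^ r = 1 := by rw [← map_pow, hzr, map_one]
      simp only [pow_succ'] at e2
      rw [e1, e3, pow_zero, ← Finset.mul_sum] at e2
      exact (add_right_cancel e2).symm
    refine AddMonoidHom.ext fun v => ?_
    have h1 : φ z ((∑ i ∈ range r, (φ z) ^ i) v) = (∑ i ∈ range r, (φ z) ^ i) v := by
      conv_rhs => rw [← hfix]
      rfl
    set w := (∑ i ∈ range r, (φ z) ^ i) v with hw
    have h2 := congrArg (fun u : Additive V => (u.toMul : N)) h1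
    simp only [hφ] at h2
    have h3 : z * (w.toMul : N) = (w.toMul : N) * z := by
      rw [← h2]; simp [mul_assoc]
      rw [← mul_assoc z, h2]
    have h4 := hfpf z hz hz1 w.toMul w.toMul.2 h3
    have h5 : w = 0 := by
      have : w.toMul = 1 := Subtype.ext h4
      exact this
    exact h5
  have hXY : Commute (φ x) (φ y) := by
    show φ x * φ y = φ y * φ x
    rw [← map_mul, ← map_mul, hxy.eq]
  have key := natCast_eq_zero_of_sums hr.pos (φ x) (φ y) hXY
    (fun k _ => by
      rw [← map_pow, ← map_mul]
      apply hnorm
      · exact mul_mem hx_mem (pow_mem hy_mem k)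
      · intro h
        apply hcon
        rw [eq_inv_of_mul_eq_one_left h]
        exact inv_mem (pow_mem (Subgroup.mem_zpowers y) k)
      · rw [(hxy.pow_right k).mul_pow, hx, ← pow_mul, mul_comm k r, pow_mul, hy, one_pow, one_mul])
    (fun i hi hi0 => by
      rw [← map_pow]
      apply hnorm
      · exact pow_mem hy_mem i
      · intro h
        have h1 : orderOf y ∣ i := orderOf_dvd_of_pow_eq_one h
        have h2 : orderOf y = r := by
          have := (Nat.dvd_prime hr).mp (orderOf_dvd_of_pow_eq_one hy)
          rcases this with h | h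
          · exact absurd (orderOf_eq_one_iff.mp h) hy1
          · exact h
        rw [h2] at h1
        exact absurd (Nat.le_of_dvd hi0 h1) (by omega)
      · rw [← pow_mul, mul_comm, pow_mul, hy, one_pow])
  obtain ⟨v, hv, hvr⟩ := hV
  apply hvr
  have h1 := congrArg (fun e : AddMonoid.End (Additive V) => e (Additive.ofMul ⟨v, hv⟩)) key
  have h2 : ((r : AddMonoid.End (Additive V)) (Additive.ofMul ⟨v, hv⟩)) =
      r • (Additive.ofMul (⟨v, hv⟩ : V)) := by
    simp
  simp only [h2] at h1
  have h3 := congrArg (fun u : Additive V => (u.toMul : N)) h1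
  simpa using h3

end Group

end Cfsg.Agent.OddOrderLocal.CNFpf
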