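import Mathlib
import Cfsg.Prelude.Def_LieExceptional
import Cfsg.Prelude.Def_OddOrderLocal
import Cfsg.Agent.OddOrderLocal.CNNilpotent
import Cfsg.Agent.OddOrderLocal.FittingHall
import Cfsg.Agent.OddOrderLocal.FPFElem

/-!
CN-groups: elements of order prime to `|G_F|` act without fixed points on `G_F`; CN-groups acting
fixed-point-freely by conjugation on a nontrivial abelian normal subgroup are nilpotent.
-/

set_option autoImplicit false
set_option linter.style.haveILetI false

namespace Cfsg.Agent.OddOrderLocal.CNHall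

open Subgroup Cfsg
open Cfsg.Agent.OddOrderLocal.CNNilpotent (mem_centralizer_singleton)

/-- In a finite CN-group `G`, an element of order prime to `|G_F|` that commutes with a nontrivial
element of `G_F` is trivial. -/
theorem eq_one_of_commute {G : Type*} [Group G] [Finite G] (hCN : IsCNGroup G) {e x : G}
    (hx : x ∈ fittingHall G) (hx1 : x ≠ 1) (hcop : (Nat.card (fittingHall G)).Coprime (orderOf e))
    (hcomm : Commute x e) : e = 1 := by
  by_contra he
  haveI hnil : Group.IsNilpotent (fittingHall G) := FittingHall.fittingHall_isNilpotent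
  haveI : Nontrivial (fittingHall G) := ⟨⟨x, hx⟩, 1, fun h => hx1 (congrArg Subtype.val h)⟩
  have hdvd : ∀ h ∈ fittingHall G, orderOf h ∣ Nat.card (fittingHall G) := fun h hh =>
    (fittingHall G).orderOf_dvd_natCard hh
  -- a central element of `G_F`
  obtain ⟨z, hz, hz1⟩ : ∃ z ∈ center (fittingHall G), z ≠ 1 := by
    have := Group.IsNilpotent.center_ne_bot (G := fittingHall G)
    obtain ⟨z, hz⟩ := Subgroup.ne_bot_iff_exists_ne_one.mp this
    exact ⟨z, z.2, fun h => hz (Subtype.ext h)⟩
  have hzc : ∀ h ∈ fittingHall G, Commute (z : G) h := fun h hh =>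
    (congrArg Subtype.val (mem_center_iff.mp hz ⟨h, hh⟩)).symm
  have hz1' : (z : G) ≠ 1 := fun h => hz1 (Subtype.ext h)
  -- `z` commutes with `e`
  have h1 : Commute (z : G) e := by
    refine FittingHall.commute_of_mem_of_coprime_orderOf (hCN x hx1)
      (mem_centralizer_singleton.mpr (hzc x hx).symm) (mem_centralizer_singleton.mpr hcomm) ?_
    exact Nat.Coprime.coprime_dvd_left (hdvd z z.2) hcop
  -- `G_F` commutes with `e`
  have h2 : ∀ h ∈ fittingHall G, Commute h e := by
    intro h hh
    refine FittingHall.commute_of_mem_of_coprime_orderOf (hCN z hz1')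
      (mem_centralizer_singleton.mpr (hzc h hh)) (mem_centralizer_singleton.mpr h1) ?_
    exact Nat.Coprime.coprime_dvd_left (hdvd h hh) hcop
  -- a power of prime order
  obtain ⟨q, k, hq, hk⟩ := CNNilpotent.exists_pow_prime_order he
  haveI := Fact.mk hq
  have hqc : (Nat.card (fittingHall G)).Coprime q := by
    have : q ∣ orderOf e := by rw [← hk]; exact orderOf_pow_dvd k
    exact Nat.Coprime.coprime_dvd_right this hcop
  set f := e ^ k with hf
  have hf1 : f ≠ 1 := by
    intro h
    rw [h, orderOf_one] at hk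
    exact hq.one_lt.ne hk
  have hfP : IsPGroup q (zpowers f) := by
    apply IsPGroup.of_card (n := 1)
    rw [Nat.card_zpowers, hk, pow_one]
  obtain ⟨Q, hQ⟩ := hfP.exists_le_sylow
  have hfQ : f ∈ Q := hQ (mem_zpowers f)
  haveI : Nontrivial Q := ⟨⟨f, hfQ⟩, 1, fun h => hf1 (congrArg Subtype.val h)⟩
  obtain ⟨y, hy, hy1⟩ : ∃ y ∈ center Q, y ≠ 1 := by
    have := (Q.isPGroup'.center_nontrivial)
    obtain ⟨y, hy⟩ := exists_ne (1 : center Q)
    exact ⟨y, y.2, fun h => hy (Subtype.ext h)⟩
  have hyc : ∀ h ∈ (Q : Subgroup G), Commute (y : G) h := fun h hh =>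
    (congrArg Subtype.val (mem_center_iff.mp hy ⟨h, hh⟩)).symm
  have hy1' : (y : G) ≠ 1 := fun h => hy1 (Subtype.ext h)
  have hQcop : ∀ g ∈ (Q : Subgroup G), ∀ h ∈ fittingHall G, (orderOf g).Coprime (orderOf h) := by
    intro g hg h hh
    obtain ⟨n, hn⟩ := (IsPGroup.iff_orderOf.mp Q.isPGroup') ⟨g, hg⟩
    rw [Subgroup.orderOf_mk] at hn
    rw [hn]
    exact (Nat.Coprime.pow_right n (Nat.Coprime.coprime_dvd_left (hdvd h hh) hqc)).symm
  have h3 : ∀ h ∈ fittingHall G, Commute (y : G) h := by
    intro h hh
    exact FittingHall.commute_of_mem_of_coprime_orderOf (hCN f hf1)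
      (mem_centralizer_singleton.mpr (hyc f hfQ).symm)
      (mem_centralizer_singleton.mpr ((h2 h hh).symm.pow_left k)) (hQcop y y.2 h hh)
  have h4 : (Q : Subgroup G) ≤ centralizer (fittingHall G : Set G) := by
    intro g hg
    rw [mem_centralizer_iff]
    intro h hh
    refine (FittingHall.commute_of_mem_of_coprime_orderOf (hCN y hy1')
      (mem_centralizer_singleton.mpr (hyc g hg))
      (mem_centralizer_singleton.mpr (h3 h hh)) (hQcop g hg h hh)).symm.eq
  have hCx : centralizer (fittingHall G : Set G) ≤ centralizer ({x} : Set G) :=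
    centralizer_le (Set.singleton_subset_iff.mpr hx)
  haveI hCnil : Group.IsNilpotent (centralizer (fittingHall G : Set G)) := by
    haveI := hCN x hx1
    exact (Group.isNilpotent_congr (subgroupOfEquivOfLe hCx)).mp inferInstance
  -- `Q` is normal in `G`
  have hQn : (Q : Subgroup G).Normal := by
    have h5 : ((Q.subtype h4 : Sylow q _) : Subgroup (centralizer (fittingHall G : Set G))).Normal :=
      inferInstance
    have h6 := (Q.subtype h4).characteristic_of_normal h5
    have h7 : (((Q.subtype h4 : Sylow q _) :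
        Subgroup (centralizer (fittingHall G : Set G))).map (Subgroup.subtype _)).Normal := by
      infer_instance
    rwa [Sylow.coe_subtype, subgroupOf_map_subtype, inf_eq_left.mpr h4] at h7
  have hQH : (Q : Subgroup G) ≤ fittingHall G := by
    refine FittingHall.le_fittingHall hQn Q.isPGroup'.isNilpotent ?_
    exact Q.card_coprime_index
  have h8 : q ∣ Nat.card (fittingHall G) := by
    have := hdvd f (hQH hfQ)
    rwa [hk] at this
  exact hq.one_lt.ne' (Nat.eq_one_of_dvd_coprimes hqc h8 dvd_rfl)

/-- A finite CN-group acting fixed-point-freely on a nontrivial finite abelian group is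
nilpotent. -/
theorem isNilpotent_of_fpf {E V : Type*} [Group E] [Finite E] [Group V] [Finite V] [Nontrivial V]
    (hV : ∀ a b : V, a * b = b * a) (φ : E →* MulAut V) (hCN : IsCNGroup E)
    (hfpf : ∀ e : E, e ≠ 1 → ∀ v : V, φ e v = v → v = 1) : Group.IsNilpotent E := by
  apply CNNilpotent.isNilpotent_of_isCNGroup hCN
  · intro q x y hq hx hy hxy
    exact FPFElem.mem_zpowers_of_commute hV φ hq hx hy hxy (fun g hg _ => hfpf g hg)
  · intro q r x y hq hr hx hy hyx
    rw [← mem_powers_iff_mem_zpowers] at hyx
    obtain ⟨c, hc⟩ := hyx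
    exact FPFElem.commute_of_normalizes hV φ hq hr hx hy hc.symm (fun g hg _ => hfpf g hg)

end Cfsg.Agent.OddOrderLocal.CNHall
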