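import Mathlib

/-!
The subgroup `J(T)` generated by the abelian subgroups of largest order of a subgroup `T` of a finite
group, with the few properties needed for CN-groups.
-/

set_option autoImplicit false
set_option linter.style.haveILetI false
set_option linter.unusedSectionVars false

namespace Cfsg.Agent.OddOrderLocal.CNThompsonJ

open Subgroup
open scoped Pointwise

variable {G : Type*} [Group G]

/-- `B` is an abelian subgroup of `T` of largest order. -/
def IsMaxAb (T B : Subgroup G) : Prop :=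
  B ≤ T ∧ IsMulCommutative B ∧ ∀ C : Subgroup G, C ≤ T → IsMulCommutative C →
    Nat.card C ≤ Nat.card B

theorem isMaxAb_iff (T B : Subgroup G) : IsMaxAb T B ↔ (B ≤ T ∧ IsMulCommutative B ∧
    ∀ C : Subgroup G, C ≤ T → IsMulCommutative C → Nat.card C ≤ Nat.card B) := Iff.rfl

/-- The subgroup generated by the abelian subgroups of largest order. -/
def J (T : Subgroup G) : Subgroup G := sSup {B | IsMaxAb T B}

theorem J_def (T : Subgroup G) : J T = sSup {B | IsMaxAb T B} := rfl

theorem J_le (T : Subgroup G) : J T ≤ T := sSup_le fun _ hB => hB.1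

theorem le_J {T B : Subgroup G} (hB : IsMaxAb T B) : B ≤ J T := le_sSup hB

theorem exists_isMaxAb [Finite G] (T : Subgroup G) : ∃ B, IsMaxAb T B := by
  classical
  have hfin : ({B : Subgroup G | B ≤ T ∧ IsMulCommutative B}).Finite := Set.toFinite _
  have hne : ({B : Subgroup G | B ≤ T ∧ IsMulCommutative B}).Nonempty :=
    ⟨⊥, bot_le, inferInstance⟩
  obtain ⟨B, hB, hmax⟩ := Set.exists_max_image _ (fun B : Subgroup G => Nat.card B) hfin hne
  exact ⟨B, hB.1, hB.2, fun C hC hCc => hmax C ⟨hC, hCc⟩⟩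

theorem J_ne_bot [Finite G] {T : Subgroup G} (hT : T ≠ ⊥) : J T ≠ ⊥ := by
  intro h
  obtain ⟨B, hB⟩ := exists_isMaxAb T
  have hB1 : B = ⊥ := le_bot_iff.mp (h ▸ le_J hB)
  subst hB1
  obtain ⟨⟨x, hxT⟩, hx⟩ := (Subgroup.ne_bot_iff_exists_ne_one).mp hT
  have hle := hB.2.2 (zpowers x) (by rw [zpowers_le]; exact hxT) inferInstance
  rw [Subgroup.card_bot, Nat.card_zpowers] at hle
  have hx1 : x ≠ 1 := fun h => hx (Subtype.ext h)
  have h1 : orderOf x ≠ 1 := fun h => hx1 (orderOf_eq_one_iff.mp h)
  have h2 := orderOf_pos x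
  omega

theorem J_eq_of_le [Finite G] {T D : Subgroup G} (h1 : J T ≤ D) (h2 : D ≤ T) : J T = J D := by
  obtain ⟨B₀, hB₀⟩ := exists_isMaxAb T
  have hB₀D : B₀ ≤ D := (le_J hB₀).trans h1
  apply le_antisymm
  · refine sSup_le fun B hB => le_J ⟨(le_J hB).trans h1, hB.2.1, fun C hC hCc =>
      hB.2.2 C (hC.trans h2) hCc⟩
  · refine sSup_le fun B hB => le_J ⟨hB.1.trans h2, hB.2.1, fun C hC hCc => ?_⟩
    exact (hB₀.2.2 C hC hCc).trans (hB.2.2 B₀ hB₀D hB₀.2.1)

theorem isMulCommutative_map {H : Type*} [Group H] {B : Subgroup G} (h : IsMulCommutative B)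
    (f : G →* H) : IsMulCommutative (B.map f) := inferInstance

theorem card_map_conj (g : G) (B : Subgroup G) :
    Nat.card (MulAut.conj g • B : Subgroup G) = Nat.card B :=
  Nat.card_congr (Subgroup.equivSMul (MulAut.conj g) B).toEquiv.symm

theorem isMaxAb_conj {T B : Subgroup G} (g : G) (h : IsMaxAb T B) :
    IsMaxAb (MulAut.conj g • T) (MulAut.conj g • B) := by
  refine ⟨pointwise_smul_le_pointwise_smul_iff.mpr h.1, ?_, ?_⟩
  · haveI := h.2.1
    exact isMulCommutative_map h.2.1 _
  · intro C hC hCc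
    rw [card_map_conj]
    have h1 : MulAut.conj g⁻¹ • C ≤ T := by
      rw [map_inv]
      rwa [subset_pointwise_smul_iff] at hC
    have := h.2.2 (MulAut.conj g⁻¹ • C) h1 (isMulCommutative_map hCc _)
    rwa [card_map_conj] at this

theorem J_conj (g : G) (T : Subgroup G) : J (MulAut.conj g • T) = MulAut.conj g • J T := by
  have key : ∀ (g : G) (T : Subgroup G), MulAut.conj g • J T ≤ J (MulAut.conj g • T) := by
    intro g T
    rw [pointwise_smul_subset_iff]
    refine sSup_le fun B hB => ?_
    rw [← pointwise_smul_subset_iff]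
    exact le_J (isMaxAb_conj g hB)
  apply le_antisymm
  · have := key g⁻¹ (MulAut.conj g • T)
    rw [map_inv, inv_smul_smul, ← pointwise_smul_le_pointwise_smul_iff (a := MulAut.conj g),
      smul_inv_smul] at this
    exact this
  · exact key g T

end Cfsg.Agent.OddOrderLocal.CNThompsonJ
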