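import Mathlib
import Cfsg.Agent.Lib.Cores
import Cfsg.Agent.Lib.SolvableMinNormal
import Cfsg.Agent.Lib.ProductSet
import Cfsg.Agent.Lib.CoprimeCommutator
import Cfsg.Agent.OddOrderLocal.CNFpf
import Cfsg.Agent.OddOrderLocal.CNThompsonJ

/-!
Finite solvable groups `N` with `O_p(N) ≠ 1` in which the centralizer of every non-identity
`p`-element is a `p`-group: abelian subgroups of largest order of a Sylow `p`-subgroup lie in
`O_p(N)` if the order of `N` is odd, and a Sylow `p`-subgroup contained in `N'` is normal.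
-/

set_option autoImplicit false
set_option linter.style.haveILetI false
set_option linter.unusedSectionVars false

namespace Cfsg.Agent.OddOrderLocal.CNLocal

open Subgroup Cfsg
open scoped Pointwise

variable {N : Type*} [Group N] [Finite N] {p : ℕ} [Fact p.Prime]

/-- The centralizer of every non-identity `p`-element is a `p`-group. -/
def CP (p : ℕ) (N : Type*) [Group N] : Prop :=
  ∀ x y : N, x ≠ 1 → (∃ k, orderOf x = p ^ k) → Commute x y → ∃ k, orderOf y = p ^ k

theorem CP_iff (p : ℕ) (N : Type*) [Group N] : CP p N ↔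
    ∀ x y : N, x ≠ 1 → (∃ k, orderOf x = p ^ k) → Commute x y → ∃ k, orderOf y = p ^ k := Iff.rfl

theorem CP.subgroup {G : Type*} [Group G] (h : CP p G) (N : Subgroup G) : CP p N := by
  intro x y hx ⟨k, hk⟩ hxy
  obtain ⟨j, hj⟩ := h x y (fun h => hx (Subtype.ext h)) ⟨k, by rw [Subgroup.orderOf_coe, hk]⟩
    (congrArg Subtype.val hxy)
  exact ⟨j, by rw [← hj, Subgroup.orderOf_coe]⟩

theorem not_prime_pow {r : ℕ} (hr : r.Prime) (hrp : r ≠ p) {j : ℕ} : r ≠ p ^ j := by
  intro h
  have h1 : r ∣ p ^ j := by rw [← h]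
  have h2 := hr.dvd_of_dvd_pow h1
  exact hrp ((Nat.prime_dvd_prime_iff_eq hr (Fact.out)).mp h2)

/-- key lemma: a normal subgroup of prime order `r ≠ p` of `N / O_p(N)`. -/
theorem exists_normal_prime [Group.IsSolvable N] (hO : pCore p N ≠ ⊥) (hCP : CP p N)
    (hne : pCore p N ≠ ⊤) :
    ∃ r, r.Prime ∧ r ≠ p ∧ ∃ a : N, orderOf a = r ∧
      (zpowers (QuotientGroup.mk' (pCore p N) a)).Normal := by
  haveI : Nontrivial (N ⧸ pCore p N) := QuotientGroup.nontrivial_iff.mpr hne
  obtain ⟨r, hr, E, hEchar, hEc, hEr, hEne⟩ :=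
    Lib.SolvableMinNormal.exists_characteristic_pgroup (G := N ⧸ pCore p N)
  haveI := Fact.mk hr
  have hrp : r ≠ p := by
    rintro rfl
    have : E ≤ pCore r (N ⧸ pCore r N) := Lib.Cores.le_pCore inferInstance hEr
    rw [Lib.Cores.pCore_quotient_pCore] at this
    exact hEne (le_bot_iff.mp this)
  obtain ⟨R⟩ := (inferInstance : Nonempty (Sylow r N))
  have hsurj := QuotientGroup.mk'_surjective (pCore p N)
  haveI : E.Normal := inferInstance
  have hER : E ≤ (R : Subgroup N).map (QuotientGroup.mk' (pCore p N)) :=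
    hEr.le_sylow_of_normal (R.mapSurjective hsurj)
  have hRO : ∀ x ∈ (R : Subgroup N), x ∈ pCore p N → x = 1 := by
    intro x hx hxO
    have := IsPGroup.disjoint_of_ne r p hrp _ _ R.isPGroup' (Lib.Cores.pCore_isPGroup (G := N) p)
    exact (Subgroup.disjoint_def.mp this) hx hxO
  -- an element of order `r` of `E`
  have hrE : r ∣ Nat.card E := by
    rcases hEr.card_eq_or_dvd with h | h
    · exact absurd (Subgroup.eq_bot_of_card_eq E h) hEne
    · exact h
  obtain ⟨e, he⟩ := exists_prime_orderOf_dvd_card' (G := E) r hrE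
  obtain ⟨a, haR, hae⟩ := hER e.2
  have hlift : ∀ x ∈ (R : Subgroup N), (QuotientGroup.mk' (pCore p N) x) ^ r = 1 → x ^ r = 1 := by
    intro x hx h
    apply hRO _ (pow_mem hx r)
    rw [← map_pow] at h
    exact (QuotientGroup.eq_one_iff _).mp h
  have ha_r : a ^ r = 1 := by
    apply hlift a haR
    rw [hae, ← Subgroup.coe_pow, ← he, pow_orderOf_eq_one]; rfl
  have ha1 : a ≠ 1 := by
    rintro rfl
    rw [map_one] at hae
    have : e = 1 := Subtype.ext hae.symm
    rw [this, orderOf_one] at he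
    exact hr.one_lt.ne he
  have hao : orderOf a = r := orderOf_eq_prime ha_r ha1
  -- the centre of `O_p(N)`
  haveI hOn : (pCore p N).Normal := inferInstance
  let Z : Subgroup N := (center (pCore p N)).map (pCore p N).subtype
  haveI hZn : Z.Normal := inferInstance
  haveI hZc : IsMulCommutative Z := inferInstance
  have hZO : Z ≤ pCore p N := Subgroup.map_subtype_le _
  have hOp : IsPGroup p (pCore p N) := Lib.Cores.pCore_isPGroup p
  haveI : Nontrivial (pCore p N) := (Subgroup.nontrivial_iff_ne_bot _).mpr hO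
  haveI : Nontrivial (center (pCore p N)) := hOp.center_nontrivial
  obtain ⟨v, hv⟩ := exists_ne (1 : center (pCore p N))
  have hvZ : ((v : pCore p N) : N) ∈ Z := ⟨v, v.2, rfl⟩
  have hv1 : ((v : pCore p N) : N) ≠ 1 := fun h => hv (Subtype.ext (Subtype.ext h))
  have hZp : ∀ w ∈ Z, ∃ k, orderOf w = p ^ k := by
    intro w hw
    obtain ⟨k, hk⟩ := IsPGroup.iff_orderOf.mp hOp ⟨w, hZO hw⟩
    exact ⟨k, by rw [← hk, ← Subgroup.orderOf_coe]⟩
  have hRr : ∀ w ∈ (R : Subgroup N), ∃ k, orderOf w = r ^ k := by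
    intro w hw
    obtain ⟨k, hk⟩ := IsPGroup.iff_orderOf.mp R.isPGroup' ⟨w, hw⟩
    exact ⟨k, by rw [← hk]; exact (Subgroup.orderOf_coe (⟨w, hw⟩ : (R : Subgroup N)))⟩
  refine ⟨r, hr, hrp, a, hao, ⟨fun n hn g => ?_⟩⟩
  have hnE : n ∈ E := by
    have : zpowers (QuotientGroup.mk' (pCore p N) a) ≤ E := by
      rw [zpowers_le, hae]; exact e.2
    exact this hn
  have hnr : n ^ r = 1 := by
    obtain ⟨i, rfl⟩ := hn
    simp only
    rw [← zpow_natCast, ← zpow_mul, mul_comm, zpow_mul, zpow_natCast, ← map_pow, ha_r, map_one,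
      one_zpow]
  have hcE : g * n * g⁻¹ ∈ E := (inferInstance : E.Normal).conj_mem n hnE g
  have hcr : (g * n * g⁻¹) ^ r = 1 := by
    rw [conj_pow, hnr, mul_one, mul_inv_cancel]
  obtain ⟨x, hxR, hx⟩ := hER hcE
  rw [← hx] at hcE hcr ⊢
  have hxr : x ^ r = 1 := hlift x hxR hcr
  have hxa : Commute x a := by
    have h1 : x * a * x⁻¹ * a⁻¹ = 1 := by
      apply hRO
      · exact mul_mem (mul_mem (mul_mem hxR haR) (inv_mem hxR)) (inv_mem haR)
      · have h2 : (QuotientGroup.mk' (pCore p N)) (x * a * x⁻¹ * a⁻¹) = 1 := by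
          simp only [map_mul, map_inv]
          have haE : QuotientGroup.mk' (pCore p N) a ∈ E := by rw [hae]; exact e.2
          have h3 := congrArg Subtype.val (mul_comm' (⟨_, hcE⟩ : E) ⟨_, haE⟩)
          simp only [Subgroup.coe_mul] at h3
          rw [h3]; group
        exact (QuotientGroup.eq_one_iff _).mp h2
    have h4 : x * a = a * x := by
      calc x * a = (x * a * x⁻¹ * a⁻¹) * (a * x) := by group
        _ = a * x := by rw [h1, one_mul]
    exact h4
  have hmem : x ∈ zpowers a := by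
    refine CNFpf.mem_zpowers_of_fpf hr Z hxa hxr ha_r ?_ ⟨_, hvZ, ?_⟩ ha1
    · intro z hz hz1 w hw hzw
      by_contra hw1
      have hzR : z ∈ (R : Subgroup N) := by
        have : closure ({x, a} : Set N) ≤ (R : Subgroup N) := by
          rw [closure_le]
          rintro y (rfl | rfl)
          · exact hxR
          · exact haR
        exact this hz
      obtain ⟨j, hj⟩ := hCP w z hw1 (hZp w hw) hzw.symm
      obtain ⟨k, hk⟩ := hRr z hzR
      have hd : orderOf z = 1 := by
        have hcop : Nat.Coprime (p ^ j) (r ^ k) :=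
          Nat.Coprime.pow _ _ ((Nat.coprime_primes Fact.out hr).mpr hrp.symm)
        rw [← hj, ← hk, Nat.coprime_self] at hcop
        exact hcop
      exact hz1 (orderOf_eq_one_iff.mp hd)
    · intro h
      obtain ⟨k, hk⟩ := hZp _ hvZ
      have h1 : p ^ k ∣ r := by rw [← hk]; exact orderOf_dvd_of_pow_eq_one h
      rcases (Nat.dvd_prime hr).mp h1 with h2 | h2
      · rw [h2] at hk
        exact hv1 (orderOf_eq_one_iff.mp hk)
      · exact not_prime_pow hr hrp h2.symm
  obtain ⟨i, hi⟩ := hmem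
  exact ⟨i, by rw [← hi]; simp⟩

/-- A `p`-element commuting modulo `O_p(N)` with an element of prime order `r ≠ p` lies in
`O_p(N)`. -/
theorem mem_pCore_of_commute (hCP : CP p N) {r : ℕ} (hr : r.Prime) (hrp : r ≠ p) {a : N}
    (ha : orderOf a = r) {x : N} (T : Sylow p N) (hx : x ∈ (T : Subgroup N))
    (hxa : Commute (QuotientGroup.mk' (pCore p N) x) (QuotientGroup.mk' (pCore p N) a)) :
    x ∈ pCore p N := by
  haveI := Fact.mk hr
  have hOp : IsPGroup p (pCore p N) := Lib.Cores.pCore_isPGroup p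
  haveI hOn : (pCore p N).Normal := inferInstance
  have hrO : ¬ r ∣ Nat.card (pCore p N) := by
    intro h
    obtain ⟨n, hn⟩ := IsPGroup.iff_card.mp hOp
    rw [hn] at h
    exact hrp ((Nat.prime_dvd_prime_iff_eq hr (Fact.out)).mp (hr.dvd_of_dvd_pow h))
  have hcomm : ∀ b ∈ zpowers a, x⁻¹ * (b * x * b⁻¹) ∈ pCore p N := by
    rintro b ⟨i, rfl⟩
    have h2 : (QuotientGroup.mk' (pCore p N)) (x⁻¹ * (a ^ i * x * (a ^ i)⁻¹)) = 1 := by
      simp only [map_mul, map_inv, map_zpow]
      have h3 := (hxa.zpow_right i).eq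
      rw [← h3]; group
    exact (QuotientGroup.eq_one_iff _).mp h2
  obtain ⟨c, hc, hxc⟩ := Lib.CoprimeCommutator.exists_fixed_in_coset r (zpowers a) (pCore p N)
    (IsPGroup.of_card (n := 1) (by rw [Nat.card_zpowers, ha, pow_one]))
    (by rw [normalizer_eq_top]; exact le_top) hrO x hcomm
  have hcT : c ∈ (T : Subgroup N) := by
    have h1 : x * (x⁻¹ * c) ∈ (T : Subgroup N) :=
      mul_mem hx (Lib.Cores.pCore_le_sylow T hxc)
    rwa [mul_inv_cancel_left] at h1
  by_cases hc1 : c = 1
  · rw [hc1, mul_one] at hxc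
    exact (inv_mem_iff).mp hxc
  · exfalso
    have hca : Commute c a := (mem_centralizer_iff.mp hc a (mem_zpowers a)).symm
    obtain ⟨k, hk⟩ := IsPGroup.iff_orderOf.mp T.isPGroup' ⟨c, hcT⟩
    obtain ⟨j, hj⟩ := hCP c a hc1
      ⟨k, by rw [← hk]; exact (Subgroup.orderOf_coe (⟨c, hcT⟩ : (T : Subgroup N)))⟩ hca
    rw [ha] at hj
    exact not_prime_pow hr hrp hj

/-- A Sylow `p`-subgroup contained in the derived subgroup is normal. -/
theorem sylow_le_pCore_of_le_commutator [Group.IsSolvable N] (hO : pCore p N ≠ ⊥)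
    (hCP : CP p N) (T : Sylow p N) (hT : (T : Subgroup N) ≤ commutator N) :
    (T : Subgroup N) ≤ pCore p N := by
  by_cases hne : pCore p N = ⊤
  · rw [hne]; exact le_top
  obtain ⟨r, hr, hrp, a, ha, hn⟩ := exists_normal_prime hO hCP hne
  intro x hx
  refine mem_pCore_of_commute hCP hr hrp ha T hx ?_
  let Q := zpowers (QuotientGroup.mk' (pCore p N) a)
  haveI : Q.Normal := hn
  let f : N →* MulAut Q := (MulAut.conjNormal (H := Q)).comp (QuotientGroup.mk' (pCore p N))
  let e := IsCyclic.mulAutMulEquiv Q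
  have h1 : commutator N ≤ (e.toMonoidHom.comp f).ker := Abelianization.commutator_subset_ker _
  have h2 := h1 (hT hx)
  rw [MonoidHom.mem_ker] at h2
  have h3 : f x = 1 := e.injective (by rw [map_one]; exact h2)
  have h4 := congrArg (fun α : MulAut Q => ((α ⟨_, mem_zpowers _⟩ : Q) : N ⧸ pCore p N)) h3
  have h5 : QuotientGroup.mk' (pCore p N) x * QuotientGroup.mk' (pCore p N) a *
      (QuotientGroup.mk' (pCore p N) x)⁻¹ = QuotientGroup.mk' (pCore p N) a := h4
  exact mul_inv_eq_iff_eq_mul.mp h5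

/-- the arithmetic: `m` a power of the odd prime `p`, `r` an odd number with `m ∣ r - 1`, and
`v` a larger power of `p` with `r ∣ v - 1`; then `v > m ^ 2`. -/
theorem arith {m r v k n : ℕ} (hp2 : p ≠ 2) (hm : m = p ^ k) (hv : v = p ^ n) (hm1 : 1 < m)
    (hr : Odd r) (hr1 : 1 < r) (hmr : m ∣ r - 1) (hv1 : 1 < v) (hrv : r ∣ v - 1) : m ^ 2 < v := by
  obtain ⟨c, hc⟩ := hmr
  obtain ⟨t, ht⟩ := hrv
  have hodd : Odd m := by
    rw [hm]; exact ((Fact.out : p.Prime).odd_of_ne_two hp2).pow
  have hc2 : 2 ≤ c := by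
    have hcpos : 0 < c := by
      rcases Nat.eq_zero_or_pos c with h | h
      · subst h; omega
      · exact h
    by_contra hlt
    have : c = 1 := by omega
    subst this
    rw [mul_one] at hc
    have : r = m + 1 := by omega
    rw [this] at hr
    exact (Nat.not_odd_iff_even.mpr hodd.add_one) hr
  have hrle : 2 * m + 1 ≤ r := by
    have : 2 * m ≤ m * c := by nlinarith
    omega
  have htpos : 0 < t := by
    rcases Nat.eq_zero_or_pos t with h | h
    · subst h; omega
    · exact h
  have hvr : r ≤ v - 1 := by rw [ht]; exact Nat.le_mul_of_pos_right r htpos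
  have hmv : m ∣ v := by
    rw [hm, hv]
    apply pow_dvd_pow
    by_contra hlt
    have h1 : p ^ n ≤ p ^ k := Nat.pow_le_pow_right (Fact.out : p.Prime).pos (by omega)
    rw [← hm, ← hv] at h1
    omega
  -- `v = 1 + r t = 1 + t + m c t`
  have hveq : v = 1 + t + m * (c * t) := by
    have h1 : v = 1 + r * t := by omega
    have h2 : r = 1 + m * c := by omega
    rw [h1, h2]; ring
  have hmt : m ∣ 1 + t := by
    rw [hveq] at hmv
    exact (Nat.dvd_add_left (Dvd.intro _ rfl)).mp hmv
  have hmt' : m ≤ 1 + t := Nat.le_of_dvd (by omega) hmt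
  have h1 : v = 1 + r * t := by omega
  rw [h1]
  obtain ⟨m', rfl⟩ : ∃ m', m = m' + 1 := ⟨m - 1, by omega⟩
  have ht' : m' ≤ t := by omega
  calc (m' + 1) ^ 2 < 1 + (2 * (m' + 1) + 1) * m' := by nlinarith
    _ ≤ 1 + r * t := by
      apply Nat.add_le_add_left
      exact Nat.mul_le_mul hrle ht'

/-- **The abelian subgroups of largest order of a Sylow `p`-subgroup lie in `O_p(N)`**. -/
theorem isMaxAb_le [Group.IsSolvable N] (hodd : Odd (Nat.card N)) (hO : pCore p N ≠ ⊥)
    (hCP : CP p N) (T : Sylow p N) {B : Subgroup N}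
    (hB : CNThompsonJ.IsMaxAb (T : Subgroup N) B) : B ≤ pCore p N := by
  by_contra hBO
  have hne : pCore p N ≠ ⊤ := fun h => hBO (h ▸ le_top)
  obtain ⟨r, hr, hrp, a, ha, hn⟩ := exists_normal_prime hO hCP hne
  haveI := Fact.mk hr
  obtain ⟨hBT, hBc, hBmax⟩ := hB
  have hOp : IsPGroup p (pCore p N) := Lib.Cores.pCore_isPGroup p
  have hOT : pCore p N ≤ (T : Subgroup N) := Lib.Cores.pCore_le_sylow T
  haveI hOn : (pCore p N).Normal := inferInstance
  let Z : Subgroup N := (center (pCore p N)).map (pCore p N).subtype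
  haveI hZn : Z.Normal := inferInstance
  haveI hZc : IsMulCommutative Z := inferInstance
  have hZO : Z ≤ pCore p N := Subgroup.map_subtype_le _
  haveI : Nontrivial (pCore p N) := (Subgroup.nontrivial_iff_ne_bot _).mpr hO
  haveI : Nontrivial (center (pCore p N)) := hOp.center_nontrivial
  have hZcomm : ∀ z ∈ Z, ∀ o ∈ pCore p N, o * z = z * o := by
    rintro z ⟨w, hw, rfl⟩ o ho
    exact congrArg Subtype.val (mem_center_iff.mp hw ⟨o, ho⟩)
  -- orders
  have hpe : ∀ w ∈ (T : Subgroup N), ∃ k, orderOf w = p ^ k := by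
    intro w hw
    obtain ⟨k, hk⟩ := IsPGroup.iff_orderOf.mp T.isPGroup' ⟨w, hw⟩
    exact ⟨k, by rw [← hk]; exact (Subgroup.orderOf_coe (⟨w, hw⟩ : (T : Subgroup N)))⟩
  have hp2 : p ≠ 2 := by
    intro h2
    have h3 : p ∣ Nat.card N := by
      have h4 : p ∣ Nat.card (pCore p N) := by
        rcases hOp.card_eq_or_dvd with h | h
        · exact absurd (Subgroup.eq_bot_of_card_eq _ h) hO
        · exact h
      exact h4.trans (Subgroup.card_subgroup_dvd_card _)
    rw [h2] at h3
    exact (Nat.not_even_iff_odd.mpr hodd) (even_iff_two_dvd.mpr h3)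
  have hrodd : Odd r := by
    have : r ∣ Nat.card N := by rw [← ha]; exact orderOf_dvd_natCard a
    exact Odd.of_dvd_nat hodd this
  have haO : a ∉ pCore p N := by
    intro h
    obtain ⟨k, hk⟩ := hpe a (hOT h)
    rw [ha] at hk
    exact not_prime_pow hr hrp hk
  have hamk : orderOf (QuotientGroup.mk' (pCore p N) a) = r := by
    apply orderOf_eq_prime
    · rw [← map_pow, ← ha, pow_orderOf_eq_one, map_one]
    · intro h
      exact haO ((QuotientGroup.eq_one_iff _).mp h)
  let Q := zpowers (QuotientGroup.mk' (pCore p N) a)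
  haveI : Q.Normal := hn
  let f : N →* MulAut Q := (MulAut.conjNormal (H := Q)).comp (QuotientGroup.mk' (pCore p N))
  have hfa : ∀ x : N, f x = 1 →
      Commute (QuotientGroup.mk' (pCore p N) x) (QuotientGroup.mk' (pCore p N) a) := by
    intro x hx
    have h4 := congrArg (fun α : MulAut Q => ((α ⟨_, mem_zpowers _⟩ : Q) : N ⧸ pCore p N)) hx
    have h5 : QuotientGroup.mk' (pCore p N) x * QuotientGroup.mk' (pCore p N) a *
        (QuotientGroup.mk' (pCore p N) x)⁻¹ = QuotientGroup.mk' (pCore p N) a := h4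
    exact mul_inv_eq_iff_eq_mul.mp h5
  -- the index of `B ⊓ O`
  let g : B →* MulAut Q := f.comp B.subtype
  have hker : g.ker = (pCore p N).subgroupOf B := by
    ext x
    rw [MonoidHom.mem_ker, mem_subgroupOf]
    constructor
    · intro h
      exact mem_pCore_of_commute hCP hr hrp ha T (hBT x.2) (hfa x h)
    · intro h
      have h1 : QuotientGroup.mk' (pCore p N) (x : N) = 1 := (QuotientGroup.eq_one_iff _).mpr h
      show (MulAut.conjNormal (H := Q)) (QuotientGroup.mk' (pCore p N) (x : N)) = 1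
      rw [h1, map_one]
  have hmr : (pCore p N).relIndex B ∣ r - 1 := by
    have h1 : (pCore p N).relIndex B = Nat.card g.range := by
      rw [relIndex, ← hker, index_ker]
    have h2 : Nat.card (MulAut Q) = r - 1 := by
      rw [IsCyclic.card_mulAut, Nat.card_zpowers, hamk, Nat.totient_prime hr]
    rw [h1, ← h2]
    exact Subgroup.card_subgroup_dvd_card _
  obtain ⟨k, hk⟩ : ∃ k, (pCore p N).relIndex B = p ^ k := by
    have hBp : IsPGroup p B := T.isPGroup'.to_le hBT
    exact hBp.index _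
  have hm1 : 1 < (pCore p N).relIndex B := by
    have h0 : (pCore p N).relIndex B ≠ 0 := by rw [hk]; exact pow_ne_zero _ (Fact.out : p.Prime).ne_zero
    have h1 : (pCore p N).relIndex B ≠ 1 := by
      rw [Ne, relIndex_eq_one]; exact hBO
    omega
  obtain ⟨n, hn'⟩ : ∃ n, Nat.card Z = p ^ n := IsPGroup.iff_card.mp (hOp.to_le hZO)
  have hZ1 : 1 < Nat.card Z := by
    rw [Subgroup.one_lt_card_iff_ne_bot]
    intro h
    rw [Subgroup.map_eq_bot_iff_of_injective _ (subtype_injective _)] at h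
    exact (Subgroup.nontrivial_iff_ne_bot _).mp inferInstance h
  -- nothing in `Z` commutes with an element outside `O` of order prime to `p`
  have hfix : ∀ z ∈ Z, ∀ y : N, y ∉ (pCore p N) → Commute z y →
      (∀ k, orderOf y ≠ p ^ k) → z = 1 := by
    intro z hz y _ hzy hy
    by_contra hz1
    obtain ⟨j, hj⟩ := hCP z y hz1 (hpe z (hOT (hZO hz))) hzy
    exact hy j hj
  -- `r ∣ |Z| - 1`
  have hrZ : r ∣ Nat.card Z - 1 := by
    let A : Subgroup (ConjAct N) := zpowers (ConjAct.toConjAct a)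
    have hA : IsPGroup r A := by
      apply IsPGroup.of_card (n := 1)
      rw [Nat.card_zpowers, pow_one, ← ha]
      exact orderOf_injective (ConjAct.toConjAct (G := N)).toMonoidHom
        (ConjAct.toConjAct (G := N)).injective a
    have h1 := hA.card_modEq_card_fixedPoints Z
    have h2 : Nat.card (MulAction.fixedPoints A Z) = 1 := by
      rw [Nat.card_eq_one_iff_unique]
      refine ⟨⟨?_⟩, ⟨⟨1, ?_⟩⟩⟩
      · have key : ∀ z : Z, z ∈ MulAction.fixedPoints A Z → z = 1 := by
          intro z hz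
          have h3 := hz ⟨ConjAct.toConjAct a, mem_zpowers _⟩
          have h4 : a * (z : N) * a⁻¹ = z := congrArg Subtype.val h3
          have h5 : Commute (z : N) a := (mul_inv_eq_iff_eq_mul.mp h4).symm
          exact Subtype.ext (hfix z z.2 a haO h5 (fun j => by rw [ha]; exact not_prime_pow hr hrp))
        rintro ⟨z, hz⟩ ⟨w, hw⟩
        exact Subtype.ext ((key z hz).trans (key w hw).symm)
      · intro b
        exact smul_one b
    rw [h2] at h1
    exact (Nat.modEq_iff_dvd' hZ1.le).mp h1.symm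
  have harith := arith hp2 hk hn' hm1 hrodd hr.one_lt hmr hZ1 hrZ
  -- `|B ⊓ Z| ^ 2 ≤ |Z|`
  have hsq : Nat.card (B ⊓ Z : Subgroup N) ^ 2 ≤ Nat.card Z := by
    obtain ⟨b, hbB, hbO⟩ := SetLike.not_le_iff_exists.mp hBO
    have hdisj : (B ⊓ Z) ⊓ (MulAut.conj a • (B ⊓ Z) : Subgroup N) = ⊥ := by
      rw [eq_bot_iff]
      rintro w ⟨⟨hwB, hwZ⟩, hw2⟩
      rw [Subgroup.mem_bot]
      have hw3 : a⁻¹ * w * a ∈ B := by
        have : w ∈ MulAut.conj a • (B ⊓ Z) := hw2
        rw [Subgroup.mem_pointwise_smul_iff_inv_smul_mem, ← map_inv, MulAut.smul_def,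
          MulAut.conj_apply, inv_inv] at this
        exact this.1
      have hcomm : ∀ x ∈ B, ∀ y ∈ B, x * y = y * x := fun x hx y hy =>
        congrArg Subtype.val (mul_comm' (⟨x, hx⟩ : B) ⟨y, hy⟩)
      have h1 : Commute w b := hcomm w hwB b hbB
      have h2 : Commute w (a * b * a⁻¹) := by
        have h3 := hcomm _ hw3 b hbB
        show w * (a * b * a⁻¹) = a * b * a⁻¹ * w
        calc w * (a * b * a⁻¹) = a * (a⁻¹ * w * a * b) * a⁻¹ := by group
          _ = a * (b * (a⁻¹ * w * a)) * a⁻¹ := by rw [h3]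
          _ = a * b * a⁻¹ * w := by group
      -- the commutator `c = b⁻¹ a b a⁻¹`
      have h4 : Commute w (b⁻¹ * (a * b * a⁻¹)) := (h1.inv_right).mul_right h2
      by_contra hw1
      obtain ⟨j, hj⟩ := hCP w _ hw1 (hpe w (hBT hwB)) h4
      apply hbO
      refine mem_pCore_of_commute hCP hr hrp ha T (hBT hbB) ?_
      -- the image of `c` lies in `Q` and has order a power of `p`
      have h5 : QuotientGroup.mk' (pCore p N) (b⁻¹ * (a * b * a⁻¹)) ∈ Q := by
        have h6 : QuotientGroup.mk' (pCore p N) (b⁻¹ * (a * b * a⁻¹)) =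
            ((QuotientGroup.mk' (pCore p N) b)⁻¹ * QuotientGroup.mk' (pCore p N) a *
              ((QuotientGroup.mk' (pCore p N) b)⁻¹)⁻¹) * (QuotientGroup.mk' (pCore p N) a)⁻¹ := by
          simp only [map_mul, map_inv]; group
        rw [h6]
        exact mul_mem (hn.conj_mem _ (mem_zpowers _) _) (inv_mem (mem_zpowers _))
      have h7 : QuotientGroup.mk' (pCore p N) (b⁻¹ * (a * b * a⁻¹)) = 1 := by
        have h8 : orderOf (QuotientGroup.mk' (pCore p N) (b⁻¹ * (a * b * a⁻¹))) ∣ p ^ j := by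
          rw [← hj]; exact orderOf_map_dvd _ _
        have h9 : orderOf (QuotientGroup.mk' (pCore p N) (b⁻¹ * (a * b * a⁻¹))) ∣ r := by
          have := Subgroup.orderOf_dvd_natCard _ h5
          rwa [Nat.card_zpowers, hamk] at this
        have h10 : Nat.Coprime (p ^ j) r :=
          Nat.Coprime.pow_left _ ((Nat.coprime_primes Fact.out hr).mpr hrp.symm)
        have h11 := Nat.eq_one_of_dvd_coprimes h10 h8 h9
        exact orderOf_eq_one_iff.mp h11
      have h12 : (QuotientGroup.mk' (pCore p N) b)⁻¹ * (QuotientGroup.mk' (pCore p N) a *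
          QuotientGroup.mk' (pCore p N) b * (QuotientGroup.mk' (pCore p N) a)⁻¹) = 1 := by
        simpa only [map_mul, map_inv] using h7
      have h13 := inv_mul_eq_one.mp h12
      exact eq_mul_inv_iff_mul_eq.mp h13
    have hle2 : (MulAut.conj a • (B ⊓ Z) : Subgroup N) ≤ Z := by
      have h1 : MulAut.conj a • Z = Z := Subgroup.Normal.conj_smul_eq_self a Z
      have h2 : (MulAut.conj a • (B ⊓ Z) : Subgroup N) ≤ MulAut.conj a • Z :=
        pointwise_smul_le_pointwise_smul_iff.mpr inf_le_right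
      rwa [h1] at h2
    have h1 := Lib.ProductSet.card_mul_card_inf (B ⊓ Z) (MulAut.conj a • (B ⊓ Z) : Subgroup N)
    rw [hdisj, Subgroup.card_bot, mul_one, CNThompsonJ.card_map_conj] at h1
    rw [sq, ← h1]
    apply Nat.card_mono (Set.toFinite _)
    rintro _ ⟨x, hx, y, hy, rfl⟩
    exact mul_mem hx.2 (hle2 hy)
  -- the abelian group `(B ⊓ O) Z`
  have hBZ : Nat.card ((B ⊓ pCore p N) ⊔ Z : Subgroup N) ≤ Nat.card B := by
    apply hBmax
    · exact sup_le (inf_le_left.trans hBT) (hZO.trans hOT)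
    · rw [← Subgroup.le_centralizer_iff_isMulCommutative]
      have hcomm : ∀ x ∈ B, ∀ y ∈ B, x * y = y * x := fun x hx y hy =>
        congrArg Subtype.val (mul_comm' (⟨x, hx⟩ : B) ⟨y, hy⟩)
      apply sup_le
      · intro x hx
        have : ((B ⊓ pCore p N) ⊔ Z) ≤ centralizer ({x} : Set N) := by
          apply sup_le
          · intro y hy
            exact mem_centralizer_singleton_iff.mpr (hcomm y hy.1 x hx.1)
          · intro y hy
            exact mem_centralizer_singleton_iff.mpr (hZcomm y hy x hx.2).symm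
        rw [mem_centralizer_iff]
        intro y hy
        exact mem_centralizer_singleton_iff.mp (this hy)
      · intro x hx
        have : ((B ⊓ pCore p N) ⊔ Z) ≤ centralizer ({x} : Set N) := by
          apply sup_le
          · intro y hy
            exact mem_centralizer_singleton_iff.mpr (hZcomm x hx y hy.2)
          · intro y hy
            exact mem_centralizer_singleton_iff.mpr (hZcomm x hx y (hZO hy))
        rw [mem_centralizer_iff]
        intro y hy
        exact mem_centralizer_singleton_iff.mp (this hy)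
  have hprod : Nat.card ((B ⊓ pCore p N) ⊔ Z : Subgroup N) * Nat.card (B ⊓ Z : Subgroup N) =
      Nat.card (B ⊓ pCore p N : Subgroup N) * Nat.card Z := by
    have h1 := Lib.ProductSet.card_mul_card_inf (B ⊓ pCore p N) Z
    have h2 : (B ⊓ pCore p N) ⊓ Z = B ⊓ Z := by
      rw [inf_assoc, inf_eq_right.mpr hZO]
    rw [h2, ← Subgroup.mul_normal] at h1
    exact h1
  have hcardB : Nat.card B = Nat.card (B ⊓ pCore p N : Subgroup N) * (pCore p N).relIndex B := by
    have h1 := relIndex_mul_relIndex ⊥ (B ⊓ pCore p N) B bot_le inf_le_left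
    rw [relIndex_bot_left, relIndex_bot_left, inf_relIndex_left] at h1
    exact h1.symm
  set m := (pCore p N).relIndex B with hmdef
  set W := Nat.card (B ⊓ Z : Subgroup N)
  set V := Nat.card Z
  set B₀ := Nat.card (B ⊓ pCore p N : Subgroup N)
  have hB₀ : 0 < B₀ := Nat.card_pos
  have h1 : B₀ * V ≤ B₀ * (m * W) := by
    rw [← hprod]
    calc _ ≤ Nat.card B * W := Nat.mul_le_mul_right _ hBZ
      _ = B₀ * (m * W) := by rw [hcardB, mul_assoc]
  have h2 : V ≤ m * W := Nat.le_of_mul_le_mul_left h1 hB₀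
  have h3 : V ^ 2 ≤ m ^ 2 * V := by
    calc V ^ 2 ≤ (m * W) ^ 2 := Nat.pow_le_pow_left h2 2
      _ = m ^ 2 * W ^ 2 := by ring
      _ ≤ m ^ 2 * V := Nat.mul_le_mul_left _ hsq
  have h4 : V ≤ m ^ 2 := by
    rw [sq V] at h3
    exact Nat.le_of_mul_le_mul_right h3 (by omega)
  omega

end Cfsg.Agent.OddOrderLocal.CNLocal
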