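import Mathlib
import Cfsg.Prelude.Def_OddOrderLocal
import Cfsg.Prelude.Def_LieExceptional

set_option autoImplicit false

/-!
Maximal nilpotent subgroups: existence above any nilpotent subgroup, conjugation, and the consequences
of "Hall, TI, with a fixed-point-free complement in the normalizer" (the situation of a minimal simple
CN-group of odd order).
-/

namespace Cfsg.Agent.OddOrderLocal.CNMaxNil

variable {G : Type*} [Group G]

/-- `H` is a nilpotent subgroup contained in no larger nilpotent subgroup. -/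
def IsMaxNil (H : Subgroup G) : Prop :=
  Group.IsNilpotent H ∧ ∀ L : Subgroup G, Group.IsNilpotent L → H ≤ L → L = H

theorem isMaxNil_iff (H : Subgroup G) :
    IsMaxNil H ↔ Group.IsNilpotent H ∧ ∀ L : Subgroup G, Group.IsNilpotent L → H ≤ L → L = H :=
  Iff.rfl

/-- In a finite group every nilpotent subgroup lies in a maximal nilpotent subgroup. -/
theorem exists_isMaxNil_ge [Finite G] (K : Subgroup G) (hK : Group.IsNilpotent K) :
    ∃ H : Subgroup G, IsMaxNil H ∧ K ≤ H := by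
  have hfin : {L : Subgroup G | Group.IsNilpotent L}.Finite := Set.toFinite _
  obtain ⟨H, hKH, hH⟩ := hfin.exists_le_maximal (show K ∈ {L : Subgroup G | Group.IsNilpotent L} from hK)
  refine ⟨H, ⟨hH.prop, fun L hL hHL => ?_⟩, hKH⟩
  exact le_antisymm (hH.le_of_ge hL hHL) hHL

/-- conjugates of maximal nilpotent subgroups are maximal nilpotent. -/
theorem isMaxNil_map_equiv {G' : Type*} [Group G'] {H : Subgroup G} (h : IsMaxNil H) (e : G ≃* G') :
    IsMaxNil (H.map e.toMonoidHom) := by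
  refine ⟨?_, fun L hL hHL => ?_⟩
  · have := h.1
    exact Group.nilpotent_of_mulEquiv (e.subgroupMap H)
  · have := hL
    have h1 : L.map e.symm.toMonoidHom = H := by
      apply h.2
      · exact Group.nilpotent_of_mulEquiv (e.symm.subgroupMap L)
      · intro x hx
        exact ⟨e x, hHL ⟨x, hx, rfl⟩, by simp⟩
    rw [← h1]
    ext y
    constructor
    · intro hy
      exact ⟨e.symm y, ⟨y, hy, rfl⟩, by simp⟩
    · rintro ⟨_, ⟨z, hz, rfl⟩, rfl⟩
      simpa using hz

theorem isMaxNil_map_conj {H : Subgroup G} (h : IsMaxNil H) (g : G) :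
    IsMaxNil (H.map (MulAut.conj g).toMonoidHom) :=
  isMaxNil_map_equiv h (MulAut.conj g)

theorem mem_map_conj_iff (H : Subgroup G) (g x : G) :
    x ∈ H.map (MulAut.conj g).toMonoidHom ↔ g⁻¹ * x * g ∈ H := by
  constructor
  · rintro ⟨y, hy, rfl⟩
    have : g⁻¹ * (MulAut.conj g).toMonoidHom y * g = y := by
      simp [mul_assoc]
    rw [this]; exact hy
  · intro h
    exact ⟨_, h, by simp [mul_assoc]⟩

theorem mem_normalizer_of_map_conj_eq {H : Subgroup G} {g : G}
    (h : H.map (MulAut.conj g).toMonoidHom = H) : g ∈ Subgroup.normalizer (H : Set G) := by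
  rw [Subgroup.mem_normalizer_iff]
  intro x
  have h1 := mem_map_conj_iff H g (g * x * g⁻¹)
  rw [h] at h1
  have h2 : g⁻¹ * (g * x * g⁻¹) * g = x := by group
  rw [h2] at h1
  exact h1.symm

theorem map_conj_eq_of_mem_normalizer {H : Subgroup G} {g : G}
    (h : g ∈ Subgroup.normalizer (H : Set G)) : H.map (MulAut.conj g).toMonoidHom = H := by
  ext x
  rw [mem_map_conj_iff]
  rw [Subgroup.mem_normalizer_iff] at h
  have h1 := h (g⁻¹ * x * g)
  have h2 : g * (g⁻¹ * x * g) * g⁻¹ = x := by group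
  rw [h2] at h1
  exact h1

theorem map_conj_map_conj (H : Subgroup G) (a b : G) :
    (H.map (MulAut.conj a).toMonoidHom).map (MulAut.conj b).toMonoidHom =
      H.map (MulAut.conj (b * a)).toMonoidHom := by
  ext x
  rw [mem_map_conj_iff, mem_map_conj_iff, mem_map_conj_iff]
  have : a⁻¹ * (b⁻¹ * x * b) * a = (b * a)⁻¹ * x * (b * a) := by group
  rw [this]

theorem map_conj_one (H : Subgroup G) : H.map (MulAut.conj (1 : G)).toMonoidHom = H := by
  ext x
  rw [mem_map_conj_iff]
  simp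

theorem eq_map_conj_symm {H K : Subgroup G} {g : G} (h : K = H.map (MulAut.conj g).toMonoidHom) :
    H = K.map (MulAut.conj g⁻¹).toMonoidHom := by
  rw [h, map_conj_map_conj, inv_mul_cancel, map_conj_one]

/-- normalizers of conjugates. -/
theorem normalizer_map_conj (H : Subgroup G) (g : G) :
    Subgroup.normalizer ((H.map (MulAut.conj g).toMonoidHom : Subgroup G) : Set G) =
      (Subgroup.normalizer (H : Set G)).map (MulAut.conj g).toMonoidHom := by
  ext x
  rw [mem_map_conj_iff]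
  constructor
  · intro hx
    apply mem_normalizer_of_map_conj_eq
    have h1 := map_conj_eq_of_mem_normalizer hx
    rw [map_conj_map_conj] at h1
    have h2 := congrArg (fun K : Subgroup G => K.map (MulAut.conj g⁻¹).toMonoidHom) h1
    simp only [map_conj_map_conj] at h2
    rw [inv_mul_cancel, map_conj_one] at h2
    rw [mul_assoc]
    exact h2
  · intro hx
    apply mem_normalizer_of_map_conj_eq
    have h1 := map_conj_eq_of_mem_normalizer hx
    rw [map_conj_map_conj]
    have h2 := congrArg (fun K : Subgroup G => K.map (MulAut.conj g).toMonoidHom) h1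
    simp only [map_conj_map_conj] at h2
    have h3 : g * (g⁻¹ * x * g) = x * g := by group
    rw [h3] at h2
    exact h2

/-- a nontrivial normal subgroup of a nilpotent group meets the centre. -/
theorem exists_mem_center_of_normal [Group.IsNilpotent G] (N : Subgroup G) [N.Normal] (hN : N ≠ ⊥) :
    ∃ z ∈ N, z ≠ 1 ∧ ∀ g : G, z * g = g * z := by
  classical
  obtain ⟨n, hn⟩ := Group.IsNilpotent.nilpotent G
  have hex : ∃ m, N ⊓ Subgroup.upperCentralSeries G m ≠ ⊥ := ⟨n, by rw [hn, inf_top_eq]; exact hN⟩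
  set m := Nat.find hex with hm
  have hm1 := Nat.find_spec hex
  rw [← hm] at hm1
  have hm0 : m ≠ 0 := by
    intro h0
    rw [h0] at hm1
    apply hm1
    rw [Subgroup.upperCentralSeries_zero, inf_bot_eq]
  obtain ⟨k, hk⟩ := Nat.exists_eq_succ_of_ne_zero hm0
  have hk1 : N ⊓ Subgroup.upperCentralSeries G k = ⊥ := by
    by_contra hcon
    exact Nat.find_min hex (by omega) hcon
  rw [hk] at hm1
  obtain ⟨⟨z, hz⟩, hz1'⟩ := Subgroup.ne_bot_iff_exists_ne_one.1 hm1
  have hz1 : z ≠ 1 := fun h => hz1' (Subtype.ext h)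
  refine ⟨z, hz.1, hz1, fun g => ?_⟩
  have h1 : z * g * z⁻¹ * g⁻¹ ∈ Subgroup.upperCentralSeries G k := by
    have := (Subgroup.mem_upperCentralSeries_succ_iff (n := k) (x := (z : G))).1 hz.2 g
    exact this
  have h2 : z * g * z⁻¹ * g⁻¹ ∈ N := by
    have h3 : g * (z : G)⁻¹ * g⁻¹ ∈ N := ‹N.Normal›.conj_mem _ (N.inv_mem hz.1) g
    have := N.mul_mem hz.1 h3
    simpa [mul_assoc] using this
  have h4 : z * g * z⁻¹ * g⁻¹ ∈ N ⊓ Subgroup.upperCentralSeries G k := ⟨h2, h1⟩
  rw [hk1, Subgroup.mem_bot] at h4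
  have h5 : (z : G) * g = (z * g * z⁻¹ * g⁻¹) * (g * z) := by group
  rw [h5, h4, one_mul]

/-- In a finite nilpotent group `H`, for `p ∣ #H` there is a central element of order `p`. -/
theorem exists_central_orderOf_eq [Finite G] [Group.IsNilpotent G] (p : ℕ) [hp : Fact p.Prime]
    (hpd : p ∣ Nat.card G) : ∃ z : G, orderOf z = p ∧ ∀ g : G, z * g = g * z := by
  classical
  -- the normal Sylow `p`-subgroup
  obtain ⟨P⟩ : Nonempty (Sylow p G) := inferInstance
  have hPn : (P : Subgroup G).Normal := by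
    have h := (Group.isNilpotent_of_finite_tfae (G := G)).out 0 3
    exact h.1 inferInstance p hp P
  have hP1 : (P : Subgroup G) ≠ ⊥ := by
    intro hbot
    have := P.dvd_card_of_dvd_card hpd
    rw [hbot, Subgroup.card_bot] at this
    exact hp.out.one_lt.ne' (Nat.dvd_one.1 this)
  obtain ⟨z, hzP, hz1, hzc⟩ := exists_mem_center_of_normal (P : Subgroup G) hP1
  obtain ⟨k, hk⟩ := P.isPGroup' ⟨z, hzP⟩
  have hk' : z ^ p ^ k = 1 := by simpa using congrArg Subtype.val hk
  have ho : ∃ j, orderOf z = p ^ j := by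
    obtain ⟨j, -, hj⟩ := (Nat.dvd_prime_pow hp.out).1 (orderOf_dvd_of_pow_eq_one hk')
    exact ⟨j, hj⟩
  obtain ⟨j, hj⟩ := ho
  have hj0 : j ≠ 0 := by
    rintro rfl
    rw [pow_zero, orderOf_eq_one_iff] at hj
    exact hz1 hj
  refine ⟨z ^ (p ^ (j - 1)), ?_, fun g => ?_⟩
  · rw [orderOf_pow_of_dvd (pow_ne_zero _ hp.out.ne_zero) (by rw [hj]; exact pow_dvd_pow p (by omega)), hj,
      Nat.pow_div (by omega) hp.out.pos]
    have : j - (j - 1) = 1 := by omega
    rw [this, pow_one]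
  · exact ((show Commute z g from hzc g).pow_left _).eq

/-- If `p` does not divide the index of `H`, every `p`-element is conjugate into `H`. -/
theorem exists_conj_mem_of_not_dvd_index [Finite G] (p : ℕ) [hp : Fact p.Prime] (H : Subgroup G)
    (hH : ¬ p ∣ H.index) (P : Subgroup G) (hx : IsPGroup p P) : ∃ g : G, ∀ x ∈ P, g * x * g⁻¹ ∈ H := by
  classical
  have hfix := IsPGroup.nonempty_fixed_point_of_prime_not_dvd_card hx
    (α := G ⧸ H) (by rwa [Subgroup.index] at hH)
  obtain ⟨q, hq⟩ := hfix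
  obtain ⟨g, rfl⟩ := QuotientGroup.mk_surjective q
  refine ⟨g⁻¹, fun x hxP => ?_⟩
  have h1 := hq ⟨x, hxP⟩
  have h2 : ((x * g : G) : G ⧸ H) = (g : G ⧸ H) := h1
  rw [QuotientGroup.eq] at h2
  have h3 := H.inv_mem h2
  have h4 : ((x * g)⁻¹ * g)⁻¹ = g⁻¹ * x * g⁻¹⁻¹ := by group
  rw [h4] at h3
  exact h3

/-- TI + fixed-point-free complement in the normalizer gives `C_G(x) ≤ H` for all `1 ≠ x ∈ H`. -/
theorem centralizer_le_of_ti_of_compl [Finite G] (H E : Subgroup G)
    (hTI : ∀ g : G, H.map (MulAut.conj g).toMonoidHom ≠ H → H ⊓ H.map (MulAut.conj g).toMonoidHom = ⊥)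
    (hE : Cfsg.IsComplIn H E (Subgroup.normalizer (H : Set G)))
    (hfree : ∀ e ∈ E, e ≠ 1 → H ⊓ Subgroup.centralizer ({e} : Set G) = ⊥)
    {x : G} (hx : x ∈ H) (hx1 : x ≠ 1) : Subgroup.centralizer ({x} : Set G) ≤ H := by
  classical
  intro c hc
  have hcx : c * x = x * c := (Subgroup.mem_centralizer_singleton_iff.1 hc).symm ▸ rfl
  have hcN : c ∈ Subgroup.normalizer (H : Set G) := by
    apply mem_normalizer_of_map_conj_eq
    by_contra hne
    have h1 := hTI c hne
    have h2 : x ∈ H ⊓ H.map (MulAut.conj c).toMonoidHom := by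
      refine ⟨hx, ?_⟩
      show x ∈ H.map (MulAut.conj c).toMonoidHom
      rw [mem_map_conj_iff]
      have : c⁻¹ * x * c = x := by
        rw [mul_assoc, ← hcx, inv_mul_cancel_left]
      rw [this]; exact hx
    rw [h1, Subgroup.mem_bot] at h2
    exact hx1 h2
  obtain ⟨h, hh, e, he, hce⟩ := hE.2.2.2 c hcN
  by_cases he1 : e = 1
  · rw [hce, he1, mul_one]; exact hh
  exfalso
  have heN : e ∈ Subgroup.normalizer (H : Set G) := hE.2.1 he
  have hfe := hfree e he he1
  -- the map a ↦ a (e a⁻¹ e⁻¹)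
  let f : H → H := fun a => ⟨a * (e * (a : G)⁻¹ * e⁻¹),
    H.mul_mem a.2 ((Subgroup.mem_normalizer_iff.1 heN _).1 (H.inv_mem a.2))⟩
  have hf : Function.Injective f := by
    intro a b hab
    have h1 : (a : G) * (e * (a : G)⁻¹ * e⁻¹) = b * (e * (b : G)⁻¹ * e⁻¹) := congrArg Subtype.val hab
    have h2 : (b : G)⁻¹ * a * e = e * ((b : G)⁻¹ * a) := by
      have h3 : (b : G)⁻¹ * a * e = (b : G)⁻¹ * (a * (e * (a : G)⁻¹ * e⁻¹)) * e * a := by group
      rw [h3, h1]; group
    have h4 : (b : G)⁻¹ * a ∈ H ⊓ Subgroup.centralizer ({e} : Set G) := by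
      refine Subgroup.mem_inf.2 ⟨H.mul_mem (H.inv_mem b.2) a.2, ?_⟩
      rw [Subgroup.mem_centralizer_singleton_iff]
      exact h2
    rw [hfe, Subgroup.mem_bot] at h4
    exact Subtype.ext (inv_mul_eq_one.1 h4).symm
  obtain ⟨a, ha⟩ := Finite.surjective_of_injective hf ⟨h, hh⟩
  have ha' : (a : G) * (e * (a : G)⁻¹ * e⁻¹) = h := congrArg Subtype.val ha
  have hc2 : c = a * e * (a : G)⁻¹ := by
    rw [hce, ← ha']; group
  have h5 : (a : G)⁻¹ * x * a ∈ H ⊓ Subgroup.centralizer ({e} : Set G) := by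
    refine Subgroup.mem_inf.2 ⟨H.mul_mem (H.mul_mem (H.inv_mem a.2) hx) a.2, ?_⟩
    rw [Subgroup.mem_centralizer_singleton_iff]
    rw [hc2] at hcx
    calc (a : G)⁻¹ * x * a * e = (a : G)⁻¹ * (x * (a * e * (a : G)⁻¹)) * a := by group
      _ = (a : G)⁻¹ * (a * e * (a : G)⁻¹ * x) * a := by rw [hcx]
      _ = e * ((a : G)⁻¹ * x * a) := by group
  rw [hfe, Subgroup.mem_bot] at h5
  apply hx1
  have h6 : x = a * ((a : G)⁻¹ * x * a) * (a : G)⁻¹ := by group
  rw [h6, h5]; group

/-- A nilpotent subgroup `N` which meets `H` in a nontrivial normal-in-`N` subgroup lies in `H`, if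
centralizers of nontrivial elements of `H` lie in `H`. -/
theorem le_of_nilpotent_of_normal_inf {H N : Subgroup G}
    (hC : ∀ x ∈ H, x ≠ 1 → Subgroup.centralizer ({x} : Set G) ≤ H)
    (hN : Group.IsNilpotent N) (hNH : N ≤ Subgroup.normalizer (H : Set G)) (hne : H ⊓ N ≠ ⊥) :
    N ≤ H := by
  have := hN
  have hnorm : (H.subgroupOf N).Normal := by
    refine ⟨fun n hn g => ?_⟩
    rw [Subgroup.mem_subgroupOf] at hn ⊢
    exact (Subgroup.mem_normalizer_iff.1 (hNH g.2) _).1 hn
  have hne' : H.subgroupOf N ≠ ⊥ := by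
    intro hbot
    apply hne
    rw [eq_bot_iff]
    rintro x ⟨hxH, hxN⟩
    have : (⟨x, hxN⟩ : N) ∈ H.subgroupOf N := hxH
    rw [hbot, Subgroup.mem_bot] at this
    simpa using congrArg Subtype.val this
  obtain ⟨z, hz, hz1, hzc⟩ := exists_mem_center_of_normal (H.subgroupOf N) hne'
  intro n hn
  apply hC (z : G) hz (fun h => hz1 (Subtype.ext h))
  rw [Subgroup.mem_centralizer_singleton_iff]
  exact (congrArg Subtype.val (hzc ⟨n, hn⟩)).symm

/-- two maximal nilpotent subgroups, Hall and with all centralizers of nontrivial elements inside, are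
conjugate or of coprime orders. -/
theorem conj_or_coprime [Finite G] {H₁ H₂ : Subgroup G}
    (h₁ : IsMaxNil H₁) (h₂ : IsMaxNil H₂) (hHall : (Nat.card H₁).Coprime H₁.index)
    (hC : ∀ x ∈ H₁, x ≠ 1 → Subgroup.centralizer ({x} : Set G) ≤ H₁) :
    (∃ g : G, H₂ = H₁.map (MulAut.conj g).toMonoidHom) ∨ (Nat.card H₁).Coprime (Nat.card H₂) := by
  classical
  by_cases hcop : (Nat.card H₁).Coprime (Nat.card H₂)
  · exact Or.inr hcop
  left
  obtain ⟨p, hp, hp1, hp2⟩ := Nat.Prime.not_coprime_iff_dvd.1 hcop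
  have : Fact p.Prime := ⟨hp⟩
  have := h₂.1
  obtain ⟨z, hzo, hzc⟩ := exists_central_orderOf_eq (G := H₂) p hp2
  have hpi : ¬ p ∣ H₁.index := fun h => by
    have := Nat.dvd_gcd hp1 h
    rw [Nat.Coprime] at hHall
    rw [hHall] at this
    exact hp.one_lt.ne' (Nat.dvd_one.1 this)
  have hzp : IsPGroup p (Subgroup.zpowers (z : G)) := by
    rw [IsPGroup.iff_card]
    exact ⟨1, by rw [Nat.card_zpowers, Subgroup.orderOf_coe, hzo, pow_one]⟩
  obtain ⟨g, hg⟩ := exists_conj_mem_of_not_dvd_index p H₁ hpi _ hzp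
  have hzH := hg z (Subgroup.mem_zpowers _)
  have hz1 : (z : G) ≠ 1 := by
    intro h
    have : z = 1 := Subtype.ext h
    rw [this, orderOf_one] at hzo
    exact hp.one_lt.ne hzo
  refine ⟨g⁻¹, ?_⟩
  symm
  apply h₂.2 _ (isMaxNil_map_conj h₁ _).1
  intro y hy
  rw [mem_map_conj_iff]
  apply hC (g * z * g⁻¹) hzH
  · intro h
    apply hz1
    have : (z : G) = g⁻¹ * (g * z * g⁻¹) * g := by group
    rw [this, h]; group
  · rw [Subgroup.mem_centralizer_singleton_iff]
    have h3 : (z : G) * y = y * z := congrArg Subtype.val (hzc ⟨y, hy⟩)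
    calc g⁻¹⁻¹ * y * g⁻¹ * (g * z * g⁻¹) = g * (y * z) * g⁻¹ := by group
      _ = g * (z * y) * g⁻¹ := by rw [h3]
      _ = g * z * g⁻¹ * (g⁻¹⁻¹ * y * g⁻¹) := by group

end Cfsg.Agent.OddOrderLocal.CNMaxNil
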