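import Cfsg.Agent.OddOrderLocal.CNNil

/-!
Maximal nilpotent subgroups of CN-groups (the three assertions of S1477).
-/

set_option autoImplicit false
set_option linter.style.haveILetI false
set_option linter.unusedSectionVars false

namespace Cfsg.Agent.OddOrderLocal.CNMaxNilpotent

open Subgroup Cfsg.Agent.OddOrderLocal.CNNil

variable {G : Type*} [Group G] [Finite G]

theorem mem_map_conj {H : Subgroup G} {g x : G} :
    x ∈ H.map (MulAut.conj g).toMonoidHom ↔ g⁻¹ * x * g ∈ H := by
  rw [Subgroup.mem_map]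
  constructor
  · rintro ⟨y, hy, rfl⟩
    simpa [mul_assoc] using hy
  · intro h
    exact ⟨_, h, by simp [mul_assoc]⟩

/-- A maximal nilpotent subgroup of prime power order is a Sylow subgroup. -/
theorem eq_sylow_of_isPGroup {H : Subgroup G}
    (hmax : ∀ L : Subgroup G, Group.IsNilpotent L → H ≤ L → L = H) {p : ℕ} [Fact p.Prime]
    (hp : IsPGroup p H) : ∃ P : Sylow p G, (P : Subgroup G) = H := by
  obtain ⟨P, hP⟩ := hp.exists_le_sylow
  exact ⟨P, hmax P (P.isPGroup'.isNilpotent) hP⟩

/-- (i) A maximal nilpotent subgroup is a Hall subgroup. -/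
theorem coprime_index (hCN : Cfsg.IsCNGroup G) {H : Subgroup G} (hH : Group.IsNilpotent H)
    (hmax : ∀ L : Subgroup G, Group.IsNilpotent L → H ≤ L → L = H) :
    (Nat.card H).Coprime H.index := by
  by_cases hpp : IsPrimePow (Nat.card H)
  · rw [isPrimePow_nat_iff] at hpp
    obtain ⟨p, k, hp, -, hk⟩ := hpp
    haveI := Fact.mk hp
    obtain ⟨P, hP⟩ := eq_sylow_of_isPGroup hmax (IsPGroup.of_card hk.symm)
    rw [← hP]
    exact P.card_coprime_index
  · refine Nat.Coprime.symm (Nat.Coprime.symm (Nat.coprime_of_dvd ?_))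
    intro p hp hd hdi
    haveI := Fact.mk hp
    obtain ⟨Q⟩ := (inferInstance : Nonempty (Sylow p H))
    obtain ⟨P, hP⟩ := (Q.isPGroup'.map H.subtype).exists_le_sylow
    have hQne : (Q : Subgroup H) ≠ ⊥ := Q.ne_bot_of_dvd_card hd
    obtain ⟨⟨y, hyQ⟩, hy1'⟩ := (Subgroup.ne_bot_iff_exists_ne_one).mp hQne
    have hy1 : y ≠ 1 := fun h => hy1' (Subtype.ext h)
    clear hy1'
    have hyP : (y : G) ∈ (P : Subgroup G) := hP ⟨y, hyQ, rfl⟩
    have hy1' : (y : G) ≠ 1 := fun h => hy1 (Subtype.ext h)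
    haveI : Nontrivial P := ⟨⟨⟨y, hyP⟩, 1, fun h => hy1' (congrArg Subtype.val h)⟩⟩
    haveI : Nontrivial (center P) := P.isPGroup'.center_nontrivial
    obtain ⟨z, hz⟩ := exists_ne (1 : center P)
    have hz1 : ((z : P) : G) ≠ 1 := by
      intro h
      exact hz (Subtype.ext (Subtype.ext h))
    have hzH : ((z : P) : G) ∈ H := by
      apply centralizer_le_of_not_isPrimePow hCN hH hmax hpp y.2 hy1'
      rw [mem_centralizer_singleton_iff]
      exact (congrArg Subtype.val (mem_center_iff.mp z.2 ⟨y, hyP⟩)).symm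
    have hPH : (P : Subgroup G) ≤ H := by
      intro x hx
      apply centralizer_le_of_not_isPrimePow hCN hH hmax hpp hzH hz1
      rw [mem_centralizer_singleton_iff]
      exact congrArg Subtype.val (mem_center_iff.mp z.2 ⟨x, hx⟩)
    exact P.not_dvd_index (hdi.trans (index_dvd_of_le hPH))

/-- (ii) A maximal nilpotent subgroup of non prime power order is a TI-subgroup. -/
theorem inf_conj_eq_bot (hCN : Cfsg.IsCNGroup G) {H : Subgroup G} (hH : Group.IsNilpotent H)
    (hmax : ∀ L : Subgroup G, Group.IsNilpotent L → H ≤ L → L = H)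
    (hpp : ¬ IsPrimePow (Nat.card H)) (h1 : Nat.card H ≠ 1) (g : G)
    (hg : H.map (MulAut.conj g).toMonoidHom ≠ H) :
    H ⊓ H.map (MulAut.conj g).toMonoidHom = ⊥ := by
  rw [eq_bot_iff]
  rintro x ⟨hxH, hxg⟩
  rw [Subgroup.mem_bot]
  by_contra hx1
  apply hg
  obtain ⟨p, hp, hd⟩ := Nat.exists_prime_and_dvd h1
  obtain ⟨z, hzH, hzo, hzc⟩ := exists_central_orderOf_subgroup hH hp hd
  have hz1 : z ≠ 1 := by
    rintro rfl
    rw [orderOf_one] at hzo
    exact hp.one_lt.ne hzo
  have key : ∀ w : G, w ≠ 1 → w ∈ H.map (MulAut.conj g).toMonoidHom →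
      ∀ c : G, Commute c w → c ∈ H.map (MulAut.conj g).toMonoidHom := by
    intro w hw1 hw c hc
    rw [mem_map_conj] at hw ⊢
    apply centralizer_le_of_not_isPrimePow hCN hH hmax hpp hw
    · intro h
      apply hw1
      have : w = g * (g⁻¹ * w * g) * g⁻¹ := by group
      rw [this, h]; group
    · rw [mem_centralizer_singleton_iff]
      have := hc.eq
      calc g⁻¹ * c * g * (g⁻¹ * w * g) = g⁻¹ * (c * w) * g := by group
        _ = g⁻¹ * (w * c) * g := by rw [this]
        _ = g⁻¹ * w * g * (g⁻¹ * c * g) := by group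
  have hzg : z ∈ H.map (MulAut.conj g).toMonoidHom := key x hx1 hxg z (hzc x hxH).symm
  have hle : H ≤ H.map (MulAut.conj g).toMonoidHom := fun c hc => key z hz1 hzg c (hzc c hc)
  exact (hmax _ (isNilpotent_map_conj hH g) hle)

/-- (iii) If a maximal nilpotent subgroup is a TI-subgroup then it contains the centralizers of all
its non-identity elements. -/
theorem centralizer_le (hCN : Cfsg.IsCNGroup G) {H : Subgroup G} (hH : Group.IsNilpotent H)
    (hmax : ∀ L : Subgroup G, Group.IsNilpotent L → H ≤ L → L = H)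
    (hTI : ∀ g : G, H.map (MulAut.conj g).toMonoidHom ≠ H →
      H ⊓ H.map (MulAut.conj g).toMonoidHom = ⊥) (x : G) (hx : x ∈ H) (hx1 : x ≠ 1) :
    centralizer ({x} : Set G) ≤ H := by
  by_cases hpp : IsPrimePow (Nat.card H)
  swap
  · exact centralizer_le_of_not_isPrimePow hCN hH hmax hpp hx hx1
  rw [isPrimePow_nat_iff] at hpp
  obtain ⟨p, k, hp, hk0, hk⟩ := hpp
  haveI := Fact.mk hp
  have hHp : IsPGroup p H := IsPGroup.of_card hk.symm
  obtain ⟨z, hzH, hzo, hzc⟩ := exists_central_orderOf_subgroup hH hp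
    (by rw [← hk]; exact dvd_pow_self p hk0.ne')
  have hz1 : z ≠ 1 := by
    rintro rfl
    rw [orderOf_one] at hzo
    exact hp.one_lt.ne hzo
  have hCz := centralizer_eq_of_central hCN hmax hz1 hzc
  have hzC : z ∈ centralizer ({x} : Set G) := mem_centralizer_singleton_iff.mpr (hzc x hx).symm.eq
  apply le_of_prime_pow
  intro c hc s j hs hcs
  by_cases hsp : s = p
  · subst hsp
    -- a central element of the centralizer lies in `H`
    haveI := hCN x hx1
    haveI : Nontrivial (centralizer ({x} : Set G)) :=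
      ⟨⟨⟨z, hzC⟩, 1, fun h => hz1 (congrArg Subtype.val h)⟩⟩
    have hcen : center (centralizer ({x} : Set G)) ≠ ⊥ :=
      Group.IsNilpotent.center_ne_bot _
    obtain ⟨w, hw⟩ := (Subgroup.ne_bot_iff_exists_ne_one).mp hcen
    obtain ⟨w', hw'⟩ : ∃ w' : G, w' = w.1.1 := ⟨_, rfl⟩
    have hw1 : w' ≠ 1 := by
      intro h
      rw [hw'] at h
      exact hw (Subtype.ext (Subtype.ext h))
    have hwc : ∀ y ∈ centralizer ({x} : Set G), y * w' = w' * y := by
      intro y hy
      rw [hw']
      exact congrArg Subtype.val (mem_center_iff.mp w.2 ⟨y, hy⟩)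
    have hwH : w' ∈ H := by
      rw [← hCz, mem_centralizer_singleton_iff]
      exact (hwc z hzC).symm
    have hnorm : H.map (MulAut.conj c).toMonoidHom = H := by
      by_contra hne
      have := hTI c hne
      have hmem : w' ∈ H ⊓ H.map (MulAut.conj c).toMonoidHom := by
        refine Subgroup.mem_inf.mpr ⟨hwH, ?_⟩
        rw [mem_map_conj]
        have := hwc c hc
        have h2 : c⁻¹ * w' * c = w' := by
          rw [mul_assoc, ← this, ← mul_assoc, inv_mul_cancel, one_mul]
        rwa [h2]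
      rw [this] at hmem
      exact hw1 (Subgroup.mem_bot.mp hmem)
    have hcn : c ∈ normalizer (H : Set G) := by
      rw [Subgroup.mem_normalizer_iff]
      intro h
      have : h ∈ H ↔ c⁻¹ * (c * h * c⁻¹) * c ∈ H := by
        rw [show c⁻¹ * (c * h * c⁻¹) * c = h by group]
      rw [this, ← mem_map_conj, hnorm]
    have hle : zpowers c ≤ normalizer (H : Set G) := by
      rw [zpowers_le]; exact hcn
    have hpg : IsPGroup s (H ⊔ zpowers c : Subgroup G) :=
      hHp.to_sup_of_normal_left' (isPGroup_zpowers hcs) hle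
    have := hmax _ (hpg.isNilpotent) le_sup_left
    have h3 : c ∈ H ⊔ zpowers c := (le_sup_right : zpowers c ≤ _) (mem_zpowers c)
    rwa [this] at h3
  · have : Commute c z := commute_of_ne_subgroup (hCN x hx1) hs hp hsp hcs (k := 1)
      (by rw [hzo, pow_one]) hc hzC
    rw [← hCz]
    exact mem_centralizer_singleton_iff.mpr this.eq

end Cfsg.Agent.OddOrderLocal.CNMaxNilpotent
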