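import Mathlib
import Cfsg.Agent.Lib.Cores
import Cfsg.Agent.Lib.NormalAbelian
import Cfsg.Agent.Lib.SolvableNormalP
import Cfsg.Agent.S0039
import Cfsg.Agent.S0044
import Cfsg.Agent.OddOrderLocal.CNBasic
import Cfsg.Agent.OddOrderLocal.CNComplement
import Cfsg.Agent.OddOrderLocal.NilpotentUnique
import Cfsg.Prelude.Def_OddOrderLocal

/-!
Finite solvable CN-groups: centralizers of elements of the Fitting subgroup, the Frobenius case.
-/

set_option autoImplicit false

namespace Cfsg.Agent.OddOrderLocal.CNSolvable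

open Subgroup Cfsg
open Cfsg.Agent.OddOrderLocal.CNBasic

variable {G : Type*} [Group G] [Finite G]

omit [Finite G] in
/-- The centralizer of a conjugation invariant set is normal. -/
theorem normal_centralizer_of_invariant {W : Set G} (hW : ∀ w ∈ W, ∀ g : G, g * w * g⁻¹ ∈ W) :
    (centralizer W).Normal := by
  constructor
  intro a ha g
  rw [mem_centralizer_iff] at ha ⊢
  intro w hw
  have h1 := ha _ (hW w hw g⁻¹)
  rw [inv_inv] at h1
  calc w * (g * a * g⁻¹) = g * ((g⁻¹ * w * g) * a) * g⁻¹ := by group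
    _ = g * (a * (g⁻¹ * w * g)) * g⁻¹ := by rw [h1]
    _ = g * a * g⁻¹ * w := by group

omit [Finite G] in
/-- In a CN-group, the centralizer of an invariant set with a nontrivial element is contained in
the Fitting subgroup. -/
theorem centralizer_invariant_le_fitting (hCN : IsCNGroup G) {W : Set G}
    (hW : ∀ w ∈ W, ∀ g : G, g * w * g⁻¹ ∈ W) {w₀ : G} (hw₀ : w₀ ∈ W) (h1 : w₀ ≠ 1) :
    centralizer W ≤ fittingSubgroup G := by
  apply Cfsg.Agent.Lib.Cores.le_fittingSubgroup (normal_centralizer_of_invariant hW)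
  have h2 : centralizer W ≤ centralizer ({w₀} : Set G) :=
    centralizer_le (Set.singleton_subset_iff.mpr hw₀)
  have h3 := hCN w₀ h1
  exact Subgroup.isNilpotent_of_ker_le_center (Subgroup.inclusion h2)
    (by rw [(MonoidHom.ker_eq_bot_iff _).mpr (Subgroup.inclusion_injective h2)]; exact bot_le)

/-- A central element of the Fitting subgroup of prime order `p`, if `p` divides its order. -/
theorem exists_central {p : ℕ} (hp : p.Prime) (hpF : p ∣ Nat.card (fittingSubgroup G)) :
    ∃ z : G, z ∈ fittingSubgroup G ∧ orderOf z = p ∧ ∀ y ∈ fittingSubgroup G, Commute z y := by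
  have hF := Cfsg.Agent.Lib.Cores.fittingSubgroup_isNilpotent (G := G)
  obtain ⟨z, hz, hzp, hzc⟩ := Cfsg.Agent.OddOrderLocal.CNComplement.exists_central_in_part hF hp hpF
  refine ⟨z, hz, hzp, ?_⟩
  intro y hy
  obtain ⟨a, b, ha, hb, hab, ⟨k, hk⟩, hbp⟩ := exists_mul_parts hp y
  have haF : a ∈ fittingSubgroup G := (zpowers_le.mpr hy) ha
  have hbF : b ∈ fittingSubgroup G := (zpowers_le.mpr hy) hb
  rw [← hab]
  refine (hzc a haF ⟨k, hk⟩).mul_right ?_
  exact commute_of_mem_of_coprime hF hz hbF (by rw [hzp]; exact hbp.symm)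

/-- If the Fitting subgroup of a finite CN-group is not a `p`-group for any prime `p`, it contains
the centralizer of each of its nontrivial elements. -/
theorem centralizer_le_of_not_pgroup (hCN : IsCNGroup G)
    (hnp : ∀ p : ℕ, p.Prime → ¬ IsPGroup p (fittingSubgroup G)) {x : G}
    (hx : x ∈ fittingSubgroup G) (hx1 : x ≠ 1) :
    centralizer ({x} : Set G) ≤ fittingSubgroup G := by
  have hF := Cfsg.Agent.Lib.Cores.fittingSubgroup_isNilpotent (G := G)
  have hFn := Cfsg.Agent.Lib.Cores.fittingSubgroup_normal (G := G)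
  -- reduce to prime order
  obtain ⟨p, hp, hpd⟩ := Nat.exists_prime_and_dvd (n := orderOf x)
    (fun h => hx1 (orderOf_eq_one_iff.mp h))
  obtain ⟨x', hx'def⟩ : ∃ x' : G, x' = x ^ (orderOf x / p) := ⟨_, rfl⟩
  have hx'o : orderOf x' = p := by
    rw [hx'def, orderOf_pow_of_dvd (Nat.div_pos (Nat.le_of_dvd (orderOf_pos x) hpd) hp.pos).ne'
      (Nat.div_dvd_of_dvd hpd)]
    exact Nat.div_div_self hpd (orderOf_pos x).ne'
  have hx'F : x' ∈ fittingSubgroup G := by rw [hx'def]; exact pow_mem hx _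
  have hx'1 : x' ≠ 1 := by
    rintro rfl
    rw [orderOf_one] at hx'o
    exact hp.one_lt.ne hx'o
  have hle : centralizer ({x} : Set G) ≤ centralizer ({x'} : Set G) := by
    intro y hy
    rw [mem_centralizer_singleton_iff] at hy ⊢
    rw [hx'def]
    exact Commute.pow_right hy _
  refine le_trans hle ?_
  have hC := hCN x' hx'1
  have hpF : p ∣ Nat.card (fittingSubgroup G) := by
    rw [← hx'o, ← Subgroup.orderOf_mk x' hx'F]
    exact orderOf_dvd_natCard _
  obtain ⟨z, hzF, hzo, hzc⟩ := exists_central hp hpF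
  have hz1 : z ≠ 1 := by
    rintro rfl
    rw [orderOf_one] at hzo
    exact hp.one_lt.ne hzo
  -- a nontrivial `p'`-element of `F`
  obtain ⟨w₀, hw₀F, hw₀p, hw₀1⟩ : ∃ w₀ ∈ fittingSubgroup G, (orderOf w₀).Coprime p ∧ w₀ ≠ 1 := by
    by_contra hcon
    push Not at hcon
    apply hnp p hp
    rintro ⟨g, hg⟩
    obtain ⟨a, b, ha, hb, hab, ⟨k, hk⟩, hbp⟩ := exists_mul_parts hp g
    have hbF : b ∈ fittingSubgroup G := (zpowers_le.mpr hg) hb
    have hb1 : b = 1 := hcon b hbF hbp
    refine ⟨k, Subtype.ext ?_⟩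
    show g ^ p ^ k = 1
    rw [← hab, hb1, mul_one, hk]
  intro y hy
  have hy' := mem_centralizer_singleton_iff.mp hy
  obtain ⟨a, b, ha, hb, hab, ⟨k, hk⟩, hbp⟩ := exists_mul_parts hp y
  have haC : a ∈ centralizer ({x'} : Set G) := (zpowers_le.mpr hy) ha
  have hbC : b ∈ centralizer ({x'} : Set G) := (zpowers_le.mpr hy) hb
  have haF : a ∈ fittingSubgroup G := by
    have hW : ∀ w ∈ {w : G | w ∈ fittingSubgroup G ∧ (orderOf w).Coprime p}, ∀ g : G,
        g * w * g⁻¹ ∈ {w : G | w ∈ fittingSubgroup G ∧ (orderOf w).Coprime p} := by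
      rintro w ⟨hw1, hw2⟩ g
      refine ⟨hFn.conj_mem w hw1 g, ?_⟩
      have : orderOf (g * w * g⁻¹) = orderOf w := by
        have h := orderOf_injective (MulAut.conj g).toMonoidHom (MulAut.conj g).injective w
        simpa using h
      rw [this]; exact hw2
    apply centralizer_invariant_le_fitting hCN hW ⟨hw₀F, hw₀p⟩ hw₀1
    rw [mem_centralizer_iff]
    rintro w ⟨hwF, hwp⟩
    have hwC : w ∈ centralizer ({x'} : Set G) := by
      rw [mem_centralizer_singleton_iff]
      exact commute_of_mem_of_coprime hF hwF hx'F (by rw [hx'o]; exact hwp)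
    refine commute_of_mem_of_coprime hC hwC haC ?_
    exact Nat.Coprime.coprime_dvd_right (orderOf_dvd_of_pow_eq_one hk) (Nat.Coprime.pow_right k hwp)
  have hbF : b ∈ fittingSubgroup G := by
    have hW : ∀ w ∈ {w : G | w ∈ fittingSubgroup G ∧ ∃ k : ℕ, w ^ p ^ k = 1}, ∀ g : G,
        g * w * g⁻¹ ∈ {w : G | w ∈ fittingSubgroup G ∧ ∃ k : ℕ, w ^ p ^ k = 1} := by
      rintro w ⟨hw1, m, hw2⟩ g
      refine ⟨hFn.conj_mem w hw1 g, m, ?_⟩
      rw [conj_pow, hw2]; group
    apply centralizer_invariant_le_fitting hCN hW (w₀ := z)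
      ⟨hzF, 1, by rw [pow_one, ← hzo]; exact pow_orderOf_eq_one z⟩ hz1
    rw [mem_centralizer_iff]
    rintro w ⟨hwF, m, hwm⟩
    -- `b` commutes with `z`
    have hzC : z ∈ centralizer ({x'} : Set G) := by
      rw [mem_centralizer_singleton_iff]
      exact hzc x' hx'F
    have hbz : Commute b z := commute_of_mem_of_coprime hC hbC hzC (by rw [hzo]; exact hbp)
    have hD := hCN z hz1
    have hbD : b ∈ centralizer ({z} : Set G) := by
      rw [mem_centralizer_singleton_iff]; exact hbz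
    have hwD : w ∈ centralizer ({z} : Set G) := by
      rw [mem_centralizer_singleton_iff]; exact (hzc w hwF).symm
    refine commute_of_mem_of_coprime hD hwD hbD ?_
    exact Nat.Coprime.coprime_dvd_left (orderOf_dvd_of_pow_eq_one hwm)
      (Nat.Coprime.pow_left m hbp.symm)
  rw [← hab]
  exact mul_mem haF hbF

/-- If the Fitting subgroup is a `p`-group, a nontrivial `p'`-element of a finite solvable
CN-group centralizes no nontrivial element of it. -/
theorem eq_one_of_commute_of_pgroup [Group.IsSolvable G] (hCN : IsCNGroup G) {p : ℕ}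
    (hp : p.Prime) (hpg : IsPGroup p (fittingSubgroup G)) {x y : G}
    (hx : x ∈ fittingSubgroup G) (hy : (orderOf y).Coprime p) (hy1 : y ≠ 1)
    (hxy : Commute y x) : x = 1 := by
  by_contra hx1
  have hF := Cfsg.Agent.Lib.Cores.fittingSubgroup_isNilpotent (G := G)
  have hpF : p ∣ Nat.card (fittingSubgroup G) := by
    have := Fact.mk hp
    have hnt : Nontrivial (fittingSubgroup G) :=
      ⟨⟨⟨x, hx⟩, 1, fun h => hx1 (congrArg Subtype.val h)⟩⟩
    obtain ⟨n, hn0, hn⟩ := hpg.nontrivial_iff_card.mp hnt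
    rw [hn]; exact dvd_pow_self p hn0.ne'
  obtain ⟨z, hzF, hzo, hzc⟩ := exists_central hp hpF
  have hz1 : z ≠ 1 := by
    rintro rfl
    rw [orderOf_one] at hzo
    exact hp.one_lt.ne hzo
  have hyz : Commute y z := by
    refine commute_of_mem_of_coprime (hCN x hx1) ?_ ?_ (by rw [hzo]; exact hy)
    · rw [mem_centralizer_singleton_iff]; exact hxy
    · rw [mem_centralizer_singleton_iff]; exact hzc x hx
  have hyF : y ∈ fittingSubgroup G := by
    apply Cfsg.Agent.S0044.centralizer_fitting_le G (Cfsg.Agent.S0044.fittingSubgroup_normal G)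
    rw [mem_centralizer_iff]
    intro w hw
    have hw' : w ∈ fittingSubgroup G := hw
    obtain ⟨m, hm⟩ := hpg ⟨w, hw'⟩
    have hm' : w ^ p ^ m = 1 := congrArg Subtype.val hm
    refine commute_of_mem_of_coprime (hCN z hz1) (b := y) (a := w) ?_ ?_ ?_
    · rw [mem_centralizer_singleton_iff]; exact (hzc w hw').symm
    · rw [mem_centralizer_singleton_iff]; exact hyz
    · exact Nat.Coprime.coprime_dvd_left (orderOf_dvd_of_pow_eq_one hm')
        (Nat.Coprime.pow_left m hy.symm)
  obtain ⟨m, hm⟩ := hpg ⟨y, hyF⟩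
  have hm' : y ^ p ^ m = 1 := congrArg Subtype.val hm
  have h1 : orderOf y ∣ p ^ m := orderOf_dvd_of_pow_eq_one hm'
  have h2 : orderOf y = 1 := Nat.eq_one_of_dvd_coprimes (hy.pow_right m) dvd_rfl h1
  exact hy1 (orderOf_eq_one_iff.mp h2)

/-- A normal subgroup containing the centralizers of its nontrivial elements is a Hall subgroup. -/
theorem coprime_index {F : Subgroup G} (hF : F.Normal)
    (hc : ∀ x ∈ F, x ≠ 1 → centralizer ({x} : Set G) ≤ F) : (Nat.card F).Coprime F.index := by
  apply Nat.Coprime.symm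
  rw [Nat.coprime_iff_gcd_eq_one]
  by_contra hne
  obtain ⟨p, hp, hpd⟩ := Nat.exists_prime_and_dvd hne
  have := Fact.mk hp
  have hpF : p ∣ Nat.card F := hpd.trans (Nat.gcd_dvd_right _ _)
  have hpi : p ∣ F.index := hpd.trans (Nat.gcd_dvd_left _ _)
  obtain ⟨z, hz⟩ := exists_prime_orderOf_dvd_card' p hpF
  have hzp : IsPGroup p (zpowers (z : G)) := by
    apply IsPGroup.of_card (n := 1)
    rw [Nat.card_zpowers, Subgroup.orderOf_coe, hz, pow_one]
  obtain ⟨P, hP⟩ := hzp.exists_le_sylow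
  have hPn : Group.IsNilpotent (P : Subgroup G) := P.isPGroup'.isNilpotent
  have hNne : F.subgroupOf (P : Subgroup G) ≠ ⊥ := by
    intro h
    have h1 : (⟨z, hP (mem_zpowers _)⟩ : (P : Subgroup G)) ∈ F.subgroupOf (P : Subgroup G) :=
      mem_subgroupOf.mpr z.2
    rw [h, mem_bot] at h1
    have h2 : (z : G) = 1 := congrArg Subtype.val h1
    have h3 : orderOf (z : G) = p := by rw [Subgroup.orderOf_coe]; exact hz
    rw [h2, orderOf_one] at h3
    exact hp.one_lt.ne h3
  have h4 := Cfsg.Agent.Lib.NormalAbelian.normal_inf_center_ne_bot (F.subgroupOf (P : Subgroup G)) hNne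
  obtain ⟨u, hu1⟩ := Subgroup.ne_bot_iff_exists_ne_one.mp h4
  have huF : ((u : (P : Subgroup G)) : G) ∈ F := mem_subgroupOf.mp u.2.1
  have hu1' : ((u : (P : Subgroup G)) : G) ≠ 1 := by
    intro h
    exact hu1 (Subtype.ext (Subtype.ext h))
  have hle : (P : Subgroup G) ≤ F := by
    refine le_trans ?_ (hc _ huF hu1')
    intro y hy
    rw [mem_centralizer_singleton_iff]
    have h5 := mem_center_iff.mp u.2.2 ⟨y, hy⟩
    exact congrArg Subtype.val h5
  exact P.not_dvd_index (hpi.trans (index_dvd_of_le hle))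

/-- The Frobenius conclusion. -/
theorem frobenius_case [Group.IsSolvable G] (hCN : IsCNGroup G)
    (hne : fittingSubgroup G ≠ ⊤) (hnb : fittingSubgroup G ≠ ⊥)
    (hc : ∀ x ∈ fittingSubgroup G, x ≠ 1 → centralizer ({x} : Set G) ≤ fittingSubgroup G) :
    ∃ K E : Subgroup G, K.Normal ∧ Subgroup.IsComplement' K E ∧ Cfsg.IsFrobeniusComplement E ∧
      (IsCyclic E ∨ ∃ C Q : Subgroup G, C ⊔ Q = E ∧ (∀ a ∈ C, ∀ b ∈ Q, a * b = b * a) ∧
        IsCyclic C ∧ Odd (Nat.card C) ∧ ∃ n : ℕ, Nonempty (↥Q ≃* QuaternionGroup (2 ^ n))) := by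
  have hF := Cfsg.Agent.Lib.Cores.fittingSubgroup_isNilpotent (G := G)
  have hFn := Cfsg.Agent.Lib.Cores.fittingSubgroup_normal (G := G)
  have hcop := coprime_index hFn hc
  obtain ⟨E, hE⟩ := exists_right_complement'_of_coprime (N := fittingSubgroup G) hcop
  have hEb : E ≠ ⊥ := by
    rintro rfl
    exact hne (isComplement'_bot_right.mp hE)
  have hdisj : fittingSubgroup G ⊓ E = ⊥ := hE.disjoint.eq_bot
  have hEF : ∀ e ∈ E, e ≠ 1 → ∀ x ∈ fittingSubgroup G, Commute e x → x = 1 := by
    intro e he he1 x hx hex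
    by_contra hx1
    have h1 : e ∈ fittingSubgroup G := by
      apply hc x hx hx1
      rw [mem_centralizer_singleton_iff]; exact hex
    have h2 : e ∈ fittingSubgroup G ⊓ E := ⟨h1, he⟩
    rw [hdisj, mem_bot] at h2
    exact he1 h2
  have hfrob : IsFrobeniusComplement E := by
    rw [Cfsg.Agent.S0039.result (fittingSubgroup G) E hE hnb hEb]
    intro h hh hh1
    rw [eq_bot_iff]
    rintro x ⟨hx1, hx2⟩
    rw [mem_bot]
    refine hEF h hh hh1 x hx1 ?_
    exact (mem_centralizer_singleton_iff.mp hx2).symm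
  refine ⟨fittingSubgroup G, E, hFn, hE, hfrob, ?_⟩
  -- the module: centre of the Fitting subgroup
  have hVchar : (center (fittingSubgroup G)).Characteristic := inferInstance
  have hVn : ((center (fittingSubgroup G)).map (fittingSubgroup G).subtype).Normal :=
    ConjAct.normal_of_characteristic_of_normal
  obtain ⟨V, hVdef⟩ : ∃ V : Subgroup G,
    V = (center (fittingSubgroup G)).map (fittingSubgroup G).subtype := ⟨_, rfl⟩
  rw [← hVdef] at hVn
  have hVF : V ≤ fittingSubgroup G := by rw [hVdef]; exact map_subtype_le _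
  have hVcomm : ∀ a b : V, a * b = b * a := by
    rintro ⟨a, ha⟩ ⟨b, hb⟩
    rw [hVdef] at ha hb
    obtain ⟨a', ha', rfl⟩ := ha
    obtain ⟨b', hb', rfl⟩ := hb
    apply Subtype.ext
    have h1 : a' * b' = b' * a' := mem_center_iff.mp hb' a'
    have h2 : ((a' * b' : fittingSubgroup G) : G) = ((b' * a' : fittingSubgroup G) : G) := by
      rw [h1]
    exact h2
  have hVnt : Nontrivial V := by
    have hnt : Nontrivial (fittingSubgroup G) := (Subgroup.nontrivial_iff_ne_bot _).mpr hnb
    have h1 : center (fittingSubgroup G) ≠ ⊥ := Group.IsNilpotent.center_ne_bot _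
    rw [Subgroup.nontrivial_iff_ne_bot, hVdef]
    intro h
    exact h1 ((Subgroup.map_eq_bot_iff_of_injective _ (fittingSubgroup G).subtype_injective).mp h)
  let φ : E →* MulAut V := (MulAut.conjNormal (H := V)).comp E.subtype
  obtain ⟨p, hp, hpF⟩ := Nat.exists_prime_and_dvd (n := Nat.card (fittingSubgroup G))
    (fun h => hnb (Subgroup.card_eq_one.mp h))
  have hpE : ¬ p ∣ Nat.card E := by
    intro h
    have h1 : Nat.card E = (fittingSubgroup G).index := by
      rw [← hE.symm.index_eq_card]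
    rw [h1] at h
    exact hp.one_lt.ne' (Nat.eq_one_of_dvd_coprimes hcop hpF h)
  have hpFE : ¬ p ∣ Nat.card (fittingSubgroup E) := fun h =>
    hpE (h.trans (card_subgroup_dvd_card _))
  have hf : ∀ g : E, g ≠ 1 → (orderOf g).Coprime p → ∀ v : V, φ g v = v → v = 1 := by
    intro g hg _ v hv
    apply Subtype.ext
    refine hEF g g.2 (fun h => hg (Subtype.ext h)) v (hVF v.2) ?_
    have h1 : (g : G) * v * (g : G)⁻¹ = v := congrArg Subtype.val hv
    show (g : G) * v = v * g
    calc (g : G) * v = ((g : G) * v * (g : G)⁻¹) * g := by group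
      _ = v * g := by rw [h1]
  have hEnt : Nontrivial E := (Subgroup.nontrivial_iff_ne_bot _).mpr hEb
  have hECN := isCNGroup_subgroup hCN E
  have htop := Cfsg.Agent.OddOrderLocal.CNComplement.fittingSubgroup_eq_top hVcomm φ hf hECN hp
    hpFE hpE
  have hEnil : Group.IsNilpotent E := Cfsg.Agent.Lib.Cores.fittingSubgroup_eq_top_iff.mp htop
  apply Cfsg.Agent.OddOrderLocal.NilpotentUnique.subgroup_cyclic_or hEnil
  intro r hr x hx y hy hxr hyr
  have h1 : (⟨y, hy⟩ : E) ∈ zpowers (⟨x, hx⟩ : E) := by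
    apply Cfsg.Agent.OddOrderLocal.CNComplement.mem_zpowers_of_orderOf_eq hVcomm φ hf hp hpFE hr
    · rw [htop]; exact mem_top _
    · rw [htop]; exact mem_top _
    · rw [Subgroup.orderOf_mk]; exact hxr
    · exact Subtype.ext hyr
  obtain ⟨k, hk⟩ := mem_zpowers_iff.mp h1
  exact mem_zpowers_iff.mpr ⟨k, congrArg Subtype.val hk⟩

end Cfsg.Agent.OddOrderLocal.CNSolvable
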