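import Mathlib
import Cfsg.Prelude.Def_LieExceptional
import Cfsg.Prelude.Def_OddOrderLocal
import Cfsg.Agent.Lib.Cores
import Cfsg.Agent.OddOrderLocal.MinSimpleBasic
import Cfsg.Agent.OddOrderLocal.CNMaxNilpotent
import Cfsg.Agent.OddOrderLocal.CNLocal

/-!
Sylow subgroups of a minimal simple CN-group of odd order are TI-subgroups.
-/

set_option autoImplicit false
set_option linter.style.haveILetI false
set_option linter.unusedSectionVars false

namespace Cfsg.Agent.OddOrderLocal.CNSylowTI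

open Subgroup Cfsg Cfsg.Agent.OddOrderLocal.CNThompsonJ Cfsg.Agent.OddOrderLocal.CNLocal
open scoped Pointwise commutatorElement

variable {G : Type*} [Group G] [Finite G] {p : ℕ} [Fact p.Prime]

/-- A proper subgroup of a `p`-group is properly contained in its normalizer. -/
theorem lt_inf_normalizer {P D : Subgroup G} (hP : IsPGroup p P) (hD : D ≤ P) (hne : D ≠ P) :
    D < P ⊓ normalizer (D : Set G) := by
  haveI : Group.IsNilpotent P := hP.isNilpotent
  have hnc := Group.normalizerCondition_of_isNilpotent (G := P)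
  have h1 : D.subgroupOf P < ⊤ := by
    rw [lt_top_iff_ne_top, Ne, subgroupOf_eq_top]
    exact fun h => hne (le_antisymm hD h)
  have h2 := hnc _ h1
  obtain ⟨x, hx, hxD⟩ := SetLike.exists_of_lt h2
  refine lt_of_le_of_ne (le_inf hD le_normalizer) ?_
  intro h
  apply hxD
  rw [mem_subgroupOf, h]
  refine ⟨x.2, ?_⟩
  show (x : G) ∈ normalizer (D : Set G)
  rw [Subgroup.mem_normalizer_iff] at hx ⊢
  intro y
  constructor
  · intro hy
    have := (hx ⟨y, hD hy⟩).mp hy
    exact this
  · intro hy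
    have hyP : y ∈ P := by
      have h3 : (x : G)⁻¹ * ((x : G) * y * (x : G)⁻¹) * x ∈ P :=
        mul_mem (mul_mem (inv_mem x.2) (hD hy)) x.2
      have h4 : (x : G)⁻¹ * ((x : G) * y * (x : G)⁻¹) * x = y := by group
      rwa [h4] at h3
    exact (hx ⟨y, hyP⟩).mpr hy

/-- a `p`-subgroup of `N` is contained in (the image of) a Sylow subgroup of `N`. -/
theorem exists_sylow_of_le {S N : Subgroup G} (hS : IsPGroup p S) (hSN : S ≤ N) :
    ∃ T : Sylow p N, S ≤ (T : Subgroup N).map N.subtype := by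
  have h1 : IsPGroup p (S.subgroupOf N) := hS.comap_subtype
  obtain ⟨T, hT⟩ := h1.exists_le_sylow
  refine ⟨T, fun x hx => ⟨⟨x, hSN hx⟩, hT hx, rfl⟩⟩

theorem map_smul_sylow {N : Subgroup G} (T : Sylow p N) (n : N) :
    ((n • T : Sylow p N) : Subgroup N).map N.subtype =
      MulAut.conj (n : G) • ((T : Subgroup N).map N.subtype) := by
  ext x
  rw [Subgroup.mem_pointwise_smul_iff_inv_smul_mem, Sylow.coe_subgroup_smul]
  simp only [Subgroup.mem_map]
  constructor
  · rintro ⟨y, hy, rfl⟩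
    rw [Subgroup.mem_pointwise_smul_iff_inv_smul_mem] at hy
    exact ⟨_, hy, by simp [← map_inv]⟩
  · rintro ⟨y, hy, h⟩
    refine ⟨n * y * n⁻¹, ?_, ?_⟩
    · rw [Subgroup.mem_pointwise_smul_iff_inv_smul_mem, ← map_inv, MulAut.smul_def,
        MulAut.conj_apply]
      convert hy using 1
      group
    · rw [← map_inv, MulAut.smul_def, MulAut.conj_apply] at h
      simp only [Subgroup.subtype_apply, Subgroup.coe_mul, Subgroup.coe_inv] at h ⊢
      rw [h]; group

theorem pCore_map_le_sylow {N : Subgroup G} (T : Sylow p N) :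
    (pCore p N).map N.subtype ≤ (T : Subgroup N).map N.subtype :=
  Subgroup.map_mono (Lib.Cores.pCore_le_sylow T)

theorem conj_pCore_map {N : Subgroup G} {n : G} (hn : n ∈ N) :
    MulAut.conj n • (pCore p N).map N.subtype = (pCore p N).map N.subtype := by
  have key : ∀ n ∈ N, ∀ x ∈ (pCore p N).map N.subtype, n * x * n⁻¹ ∈ (pCore p N).map N.subtype := by
    rintro n hn _ ⟨y, hy, rfl⟩
    exact ⟨⟨n, hn⟩ * y * ⟨n, hn⟩⁻¹, (inferInstance : (pCore p N).Normal).conj_mem y hy _, rfl⟩
  ext x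
  rw [Subgroup.mem_pointwise_smul_iff_inv_smul_mem, ← map_inv, MulAut.smul_def,
    MulAut.conj_apply, inv_inv]
  constructor
  · intro h
    have := key n hn _ h
    have h2 : n * (n⁻¹ * x * n) * n⁻¹ = x := by group
    rwa [h2] at this
  · intro h
    have := key n⁻¹ (inv_mem hn) _ h
    rwa [inv_inv] at this

/-- `J(T) ≤ O_p(N)` for a Sylow `p`-subgroup `T` of `N`. -/
theorem J_map_le (hodd : Odd (Nat.card G)) (hCP : CP p G) {N : Subgroup G}
    (hN : Group.IsSolvable N) (hO : pCore p N ≠ ⊥) (T : Sylow p N) :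
    J ((T : Subgroup N).map N.subtype) ≤ (pCore p N).map N.subtype := by
  refine sSup_le fun B hB => ?_
  have hBN : B ≤ N := hB.1.trans (Subgroup.map_subtype_le _)
  have h1 : IsMaxAb (T : Subgroup N) (B.subgroupOf N) := by
    refine ⟨?_, ?_, ?_⟩
    · intro x hx
      obtain ⟨y, hy, hyx⟩ := hB.1 hx
      have : y = x := Subtype.ext hyx
      rwa [← this]
    · haveI := hB.2.1
      exact inferInstance
    · intro C hC hCc
      have h2 := hB.2.2 (C.map N.subtype) (Subgroup.map_mono hC) (isMulCommutative_map hCc _)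
      have h3 : Nat.card (C.map N.subtype) = Nat.card C :=
        Nat.card_congr (C.equivMapOfInjective _ N.subtype_injective).toEquiv.symm
      have h4 : Nat.card (B.subgroupOf N) = Nat.card B :=
        Nat.card_congr (Subgroup.subgroupOfEquivOfLe hBN).toEquiv
      rw [h4, ← h3]
      exact h2
  have hoddN : Odd (Nat.card N) := Odd.of_dvd_nat hodd (Subgroup.card_subgroup_dvd_card N)
  have h2 := isMaxAb_le hoddN hO (hCP.subgroup N) T h1
  intro x hx
  exact ⟨⟨x, hBN hx⟩, h2 hx, rfl⟩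

theorem smul_normalizer_fixed {D : Subgroup G} {n : G} (hn : n ∈ normalizer (D : Set G)) :
    MulAut.conj n • D = D := by
  ext x
  rw [Subgroup.mem_pointwise_smul_iff_inv_smul_mem, ← map_inv, MulAut.smul_def,
    MulAut.conj_apply, inv_inv]
  have := (Subgroup.mem_normalizer_iff.mp hn) (n⁻¹ * x * n)
  rw [this]
  have h2 : n * (n⁻¹ * x * n) * n⁻¹ = x := by group
  rw [h2]

theorem mem_normalizer_of_smul {D : Subgroup G} {n : G} (h : MulAut.conj n • D = D) :
    n ∈ normalizer (D : Set G) := by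
  rw [Subgroup.mem_normalizer_iff]
  intro x
  conv_rhs => rw [← h]
  rw [Subgroup.mem_pointwise_smul_iff_inv_smul_mem, ← map_inv, MulAut.smul_def,
    MulAut.conj_apply, inv_inv]
  have h2 : n⁻¹ * (n * x * n⁻¹) * n = x := by group
  rw [h2]

theorem le_pCore_map_of_normal {N D : Subgroup G} (hD : IsPGroup p D) (hDN : D ≤ N)
    (hN : N ≤ normalizer (D : Set G)) : D ≤ (pCore p N).map N.subtype := by
  have h1 : (D.subgroupOf N).Normal := by
    constructor
    intro x hx g
    rw [mem_subgroupOf] at hx ⊢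
    exact ((Subgroup.mem_normalizer_iff.mp (hN g.2)) x).mp hx
  have h2 : D.subgroupOf N ≤ pCore p N := Lib.Cores.le_pCore h1 hD.comap_subtype
  intro x hx
  exact ⟨⟨x, hDN hx⟩, h2 hx, rfl⟩

/-- Sylow subgroups with nontrivial intersection have the same `J`. -/
theorem J_eq_of_inf_ne_bot (hG : IsMinSimpleOddOrder G) (hCP : CP p G) :
    ∀ (k : ℕ) (P Q : Sylow p G), Nat.card G - Nat.card ((P : Subgroup G) ⊓ Q : Subgroup G) < k →
      (P : Subgroup G) ⊓ Q ≠ ⊥ → J (P : Subgroup G) = J (Q : Subgroup G) := by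
  intro k
  induction k with
  | zero => intro P Q h; omega
  | succ k ih =>
    intro P Q hk hPQ
    by_contra hne
    have hodd : Odd (Nat.card G) := hG.1
    set D : Subgroup G := (P : Subgroup G) ⊓ Q with hD
    have hDcard : 0 < Nat.card D := Nat.card_pos
    have IH : ∀ P' Q' : Sylow p G, D < (P' : Subgroup G) ⊓ Q' →
        J (P' : Subgroup G) = J (Q' : Subgroup G) := by
      intro P' Q' hlt
      have hc : Nat.card D < Nat.card ((P' : Subgroup G) ⊓ Q' : Subgroup G) := by
        have := Set.ncard_lt_ncard (SetLike.coe_ssubset_coe.mpr hlt) (Set.toFinite _)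
        rw [← Nat.card_coe_set_eq, ← Nat.card_coe_set_eq] at this
        exact this
      apply ih P' Q'
      · have : Nat.card ((P' : Subgroup G) ⊓ Q' : Subgroup G) ≤ Nat.card G :=
          Subgroup.card_le_card_group _
        omega
      · rintro h
        rw [h, Subgroup.card_bot] at hc
        omega
    have hPneQ : P ≠ Q := by rintro rfl; exact hne rfl
    have hDP : D ≤ (P : Subgroup G) := inf_le_left
    have hDQ : D ≤ (Q : Subgroup G) := inf_le_right
    have hDneP : D ≠ (P : Subgroup G) := by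
      intro h
      have h1 : (P : Subgroup G) ≤ Q := by rw [← h]; exact inf_le_right
      exact hPneQ (Sylow.ext (P.3 Q.2 h1).symm)
    have hDneQ : D ≠ (Q : Subgroup G) := by
      intro h
      have h1 : (Q : Subgroup G) ≤ P := by rw [← h]; exact inf_le_left
      exact hPneQ (Sylow.ext (Q.3 P.2 h1))
    have hDp : IsPGroup p D := P.isPGroup'.to_le hDP
    obtain ⟨N, hN⟩ : ∃ N : Subgroup G, N = normalizer (D : Set G) := ⟨_, rfl⟩
    have hDN : D ≤ N := hN ▸ le_normalizer
    have hDtop : D ≠ ⊤ := MinSimpleBasic.ne_top_of_isPGroup hG hDp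
    have hNtop : N ≠ ⊤ := hN ▸ MinSimpleBasic.normalizer_ne_top hG hPQ hDtop
    have hNsol : Group.IsSolvable N := MinSimpleBasic.isSolvable_of_ne_top hG hNtop
    have hDO : D ≤ (pCore p N).map N.subtype := le_pCore_map_of_normal hDp hDN hN.le
    have hO : pCore p N ≠ ⊥ := by
      intro h
      rw [h, Subgroup.map_bot] at hDO
      exact hPQ (le_bot_iff.mp hDO)
    have hltP : D < (P : Subgroup G) ⊓ N := hN ▸ lt_inf_normalizer P.isPGroup' hDP hDneP
    have hltQ : D < (Q : Subgroup G) ⊓ N := hN ▸ lt_inf_normalizer Q.isPGroup' hDQ hDneQ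
    obtain ⟨T, hT⟩ := exists_sylow_of_le (S := (P : Subgroup G) ⊓ N)
      (P.isPGroup'.to_le inf_le_left) inf_le_right
    obtain ⟨P₁, hP₁⟩ := (T.isPGroup'.map N.subtype).exists_le_sylow
    have hJ1 : J (P : Subgroup G) = J (P₁ : Subgroup G) :=
      IH P P₁ (hltP.trans_le (le_inf inf_le_left (hT.trans hP₁)))
    obtain ⟨R, hR⟩ := exists_sylow_of_le (S := (Q : Subgroup G) ⊓ N)
      (Q.isPGroup'.to_le inf_le_left) inf_le_right
    obtain ⟨Q₁, hQ₁⟩ := (R.isPGroup'.map N.subtype).exists_le_sylow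
    have hJ2 : J (Q : Subgroup G) = J (Q₁ : Subgroup G) :=
      IH Q Q₁ (hltQ.trans_le (le_inf inf_le_left (hR.trans hQ₁)))
    obtain ⟨n, hn⟩ := MulAction.exists_smul_eq N T R
    have hR' : (R : Subgroup N).map N.subtype =
        MulAut.conj (n : G) • ((T : Subgroup N).map N.subtype) := by
      rw [← hn, map_smul_sylow]
    have hP₁n : (R : Subgroup N).map N.subtype ≤ (((n : G) • P₁ : Sylow p G) : Subgroup G) := by
      rw [hR', Sylow.coe_subgroup_smul]
      exact pointwise_smul_le_pointwise_smul_iff.mpr hP₁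
    have hJ3 : J (Q₁ : Subgroup G) = J (((n : G) • P₁ : Sylow p G) : Subgroup G) :=
      IH Q₁ ((n : G) • P₁) (hltQ.trans_le (le_inf (hR.trans hQ₁) (hR.trans hP₁n)))
    rw [Sylow.coe_subgroup_smul, J_conj] at hJ3
    have hJQ : J (Q : Subgroup G) = MulAut.conj (n : G) • J (P : Subgroup G) := by
      rw [hJ2, hJ3, hJ1]
    have hnN : (n : G) ∈ N := n.2
    have hnD : MulAut.conj (n : G) • D = D := smul_normalizer_fixed (hN ▸ hnN)
    have key : ∀ S : Sylow p G, J (S : Subgroup G) = J (P : Subgroup G) →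
        D ≤ (S : Subgroup G) →
        ((S : Subgroup G) ⊓ (MulAut.conj (n : G) • (S : Subgroup G)) : Subgroup G) = D := by
      intro S hS hDS
      by_contra hne2
      have hle : D ≤ (S : Subgroup G) ⊓ MulAut.conj (n : G) • (S : Subgroup G) := by
        refine le_inf hDS ?_
        rw [← hnD]
        exact pointwise_smul_le_pointwise_smul_iff.mpr hDS
      have := IH S ((n : G) • S) (by
        rw [Sylow.coe_subgroup_smul]
        exact lt_of_le_of_ne hle (Ne.symm hne2))
      rw [Sylow.coe_subgroup_smul, J_conj, hS, ← hJQ] at this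
      exact hne this
    have hDT : D ≤ (T : Subgroup N).map N.subtype := hltP.le.trans hT
    have hO1 : (pCore p N).map N.subtype ≤ D := by
      rw [← key P₁ hJ1.symm (hDT.trans hP₁)]
      refine le_inf ((pCore_map_le_sylow T).trans hP₁) ?_
      rw [← conj_pCore_map hnN]
      exact pointwise_smul_le_pointwise_smul_iff.mpr ((pCore_map_le_sylow T).trans hP₁)
    have hJT : J ((T : Subgroup N).map N.subtype) = J D :=
      J_eq_of_le ((J_map_le hodd hCP hNsol hO T).trans hO1) hDT
    -- the normalizer of `J(D)`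
    obtain ⟨N₁, hN₁⟩ : ∃ N₁ : Subgroup G, N₁ = normalizer (J D : Set G) := ⟨_, rfl⟩
    have hNN₁ : N ≤ N₁ := by
      intro g hg
      rw [hN₁]
      apply mem_normalizer_of_smul
      rw [← J_conj, smul_normalizer_fixed (hN ▸ hg)]
    have hJD : J D ≠ ⊥ := J_ne_bot hPQ
    have hJDp : IsPGroup p (J D) := hDp.to_le (J_le D)
    have hJDtop : J D ≠ ⊤ := MinSimpleBasic.ne_top_of_isPGroup hG hJDp
    have hN₁top : N₁ ≠ ⊤ := hN₁ ▸ MinSimpleBasic.normalizer_ne_top hG hJD hJDtop
    have hN₁sol : Group.IsSolvable N₁ := MinSimpleBasic.isSolvable_of_ne_top hG hN₁top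
    have hJO₁ : J D ≤ (pCore p N₁).map N₁.subtype :=
      le_pCore_map_of_normal hJDp (hN₁ ▸ le_normalizer) hN₁.le
    have hO₁ : pCore p N₁ ≠ ⊥ := by
      intro h
      rw [h, Subgroup.map_bot] at hJO₁
      exact hJD (le_bot_iff.mp hJO₁)
    obtain ⟨T₁, hT₁⟩ := exists_sylow_of_le (S := (T : Subgroup N).map N.subtype) (N := N₁)
      (T.isPGroup'.map N.subtype) ((Subgroup.map_subtype_le _).trans hNN₁)
    obtain ⟨P₂, hP₂⟩ := (T₁.isPGroup'.map N₁.subtype).exists_le_sylow
    have hJ4 : J (P₂ : Subgroup G) = J (P₁ : Subgroup G) :=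
      IH P₂ P₁ ((hltP.trans_le hT).trans_le (le_inf (hT₁.trans hP₂) hP₁))
    have hk2 := key P₂ (hJ4.trans hJ1.symm) (hDT.trans (hT₁.trans hP₂))
    have hO₁D : (pCore p N₁).map N₁.subtype ≤ D := by
      rw [← hk2]
      refine le_inf ((pCore_map_le_sylow T₁).trans hP₂) ?_
      rw [← conj_pCore_map (hNN₁ hnN)]
      exact pointwise_smul_le_pointwise_smul_iff.mpr ((pCore_map_le_sylow T₁).trans hP₂)
    have hJT₁ : J ((T₁ : Subgroup N₁).map N₁.subtype) = J D :=
      J_eq_of_le ((J_map_le hodd hCP hN₁sol hO₁ T₁).trans hO₁D) (hDT.trans hT₁)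
    have hT₁P₂ : (T₁ : Subgroup N₁).map N₁.subtype = (P₂ : Subgroup G) := by
      by_contra hne3
      have hlt := lt_inf_normalizer P₂.isPGroup' hP₂ hne3
      have h1 : normalizer (((T₁ : Subgroup N₁).map N₁.subtype : Subgroup G) : Set G) ≤ N₁ := by
        intro g hg
        rw [hN₁]
        apply mem_normalizer_of_smul
        rw [← hJT₁, ← J_conj, smul_normalizer_fixed hg]
      obtain ⟨x, ⟨hxP, hxN⟩, hxT⟩ := SetLike.exists_of_lt hlt
      have h2 : IsPGroup p (((P₂ : Subgroup G) ⊓ N₁).subgroupOf N₁) :=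
        (P₂.isPGroup'.to_le inf_le_left).comap_subtype
      have h3 : (T₁ : Subgroup N₁) ≤ ((P₂ : Subgroup G) ⊓ N₁).subgroupOf N₁ := by
        intro y hy
        exact ⟨hP₂ ⟨y, hy, rfl⟩, y.2⟩
      have h4 := T₁.3 h2 h3
      apply hxT
      have hxN₁ : x ∈ N₁ := h1 hxN
      have h5 : (⟨x, hxN₁⟩ : N₁) ∈ ((P₂ : Subgroup G) ⊓ N₁).subgroupOf N₁ := ⟨hxP, hxN₁⟩
      rw [h4] at h5
      exact ⟨⟨x, hxN₁⟩, h5, rfl⟩
    have hJP₂ : J (P₂ : Subgroup G) = J D := by rw [← hT₁P₂, hJT₁]
    apply hne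
    rw [hJQ, hJ1, ← hJ4, hJP₂, ← J_conj, hnD]

/-- The relation between the two forms of conjugation. -/
theorem map_conj_eq (g : G) (H : Subgroup G) :
    H.map (MulAut.conj g).toMonoidHom = MulAut.conj g • H := rfl

/-- In a CN-group either centralizers of non-identity `p`-elements are `p`-groups, or
Sylow `p`-subgroups are TI-subgroups. -/
theorem cp_or_ti (hCN : IsCNGroup G) (p : ℕ) [Fact p.Prime] : CP p G ∨
    ∀ (P : Sylow p G) (g : G), MulAut.conj g • (P : Subgroup G) ≠ P →
      (P : Subgroup G) ⊓ MulAut.conj g • (P : Subgroup G) = ⊥ := by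
  by_cases hCP : CP p G
  · exact Or.inl hCP
  right
  have hp : p.Prime := Fact.out
  rw [CP_iff] at hCP
  push Not at hCP
  obtain ⟨x, y, hx1, ⟨k, hk⟩, hxy, hy⟩ := hCP
  -- a prime `q ≠ p` dividing the order of `y`
  obtain ⟨q, hq, hqp, hqy⟩ : ∃ q, q.Prime ∧ q ≠ p ∧ q ∣ orderOf y := by
    by_contra hcon
    push Not at hcon
    exact hy _ (Nat.eq_prime_pow_of_unique_prime_dvd (orderOf_pos y).ne'
      (fun {d} hd hdn => by_contra fun h => hcon d hd h hdn))
  obtain ⟨y', hy'o, hxy'⟩ : ∃ y' : G, orderOf y' = q ∧ Commute x y' :=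
    ⟨y ^ (orderOf y / q), orderOf_pow_orderOf_div (orderOf_pos y).ne' hqy, hxy.pow_right _⟩
  obtain ⟨P, hP⟩ := (CNNil.isPGroup_zpowers hk).exists_le_sylow
  have hxP : x ∈ (P : Subgroup G) := hP (mem_zpowers x)
  haveI : Nontrivial P := ⟨⟨⟨x, hxP⟩, 1, fun h => hx1 (congrArg Subtype.val h)⟩⟩
  haveI : Nontrivial (center P) := P.isPGroup'.center_nontrivial
  obtain ⟨z', hz'⟩ := exists_ne (1 : center P)
  obtain ⟨z, hz⟩ : ∃ z : G, z = z'.1.1 := ⟨_, rfl⟩
  have hzP : z ∈ (P : Subgroup G) := hz ▸ z'.1.2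
  have hz1 : z ≠ 1 := by
    intro h
    rw [hz] at h
    exact hz' (Subtype.ext (Subtype.ext h))
  have hzc : ∀ w ∈ (P : Subgroup G), Commute w z := by
    intro w hw
    rw [hz]
    exact congrArg Subtype.val (mem_center_iff.mp z'.2 ⟨w, hw⟩)
  obtain ⟨j, hj⟩ : ∃ j, orderOf z = p ^ j := by
    obtain ⟨j, hj⟩ := IsPGroup.iff_orderOf.mp P.isPGroup' ⟨z, hzP⟩
    exact ⟨j, by rw [← hj]; exact (Subgroup.orderOf_coe (⟨z, hzP⟩ : (P : Subgroup G)))⟩
  have hzy' : Commute y' z := by
    refine CNNil.commute_of_ne_subgroup (hCN x hx1) hq hp hqp (j := 1) (by rw [hy'o, pow_one]) hj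
      (mem_centralizer_singleton_iff.mpr hxy'.symm.eq)
      (mem_centralizer_singleton_iff.mpr (hzc x hxP).symm.eq)
  -- a maximal nilpotent subgroup containing the centralizer of `z`
  obtain ⟨L, hLge, hL, hLmax⟩ : ∃ L : Subgroup G, centralizer ({z} : Set G) ≤ L ∧
      Group.IsNilpotent L ∧ ∀ K : Subgroup G, Group.IsNilpotent K → L ≤ K → K = L := by
    have hfin : ({L : Subgroup G | Group.IsNilpotent L}).Finite := Set.toFinite _
    obtain ⟨L, hle, hLm⟩ := hfin.exists_le_maximal (a := centralizer ({z} : Set G)) (hCN z hz1)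
    exact ⟨L, hle, hLm.1, fun K hK hLK => le_antisymm (hLm.2 hK hLK) hLK⟩
  have hPL : (P : Subgroup G) ≤ L := fun w hw =>
    hLge (mem_centralizer_singleton_iff.mpr (hzc w hw).eq)
  have hy'L : y' ∈ L := hLge (mem_centralizer_singleton_iff.mpr hzy'.eq)
  have hqL : q ∣ Nat.card L := by
    rw [← hy'o]; exact Subgroup.orderOf_dvd_natCard _ hy'L
  have hpL : p ∣ Nat.card L := by
    have h1 : p ∣ Nat.card (P : Subgroup G) := by
      rcases P.isPGroup'.card_eq_or_dvd with h | h
      · exact absurd h (Finite.one_lt_card).ne'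
      · exact h
    exact h1.trans (Subgroup.card_dvd_of_le hPL)
  have hnpp : ¬ IsPrimePow (Nat.card L) := by
    intro h
    rw [isPrimePow_nat_iff] at h
    obtain ⟨s, i, hs, -, hi⟩ := h
    rw [← hi] at hqL hpL
    have h1 := (Nat.prime_dvd_prime_iff_eq hq hs).mp (hq.dvd_of_dvd_pow hqL)
    have h2 := (Nat.prime_dvd_prime_iff_eq hp hs).mp (hp.dvd_of_dvd_pow hpL)
    exact hqp (h1.trans h2.symm)
  have hL1 : Nat.card L ≠ 1 := by
    intro h
    rw [h] at hpL
    exact hp.one_lt.ne' (Nat.dvd_one.mp hpL)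
  have hPTI : ∀ g : G, MulAut.conj g • (P : Subgroup G) ≠ P →
      (P : Subgroup G) ⊓ MulAut.conj g • (P : Subgroup G) = ⊥ := by
    intro g hg
    by_contra hne
    have hLg : L.map (MulAut.conj g).toMonoidHom = L := by
      by_contra hne2
      have h1 := CNMaxNilpotent.inf_conj_eq_bot hCN hL hLmax hnpp hL1 g hne2
      apply hne
      rw [eq_bot_iff, ← h1]
      exact inf_le_inf hPL (pointwise_smul_le_pointwise_smul_iff.mpr hPL)
    have hgPL : ((g • P : Sylow p G) : Subgroup G) ≤ L := by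
      rw [Sylow.coe_subgroup_smul]
      conv_rhs => rw [← hLg]
      exact pointwise_smul_le_pointwise_smul_iff.mpr hPL
    haveI := hL
    haveI : ((P.subtype hPL : Sylow p L) : Subgroup L).Normal := inferInstance
    haveI := Sylow.unique_of_normal (P.subtype hPL) inferInstance
    have h2 : P.subtype hPL = (g • P : Sylow p G).subtype hgPL := Subsingleton.elim _ _
    have h3 := Sylow.subtype_injective h2
    apply hg
    rw [← Sylow.coe_subgroup_smul, ← h3]
  intro P' g hg
  obtain ⟨h, rfl⟩ := MulAction.exists_smul_eq G P P'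
  rw [Sylow.coe_subgroup_smul] at hg ⊢
  have e1 : MulAut.conj g • MulAut.conj h • (P : Subgroup G) =
      MulAut.conj h • MulAut.conj (h⁻¹ * g * h) • (P : Subgroup G) := by
    rw [← mul_smul, ← mul_smul, ← map_mul, ← map_mul]
    congr 2; group
  rw [e1] at hg ⊢
  have h1 := hPTI (h⁻¹ * g * h) (fun h2 => hg (by rw [h2]))
  rw [← Subgroup.smul_inf, h1, Subgroup.smul_bot]

/-- **Sylow subgroups of a minimal simple CN-group of odd order are TI-subgroups.** -/
theorem sylow_inf_conj_eq_bot (hG : IsMinSimpleOddOrder G) (hCN : IsCNGroup G) (p : ℕ)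
    [Fact p.Prime] (P : Sylow p G) (g : G) (h : MulAut.conj g • (P : Subgroup G) ≠ P) :
    (P : Subgroup G) ⊓ MulAut.conj g • (P : Subgroup G) = ⊥ := by
  rcases cp_or_ti hCN p with hCP | hTI
  swap
  · exact hTI P g h
  by_contra hne
  have hP : (P : Subgroup G) ≠ ⊥ := by
    intro h0
    apply hne
    rw [h0, bot_inf_eq]
  have hJP : J (P : Subgroup G) ≠ ⊥ := J_ne_bot hP
  have hJPp : IsPGroup p (J (P : Subgroup G)) := P.isPGroup'.to_le (J_le _)
  obtain ⟨M, hM⟩ : ∃ M : Subgroup G, M = normalizer (J (P : Subgroup G) : Set G) := ⟨_, rfl⟩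
  have hMtop : M ≠ ⊤ := hM ▸ MinSimpleBasic.normalizer_ne_top hG hJP
    (MinSimpleBasic.ne_top_of_isPGroup hG hJPp)
  haveI hMsol : Group.IsSolvable M := MinSimpleBasic.isSolvable_of_ne_top hG hMtop
  have hfus : ∀ u : G, (P : Subgroup G) ⊓ MulAut.conj u • (P : Subgroup G) ≠ ⊥ → u ∈ M := by
    intro u hu
    rw [hM]
    apply mem_normalizer_of_smul
    rw [← J_conj]
    have := J_eq_of_inf_ne_bot hG hCP (Nat.card G + 1) P (u • P)
      (by omega) (by rw [Sylow.coe_subgroup_smul]; exact hu)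
    rw [Sylow.coe_subgroup_smul] at this
    exact this.symm
  have hPM : (P : Subgroup G) ≤ M := by
    intro x hx
    rw [hM]
    apply mem_normalizer_of_smul
    rw [← J_conj, Subgroup.conj_smul_eq_self_of_mem hx]
  have hfoc : (P : Subgroup G).focalSubgroup ≤ ⁅M, M⁆ := by
    rw [Subgroup.focalSubgroup_def, closure_le]
    rintro c ⟨hc, x, hx, u, rfl⟩
    by_cases hx1 : x = 1
    · rw [hx1, commutatorElement_one_left]
      exact one_mem _
    · have hu : u ∈ M := by
        apply hfus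
        intro hbot
        have h1 : u * x⁻¹ * u⁻¹ ∈ (P : Subgroup G) ⊓ MulAut.conj u • (P : Subgroup G) := by
          refine Subgroup.mem_inf.mpr ⟨?_, ?_⟩
          · have h2 : x⁻¹ * ⁅x, u⁆ ∈ (P : Subgroup G) := mul_mem (inv_mem hx) hc
            have h3 : x⁻¹ * ⁅x, u⁆ = u * x⁻¹ * u⁻¹ := by
              rw [commutatorElement_def]; group
            rwa [h3] at h2
          · rw [Subgroup.mem_pointwise_smul_iff_inv_smul_mem, ← map_inv, MulAut.smul_def,
              MulAut.conj_apply, inv_inv]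
            have h3 : u⁻¹ * (u * x⁻¹ * u⁻¹) * u = x⁻¹ := by group
            rw [h3]; exact inv_mem hx
        rw [hbot, Subgroup.mem_bot] at h1
        apply hx1
        have h4 : x = (u⁻¹ * (u * x⁻¹ * u⁻¹) * u)⁻¹ := by group
        rw [h4, h1]; group
      exact commutator_mem_commutator (hPM hx) hu
  have h1 := Subgroup.commutator_inf_eq_focalSubgroup P
  rw [MinSimpleBasic.commutator_eq_top hG, top_inf_eq] at h1
  have h2 : (P : Subgroup G) ≤ ⁅M, M⁆ := by rw [h1]; exact hfoc
  have hJO : J (P : Subgroup G) ≤ (pCore p M).map M.subtype :=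
    le_pCore_map_of_normal hJPp (hM ▸ le_normalizer) hM.le
  have hO : pCore p M ≠ ⊥ := by
    intro h0
    rw [h0, Subgroup.map_bot] at hJO
    exact hJP (le_bot_iff.mp hJO)
  have h3 : ((P.subtype hPM : Sylow p M) : Subgroup M) ≤ commutator M := by
    intro x hx
    have hxP : (x : G) ∈ (P : Subgroup G) := hx
    have h4 := h2 hxP
    rw [← Subgroup.map_subtype_commutator] at h4
    obtain ⟨y, hy, hyx⟩ := h4
    have : y = x := Subtype.ext hyx
    rwa [← this]
  have h4 := sylow_le_pCore_of_le_commutator hO (hCP.subgroup M) (P.subtype hPM) h3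
  have h5 : (P : Subgroup G) ≤ (pCore p M).map M.subtype := by
    intro x hx
    exact ⟨⟨x, hPM hx⟩, h4 hx, rfl⟩
  have h6 : (pCore p M).map M.subtype = (P : Subgroup G) :=
    P.3 ((Lib.Cores.pCore_isPGroup p).map _) h5
  apply h
  rw [← h6]
  exact conj_pCore_map (hfus g hne)

end Cfsg.Agent.OddOrderLocal.CNSylowTI
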