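import Mathlib
import Cfsg.Prelude.Def_OddOrderLocal

/-!
Automorphisms of a `p`-group stabilizing a characteristic chain with factors of order at most `p`
(Bender-Glauberman, proof of Theorem 5.5).
-/

set_option autoImplicit false

namespace Cfsg.Agent.OddOrderLocal.CharFactor

open Subgroup
open scoped commutatorElement

variable {R : Type*} [Group R]

/-- the index of `[K, R]` in the normal subgroup `K` is at most the number of fixed points on `K` of
any element -/
theorem relIndex_commutator_le [Finite R] (K : Subgroup R) [K.Normal] (x : R) :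
    (⁅K, (⊤ : Subgroup R)⁆).relIndex K ≤ Nat.card ↥(K ⊓ centralizer ({x} : Set R)) := by
  have hle : ⁅K, (⊤ : Subgroup R)⁆ ≤ K := commutator_le_left K ⊤
  -- the map `k ↦ [k, x]` on cosets of the centralizer
  have hmem : ∀ k : K, ⁅(k : R), x⁆ ∈ ⁅K, (⊤ : Subgroup R)⁆ := fun k =>
    commutator_mem_commutator k.2 (mem_top x)
  let f : (K ⧸ (centralizer ({x} : Set R)).subgroupOf K) → ↥⁅K, (⊤ : Subgroup R)⁆ :=
    Quotient.lift (fun k : K => (⟨⁅(k : R), x⁆, hmem k⟩ : ↥⁅K, (⊤ : Subgroup R)⁆)) (by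
      intro a b hab
      have h1 : a⁻¹ * b ∈ (centralizer ({x} : Set R)).subgroupOf K := QuotientGroup.leftRel_apply.mp hab
      rw [mem_subgroupOf, mem_centralizer_singleton_iff] at h1
      ext
      simp only [Subgroup.coe_mul, Subgroup.coe_inv] at h1
      simp only [commutatorElement_def]
      have : (a : R) * x * (a : R)⁻¹ = (b : R) * x * (b : R)⁻¹ := by
        have h2 : (a : R)⁻¹ * b * x * ((a : R)⁻¹ * b)⁻¹ = x := by
          rw [h1]; group
        calc (a : R) * x * (a : R)⁻¹ = a * ((a : R)⁻¹ * b * x * ((a : R)⁻¹ * b)⁻¹) * (a : R)⁻¹ := by rw [h2]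
          _ = _ := by group
      rw [this])
  have hf : Function.Injective f := by
    intro u v
    induction u using Quotient.inductionOn with
    | _ a =>
    induction v using Quotient.inductionOn with
    | _ b =>
    intro h
    apply Quotient.sound
    apply QuotientGroup.leftRel_apply.mpr
    rw [mem_subgroupOf, mem_centralizer_singleton_iff]
    have h1 : ⁅(a : R), x⁆ = ⁅(b : R), x⁆ := congrArg Subtype.val h
    simp only [commutatorElement_def] at h1
    have h2 : (a : R) * x * (a : R)⁻¹ = (b : R) * x * (b : R)⁻¹ := mul_right_cancel h1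
    simp only [Subgroup.coe_mul, Subgroup.coe_inv]
    calc (a : R)⁻¹ * b * x = (a : R)⁻¹ * ((b : R) * x * (b : R)⁻¹) * b := by group
      _ = (a : R)⁻¹ * ((a : R) * x * (a : R)⁻¹) * b := by rw [h2]
      _ = x * ((a : R)⁻¹ * b) := by group
  have h1 : ((centralizer ({x} : Set R)).subgroupOf K).index ≤ Nat.card ↥⁅K, (⊤ : Subgroup R)⁆ :=
    Nat.card_le_card_of_injective f hf
  have h2 := Subgroup.card_mul_index ((centralizer ({x} : Set R)).subgroupOf K)
  have h3 := Subgroup.card_mul_index ((⁅K, (⊤ : Subgroup R)⁆).subgroupOf K)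
  have e1 : Nat.card ((⁅K, (⊤ : Subgroup R)⁆).subgroupOf K) = Nat.card ↥⁅K, (⊤ : Subgroup R)⁆ :=
    Nat.card_congr (Subgroup.subgroupOfEquivOfLe hle).toEquiv
  have e2 : Nat.card ((centralizer ({x} : Set R)).subgroupOf K) =
      Nat.card ↥(K ⊓ centralizer ({x} : Set R)) := by
    rw [← Subgroup.inf_subgroupOf_left]
    exact Nat.card_congr (Subgroup.subgroupOfEquivOfLe inf_le_left).toEquiv
  rw [e1] at h3
  rw [e2] at h2
  have hpos : 0 < Nat.card ↥⁅K, (⊤ : Subgroup R)⁆ := Nat.card_pos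
  refine Nat.le_of_mul_le_mul_left ?_ hpos
  change _ * ((⁅K, (⊤ : Subgroup R)⁆).subgroupOf K).index ≤ _
  rw [h3, ← h2, mul_comm]
  exact Nat.mul_le_mul_right _ h1

/-- an automorphism acts as a power map on a factor `C / N` of order dividing `p` -/
theorem exists_power_action [Finite R] {p : ℕ} [Fact p.Prime] (N C : Subgroup R) [N.Normal]
    (hidx : N.relIndex C ∣ p) (a : MulAut R) (haN : ∀ x ∈ N, a x ∈ N) (haC : ∀ x ∈ C, a x ∈ C) :
    ∃ k : ℤ, ∀ y ∈ C, (QuotientGroup.mk' N) (a y) = (QuotientGroup.mk' N y) ^ k := by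
  set q := QuotientGroup.mk' N with hq
  have hcard : Nat.card (C.map q) ∣ p := by
    have : Nat.card (C.map q) = N.relIndex C := by
      rw [← Subgroup.relIndex_ker, hq, QuotientGroup.ker_mk']
    rw [this]; exact hidx
  have hcyc : IsCyclic (C.map q) := by
    rcases (Nat.dvd_prime (Fact.out : p.Prime)).mp hcard with h | h
    · have := (Nat.card_eq_one_iff_unique.mp h).1
      exact isCyclic_of_subsingleton
    · exact isCyclic_of_prime_card h
  obtain ⟨⟨_, g, hg, rfl⟩, hgen⟩ := hcyc.exists_generator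
  have hgen' : ∀ y ∈ C, ∃ m : ℤ, q y = q g ^ m := by
    intro y hy
    obtain ⟨m, hm⟩ := mem_zpowers_iff.mp (hgen ⟨q y, y, hy, rfl⟩)
    exact ⟨m, (congrArg Subtype.val hm).symm⟩
  obtain ⟨k, hk⟩ := hgen' (a g) (haC g hg)
  refine ⟨k, fun y hy => ?_⟩
  obtain ⟨m, hm⟩ := hgen' y hy
  have h1 : (g ^ m)⁻¹ * y ∈ N := by
    rw [← QuotientGroup.eq_one_iff]
    change q ((g ^ m)⁻¹ * y) = 1
    rw [map_mul, map_inv, map_zpow, hm, inv_mul_cancel]
  have h2 : y = g ^ m * ((g ^ m)⁻¹ * y) := by group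
  have h3 : q (a ((g ^ m)⁻¹ * y)) = 1 := by
    rw [hq]
    exact (QuotientGroup.eq_one_iff _).mpr (haN _ h1)
  have h4 : q (a y) = q (a g) ^ m := by
    conv_lhs => rw [h2]
    rw [map_mul, map_mul, h3, mul_one, map_zpow, map_zpow]
  rw [h4, hk, hm, ← zpow_mul, ← zpow_mul, mul_comm]

/-- commutators of automorphisms act trivially on a characteristic factor of order dividing `p` -/
theorem commutator_trivial_action [Finite R] {p : ℕ} [Fact p.Prime] (N C : Subgroup R)
    [hN : N.Characteristic] [hC : C.Characteristic] (hidx : N.relIndex C ∣ p) (a b : MulAut R)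
    (y : R) (hy : y ∈ C) : y⁻¹ * ⁅a, b⁆ y ∈ N := by
  have hNm : ∀ c : MulAut R, ∀ x ∈ N, c x ∈ N := fun c x hx => by
    have := (Subgroup.characteristic_iff_map_eq.mp hN) c
    rw [← this]; exact ⟨x, hx, rfl⟩
  have hCm : ∀ c : MulAut R, ∀ x ∈ C, c x ∈ C := fun c x hx => by
    have := (Subgroup.characteristic_iff_map_eq.mp hC) c
    rw [← this]; exact ⟨x, hx, rfl⟩
  obtain ⟨k, hk⟩ := exists_power_action N C hidx a (hNm a) (hCm a)
  obtain ⟨l, hl⟩ := exists_power_action N C hidx b (hNm b) (hCm b)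
  set z := a⁻¹ (b⁻¹ y) with hz
  have hzC : z ∈ C := hCm _ _ (hCm _ _ hy)
  have hy' : y = b (a z) := by
    rw [hz, MulAut.apply_inv_self, MulAut.apply_inv_self]
  have hc : ⁅a, b⁆ y = a (b z) := by
    rw [hz, commutatorElement_def]; rfl
  have key : QuotientGroup.mk' N (a (b z)) = QuotientGroup.mk' N (b (a z)) := by
    rw [hk _ (hCm b z hzC), hl _ (hCm a z hzC), hl _ hzC, hk _ hzC, ← zpow_mul, ← zpow_mul, mul_comm]
  rw [hc, hy', ← QuotientGroup.eq_one_iff]
  change QuotientGroup.mk' N _ = 1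
  rw [map_mul, key, map_inv, inv_mul_cancel]

/-- `(p-1)`-st powers of automorphisms act trivially on a characteristic factor of order dividing `p` -/
theorem pow_trivial_action [Finite R] {p : ℕ} [Fact p.Prime] (N C : Subgroup R)
    [hN : N.Characteristic] [hC : C.Characteristic] (hidx : N.relIndex C ∣ p) (a : MulAut R)
    (y : R) (hy : y ∈ C) : y⁻¹ * (a ^ (p - 1)) y ∈ N := by
  have hNm : ∀ c : MulAut R, ∀ x ∈ N, c x ∈ N := fun c x hx => by
    have := (Subgroup.characteristic_iff_map_eq.mp hN) c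
    rw [← this]; exact ⟨x, hx, rfl⟩
  have hCm : ∀ c : MulAut R, ∀ x ∈ C, c x ∈ C := fun c x hx => by
    have := (Subgroup.characteristic_iff_map_eq.mp hC) c
    rw [← this]; exact ⟨x, hx, rfl⟩
  obtain ⟨k, hk⟩ := exists_power_action N C hidx a (hNm a) (hCm a)
  have hpow : ∀ n : ℕ, QuotientGroup.mk' N ((a ^ n) y) = (QuotientGroup.mk' N y) ^ (k ^ n) := by
    intro n
    induction n with
    | zero => simp
    | succ n ih =>
      have h1 : (a ^ (n + 1)) y = a ((a ^ n) y) := by
        rw [pow_succ']; rfl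
      rw [h1, hk _ (hCm _ _ hy), ih, ← zpow_mul, ← pow_succ]
  have hyp : (QuotientGroup.mk' N y) ^ p = 1 := by
    have h1 : Nat.card (C.map (QuotientGroup.mk' N)) ∣ p := by
      have : Nat.card (C.map (QuotientGroup.mk' N)) = N.relIndex C := by
        rw [← Subgroup.relIndex_ker, QuotientGroup.ker_mk']
      rw [this]; exact hidx
    have h2 : (⟨QuotientGroup.mk' N y, y, hy, rfl⟩ : C.map (QuotientGroup.mk' N)) ^ p = 1 := by
      obtain ⟨c, hc⟩ := h1
      rw [hc, pow_mul, pow_card_eq_one', one_pow]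
    exact congrArg Subtype.val h2
  rw [← QuotientGroup.eq_one_iff]
  change QuotientGroup.mk' N _ = 1
  rw [map_mul, map_inv, inv_mul_eq_one, hpow]
  by_cases hpk : (p : ℤ) ∣ k
  · -- then `C ≤ N`
    have hCN : ∀ x ∈ C, QuotientGroup.mk' N x = 1 := by
      intro x hx
      have hx' : a⁻¹ x ∈ C := hCm _ _ hx
      have h1 := hk _ hx'
      rw [MulAut.apply_inv_self] at h1
      rw [h1]
      have hxp : (QuotientGroup.mk' N (a⁻¹ x)) ^ p = 1 := by
        have h1 : Nat.card (C.map (QuotientGroup.mk' N)) ∣ p := by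
          have : Nat.card (C.map (QuotientGroup.mk' N)) = N.relIndex C := by
            rw [← Subgroup.relIndex_ker, QuotientGroup.ker_mk']
          rw [this]; exact hidx
        have h2 : (⟨QuotientGroup.mk' N (a⁻¹ x), _, hx', rfl⟩ : C.map (QuotientGroup.mk' N)) ^ p = 1 := by
          obtain ⟨c, hc⟩ := h1
          rw [hc, pow_mul, pow_card_eq_one', one_pow]
        exact congrArg Subtype.val h2
      obtain ⟨c, rfl⟩ := hpk
      rw [zpow_mul, zpow_natCast, hxp, one_zpow]
    rw [hCN y hy, one_zpow]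
  · have h1 : k ^ (p - 1) ≡ 1 [ZMOD p] :=
      Int.ModEq.pow_card_sub_one_eq_one (Fact.out : p.Prime)
        ((Int.isCoprime_iff_gcd_eq_one.mpr (by
          have := (Nat.Prime.coprime_iff_not_dvd (Fact.out : p.Prime) (n := k.natAbs)).mpr (by
            rwa [← Int.natCast_dvd])
          rw [Int.gcd_eq_natAbs, Int.natAbs_natCast, Nat.gcd_comm]
          exact this)))
    obtain ⟨c, hc⟩ := h1.symm.dvd
    have : k ^ (p - 1) = 1 + p * c := by linarith
    rw [this, zpow_add, zpow_one, zpow_mul, zpow_natCast, hyp, one_zpow, mul_one]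

end Cfsg.Agent.OddOrderLocal.CharFactor
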