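import Mathlib
import Cfsg.Prelude.Def_Local
import Cfsg.Agent.Lib.Cores
import Cfsg.Agent.Lib.ThompsonPQ
import Cfsg.Agent.PLocal.PConstrained

/-!
# Invariant `p'`-subgroups of a `p`-constrained group, class two case

If `X` is `p`-constrained and the `p`-subgroup `A` contains every `p`-element of `C_X(A)` and satisfies
`[S, A] ≤ C_X(A)` for some Sylow `p`-subgroup `S` containing `A` (for instance because `S` has class at most two),
then every `A`-invariant `p'`-subgroup of `X` lies in `O_{p'}(X)`. No restriction on the prime `p`.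
-/

set_option autoImplicit false
open Cfsg

namespace Cfsg.Agent.OddOrderLocal.ConstrainedSignalizer

open Subgroup

/-- Core computation: `R` a self-centralizing normal `p`-subgroup of `Y`, `A` a `p`-subgroup normalized by `R` modulo
nothing (`[R, A] ≤ A`) and with `C_R(A) ≤ A`; then an `A`-invariant `p'`-subgroup is trivial. -/
theorem eq_bot {Y : Type*} [Group Y] [Finite Y] (p : ℕ) [Fact p.Prime]
    (R : Subgroup Y) (hRn : R.Normal) (hRp : IsPGroup p R)
    (hcent : centralizer (R : Set Y) ≤ R) (A Q : Subgroup Y) (hAp : IsPGroup p A)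
    (hQ : (Nat.card Q).Coprime p) (hAQ : A ≤ normalizer (Q : Set Y))
    (hRA' : ∀ r ∈ R, ∀ a ∈ A, r * a * r⁻¹ * a⁻¹ ∈ A)
    (hCR' : R ⊓ centralizer (A : Set Y) ≤ A) : Q = ⊥ := by
  have hRQ : R ⊓ Q = ⊥ := by
    obtain ⟨n, hn⟩ := IsPGroup.iff_card.mp hRp
    apply Disjoint.eq_bot
    apply Subgroup.disjoint_of_coprime_natCard
    rw [hn]
    exact Nat.Coprime.pow_left n hQ.symm
  have hRA : ∀ r ∈ R, ∀ a ∈ A, r * a * r⁻¹ * a⁻¹ ∈ R ⊓ A := by
    intro r hr a ha
    refine ⟨?_, hRA' r hr a ha⟩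
    have : r * a * r⁻¹ * a⁻¹ = r * (a * r⁻¹ * a⁻¹) := by group
    rw [this]
    exact R.mul_mem hr (hRn.conj_mem _ (R.inv_mem hr) _)
  have hCR : R ⊓ centralizer (A : Set Y) ≤ R ⊓ A := le_inf inf_le_left hCR'
  -- `R ⊓ A` centralizes `Q`
  have hDQ : ∀ d ∈ R ⊓ A, ∀ q ∈ Q, d * q = q * d := by
    intro d hd q hq
    have h1 : d * q * d⁻¹ * q⁻¹ ∈ R ⊓ Q := by
      refine ⟨?_, ?_⟩
      · have : d * q * d⁻¹ * q⁻¹ = d * (q * d⁻¹ * q⁻¹) := by group
        rw [this]
        exact R.mul_mem hd.1 (hRn.conj_mem _ (R.inv_mem hd.1) q)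
      · exact Q.mul_mem (Subgroup.le_normalizer_iff.mp hAQ d hd.2 q hq) (Q.inv_mem hq)
    rw [hRQ, Subgroup.mem_bot] at h1
    exact mul_inv_eq_iff_eq_mul.mp (mul_inv_eq_one.mp h1)
  -- `R ⊓ A` is normalized by `R` and `A`
  have hDR : ∀ r ∈ R, ∀ d ∈ R ⊓ A, r * d * r⁻¹ ∈ R ⊓ A := by
    intro r hr d hd
    have h1 := hRA r hr d hd.2
    have h2 : r * d * r⁻¹ = (r * d * r⁻¹ * d⁻¹) * d := by group
    rw [h2]
    exact (R ⊓ A).mul_mem h1 hd
  have hDA : ∀ a ∈ A, ∀ d ∈ R ⊓ A, a * d * a⁻¹ ∈ R ⊓ A := by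
    intro a ha d hd
    exact ⟨hRn.conj_mem _ hd.1 a, A.mul_mem (A.mul_mem ha hd.2) (A.inv_mem ha)⟩
  have hself : Q ≤ centralizer (R : Set Y) → Q = ⊥ := by
    intro h
    rw [eq_bot_iff, ← hRQ]
    exact le_inf (h.trans hcent) le_rfl
  -- `[Q, A] = 1`
  have hQA : ∀ q ∈ Q, ∀ a ∈ A, q * a = a * q := by
    intro q hq a ha
    obtain ⟨c, hc⟩ : ∃ c, c = q * a * q⁻¹ * a⁻¹ := ⟨_, rfl⟩
    have hcQ : c ∈ Q := by
      have h1 : c = q * (a * q⁻¹ * a⁻¹) := by rw [hc]; group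
      rw [h1]
      exact Q.mul_mem hq (Subgroup.le_normalizer_iff.mp hAQ a ha _ (Q.inv_mem hq))
    have hcR : ∀ r ∈ R, Commute r c⁻¹ := by
      apply Lib.ThompsonPQ.commute_of_commutator_commute (U := R) (x := c⁻¹)
      · obtain ⟨n, hn⟩ := IsPGroup.iff_card.mp hRp
        rw [hn, orderOf_inv]
        apply Nat.Coprime.pow_right
        refine Nat.Coprime.coprime_dvd_left ?_ hQ
        rw [← Subgroup.orderOf_mk c hcQ]
        exact orderOf_dvd_natCard _
      · rw [Subgroup.normalizer_eq_top]; trivial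
      · intro u hu
        -- `a⁻¹ u a = u d₁`
        obtain ⟨d1, hd1def⟩ : ∃ d, d = u⁻¹ * a⁻¹ * u * a := ⟨_, rfl⟩
        have hd1 : d1 ∈ R ⊓ A := by
          have := hRA u⁻¹ (R.inv_mem hu) a⁻¹ (A.inv_mem ha)
          rwa [inv_inv, inv_inv, ← hd1def] at this
        obtain ⟨u', hu'⟩ : ∃ u', u' = q⁻¹ * u * q := ⟨_, rfl⟩
        have hu'R : u' ∈ R := by
          have := hRn.conj_mem u hu q⁻¹
          rwa [inv_inv, ← hu'] at this
        obtain ⟨d2, hd2def⟩ : ∃ d, d = u'⁻¹ * a * u' * a⁻¹ := ⟨_, rfl⟩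
        have hd2 : d2 ∈ R ⊓ A := by
          have := hRA u'⁻¹ (R.inv_mem hu'R) a ha
          rwa [inv_inv, ← hd2def] at this
        obtain ⟨d3, hd3def⟩ : ∃ d, d = d2 * (a * d1 * a⁻¹) := ⟨_, rfl⟩
        have hd3 : d3 ∈ R ⊓ A := by
          rw [hd3def]
          exact (R ⊓ A).mul_mem hd2 (hDA a ha d1 hd1)
        have e1 : q⁻¹ * (u * d1) * q = u' * d1 := by
          have := hDQ d1 hd1 q hq
          calc q⁻¹ * (u * d1) * q = q⁻¹ * u * (d1 * q) := by group
            _ = q⁻¹ * u * (q * d1) := by rw [this]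
            _ = u' * d1 := by rw [hu']; group
        have e2 : q * (u' * d3) * q⁻¹ = u * d3 := by
          have h3 : d3 * q⁻¹ = q⁻¹ * d3 := hDQ d3 hd3 q⁻¹ (Q.inv_mem hq)
          calc q * (u' * d3) * q⁻¹ = q * u' * (d3 * q⁻¹) := by group
            _ = q * u' * (q⁻¹ * d3) := by rw [h3]
            _ = u * d3 := by rw [hu']; group
        have e3 : c * u * c⁻¹ = u * d3 := by
          have h5 : a⁻¹ * u * a = u * d1 := by rw [hd1def]; group
          have h6 : a * (u' * d1) * a⁻¹ = u' * d3 := by rw [hd3def, hd2def]; group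
          calc c * u * c⁻¹ = q * (a * (q⁻¹ * (a⁻¹ * u * a) * q) * a⁻¹) * q⁻¹ := by rw [hc]; group
            _ = q * (a * (q⁻¹ * (u * d1) * q) * a⁻¹) * q⁻¹ := by rw [h5]
            _ = q * (a * (u' * d1) * a⁻¹) * q⁻¹ := by rw [e1]
            _ = q * (u' * d3) * q⁻¹ := by rw [h6]
            _ = u * d3 := e2
        have e4 : (c⁻¹)⁻¹ * u * c⁻¹ * u⁻¹ = u * d3 * u⁻¹ := by
          rw [inv_inv, e3]
        rw [e4]
        have h7 : u * d3 * u⁻¹ ∈ R ⊓ A := hDR u hu d3 hd3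
        have h8 : Commute (u * d3 * u⁻¹) c := hDQ _ h7 c hcQ
        exact h8.inv_right
    have hc1 : c ∈ R ⊓ Q := by
      refine ⟨hcent ?_, hcQ⟩
      rw [Subgroup.mem_centralizer_iff]
      intro r hr
      exact ((Commute.inv_right_iff).mp (hcR r hr)).eq
    rw [hRQ, Subgroup.mem_bot, hc] at hc1
    exact mul_inv_eq_iff_eq_mul.mp (mul_inv_eq_one.mp hc1)
  apply hself
  refine Lib.ThompsonPQ.thompson_p_times_q p A Q R hAp hQ hRp ?_ ?_ ?_ ?_
  · intro a ha
    rw [Subgroup.mem_centralizer_iff]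
    intro q hq
    exact hQA q hq a ha
  · exact Subgroup.le_normalizer_of_normal
  · exact Subgroup.le_normalizer_of_normal
  · intro z hz
    rw [Subgroup.mem_centralizer_iff]
    intro q hq
    exact (hDQ z (hCR hz) q hq).symm

/-- `X` `p`-constrained, `A ≤ S ∈ Syl_p`, `[S, A]` centralizes `A`, `A` contains the `p`-elements of its centralizer:
then every `A`-invariant `p'`-subgroup lies in `O_{p'}(X)`. -/
theorem le_pPrimeCore {X : Type*} [Group X] [Finite X] (p : ℕ) [Fact p.Prime]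
    (hX : Cfsg.IsPConstrained p X) (A : Subgroup X) (S : Sylow p X) (hAS : A ≤ (S : Subgroup X))
    (hcl : ⁅(S : Subgroup X), A⁆ ≤ centralizer (A : Set X))
    (hfull : ∀ x ∈ centralizer (A : Set X), x ∈ (S : Subgroup X) → x ∈ A)
    (Q : Subgroup X) (hQ : ¬ p ∣ Nat.card ↥Q) (hAQ : A ≤ normalizer (Q : Set X)) :
    Q ≤ Cfsg.pPrimeCore p X := by
  have hpp : p.Prime := Fact.out
  have hcharP := PLocal.PConstrained.isPConstrained_iff.mp hX
  have hOn : (pPrimeCore p X).Normal := Lib.Cores.pPrimeCore_normal p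
  have hOc := PLocal.PConstrained.coprime_card_pPrimeCore p X
  have hπ : Function.Surjective (QuotientGroup.mk' (pPrimeCore p X)) := QuotientGroup.mk'_surjective _
  have hSO : (S : Subgroup X) ⊓ pPrimeCore p X = ⊥ :=
    PLocal.PConstrained.inf_eq_bot_of_isPGroup_of_coprime S.2 hOc
  have hRn : (pCore p (X ⧸ pPrimeCore p X)).Normal := Lib.Cores.pCore_normal p
  have hRp : IsPGroup p (pCore p (X ⧸ pPrimeCore p X)) := Lib.Cores.pCore_isPGroup p
  -- elements of `R` lift to `S`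
  have hlift : ∀ r ∈ pCore p (X ⧸ pPrimeCore p X), ∃ s ∈ (S : Subgroup X),
      QuotientGroup.mk' (pPrimeCore p X) s = r := by
    intro r hr
    have h1 : pCore p (X ⧸ pPrimeCore p X) ≤
        ((S.mapSurjective hπ : Sylow p (X ⧸ pPrimeCore p X)) : Subgroup (X ⧸ pPrimeCore p X)) :=
      Lib.Cores.pCore_le_sylow _
    rw [Sylow.coe_mapSurjective] at h1
    obtain ⟨s, hs, rfl⟩ := h1 hr
    exact ⟨s, hs, rfl⟩
  have hbot : Q.map (QuotientGroup.mk' (pPrimeCore p X)) = ⊥ := by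
    refine eq_bot p _ hRn hRp hcharP (A.map (QuotientGroup.mk' (pPrimeCore p X))) _
      ((S.2.to_le hAS).map _) ?_ ?_ ?_ ?_
    · refine Nat.Coprime.coprime_dvd_left (Subgroup.card_map_dvd Q _) ?_
      exact ((Nat.Prime.coprime_iff_not_dvd hpp).mpr hQ).symm
    · rw [Subgroup.le_normalizer_iff]
      rintro _ ⟨a, ha, rfl⟩ _ ⟨q, hq, rfl⟩
      refine ⟨a * q * a⁻¹, Subgroup.le_normalizer_iff.mp hAQ a ha q hq, ?_⟩
      simp only [map_mul, map_inv]
    · rintro r hr _ ⟨a, ha, rfl⟩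
      obtain ⟨s, hs, rfl⟩ := hlift r hr
      refine ⟨s * a * s⁻¹ * a⁻¹, ?_, by simp only [map_mul, map_inv]⟩
      apply hfull
      · exact hcl (Subgroup.commutator_mem_commutator hs ha)
      · exact mul_mem (mul_mem (mul_mem hs (hAS ha)) (inv_mem hs)) (inv_mem (hAS ha))
    · rintro z ⟨hzR, hzA⟩
      obtain ⟨s, hs, rfl⟩ := hlift z hzR
      refine ⟨s, hfull s ?_ hs, rfl⟩
      rw [Subgroup.mem_centralizer_iff]
      intro a ha
      have h1 : a * s * a⁻¹ * s⁻¹ ∈ (S : Subgroup X) ⊓ pPrimeCore p X := by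
        refine ⟨(S : Subgroup X).mul_mem ((S : Subgroup X).mul_mem ((S : Subgroup X).mul_mem (hAS ha) hs)
          ((S : Subgroup X).inv_mem (hAS ha))) ((S : Subgroup X).inv_mem hs), ?_⟩
        have h2 := Subgroup.mem_centralizer_iff.mp hzA (QuotientGroup.mk' (pPrimeCore p X) a) ⟨a, ha, rfl⟩
        have h3 : QuotientGroup.mk' (pPrimeCore p X) (a * s * a⁻¹ * s⁻¹) = 1 := by
          simp only [map_mul, map_inv]
          rw [h2]
          group
        exact (QuotientGroup.eq_one_iff _).mp h3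
      rw [hSO, Subgroup.mem_bot] at h1
      exact mul_inv_eq_iff_eq_mul.mp (mul_inv_eq_one.mp h1)
  intro q hq
  have h1 : QuotientGroup.mk' (pPrimeCore p X) q ∈ Q.map (QuotientGroup.mk' (pPrimeCore p X)) := ⟨q, hq, rfl⟩
  rw [hbot, Subgroup.mem_bot] at h1
  exact (QuotientGroup.eq_one_iff q).mp h1

end Cfsg.Agent.OddOrderLocal.ConstrainedSignalizer
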