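import Mathlib
import Cfsg.Prelude.Def_OddOrderLocal
import Cfsg.Agent.OddOrderLocal.Struct147
import Cfsg.Agent.OddOrderLocal.SigmaDecomp
import Cfsg.Agent.OddOrderLocal.TICount
import Cfsg.Agent.OddOrderLocal.RankOneCyclic
import Cfsg.Agent.S1365

set_option autoImplicit false

/-!
The counting clauses of B&G 14.7(e) and `κ(M) = τ₁(M)`.
-/

namespace Cfsg.Agent.OddOrderLocal.Count1434

open Cfsg Cfsg.Agent.OddOrderLocal Cfsg.Agent.OddOrderLocal.Struct147

universe u

variable {G : Type u} [Group G]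

/-- `K* = C_{M_σ}(K)`. -/
local notation "star(" M ", " K ")" => (sigmaCore M ⊓ Subgroup.centralizer (K : Set G))

/-- The number of elements of `Z = K K*` outside `K ∪ K*`. -/
theorem ncard_diff [Finite G] {M K : Subgroup G} (h : PPair M K) (hs : star(M, K) ≠ ⊥) :
    Set.ncard ((↑(K ⊔ star(M, K)) : Set G) \ ((K : Set G) ∪ ↑(star(M, K)))) =
      Nat.card K * Nat.card ↥star(M, K) - Nat.card K - Nat.card ↥star(M, K) + 1 := by
  have hsub : (K : Set G) ∪ ↑(star(M, K)) ⊆ (↑(K ⊔ star(M, K)) : Set G) := by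
    rintro x (hx | hx)
    · exact Subgroup.mem_sup_left hx
    · exact Subgroup.mem_sup_right hx
  have h1 : Set.ncard (↑(K ⊔ star(M, K)) : Set G) = Nat.card K * Nat.card ↥star(M, K) := by
    rw [← h.card_Z, ← Nat.card_coe_set_eq]; rfl
  have h2 : Set.ncard ((K : Set G) ∪ ↑(star(M, K))) + 1 =
      Nat.card K + Nat.card ↥star(M, K) := by
    have h3 := Set.ncard_union_add_ncard_inter (K : Set G) (↑(star(M, K)) : Set G)
      (Set.toFinite _) (Set.toFinite _)
    have h4 : (K : Set G) ∩ ↑(star(M, K)) = {1} := by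
      have h5 : ((K ⊓ star(M, K) : Subgroup G) : Set G) = ((⊥ : Subgroup G) : Set G) := by
        rw [h.inf_star]
      rw [Subgroup.coe_inf] at h5
      simpa using h5
    rw [h4, Set.ncard_singleton] at h3
    rw [h3]
    have h6 : Set.ncard (K : Set G) = Nat.card K := by rw [← Nat.card_coe_set_eq]; rfl
    have h7 : Set.ncard (↑(star(M, K)) : Set G) = Nat.card ↥star(M, K) := by
      rw [← Nat.card_coe_set_eq]; rfl
    rw [h6, h7]
  have h8 := Set.ncard_sdiff_add_ncard_of_subset hsub (Set.toFinite _)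
  have h9 : 1 < Nat.card K := Subgroup.one_lt_card_iff_ne_bot K |>.mpr h.ne
  have h10 : 1 < Nat.card ↥star(M, K) := Subgroup.one_lt_card_iff_ne_bot _ |>.mpr hs
  have h11 : Nat.card K + Nat.card ↥star(M, K) ≤ Nat.card K * Nat.card ↥star(M, K) := by
    nlinarith
  rw [h1] at h8
  have harith : ∀ x y n m P : ℕ, n + m = P → m + 1 = x + y → x + y ≤ P →
      n = P - x - y + 1 := by
    intro x y n m P h1 h2 h3
    omega
  exact harith _ _ _ _ _ h8 h2 h11

/-- `Z` normalizes `Ẑ`, elementwise. -/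
theorem conj_mem_diff [Finite G] {M K : Subgroup G} {z t : G}
    (hz : z ∈ K ⊔ star(M, K))
    (ht : t ∈ (↑(K ⊔ star(M, K)) : Set G) \ ((K : Set G) ∪ ↑(star(M, K)))) :
    z * t * z⁻¹ ∈ (↑(K ⊔ star(M, K)) : Set G) \ ((K : Set G) ∪ ↑(star(M, K))) := by
  obtain ⟨ht1, ht2⟩ := ht
  refine ⟨?_, ?_⟩
  · exact (K ⊔ star(M, K)).mul_mem ((K ⊔ star(M, K)).mul_mem hz ht1) ((K ⊔ star(M, K)).inv_mem hz)
  · rintro (h1 | h1)
    · apply ht2
      left
      have h2 := PPair.K_conj (M := M) ((K ⊔ star(M, K)).inv_mem hz) h1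
      have h3 : z⁻¹ * (z * t * z⁻¹) * z⁻¹⁻¹ = t := by group
      rwa [h3] at h2
    · apply ht2
      right
      have h2 := PPair.star_conj (M := M) (K := K) ((K ⊔ star(M, K)).inv_mem hz) h1
      have h3 : z⁻¹ * (z * t * z⁻¹) * z⁻¹⁻¹ = t := by group
      rwa [h3] at h2

/-- The first counting clause of S1434. -/
theorem card_mul_ncard [Finite G] (hG : IsMinSimpleOddOrder G) {M K : Subgroup G}
    (h : PPair M K) :
    Nat.card K * Nat.card ↥star(M, K) *
        Set.ncard {a : G | ∃ g : G, ∃ z ∈ ((↑(K ⊔ star(M, K)) : Set G) \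
          ((K : Set G) ∪ ↑(star(M, K)))), a = g * z * g⁻¹} =
      (Nat.card K * Nat.card ↥star(M, K) - Nat.card K - Nat.card ↥star(M, K) + 1) *
        Nat.card G := by
  rw [← h.card_Z, TICount.ncard_classSupport_of_TI (K ⊔ star(M, K))
    ((↑(K ⊔ star(M, K)) : Set G) \ ((K : Set G) ∪ ↑(star(M, K)))), ncard_diff h (h.star_ne_bot hG), h.card_Z]
  · intro z hz t ht
    exact conj_mem_diff hz ht
  · intro g t ht hgt
    refine h.mem_Z_of_TI hG ht.1 (fun h1 => ht.2 (Or.inl h1)) (fun h1 => ht.2 (Or.inr h1)) hgt.1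

/-- The second counting clause of S1434. -/
theorem card_lt_two_mul [Finite G] (hG : IsMinSimpleOddOrder G) {M K : Subgroup G}
    (h : PPair M K) :
    Nat.card G < 2 * Set.ncard {a : G | ∃ g : G, ∃ z ∈ ((↑(K ⊔ star(M, K)) : Set G) \
          ((K : Set G) ∪ ↑(star(M, K)))), a = g * z * g⁻¹} := by
  have h1 := card_mul_ncard hG h
  set k := Nat.card K with hk
  set s := Nat.card ↥star(M, K) with hs
  set n := Set.ncard {a : G | ∃ g : G, ∃ z ∈ ((↑(K ⊔ star(M, K)) : Set G) \
          ((K : Set G) ∪ ↑(star(M, K)))), a = g * z * g⁻¹} with hn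
  have hkodd : Odd k := MinSimpleBasic.odd_card_subgroup hG K
  have hsodd : Odd s := MinSimpleBasic.odd_card_subgroup hG _
  have hk1 : k ≠ 1 := fun h2 => h.ne (Subgroup.eq_bot_of_card_eq _ h2)
  have hs1 : s ≠ 1 := fun h2 => h.star_ne_bot hG (Subgroup.eq_bot_of_card_eq _ h2)
  have hcop : k.Coprime s := h.coprime
  have hg : 0 < Nat.card G := Nat.card_pos
  have hks : k ≠ s := by
    intro h2
    rw [← h2, Nat.coprime_self] at hcop
    exact hk1 hcop
  obtain ⟨a, ha⟩ := hkodd
  obtain ⟨b, hb⟩ := hsodd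
  have ha1 : 1 ≤ a := by omega
  have hb1 : 1 ≤ b := by omega
  have hab : a ≠ b := by omega
  have h3 : k * s - k - s + 1 = 4 * (a * b) := by
    rw [ha, hb]
    have : (2 * a + 1) * (2 * b + 1) = 4 * (a * b) + (2 * a + 1) + (2 * b + 1) - 1 := by
      have : (2 * a + 1) * (2 * b + 1) = 4 * (a * b) + 2 * a + 2 * b + 1 := by ring
      omega
    rw [this]
    have : 1 ≤ a * b := Nat.mul_pos ha1 hb1
    omega
  have h4 : k * s < 2 * (4 * (a * b)) := by
    rw [ha, hb]
    rcases Nat.lt_or_gt_of_ne hab with hlt | hlt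
    · obtain ⟨c, rfl⟩ := Nat.exists_eq_add_of_lt hlt
      obtain ⟨d, rfl⟩ := Nat.exists_eq_add_of_le ha1
      nlinarith [Nat.zero_le (c * d), Nat.zero_le (d * d), Nat.zero_le c, Nat.zero_le d]
    · obtain ⟨c, rfl⟩ := Nat.exists_eq_add_of_lt hlt
      obtain ⟨d, rfl⟩ := Nat.exists_eq_add_of_le hb1
      nlinarith [Nat.zero_le (c * d), Nat.zero_le (d * d), Nat.zero_le c, Nat.zero_le d]
  rw [h3] at h1
  have hkspos : 0 < k * s := Nat.mul_pos (by omega) (by omega)
  have h5 : k * s * Nat.card G < k * s * (2 * n) := by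
    calc k * s * Nat.card G < 2 * (4 * (a * b)) * Nat.card G := by
          exact Nat.mul_lt_mul_of_pos_right h4 hg
      _ = 2 * (k * s * n) := by rw [h1]; ring
      _ = k * s * (2 * n) := by ring
  exact Nat.lt_of_mul_lt_mul_left h5

/-- `κ(M) = τ₁(M)` when `K ≠ 1`. -/
theorem kappa_eq_tau1 [Finite G] (hG : IsMinSimpleOddOrder G) {M K U : Subgroup G}
    (hM : IsCoatom M) (hKU : IsSigmaDecomposition M K U) (hK1 : K ≠ ⊥) :
    kappa M = tau1 M := by
  have hder := (Cfsg.Agent.S1365.result hG M hM K U hKU hK1).1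
  have hcard := SigmaDecomp.card_eq hKU
  rw [← hder] at hcard
  ext p
  constructor
  · intro hp
    obtain ⟨hpp, hpM, hps, hcyc⟩ := hp
    refine ⟨hpp, hps, hpM, ?_, ?_⟩
    · intro hd
      rw [hder] at hd
      exact SigmaDecomp.not_mem_kappa_of_dvd hKU hpp hd ⟨hpp, hpM, hps, hcyc⟩
    · have : Fact p.Prime := ⟨hpp⟩
      intro A hA hAp
      have hAP : IsPGroup p A := fun a => ⟨1, by
        have := hAp a a.2
        apply Subtype.ext
        simpa using this⟩
      obtain ⟨P, hP⟩ := hAP.exists_le_sylow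
      have hc : IsCyclic P := (hcyc P).1
      have hAc : IsCyclic A :=
        isCyclic_of_injective (Subgroup.inclusion hP) (Subgroup.inclusion_injective hP)
      obtain ⟨g, hg⟩ := hAc.exists_generator
      have h1 : Nat.card A = orderOf g := (orderOf_eq_card_of_forall_mem_zpowers hg).symm
      rw [h1, pow_one]
      apply Nat.le_of_dvd hpp.pos
      apply orderOf_dvd_of_pow_eq_one
      apply Subtype.ext
      simpa using hAp g g.2
  · rintro ⟨hpp, hps, hpM, hpd, -⟩
    have hd : p ∣ Nat.card K := by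
      rw [hcard] at hpM
      rcases (Nat.Prime.dvd_mul hpp).mp hpM with h1 | h1
      · exact h1
      · exact absurd h1 hpd
    exact hKU.hall.2.1 p hpp hd

end Cfsg.Agent.OddOrderLocal.Count1434
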