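import Mathlib

set_option autoImplicit false

/-!
Decomposition of an element of finite order into its `π`-part and its `π'`-part, for a set of primes `π`.
-/

namespace Cfsg.Agent.OddOrderLocal.PiParts

/-- Splitting a positive natural number into a `π`-part and a `π'`-part. -/
theorem exists_nat_parts (π : Set ℕ) {n : ℕ} (hn : n ≠ 0) :
    ∃ a b : ℕ, n = a * b ∧ a.Coprime b ∧ (∀ p : ℕ, p.Prime → p ∣ a → p ∈ π) ∧
      ∀ p : ℕ, p.Prime → p ∣ b → p ∉ π := by
  classical
  set A := n.primeFactors.filter (· ∈ π) with hA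
  set B := n.primeFactors.filter (· ∉ π) with hB
  have key : ∀ (S : Finset ℕ), S ⊆ n.primeFactors → ∀ p : ℕ, p.Prime →
      p ∣ ∏ q ∈ S, q ^ n.factorization q → p ∈ S := by
    intro S hS p hp hd
    obtain ⟨q, hq, hpq⟩ := (Prime.dvd_finsetProd_iff hp.prime _).1 hd
    have h1 := hp.dvd_of_dvd_pow hpq
    have h2 : q.Prime := Nat.prime_of_mem_primeFactors (hS hq)
    rw [(Nat.prime_dvd_prime_iff_eq hp h2).1 h1]
    exact hq
  refine ⟨∏ q ∈ A, q ^ n.factorization q, ∏ q ∈ B, q ^ n.factorization q, ?_, ?_, ?_, ?_⟩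
  · rw [hA, hB, Finset.prod_filter_mul_prod_filter_not]
    exact (Nat.prod_factorization_pow_eq_self hn).symm
  · rw [Nat.coprime_iff_gcd_eq_one]
    by_contra hne
    obtain ⟨p, hp, hpd⟩ := Nat.exists_prime_and_dvd hne
    have h1 := key A (Finset.filter_subset _ _) p hp (hpd.trans (Nat.gcd_dvd_left _ _))
    have h2 := key B (Finset.filter_subset _ _) p hp (hpd.trans (Nat.gcd_dvd_right _ _))
    exact (Finset.mem_filter.1 h2).2 (Finset.mem_filter.1 h1).2
  · intro p hp hd
    exact (Finset.mem_filter.1 (key A (Finset.filter_subset _ _) p hp hd)).2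
  · intro p hp hd
    exact (Finset.mem_filter.1 (key B (Finset.filter_subset _ _) p hp hd)).2

/-- The `π`-part and the `π'`-part of an element of finite order; both are powers of the element. -/
theorem exists_parts {G : Type*} [Group G] [Finite G] (π : Set ℕ) (g : G) :
    ∃ a b : G, a ∈ Subgroup.zpowers g ∧ b ∈ Subgroup.zpowers g ∧ g = a * b ∧
      (∀ p : ℕ, p.Prime → p ∣ orderOf a → p ∈ π) ∧ ∀ p : ℕ, p.Prime → p ∣ orderOf b → p ∉ π := by
  obtain ⟨m, n, hmn, hcop, hm, hn⟩ := exists_nat_parts π (orderOf_pos g).ne'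
  obtain ⟨e, he1, he0⟩ := Nat.chineseRemainder hcop 1 0
  obtain ⟨f, hf0, hf1⟩ := Nat.chineseRemainder hcop 0 1
  refine ⟨g ^ e, g ^ f, Subgroup.npow_mem_zpowers g e, Subgroup.npow_mem_zpowers g f, ?_, ?_, ?_⟩
  · rw [← pow_add]
    have h1 : e + f ≡ 1 [MOD m * n] := by
      rw [← Nat.modEq_and_modEq_iff_modEq_mul hcop]
      exact ⟨by simpa using he1.add hf0, by simpa using he0.add hf1⟩
    rw [← hmn] at h1
    have h2 := (pow_eq_pow_iff_modEq (x := g)).2 h1
    rw [h2, pow_one]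
  · intro p hp hd
    refine hm p hp (hd.trans (orderOf_dvd_of_pow_eq_one ?_))
    rw [← pow_mul, ← orderOf_dvd_iff_pow_eq_one, hmn, mul_comm m n]
    exact Nat.mul_dvd_mul_right ((Nat.modEq_zero_iff_dvd).1 he0) m
  · intro p hp hd
    refine hn p hp (hd.trans (orderOf_dvd_of_pow_eq_one ?_))
    rw [← pow_mul, ← orderOf_dvd_iff_pow_eq_one, hmn]
    exact Nat.mul_dvd_mul_right ((Nat.modEq_zero_iff_dvd).1 hf0) n

end Cfsg.Agent.OddOrderLocal.PiParts
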