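import Mathlib
import Cfsg.Prelude.Def_OddOrderLocal
import Cfsg.Agent.OddOrderLocal.PiParts
import Cfsg.Agent.OddOrderLocal.SigmaElements
import Cfsg.Agent.OddOrderLocal.SupportR
import Cfsg.Agent.OddOrderLocal.Equivariance
import Cfsg.Agent.OddOrderLocal.MinSimple
import Cfsg.Agent.OddOrderLocal.HallPi
import Cfsg.Agent.S1350
import Cfsg.Agent.S1374
import Cfsg.Agent.S1375
import Cfsg.Agent.S1378
import Cfsg.Agent.S1425
import Cfsg.Agent.S1432

set_option autoImplicit false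

/-!
B & G, Lemma 14.6 (existence half): every non-identity element of a minimal simple group of odd order
is of the form `x * r` with `x ∈ M_σ - 1` and `r ∈ R(x)`, or `y * y'` with `y ∈ M_σ - 1` and `y' ≠ 1` a
`κ(M)`-element of `C_M(y)`.
-/

namespace Cfsg.Agent.OddOrderLocal.Dichotomy146

open Cfsg

variable {G : Type*} [Group G] [Finite G]

theorem mem_centralizer_singleton_iff {x y : G} :
    y ∈ Subgroup.centralizer ({x} : Set G) ↔ x * y = y * x := by
  rw [Subgroup.mem_centralizer_iff]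
  simp

/-- An element of prime-power-free `σ(M)`-order is conjugate into `M_σ`: it lies in `L_σ` for a conjugate `L`
of `M`. -/
theorem exists_conj_mem_sigmaCore (hG : Cfsg.IsMinSimpleOddOrder G) {M : Subgroup G}
    (hM : IsCoatom M) {w : G} (hw1 : w ≠ 1) (hw : ∀ p : ℕ, p.Prime → p ∣ orderOf w → p ∈ sigma M) :
    ∃ g : G, IsCoatom (M.map (MulAut.conj g).toMonoidHom) ∧
      w ∈ sigmaCore (M.map (MulAut.conj g).toMonoidHom) := by
  obtain ⟨g, hg⟩ := S1425.result hG M hM (Subgroup.zpowers w)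
    (by rwa [Ne, Subgroup.zpowers_eq_bot]) (by
      intro p hp hd
      rw [Nat.card_zpowers] at hd
      exact hw p hp hd)
  refine ⟨g⁻¹, MinSimple.isCoatom_map_conj hM _, ?_⟩
  have h1 := Equivariance.sigmaCore_map (MulAut.conj g⁻¹) M
  rw [h1, MinSimple.mem_map_conj, inv_inv]
  refine hg ⟨w, Subgroup.mem_zpowers w, ?_⟩
  simp

/-- The `τ₂` case: if `w` is a `σ(M)'`-element centralizing `x ∈ M_σ - 1`, `w` is a `σ(L)`-element for some
maximal `L`, and `M` is the only maximal subgroup containing `C_G(w)`, then `x ∈ R(w)` relative to some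
conjugate of `L` containing `w` in its `σ`-core. -/
theorem mem_supportR_of_tau2 (hG : Cfsg.IsMinSimpleOddOrder G) {M : Subgroup G}
    {x w : G} (hx : x ∈ sigmaCore M) (hxw : x * w = w * x) (hw1 : w ≠ 1)
    (hσ : ∀ p : ℕ, p.Prime → p ∣ orderOf w → p ∉ sigma M) {L : Subgroup G} (hL : IsCoatom L)
    (hwL : ∀ p : ℕ, p.Prime → p ∣ orderOf w → p ∈ sigma L)
    (hCM : Subgroup.centralizer ({w} : Set G) ≤ M)
    (hu : ∀ L : Subgroup G, IsCoatom L → Subgroup.centralizer ({w} : Set G) ≤ L → L = M) :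
    ∃ L' : Subgroup G, IsCoatom L' ∧ w ∈ sigmaCore L' ∧ x ∈ supportR L' w := by
  obtain ⟨g, hL', hwL'⟩ := exists_conj_mem_sigmaCore hG hL hw1 hwL
  set L' := L.map (MulAut.conj g).toMonoidHom with hL'def
  have hne : ¬ Subgroup.centralizer ({w} : Set G) ≤ L' := by
    intro h
    have h1 := hu L' hL' h
    rw [h1] at hwL'
    obtain ⟨p, hp, hpw⟩ := SigmaElements.exists_prime_dvd_orderOf hw1
    exact hσ p hp hpw (SigmaElements.mem_sigma_of_dvd_orderOf hwL' hp hpw)
  obtain ⟨N, ⟨hN, hwN⟩, huN, hNF, -⟩ := S1375.result hG L' hL' w hwL' hw1 hne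
  have hNM : N = M := hu N hN hwN
  subst hNM
  refine ⟨L', hL', hwL', ?_⟩
  rw [SupportR.supportR_eq hne hN hwN huN, ← hNF]
  exact ⟨hx, mem_centralizer_singleton_iff.2 hxw.symm⟩

/-- Hall's theorem in the centralizer: if `A` and `B` complement each other in the solvable subgroup `C` with
coprime orders, then every element of `C` of order prime to `#B` is conjugate in `C` to an element of
`A`. -/
theorem exists_conj_mem_of_complement {A B C : Subgroup G} (hC : Group.IsSolvable C)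
    (hAB : IsComplIn A B C) (hcop : (Nat.card A).Coprime (A.relIndex C)) (hcard : A.relIndex C ∣ Nat.card B)
    {v : G} (hv : v ∈ C) (hvB : (orderOf v).Coprime (Nat.card B)) : ∃ c ∈ C, c * v * c⁻¹ ∈ A := by
  have hAC : A ≤ C := hAB.1
  have hcardA : Nat.card (A.subgroupOf C) = Nat.card A :=
    Nat.card_congr (Subgroup.subgroupOfEquivOfLe hAC).toEquiv
  have h1 : Nat.card C = Nat.card A * A.relIndex C := by
    have := (A.subgroupOf C).card_mul_index
    rw [hcardA] at this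
    exact this.symm
  obtain ⟨c, hc⟩ := Cfsg.Agent.Solvable.Hall.hall_conj_le (Nat.card A) (A.relIndex C) h1 hcop
    (A.subgroupOf C) (Subgroup.zpowers (⟨v, hv⟩ : C)) hcardA (by
      rw [Nat.card_zpowers, Subgroup.orderOf_mk]
      exact Nat.Coprime.coprime_dvd_right hcard hvB)
  refine ⟨c, c.2, ?_⟩
  have h2 : MulAut.conj c • (⟨v, hv⟩ : C) ∈ A.subgroupOf C :=
    hc (Subgroup.smul_mem_pointwise_smul _ _ _ (Subgroup.mem_zpowers _))
  rw [Subgroup.mem_subgroupOf] at h2
  simpa using h2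

/-- B & G, Lemma 14.6, existence half. -/
theorem exists_decomposition (hG : Cfsg.IsMinSimpleOddOrder G) (g : G) (hg : g ≠ 1) :
    (∃ M : Subgroup G, IsCoatom M ∧ ∃ x ∈ sigmaCore M, x ≠ 1 ∧ ∃ r ∈ supportR M x, g = x * r) ∨
    (∃ M : Subgroup G, IsCoatom M ∧ ∃ y ∈ sigmaCore M, y ≠ 1 ∧ ∃ y' ∈ M, y' ≠ 1 ∧ y * y' = y' * y ∧
      (∀ p : ℕ, p.Prime → p ∣ orderOf y' → p ∈ kappa M) ∧
      Subgroup.centralizer ({y} : Set G) ≤ M ∧ g = y * y') := by
  -- a prime divisor of the order of `g` and a maximal subgroup `M₀` with `p ∈ σ(M₀)`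
  obtain ⟨p, hp, hpg⟩ := SigmaElements.exists_prime_dvd_orderOf hg
  obtain ⟨M₀, hM₀, hpM₀⟩ := (S1378.result hG).1 p hp (hpg.trans (orderOf_dvd_natCard g))
  obtain ⟨x, x', hxg, hx'g, hgx, hxσ, hx'σ⟩ := PiParts.exists_parts (sigma M₀) g
  have hcomm : x * x' = x' * x := by
    obtain ⟨i, rfl⟩ := Subgroup.mem_zpowers_iff.1 hxg
    obtain ⟨j, rfl⟩ := Subgroup.mem_zpowers_iff.1 hx'g
    rw [← zpow_add, ← zpow_add, add_comm]
  have hx1 : x ≠ 1 := by
    rintro rfl
    rw [one_mul] at hgx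
    subst hgx
    exact hx'σ p hp hpg hpM₀
  obtain ⟨a, hM, hxM⟩ := exists_conj_mem_sigmaCore hG hM₀ hx1 hxσ
  have hsig : sigma (M₀.map (MulAut.conj a).toMonoidHom) = sigma M₀ := Equivariance.sigma_map _ _
  generalize M₀.map (MulAut.conj a).toMonoidHom = M at hM hxM hsig
  rw [← hsig] at hxσ hx'σ
  clear hpM₀ hM₀ hsig
  -- the trivial case
  by_cases hx'1 : x' = 1
  · left
    refine ⟨M, hM, x, hxM, hx1, 1, Subgroup.one_mem _, ?_⟩
    rw [hgx, hx'1]
  have hx'C : x' ∈ Subgroup.centralizer ({x} : Set G) := mem_centralizer_singleton_iff.2 hcomm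
  by_cases hCM : Subgroup.centralizer ({x} : Set G) ≤ M
  · -- Case A
    have hx'M : x' ∈ M ⊓ Subgroup.centralizer ({x} : Set G) := ⟨hCM hx'C, hx'C⟩
    rcases S1432.result hG M hM x hxM hx1 x' hx'M hx'1 hx'σ with ⟨hκ, -⟩ | ⟨-, ⟨L, hL, hwL⟩, hCw, hu⟩
    · right
      exact ⟨M, hM, x, hxM, hx1, x', hx'M.1, hx'1, hcomm, hκ, hCM, hgx⟩
    · left
      obtain ⟨L', hL', hwL', hxR⟩ := mem_supportR_of_tau2 hG hxM hcomm hx'1 hx'σ hL hwL hCw hu
      exact ⟨L', hL', x', hwL', hx'1, x, hxR, by rw [hgx, hcomm]⟩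
  · -- Case B
    left
    obtain ⟨N, ⟨hN, hxN⟩, huN, hNF, hRn, hcompl, -, -⟩ := S1375.result hG M hM x hxM hx1 hCM
    have hcop := (S1374.result hG M hM x hxM hx1).1
    have hNσ := (S1350.result hG N hN).1
    obtain ⟨u, v, hux, hvx, hx'uv, huσ, hvσ⟩ := PiParts.exists_parts (sigma N) x'
    have huC : u ∈ Subgroup.centralizer ({x} : Set G) :=
      (Subgroup.zpowers_le.2 hx'C) hux
    have hvC : v ∈ Subgroup.centralizer ({x} : Set G) :=
      (Subgroup.zpowers_le.2 hx'C) hvx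
    have huNσ : u ∈ sigmaCore N := SigmaElements.mem_sigmaCore_of_orderOf hNσ (hxN huC) huσ
    have huvc : u * v = v * u := by
      obtain ⟨i, rfl⟩ := Subgroup.mem_zpowers_iff.1 hux
      obtain ⟨j, rfl⟩ := Subgroup.mem_zpowers_iff.1 hvx
      rw [← zpow_add, ← zpow_add, add_comm]
    by_cases hv1 : v = 1
    · refine ⟨M, hM, x, hxM, hx1, u, ?_, ?_⟩
      · rw [SupportR.supportR_eq hCM hN hxN huN, ← hNF]
        exact ⟨huNσ, huC⟩
      · rw [hgx, hx'uv, hv1, mul_one]
    -- `v` is conjugate in `C_G(x)` into `C_M(x)`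
    have hvcop : (orderOf v).Coprime
        (Nat.card ↥(sigmaCore N ⊓ Subgroup.centralizer ({x} : Set G))) := by
      refine Nat.Coprime.coprime_dvd_right (Subgroup.card_dvd_of_le inf_le_left) ?_
      refine (SigmaElements.coprime_of_disjoint (π := sigma N) (ρ := (sigma N)ᶜ)
        hNσ.2.1 (fun p hp hd => hvσ p hp hd) (fun p h1 h2 => h2 h1)).symm
    have hCsolv : Group.IsSolvable (Subgroup.centralizer ({x} : Set G)) :=
      MinSimple.isSolvable hG (MinSimple.centralizer_ne_top hG (Set.mem_singleton x) hx1)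
    have hrel : (M ⊓ Subgroup.centralizer ({x} : Set G)).relIndex (Subgroup.centralizer ({x} : Set G)) ∣
        Nat.card ↥(sigmaCore N ⊓ Subgroup.centralizer ({x} : Set G)) := by
      rw [HallPi.card_compl_eq_relIndex (HallPi.isComplIn_symm hcompl)]
    obtain ⟨c, hcC, hcv⟩ := exists_conj_mem_of_complement hCsolv hcompl hcop hrel hvC hvcop
    -- replace `M` by its conjugate by `c⁻¹`
    obtain ⟨M', hM'⟩ : ∃ M' : Subgroup G, M' = M.map (MulAut.conj c⁻¹).toMonoidHom := ⟨_, rfl⟩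
    have hM'c : IsCoatom M' := hM' ▸ MinSimple.isCoatom_map_conj hM _
    have hmem : ∀ y : G, y ∈ M' ↔ c * y * c⁻¹ ∈ M := by
      intro y
      rw [hM', MinSimple.mem_map_conj, inv_inv]
    have hcx : c * x = x * c := (mem_centralizer_singleton_iff.1 hcC).symm
    have hsM' : sigma M' = sigma M := hM' ▸ Equivariance.sigma_map _ _
    have hxM' : x ∈ sigmaCore M' := by
      have h1 := Equivariance.sigmaCore_map (MulAut.conj c⁻¹) M
      rw [hM', h1, MinSimple.mem_map_conj, inv_inv]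
      rw [hcx, mul_assoc, mul_inv_cancel, mul_one]
      exact hxM
    have hvM' : v ∈ M' ⊓ Subgroup.centralizer ({x} : Set G) := by
      exact ⟨(hmem v).2 hcv.1, hvC⟩
    have hCM' : ¬ Subgroup.centralizer ({x} : Set G) ≤ M' := by
      intro h
      apply hCM
      intro y hy
      have h1 : c⁻¹ * y * c ∈ Subgroup.centralizer ({x} : Set G) :=
        Subgroup.mul_mem _ (Subgroup.mul_mem _ (Subgroup.inv_mem _ hcC) hy) hcC
      have h2 := (hmem _).1 (h h1)
      have h3 : c * (c⁻¹ * y * c) * c⁻¹ = y := by group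
      rwa [h3] at h2
    have hvσM : ∀ p : ℕ, p.Prime → p ∣ orderOf v → p ∉ sigma M' := by
      intro q hq hqv
      rw [hsM']
      refine hx'σ q hq (hqv.trans ?_)
      exact orderOf_dvd_of_mem_zpowers hvx
    rcases S1432.result hG M' hM'c x hxM' hx1 v hvM' hv1 hvσM with ⟨-, h⟩ | ⟨-, ⟨L, hL, hwL⟩, hCw, hu⟩
    · exact absurd h hCM'
    · -- `u ∈ C_G(v) ≤ M'`, so `u = 1`
      have huM' : u ∈ M' := hCw (mem_centralizer_singleton_iff.2 huvc.symm)
      have hu1 : u = 1 := by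
        have h1 : c * u * c⁻¹ ∈ M := (hmem u).1 huM'
        have h2 : c * u * c⁻¹ ∈ (M ⊓ Subgroup.centralizer ({x} : Set G)) ⊓
            (sigmaCore N ⊓ Subgroup.centralizer ({x} : Set G)) := by
          have h3 : c * u * c⁻¹ ∈ Subgroup.centralizer ({x} : Set G) :=
            Subgroup.mul_mem _ (Subgroup.mul_mem _ hcC huC) (Subgroup.inv_mem _ hcC)
          refine ⟨⟨h1, h3⟩, ?_, h3⟩
          have h4 := (Subgroup.mem_normalizer_iff.1
            (SigmaElements.le_normalizer_sigmaCore N (hxN hcC)) u).1 huNσ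
          exact h4
        rw [hcompl.2.2.1, Subgroup.mem_bot] at h2
        have h5 : u = c⁻¹ * (c * u * c⁻¹) * c := by group
        rw [h5, h2]; group
      have hx'v : x' = v := by rw [hx'uv, hu1, one_mul]
      have hcommv : x * v = v * x := mem_centralizer_singleton_iff.1 hvC
      obtain ⟨L', hL', hwL', hxR⟩ := mem_supportR_of_tau2 hG hxM' hcommv hv1 hvσM hL hwL hCw hu
      exact ⟨L', hL', v, hwL', hv1, x, hxR, by rw [hgx, hx'v, hcommv]⟩

end Cfsg.Agent.OddOrderLocal.Dichotomy146
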