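import Mathlib
import Cfsg.Prelude.Def_OddOrderLocal
import Cfsg.Agent.OddOrderLocal.ExtraCycle.Irred

set_option autoImplicit false

/-!
B&G Theorem 2.5 (math-comp `repr_extraspecial_prime_sdprod_cycle`).
-/

namespace Cfsg.Agent.OddOrderLocal.ExtraspecialCycle

open scoped TensorProduct
open Module Cfsg.Agent.OddOrderLocal.ExtraCycle.Lin Cfsg.Agent.OddOrderLocal.ExtraCycle.Irred

section Group

variable {G : Type*} [Group G]

theorem center_mem_iff (P : Subgroup G) (x : P) :
    x ∈ Subgroup.center P ↔ (x : G) ∈ P ⊓ Subgroup.centralizer (P : Set G) := by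
  rw [Subgroup.mem_center_iff, Subgroup.mem_inf, Subgroup.mem_centralizer_iff]
  constructor
  · intro h
    refine ⟨x.2, fun y hy => ?_⟩
    exact congrArg Subtype.val (h ⟨y, hy⟩)
  · rintro ⟨-, h⟩ y
    exact Subtype.ext (h y y.2)

theorem center_ne_top_of_extraspecial {p : ℕ} (hp : p.Prime) {P : Type*} [Group P]
    (hP : Cfsg.IsExtraspecial p P) : Subgroup.center P ≠ ⊤ := by
  intro h
  obtain ⟨⟨-, -, hcomm⟩, hcard⟩ := hP
  have h1 : _root_.commutator P = ⊥ := (commutator_eq_bot_iff_center_eq_top P).2 h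
  rw [← hcomm, h1, Subgroup.card_bot] at hcard
  exact hp.one_lt.ne hcard

theorem comm_mem_center_of_extraspecial {p : ℕ} {P : Type*} [Group P]
    (hP : Cfsg.IsExtraspecial p P) (x y : P) : x * y * x⁻¹ * y⁻¹ ∈ Subgroup.center P := by
  rw [← hP.1.2.2]
  exact Subgroup.commutator_mem_commutator (Subgroup.mem_top x) (Subgroup.mem_top y)

/-- coprime action: `x y x⁻¹ = z y` with `z ∈ Z(P)` centralised by `x` forces `z = 1` -/
theorem eq_one_of_conj {x y z : G} (h : x * y * x⁻¹ = z * y) (hxz : x * z = z * x) (_hyz : y * z = z * y)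
    {p : ℕ} (hz : z ^ p = 1) (hcop : (orderOf x).Coprime p) : z = 1 := by
  have h1 : ∀ m : ℕ, x ^ m * y * (x ^ m)⁻¹ = z ^ m * y := by
    intro m
    induction m with
    | zero => simp
    | succ m ih =>
      have hxzm : x * z ^ m = z ^ m * x := (Commute.pow_right (show Commute x z from hxz) m).eq
      calc x ^ (m + 1) * y * (x ^ (m + 1))⁻¹ = x * (x ^ m * y * (x ^ m)⁻¹) * x⁻¹ := by
            rw [pow_succ']; group
        _ = x * z ^ m * y * x⁻¹ := by rw [ih]; simp only [mul_assoc]
        _ = z ^ m * (x * y * x⁻¹) := by rw [hxzm]; group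
        _ = z ^ (m + 1) * y := by rw [h, pow_succ]; group
  have h2 := h1 (orderOf x)
  rw [pow_orderOf_eq_one] at h2
  have h3 : z ^ orderOf x = 1 := by
    have : y = z ^ orderOf x * y := by simpa using h2
    exact (mul_eq_right.1 this.symm)
  have h4 : orderOf z ∣ Nat.gcd (orderOf x) p :=
    Nat.dvd_gcd (orderOf_dvd_of_pow_eq_one h3) (orderOf_dvd_of_pow_eq_one hz)
  rw [hcop] at h4
  exact orderOf_eq_one_iff.1 (Nat.dvd_one.1 h4)

/-- the standing hypotheses -/
structure Hyp (p n : ℕ) (P R : Subgroup G) : Prop where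
  prime : p.Prime
  extra : Cfsg.IsExtraspecial p P
  card : Nat.card P = p ^ (2 * n + 1)
  norm : R ≤ Subgroup.normalizer (P : Set G)
  cyc : IsCyclic R
  cop : (Nat.card R).Coprime p
  cent : ∀ x ∈ R, x ≠ 1 → P ⊓ Subgroup.centralizer ({x} : Set G) = P ⊓ Subgroup.centralizer (P : Set G)

theorem Hyp.commute {p n : ℕ} {P R : Subgroup G} (H : Hyp p n P R) {x z : G} (hx : x ∈ R)
    (hz : z ∈ P ⊓ Subgroup.centralizer (P : Set G)) : x * z = z * x := by
  by_cases hx1 : x = 1
  · rw [hx1]; simp
  · rw [← H.cent x hx hx1] at hz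
    exact (Subgroup.mem_centralizer_iff.1 hz.2 x rfl)

theorem Hyp.groupHyp {p n : ℕ} {P R : Subgroup G} (H : Hyp p n P R) (g : G) (hg : Subgroup.zpowers g = R)
    (hgN : g ∈ Subgroup.normalizer (P : Set G)) :
    GroupHyp P p n (Nat.card R) (P.normalizerMonoidHom ⟨g, hgN⟩) := by
  have hgR : g ∈ R := by rw [← hg]; exact Subgroup.mem_zpowers g
  have happ : ∀ (x : Subgroup.normalizer (P : Set G)) (y : P),
      ((P.normalizerMonoidHom x y : P) : G) = (x : G) * y * (x : G)⁻¹ := fun _ _ => rfl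
  have hord : orderOf g = Nat.card R := by rw [← hg, Nat.card_zpowers]
  have hzp : ∀ a ∈ Subgroup.zpowers (P.normalizerMonoidHom ⟨g, hgN⟩),
      ∃ x : Subgroup.normalizer (P : Set G), (x : G) ∈ R ∧ P.normalizerMonoidHom x = a := by
    intro a ha
    obtain ⟨k, rfl⟩ := Subgroup.mem_zpowers_iff.1 ha
    refine ⟨⟨g, hgN⟩ ^ k, ?_, map_zpow _ _ _⟩
    rw [Subgroup.coe_zpow]
    exact R.zpow_mem hgR k
  refine ⟨H.prime, H.extra.2, H.card, ?_, ?_, ?_⟩
  · intro z hz
    rw [center_mem_iff] at hz
    apply Subtype.ext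
    rw [happ]
    show g * z * g⁻¹ = z
    rw [H.commute hgR hz]; group
  · -- the order
    apply Nat.dvd_antisymm
    · rw [← hord]
      have : orderOf (⟨g, hgN⟩ : Subgroup.normalizer (P : Set G)) = orderOf g := Subgroup.orderOf_mk g hgN
      rw [← this]
      exact orderOf_map_dvd _ _
    · rw [← hord]
      apply orderOf_dvd_of_pow_eq_one
      by_contra hne
      have h1 : g ^ orderOf (P.normalizerMonoidHom ⟨g, hgN⟩) ∈ R := R.pow_mem hgR _
      have h2 := H.cent _ h1 hne
      apply center_ne_top_of_extraspecial H.prime H.extra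
      rw [eq_top_iff]
      intro y _
      rw [center_mem_iff, ← h2]
      refine Subgroup.mem_inf.2 ⟨y.2, ?_⟩
      rw [Subgroup.mem_centralizer_iff]
      rintro _ rfl
      have h3 : (P.normalizerMonoidHom ⟨g, hgN⟩) ^ orderOf (P.normalizerMonoidHom ⟨g, hgN⟩) = 1 :=
        pow_orderOf_eq_one _
      rw [← map_pow] at h3
      have h4 := congrArg (fun a : MulAut P => ((a y : P) : G)) h3
      simp only [happ, Subgroup.coe_pow, MulAut.one_apply] at h4
      exact mul_inv_eq_iff_eq_mul.1 h4
  · intro a ha ha1 y hy z hz h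
    obtain ⟨x, hxR, rfl⟩ := hzp a ha
    have hx1 : (x : G) ≠ 1 := by
      intro h
      apply ha1
      have : x = 1 := Subtype.ext h
      rw [this, map_one]
    rw [center_mem_iff] at hy hz
    have h1 : (z : G) * ((x : G) * y * (x : G)⁻¹) = y := congrArg Subtype.val h
    have h2 : (x : G) * y * (x : G)⁻¹ = (z : G)⁻¹ * y := eq_inv_mul_iff_mul_eq.2 h1
    have hz' : (z : G)⁻¹ ∈ P ⊓ Subgroup.centralizer (P : Set G) := Subgroup.inv_mem _ hz
    have h3 : (z : G)⁻¹ = 1 := by
      refine eq_one_of_conj h2 (H.commute hxR hz') (Subgroup.mem_centralizer_iff.1 hz'.2 y y.2) (p := p) ?_ ?_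
      · have h4 : (⟨z, (center_mem_iff P z).2 hz⟩ : Subgroup.center P) ^ Nat.card (Subgroup.center P) = 1 :=
          pow_card_eq_one'
        rw [H.extra.2] at h4
        have h5 : (z : P) ^ p = 1 := congrArg Subtype.val h4
        have h6 : (z : G) ^ p = 1 := by
          have := congrArg Subtype.val h5
          simpa using this
        rw [inv_pow, h6, inv_one]
      · refine Nat.Coprime.coprime_dvd_left ?_ H.cop
        have := orderOf_dvd_natCard (⟨x, hxR⟩ : R)
        rwa [Subgroup.orderOf_mk] at this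
    rw [h3, one_mul] at h2
    apply hy
    rw [← H.cent x hxR hx1]
    refine Subgroup.mem_inf.2 ⟨y.2, ?_⟩
    rw [Subgroup.mem_centralizer_iff]
    rintro _ rfl
    exact mul_inv_eq_iff_eq_mul.1 h2

end Group

section Closed

variable {G : Type*} [Group G] [Finite G] {K : Type*} [Field K] {V : Type*} [AddCommGroup V] [Module K V]

/-- a nontrivial operator of order dividing `p` has an eigenvalue different from `1` -/
theorem exists_eigenvalue_ne_one [IsAlgClosed K] [FiniteDimensional K V] {p : ℕ} (hpK : (p : K) ≠ 0)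
    (a : Module.End K V) (ha : a ^ p = 1) (ha1 : a ≠ 1) :
    ∃ r : K, r ≠ 1 ∧ Module.End.eigenspace a r ≠ ⊥ := by
  classical
  let V₁ : Submodule K V := LinearMap.range (a - 1)
  have hV₁ : V₁ ≠ ⊥ := by
    intro h
    rw [LinearMap.range_eq_bot] at h
    exact ha1 (sub_eq_zero.1 h)
  have hcomm : a * (a - 1) = (a - 1) * a := by rw [mul_sub, sub_mul]; simp
  have hinv : ∀ v ∈ V₁, a v ∈ V₁ := by
    rintro _ ⟨u, rfl⟩
    exact ⟨a u, (LinearMap.congr_fun hcomm u).symm⟩
  have hnt : Nontrivial V₁ := Submodule.nontrivial_iff_ne_bot.2 hV₁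
  obtain ⟨r, hr⟩ := Module.End.exists_eigenvalue (a.restrict hinv)
  obtain ⟨⟨v, hv⟩, hvr, hv0⟩ := hr.exists_hasEigenvector
  rw [Module.End.mem_eigenspace_iff] at hvr
  have hvr' : a v = r • v := congrArg Subtype.val hvr
  have hv0' : v ≠ 0 := fun h => hv0 (Subtype.ext h)
  refine ⟨r, ?_, ?_⟩
  · rintro rfl
    rw [one_smul] at hvr'
    obtain ⟨u, hu⟩ := hv
    have h1 : ∀ i : ℕ, (a ^ i) v = v := by
      intro i
      induction i with
      | zero => simp
      | succ i ih => rw [pow_succ', Module.End.mul_apply, ih, hvr']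
    have h2 : (∑ i ∈ Finset.range p, a ^ i) * (a - 1) = a ^ p - 1 := by
      rw [geom_sum_mul]
    rw [ha, sub_self] at h2
    have h3 := LinearMap.congr_fun h2 u
    rw [Module.End.mul_apply, hu, LinearMap.sum_apply, Finset.sum_congr rfl fun i _ => h1 i,
      Finset.sum_const, Finset.card_range, LinearMap.zero_apply, ← Nat.cast_smul_eq_nsmul K] at h3
    rcases smul_eq_zero.1 h3 with h | h
    · exact hpK h
    · exact hv0' h
  · intro h
    apply hv0'
    have : v ∈ Module.End.eigenspace a r := Module.End.mem_eigenspace_iff.2 hvr'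
    rw [h] at this
    exact (Submodule.mem_bot K).1 this

theorem closed_case [IsAlgClosed K] [FiniteDimensional K V] {p n : ℕ} {P R : Subgroup G}
    (H : Hyp p n P R) (hpK : (p : K) ≠ 0) (hRK : (Nat.card R : K) ≠ 0)
    (ρ : G →* Module.End K V) (z : G) (hz : z ∈ P ⊓ Subgroup.centralizer (P : Set G)) (hρz : ρ z ≠ 1) :
    ∃ c : ℕ, (p ^ n = Nat.card R * c + 1 ∨ p ^ n + 1 = Nat.card R * (c + 1)) ∧
      (c ≠ 0 → ∃ v : V, v ≠ 0 ∧ ∀ r ∈ R, ρ r v = v) := by
  classical
  have hftP : Fintype P := Fintype.ofFinite P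
  have hcyc := H.cyc
  obtain ⟨g, hg⟩ := (Subgroup.isCyclic_iff_exists_zpowers_eq_top R).1 hcyc
  have hgR : g ∈ R := by rw [← hg]; exact Subgroup.mem_zpowers g
  have hgN : g ∈ Subgroup.normalizer (P : Set G) := H.norm hgR
  have hGH := H.groupHyp g hg hgN
  -- the central element
  let z' : P := ⟨z, hz.1⟩
  have hz' : z' ∈ Subgroup.center P := (center_mem_iff P z').2 hz
  have hz1 : z' ≠ 1 := by
    intro h
    apply hρz
    have : z = 1 := congrArg Subtype.val h
    rw [this, map_one]
  have hcen : ∀ y ∈ Subgroup.center P, ∃ k : ℕ, y = z' ^ k := by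
    intro y hy
    have hpc : Nat.card (Subgroup.center P) = p := H.extra.2
    have : Fact p.Prime := ⟨H.prime⟩
    have h1 : (⟨z', hz'⟩ : Subgroup.center P) ≠ 1 := fun h => hz1 (congrArg Subtype.val h)
    have h2 := mem_powers_of_prime_card hpc h1 (g' := ⟨y, hy⟩)
    obtain ⟨k, hk⟩ := h2
    exact ⟨k, (congrArg Subtype.val hk).symm⟩
  have hzp : z' ^ p = 1 := by
    have h4 : (⟨z', hz'⟩ : Subgroup.center P) ^ Nat.card (Subgroup.center P) = 1 := pow_card_eq_one'
    rw [H.extra.2] at h4
    exact congrArg Subtype.val h4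
  have hzp' : z ^ p = 1 := congrArg Subtype.val hzp
  obtain ⟨r, hr1, hr⟩ := exists_eigenvalue_ne_one hpK (ρ z) (by rw [← map_pow, hzp', map_one]) hρz
  -- the eigenspace
  let V₂ : Submodule K V := Module.End.eigenspace (ρ z) r
  have hV₂mem : ∀ v, v ∈ V₂ ↔ ρ z v = r • v := fun v => Module.End.mem_eigenspace_iff
  have hinvx : ∀ x : G, x * z = z * x → ∀ v ∈ V₂, ρ x v ∈ V₂ := by
    intro x hx v hv
    rw [hV₂mem] at hv ⊢
    rw [← Module.End.mul_apply, ← map_mul, ← hx, map_mul, Module.End.mul_apply, hv, map_smul]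
  have hVnt : Nontrivial V₂ := Submodule.nontrivial_iff_ne_bot.2 hr
  have hPz : ∀ x : P, (x : G) * z = z * x := fun x => Subgroup.mem_centralizer_iff.1 hz.2 x x.2
  let ρP : P →* Module.End K V := ρ.comp P.subtype
  have hinvP : Inv ρP V₂ := fun x v hv => hinvx x (hPz x) v hv
  let ρ₂ : P →* Module.End K V₂ := restr ρP V₂ hinvP
  have hgz : g * z = z * g := H.commute hgR hz
  let γ : Module.End K V₂ := (ρ g).restrict (hinvx g hgz)
  have hγapp : ∀ v : V₂, ((γ v : V₂) : V) = ρ g v := fun _ => rfl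
  have hρ₂app : ∀ (x : P) (v : V₂), ((ρ₂ x v : V₂) : V) = ρ x v := fun _ _ => rfl
  have hγρ : ∀ x : P, γ * ρ₂ x = ρ₂ (P.normalizerMonoidHom ⟨g, hgN⟩ x) * γ := by
    intro x
    ext v
    rw [Module.End.mul_apply, Module.End.mul_apply, hγapp, hρ₂app, hρ₂app, hγapp,
      ← Module.End.mul_apply, ← Module.End.mul_apply, ← map_mul, ← map_mul]
    congr 2
    show g * x = (g * x * g⁻¹) * g
    group
  have hγpow : ∀ (m : ℕ) (v : V₂), (((γ ^ m) v : V₂) : V) = ρ (g ^ m) v := by
    intro m
    induction m with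
    | zero => intro v; simp
    | succ m ih => intro v; rw [pow_succ, Module.End.mul_apply, ih, hγapp, ← Module.End.mul_apply, ← map_mul, pow_succ]
  have hγh : γ ^ Nat.card R = 1 := by
    ext v
    rw [hγpow]
    have : g ^ Nat.card R = 1 := by
      rw [← hg, Nat.card_zpowers]; exact pow_orderOf_eq_one g
    rw [this, map_one]
    rfl
  -- the central character
  let ω : P → K := fun y => if h : ∃ k : ℕ, y = z' ^ k then r ^ (Classical.choose h) else 0
  have hρpow : ∀ (k : ℕ), ρ₂ (z' ^ k) = r ^ k • (1 : Module.End K V₂) := by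
    intro k
    induction k with
    | zero => simp
    | succ k ih =>
      rw [pow_succ, map_mul, ih]
      ext v
      rw [Module.End.mul_apply, LinearMap.smul_apply, LinearMap.smul_apply, Module.End.one_apply,
        Module.End.one_apply]
      have h5 : ρ₂ z' v = r • v := Subtype.ext ((hV₂mem v).1 v.2)
      rw [h5, smul_smul, pow_succ]
  have hrp : r ^ p = 1 := by
    obtain ⟨v, hv⟩ := exists_ne (0 : V₂)
    have h1 := hρpow p
    rw [hzp, map_one] at h1
    have h2 := LinearMap.congr_fun h1 v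
    rw [LinearMap.smul_apply, Module.End.one_apply] at h2
    have h3 : (r ^ p - 1) • v = 0 := by rw [sub_smul, one_smul, ← h2, sub_self]
    rcases smul_eq_zero.1 h3 with h | h
    · exact sub_eq_zero.1 h
    · exact absurd h hv
  have hCC : CentralChar ρ₂ ω := by
    refine ⟨comm_mem_center_of_extraspecial H.extra, ?_, ?_⟩
    · intro y hy
      have hk := hcen y hy
      have : ω y = r ^ (Classical.choose hk) := dif_pos hk
      rw [this, ← hρpow, ← Classical.choose_spec hk]
    · intro y hy hy1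
      have hk := hcen y hy
      have : ω y = r ^ (Classical.choose hk) := dif_pos hk
      rw [this]
      intro h
      apply hy1
      have hfp : Fact p.Prime := ⟨H.prime⟩
      have hord : orderOf r = p := orderOf_eq_prime_iff.2 ⟨hrp, hr1⟩
      have hd : p ∣ Classical.choose hk := by
        rw [← hord]; exact orderOf_dvd_of_pow_eq_one h
      rw [Classical.choose_spec hk]
      obtain ⟨m, hm⟩ := hd
      rw [hm, pow_mul, hzp, one_pow]
  have hPK : (Nat.card P : K) ≠ 0 := by rw [H.card, Nat.cast_pow]; exact pow_ne_zero _ hpK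
  have hZK : (Nat.card (Subgroup.center P) : K) ≠ 0 := by rw [H.extra.2]; exact hpK
  obtain ⟨W, hW, hWγ, hWirr⟩ := exists_irr_extension hCC hPK hZK _ hGH.fix γ hγρ
  have : NeZero (Nat.card R) := ⟨Nat.card_pos.ne'⟩
  let γW : Module.End K W := γ.restrict hWγ
  have hγWapp : ∀ v : W, ((γW v : W) : V₂) = γ v := fun _ => rfl
  have hγWpow : ∀ (m : ℕ) (v : W), (((γW ^ m) v : W) : V₂) = (γ ^ m) v := by
    intro m
    induction m with
    | zero => intro v; simp
    | succ m ih => intro v; rw [pow_succ, Module.End.mul_apply, ih, hγWapp, pow_succ, Module.End.mul_apply]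
  obtain ⟨c, hc1, hc2⟩ := main hWirr (hCC.restr W hW) hGH hpK hRK γW
    (by ext v; rw [hγWpow, hγh]; rfl)
    (by
      intro x
      ext v
      have := congrArg Subtype.val (LinearMap.congr_fun (hγρ x) v)
      exact this)
  refine ⟨c, hc1, fun hc => ?_⟩
  obtain ⟨w, hw0, hw⟩ := hc2 hc
  refine ⟨((w : V₂) : V), ?_, ?_⟩
  · intro h
    apply hw0
    exact Subtype.ext (Subtype.ext h)
  · have hgw : ρ g ((w : V₂) : V) = ((w : V₂) : V) := by
      have h1 := congrArg (fun u : W => ((u : V₂) : V)) hw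
      exact h1
    let S : Subgroup G :=
      { carrier := {x | ρ x ((w : V₂) : V) = ((w : V₂) : V)}
        mul_mem' := by
          intro a b ha hb
          show ρ (a * b) _ = _
          rw [map_mul, Module.End.mul_apply, show ρ b _ = _ from hb, show ρ a _ = _ from ha]
        one_mem' := by show ρ 1 _ = _; rw [map_one]; rfl
        inv_mem' := by
          intro a ha
          show ρ a⁻¹ _ = _
          conv_lhs => rw [← show ρ a ((w : V₂) : V) = _ from ha]
          rw [← Module.End.mul_apply, ← map_mul, inv_mul_cancel, map_one]; rfl }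
    intro x hx
    have hle : R ≤ S := by
      rw [← hg, Subgroup.zpowers_le]; exact hgw
    exact hle hx

end Closed

/-- B&G Theorem 2.5, the fixed vector. -/
theorem exists_fixed_of_extraspecial {F : Type*} [Field F] {V : Type*} [AddCommGroup V] [Module F V]
    [FiniteDimensional F V] {G : Type*} [Group G] [Finite G] (p n : ℕ) [Fact p.Prime] (P R : Subgroup G)
    (hP : Cfsg.IsExtraspecial p P) (hPc : Nat.card P = p ^ (2 * n + 1))
    (hR : R ≤ Subgroup.normalizer (P : Set G)) (hRc : IsCyclic R) (hcop : (Nat.card R).Coprime p)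
    (hC : ∀ x ∈ R, x ≠ 1 → P ⊓ Subgroup.centralizer ({x} : Set G) = P ⊓ Subgroup.centralizer (P : Set G))
    (hcharP : (p : F) ≠ 0) (hcharR : (Nat.card R : F) ≠ 0)
    (ρ : Representation F G V) (z : G) (hz : z ∈ P ⊓ Subgroup.centralizer (P : Set G)) (hρz : ρ z ≠ 1)
    (hne : Nat.card R ≠ p ^ n + 1) :
    ∃ v : V, v ≠ 0 ∧ ∀ r ∈ R, ρ r v = v := by
  classical
  have H : Hyp p n P R := ⟨Fact.out, hP, hPc, hR, hRc, hcop, hC⟩
  by_contra hcon
  push Not at hcon
  have hft : Fintype R := Fintype.ofFinite R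
  -- the norm vanishes
  have hnorm : ∑ r : R, ρ (r : G) = 0 := by
    ext v
    rw [LinearMap.zero_apply]
    by_contra hv
    obtain ⟨x, hxR, hx⟩ := hcon _ hv
    apply hx
    rw [LinearMap.sum_apply, map_sum]
    have h1 : ∀ r : R, ρ x (ρ (r : G) v) = ρ (((⟨x, hxR⟩ : R) * r : R) : G) v := by
      intro r
      rw [← Module.End.mul_apply, ← map_mul]; rfl
    rw [Finset.sum_congr rfl fun r _ => h1 r]
    exact Fintype.sum_equiv (Equiv.mulLeft (⟨x, hxR⟩ : R)) _ _ (fun _ => rfl)
  -- extension of scalars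
  let L := AlgebraicClosure F
  let bc : Module.End F V → Module.End L (TensorProduct F L V) := fun a => a.baseChange L
  have hbc1 : bc 1 = 1 := LinearMap.baseChange_id
  have hbcm : ∀ a b, bc (a * b) = bc a * bc b := fun a b => LinearMap.baseChange_comp _ _
  let ρL : G →* Module.End L (TensorProduct F L V) :=
    { toFun := fun x => bc (ρ x)
      map_one' := by rw [map_one]; exact hbc1
      map_mul' := by intro x y; rw [map_mul]; exact hbcm _ _ }
  have hρL : ∀ x, ρL x = bc (ρ x) := fun _ => rfl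
  have hρLapp : ∀ x (l : L) (v : V), ρL x (l ⊗ₜ[F] v) = l ⊗ₜ[F] (ρ x v) := fun _ _ _ => rfl
  have hinj : Function.Injective (fun v : V => (1 : L) ⊗ₜ[F] v) :=
    Module.FaithfullyFlat.tensorProduct_mk_injective (A := F) (B := L) V
  have hcharPL : (p : L) ≠ 0 := by
    intro h; apply hcharP
    apply (algebraMap F L).injective
    rw [map_natCast, map_zero]; exact h
  have hcharRL : (Nat.card R : L) ≠ 0 := by
    intro h; apply hcharR
    apply (algebraMap F L).injective
    rw [map_natCast, map_zero]; exact h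
  obtain ⟨c, hc1, hc2⟩ := closed_case H hcharPL hcharRL ρL z hz (by
    intro h
    apply hρz
    ext v
    apply hinj
    show (1 : L) ⊗ₜ[F] (ρ z v) = (1 : L) ⊗ₜ[F] v
    rw [← hρLapp, h]; rfl)
  by_cases hc : c = 0
  · subst hc
    rw [mul_zero, zero_add, mul_one] at hc1
    rcases hc1 with h | h
    · have hn : n = 0 := by
        by_contra hn
        have := Nat.one_lt_pow hn (Fact.out : p.Prime).one_lt
        omega
      subst hn
      apply center_ne_top_of_extraspecial (Fact.out : p.Prime) hP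
      apply Subgroup.eq_top_of_card_eq
      rw [hP.2, hPc]; simp
    · exact hne h.symm
  · obtain ⟨v, hv0, hv⟩ := hc2 hc
    apply hv0
    have h1 : (∑ r : R, ρL (r : G)) v = (Nat.card R : L) • v := by
      rw [LinearMap.sum_apply, Finset.sum_congr rfl fun (r : R) _ => hv r r.2, Finset.sum_const,
        Finset.card_univ, ← Nat.card_eq_fintype_card, Nat.cast_smul_eq_nsmul]
    have h2 : ∑ r : R, ρL (r : G) = 0 := by
      have h3 : ∀ r : R, ρL (r : G) = LinearMap.baseChangeHom F L V V (ρ (r : G)) := fun _ => rfl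
      rw [Finset.sum_congr rfl fun r _ => h3 r, ← map_sum, hnorm, map_zero]
    rw [h2, LinearMap.zero_apply] at h1
    exact (smul_eq_zero.1 h1.symm).resolve_left hcharRL

/-- B&G Theorem 2.5, the divisibility. -/
theorem card_dvd_of_extraspecial {G : Type*} [Group G] [Finite G] (p n : ℕ) [Fact p.Prime] (P R : Subgroup G)
    (hP : Cfsg.IsExtraspecial p P) (hPc : Nat.card P = p ^ (2 * n + 1))
    (hR : R ≤ Subgroup.normalizer (P : Set G)) (hRc : IsCyclic R) (hcop : (Nat.card R).Coprime p)
    (hC : ∀ x ∈ R, x ≠ 1 → P ⊓ Subgroup.centralizer ({x} : Set G) = P ⊓ Subgroup.centralizer (P : Set G)) :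
    Nat.card R ∣ p ^ n + 1 ∨ Nat.card R ∣ p ^ n - 1 := by
  classical
  have H : Hyp p n P R := ⟨Fact.out, hP, hPc, hR, hRc, hcop, hC⟩
  have hp : p.Prime := Fact.out
  have hcyc : Nontrivial (Subgroup.center P) := by
    rw [← Finite.one_lt_card_iff_nontrivial, hP.2]; exact hp.one_lt
  obtain ⟨⟨z, hzc⟩, hz1⟩ := exists_ne (1 : Subgroup.center P)
  have hz := (center_mem_iff P z).1 hzc
  have hz1' : (z : G) ≠ 1 := fun h => hz1 (Subtype.ext (Subtype.ext h))
  obtain ⟨c, hc1, -⟩ := closed_case (K := ℂ) H (by exact_mod_cast hp.ne_zero)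
    (by exact_mod_cast Nat.card_pos.ne') (Representation.ofMulAction ℂ G G) z hz (by
      intro h
      apply hz1'
      have h1 := LinearMap.congr_fun h (MonoidAlgebra.single (1 : G) (1 : ℂ))
      rw [Representation.ofMulAction_single, Module.End.one_apply, smul_eq_mul, mul_one] at h1
      have h2 := congrArg (fun a => MonoidAlgebra.coeff a (1 : G)) h1
      by_contra hne
      simp [hne] at h2)
  rcases hc1 with h | h
  · right
    rw [h, Nat.add_sub_cancel]
    exact dvd_mul_right _ _
  · left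
    rw [h]
    exact dvd_mul_right _ _

end Cfsg.Agent.OddOrderLocal.ExtraspecialCycle
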