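import Mathlib
import Cfsg.Prelude.Def_OddOrderLocal
import Cfsg.Agent.OddOrderLocal.NilParts
import Cfsg.Agent.OddOrderLocal.MinSimpleBasic
import Cfsg.Agent.OddOrderLocal.FitAux
import Cfsg.Agent.OddOrderLocal.Transitivity
import Cfsg.Agent.S0044
import Cfsg.Agent.S0026
import Cfsg.Agent.S0023
import Cfsg.Agent.S1442
import Cfsg.Agent.S1393
import Cfsg.Agent.S1395

/-!
B&G Theorem 8.1(a): in a minimal simple group of odd order, if `F = F(M)` is not a `p`-group and `A₀` is a
maximal elementary abelian `p`-subgroup of `F` of rank at least 3, then `C_F(A₀)` lies in a unique maximal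
subgroup.
-/

set_option autoImplicit false

namespace Cfsg.Agent.OddOrderLocal.FitUniqA

open Cfsg Cfsg.Agent Cfsg.Agent.Lib Cfsg.Agent.OddOrderLocal
open Cfsg.Agent.OddOrderLocal.NilParts Cfsg.Agent.OddOrderLocal.PiCoreOf
open Subgroup

variable {G : Type*} [Group G] [Finite G]

/-! ### general facts -/

/-- `C_M(F(M)) ≤ F(M)` for `M` solvable. -/
theorem inf_centralizer_fittingOf_le {M : Subgroup G} (hs : Group.IsSolvable M) :
    M ⊓ centralizer (fittingOf M : Set G) ≤ fittingOf M := by
  rintro x ⟨hxM, hxC⟩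
  haveI := hs
  have h : (⟨x, hxM⟩ : M) ∈ centralizer (fittingSubgroup M : Set M) := by
    rw [mem_centralizer_iff]
    intro y hy
    exact Subtype.ext (mem_centralizer_iff.mp hxC y ⟨y, hy, rfl⟩)
  exact ⟨⟨x, hxM⟩, S0044.result h, rfl⟩

theorem normalizer_le_fittingOf (M : Subgroup G) :
    normalizer (M : Set G) ≤ normalizer (fittingOf M : Set G) :=
  normalizer_le_of_characteristic _ Cores.fittingSubgroup_characteristic

theorem oP_le_fittingOf (q : ℕ) [Fact q.Prime] (M : Subgroup G) : oP q M ≤ fittingOf M :=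
  FitAux.le_fittingOf (oP_le q M) (le_normalizer_oP q M) (isPGroup_oP q M).isNilpotent

theorem isNilpotent_fittingOf (M : Subgroup G) : Group.IsNilpotent (fittingOf M) :=
  FitAux.isNilpotent_fittingOf M

theorem oP_fittingOf_le (q : ℕ) (M : Subgroup G) : oP q (fittingOf M) ≤ oP q M :=
  le_oP ((oP_le _ _).trans (FitAux.fittingOf_le M)) (isPGroup_oP _ _)
    ((FitAux.le_normalizer_fittingOf M).trans (normalizer_le_oP q _))

theorem oP'_fittingOf_le (q : ℕ) (M : Subgroup G) : oP' q (fittingOf M) ≤ oP' q M :=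
  le_oP' ((oP'_le _ _).trans (FitAux.fittingOf_le M)) (coprime_oP' _ _)
    ((FitAux.le_normalizer_fittingOf M).trans (normalizer_le_oP' q _))

theorem oP_le_oP_fittingOf (q : ℕ) [Fact q.Prime] (M : Subgroup G) :
    oP q M ≤ oP q (fittingOf M) :=
  le_oP (oP_le_fittingOf q M) (isPGroup_oP q M)
    ((FitAux.fittingOf_le M).trans (le_normalizer_oP q M))

/-- a nilpotent subgroup is contained in `M` if all its primary parts are. -/
theorem le_of_oP_le {X M : Subgroup G} (hX : Group.IsNilpotent X)
    (h : ∀ (l : ℕ) [Fact l.Prime], l ∣ Nat.card X → oP l X ≤ M) : X ≤ M := by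
  haveI := hX
  have h1 : fittingSubgroup X = ⊤ := Cores.fittingSubgroup_eq_top_iff.mpr hX
  rw [Cores.fittingSubgroup_eq_iSup_pCore] at h1
  have h2 : X = ⨆ l : Nat.Primes, oP (l : ℕ) X := by
    have h3 := congrArg (Subgroup.map X.subtype) h1
    rw [Subgroup.map_iSup, ← MonoidHom.range_eq_map, Subgroup.range_subtype] at h3
    exact h3.symm
  rw [h2]
  refine iSup_le fun l => ?_
  haveI := Fact.mk l.2
  by_cases hl : (l : ℕ) ∣ Nat.card X
  · exact h l hl
  · have h4 : oP (l : ℕ) X = ⊥ := by
      obtain ⟨n, hn⟩ := IsPGroup.iff_card.mp (isPGroup_oP (l : ℕ) X)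
      rw [← Subgroup.card_eq_one]
      rcases n with _ | n
      · simpa using hn
      · exfalso
        apply hl
        refine dvd_trans ?_ (card_dvd_of_le (oP_le (l : ℕ) X))
        rw [hn]
        exact dvd_pow_self _ (Nat.succ_ne_zero n)
    rw [h4]
    exact bot_le

/-- every subgroup of a finite nilpotent group is subnormal. -/
theorem isSubnormal_of_isNilpotent {N : Type*} [Group N] [Finite N] (hN : Group.IsNilpotent N)
    (A : Subgroup N) : A.IsSubnormal := by
  haveI := hN
  have key : ∀ n : ℕ, ∀ A : Subgroup N, A.index ≤ n → A.IsSubnormal := by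
    intro n
    induction n with
    | zero =>
      intro A hA
      have := A.index_ne_zero_of_finite
      omega
    | succ n ih =>
      intro A hA
      by_cases hT : A = ⊤
      · rw [hT]; exact Subgroup.IsSubnormal.top
      · have h1 : A < normalizer (A : Set N) :=
          Group.normalizerCondition_of_isNilpotent A (lt_top_iff_ne_top.mpr hT)
        have h2 : (normalizer (A : Set N)).index < A.index :=
          Subgroup.index_strictAnti h1
        exact Subgroup.IsSubnormal.step A _ h1.le (ih _ (by omega)) inferInstance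
  exact key _ A le_rfl

/-! ### the last step of the argument -/

theorem key_le {q : ℕ} [Fact q.Prime] {M D1 D2 : Subgroup G} (hs : Group.IsSolvable M)
    (hD1M : D1 ≤ M) (hD1 : IsPGroup q D1)
    (hD1F : D1 ≤ centralizer (oP' q (fittingOf M) : Set G))
    (hD12 : D1 ≤ centralizer (D2 : Set G)) (hD2 : D2 ≤ oP' q M)
    (hn : M ⊓ centralizer (oP' q (fittingOf M) : Set G) ⊓ centralizer (D2 : Set G) ≤
      normalizer (D1 : Set G)) :
    D1 ≤ oP q M := by
  set F2 := oP' q (fittingOf M) with hF2
  set K := M ⊓ centralizer (F2 : Set G) with hK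
  set C := K ⊓ centralizer (D2 : Set G) with hC
  have hMF : M ≤ normalizer (fittingOf M : Set G) := FitAux.le_normalizer_fittingOf M
  have hMF2 : M ≤ normalizer (F2 : Set G) := hMF.trans (normalizer_le_oP' q _)
  have hMK : M ≤ normalizer (K : Set G) :=
    le_normalizer_inf le_normalizer (hMF2.trans (normalizer_le_normalizer_centralizer F2))
  have hconjK : ∀ k ∈ K, ∀ c ∈ C, k * c * k⁻¹ ∈ C := by
    intro k hk c hc
    refine ⟨K.mul_mem (K.mul_mem hk hc.1) (K.inv_mem hk), ?_⟩
    refine mem_centralizer_iff.mpr fun d hd => ?_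
    -- `z = d⁻¹ (k⁻¹ d k)`
    set z := d⁻¹ * (k⁻¹ * d * k) with hz
    have hdM : d ∈ M := oP'_le q M (hD2 hd)
    have hz1 : z ∈ oP' q M := by
      refine (oP' q M).mul_mem ((oP' q M).inv_mem (hD2 hd)) ?_
      have := (mem_normalizer_iff.mp (le_normalizer_oP' q M (M.inv_mem hk.1)) d).mp (hD2 hd)
      simpa using this
    have hz2 : z ∈ K := by
      have h1 : d⁻¹ * k⁻¹ * d ∈ K := by
        have := (mem_normalizer_iff.mp (hMK (M.inv_mem hdM)) k⁻¹).mp (K.inv_mem hk)
        simpa using this
      have h2 : z = (d⁻¹ * k⁻¹ * d) * k := by rw [hz]; group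
      rw [h2]
      exact K.mul_mem h1 hk
    have hz3 : z ∈ F2 := by
      have h1 : z ∈ fittingOf M := by
        refine inf_centralizer_fittingOf_le hs ⟨hz2.1, ?_⟩
        have h2 : fittingOf M ≤ centralizer (zpowers z : Set G) := by
          rw [← oP_sup_oP' (isNilpotent_fittingOf M) q]
          refine sup_le ?_ ?_
          · refine le_centralizer_symm ?_
            rw [zpowers_le]
            exact (le_centralizer_symm (oP_le_centralizer_oP' q M)) hz1 |> fun h =>
              centralizer_le (SetLike.coe_subset_coe.mpr (oP_fittingOf_le q M)) h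
          · refine le_centralizer_symm ?_
            rw [zpowers_le]
            exact hz2.2
        exact (le_centralizer_symm h2) (mem_zpowers z)
      exact mem_oP' (isNilpotent_fittingOf M) h1 (orderOf_coprime_of_mem_oP' hz1)
    have h3 : z * c = c * z := mem_centralizer_iff.mp hc.1.2 z hz3
    have h4 : d * c = c * d := mem_centralizer_iff.mp hc.2 d hd
    have h5 : k⁻¹ * d * k = d * z := by rw [hz]; group
    have h6 : (k⁻¹ * d * k) * c = c * (k⁻¹ * d * k) := by
      rw [h5, mul_assoc, h3, ← mul_assoc, h4, mul_assoc]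
    calc d * (k * c * k⁻¹) = k * ((k⁻¹ * d * k) * c) * k⁻¹ := by group
      _ = k * (c * (k⁻¹ * d * k)) * k⁻¹ := by rw [h6]
      _ = k * c * k⁻¹ * d := by group
  have hKC : K ≤ normalizer (C : Set G) := by
    intro k hk
    rw [mem_normalizer_iff]
    intro c
    refine ⟨fun hc => hconjK k hk c hc, fun hc => ?_⟩
    have := hconjK k⁻¹ (K.inv_mem hk) _ hc
    simpa [mul_assoc] using this
  have h1 : D1 ≤ oP q C := le_oP (le_inf (le_inf hD1M hD1F) hD12) hD1 hn
  have h2 : oP q C ≤ oP q K :=
    le_oP ((oP_le q C).trans inf_le_left) (isPGroup_oP q C) (hKC.trans (normalizer_le_oP q C))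
  have h3 : oP q K ≤ oP q M :=
    le_oP ((oP_le q K).trans inf_le_left) (isPGroup_oP q K) (hMK.trans (normalizer_le_oP q K))
  exact h1.trans (h2.trans h3)

/-! ### the central pieces `Z_q` -/

theorem exists_Z (hG : IsMinSimpleOddOrder G) {M : Subgroup G} (hM : IsCoatom M) {q : ℕ}
    [Fact q.Prime] (hq : q ∣ Nat.card (fittingOf M)) :
    ∃ Z : Subgroup G, Z ≠ ⊥ ∧ IsPGroup q Z ∧ Z ≤ fittingOf M ∧
      Z ≤ centralizer (fittingOf M : Set G) ∧ normalizer (Z : Set G) = M := by
  refine ⟨oP q (fittingOf M) ⊓ centralizer (fittingOf M : Set G),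
    oP_inf_centralizer_ne_bot (isNilpotent_fittingOf M) hq,
    (isPGroup_oP q (fittingOf M)).to_le inf_le_left, inf_le_left.trans (oP_le _ _),
    inf_le_right, ?_⟩
  apply MinSimpleBasic.normalizer_eq_of_le_coatom hG hM
  · exact oP_inf_centralizer_ne_bot (isNilpotent_fittingOf M) hq
  · exact (inf_le_left.trans (oP_le _ _)).trans (FitAux.fittingOf_le M)
  · exact le_normalizer_inf ((FitAux.le_normalizer_fittingOf M).trans (normalizer_le_oP q _))
      ((FitAux.le_normalizer_fittingOf M).trans (normalizer_le_normalizer_centralizer _))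

/-- `O_{q'}(M) ∩ X ≤ O_{q'}(X)` for every proper `X` containing `Z(F(M))_q`. -/
theorem oP'_inf_le (hG : IsMinSimpleOddOrder G) {M X Z : Subgroup G} {q : ℕ} [Fact q.Prime]
    (hZ : IsPGroup q Z) (hN : normalizer (Z : Set G) = M) (hX : X ≠ ⊤) (hZX : Z ≤ X) :
    oP' q M ⊓ X ≤ oP' q X :=
  LocalCore.pPrimeCoreOf_inf_le q M X Z (MinSimpleBasic.isSolvable_of_ne_top hG hX) hZ hZX
    hN.ge (inf_le_right.trans hN.le)

end Cfsg.Agent.OddOrderLocal.FitUniqA
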