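import Cfsg.Agent.OddOrderLocal.FitUniqA

/-!
B&G Theorem 8.1(a), main argument.
-/

set_option autoImplicit false

namespace Cfsg.Agent.OddOrderLocal.FitUniqA2

open Cfsg Cfsg.Agent Cfsg.Agent.Lib Cfsg.Agent.OddOrderLocal
open Cfsg.Agent.OddOrderLocal.NilParts Cfsg.Agent.OddOrderLocal.PiCoreOf
open Cfsg.Agent.OddOrderLocal.FitUniqA
open Subgroup

variable {G : Type*} [Group G] [Finite G]

/-- the standing hypotheses of Theorem 8.1(a). -/
structure Setup (M A₀ : Subgroup G) (p : ℕ) : Prop where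
  hG : IsMinSimpleOddOrder G
  hM : IsCoatom M
  hp : p.Prime
  le : A₀ ≤ fittingOf M
  comm : ∀ a ∈ A₀, ∀ b ∈ A₀, a * b = b * a
  pow : ∀ a ∈ A₀, a ^ p = 1
  card : p ^ 3 ≤ Nat.card A₀
  notp : ∀ q : ℕ, q.Prime → q ∣ Nat.card (fittingOf M) →
    ∃ r : ℕ, r.Prime ∧ r ∣ Nat.card (fittingOf M) ∧ r ≠ q

variable {M A₀ : Subgroup G} {p : ℕ}

/-- `A = C_F(A₀)` -/
def cA (M A₀ : Subgroup G) : Subgroup G := fittingOf M ⊓ centralizer (A₀ : Set G)

theorem cA_def (M A₀ : Subgroup G) : cA M A₀ = fittingOf M ⊓ centralizer (A₀ : Set G) := rfl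

theorem cA_le (M A₀ : Subgroup G) : cA M A₀ ≤ fittingOf M := inf_le_left

theorem A₀_le (h : Setup M A₀ p) : A₀ ≤ cA M A₀ :=
  le_inf h.le (le_centralizer_of_comm h.comm)

theorem isPGroup_A₀ (h : Setup M A₀ p) : IsPGroup p A₀ := by
  rintro ⟨a, ha⟩
  exact ⟨1, Subtype.ext (by simpa using h.pow a ha)⟩

theorem isNilpotent_cA (M A₀ : Subgroup G) : Group.IsNilpotent (cA M A₀) :=
  isNilpotent_of_le (cA_le M A₀) (isNilpotent_fittingOf M)

/-- C2 -/
theorem inf_centralizer_cA_le (h : Setup M A₀ p) :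
    fittingOf M ⊓ centralizer (cA M A₀ : Set G) ≤ cA M A₀ :=
  inf_le_inf_left _ (centralizer_le (SetLike.coe_subset_coe.mpr (A₀_le h)))

theorem Z_le_cA (h : Setup M A₀ p) {Z : Subgroup G} (h1 : Z ≤ fittingOf M)
    (h2 : Z ≤ centralizer (fittingOf M : Set G)) : Z ≤ cA M A₀ :=
  le_inf h1 (h2.trans (centralizer_le (SetLike.coe_subset_coe.mpr h.le)))

theorem Z_le_oP (h : Setup M A₀ p) {Z : Subgroup G} {q : ℕ} [Fact q.Prime] (h0 : IsPGroup q Z)
    (h1 : Z ≤ fittingOf M)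
    (h2 : Z ≤ centralizer (fittingOf M : Set G)) : Z ≤ oP q (cA M A₀) := by
  intro z hz
  obtain ⟨k, hk⟩ := h0 ⟨z, hz⟩
  exact mem_oP (isNilpotent_cA M A₀) (Z_le_cA h h1 h2 hz) (k := k) (congrArg Subtype.val hk)

/-- C1 -/
theorem centralizer_oP_cA_le (h : Setup M A₀ p) {q : ℕ} [Fact q.Prime]
    (hq : q ∣ Nat.card (fittingOf M)) : centralizer (oP q (cA M A₀) : Set G) ≤ M := by
  obtain ⟨Z, _, hZp, hZF, hZC, hN⟩ := exists_Z h.hG h.hM hq
  calc centralizer (oP q (cA M A₀) : Set G) ≤ centralizer (Z : Set G) :=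
        centralizer_le (SetLike.coe_subset_coe.mpr (Z_le_oP h hZp hZF hZC))
    _ ≤ normalizer (Z : Set G) := centralizer_le_normalizer _
    _ = M := hN

theorem p_dvd (h : Setup M A₀ p) : p ∣ Nat.card (fittingOf M) := by
  haveI := Fact.mk h.hp
  have h1 : p ∣ Nat.card A₀ := by
    obtain ⟨n, hn⟩ := IsPGroup.iff_card.mp (isPGroup_A₀ h)
    rcases n with _ | n
    · exfalso
      have h2 := h.card
      rw [hn, pow_zero] at h2
      have h3 : 1 < p ^ 3 := Nat.one_lt_pow (by norm_num) h.hp.one_lt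
      omega
    · rw [hn]; exact dvd_pow_self _ (Nat.succ_ne_zero n)
  exact h1.trans (card_dvd_of_le h.le)

/-- C3 -/
theorem dvd_card_cA_iff (h : Setup M A₀ p) {q : ℕ} (hq : q.Prime) :
    q ∣ Nat.card (cA M A₀) ↔ q ∣ Nat.card (fittingOf M) := by
  haveI := Fact.mk hq
  refine ⟨fun h1 => h1.trans (card_dvd_of_le (cA_le M A₀)), fun h1 => ?_⟩
  obtain ⟨Z, hZ1, hZp, hZF, hZC, _⟩ := exists_Z h.hG h.hM h1
  have h2 : q ∣ Nat.card Z := by
    obtain ⟨n, hn⟩ := IsPGroup.iff_card.mp hZp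
    rcases n with _ | n
    · exfalso
      exact hZ1 (Subgroup.card_eq_one.mp (by simpa using hn))
    · rw [hn]; exact dvd_pow_self _ (Nat.succ_ne_zero n)
  exact h2.trans (card_dvd_of_le (Z_le_cA h hZF hZC))

theorem centralizer_cA_le (h : Setup M A₀ p) : centralizer (cA M A₀ : Set G) ≤ M := by
  haveI := Fact.mk h.hp
  exact (centralizer_le (SetLike.coe_subset_coe.mpr (oP_le p _))).trans
    (centralizer_oP_cA_le h (p_dvd h))

theorem coprime_iff (h : Setup M A₀ p) (Y : Subgroup G) :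
    (Nat.card Y).Coprime (Nat.card (cA M A₀)) ↔ (Nat.card Y).Coprime (Nat.card (fittingOf M)) := by
  constructor
  · intro h1
    refine Nat.Coprime.symm (Nat.coprime_of_dvd' fun k hk hk1 hk2 => ?_)
    have h3 := Nat.dvd_gcd hk2 ((dvd_card_cA_iff h hk).mpr hk1)
    rwa [h1] at h3
  · intro h1
    exact h1.coprime_dvd_right (card_dvd_of_le (cA_le M A₀))

/-- C4 -/
theorem eq_bot_of_le_centralizer (h : Setup M A₀ p) {Y : Subgroup G}
    (hY : Y ≤ centralizer (cA M A₀ : Set G))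
    (hc : (Nat.card Y).Coprime (Nat.card (fittingOf M))) : Y = ⊥ := by
  have hYM : Y ≤ M := hY.trans (centralizer_cA_le h)
  have h1 : Y ≤ centralizer (fittingOf M : Set G) := by
    refine S1442.result (fittingOf M) Y (isNilpotent_fittingOf M)
      (hYM.trans (FitAux.le_normalizer_fittingOf M)) hc ?_
    have h2 : cA M A₀ ≤ fittingOf M ⊓ centralizer (Y : Set G) :=
      le_inf (cA_le M A₀) (le_centralizer_symm hY)
    calc fittingOf M ⊓ centralizer ((fittingOf M ⊓ centralizer (Y : Set G) : Subgroup G) : Set G)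
        ≤ fittingOf M ⊓ centralizer (cA M A₀ : Set G) :=
          inf_le_inf_left _ (centralizer_le (SetLike.coe_subset_coe.mpr h2))
      _ ≤ cA M A₀ := inf_centralizer_cA_le h
      _ ≤ _ := h2
  have h2 : Y ≤ fittingOf M :=
    (le_inf hYM h1).trans
      (inf_centralizer_fittingOf_le (MinSimpleBasic.isSolvable_of_isCoatom h.hG h.hM))
  have h3 : Nat.card Y = 1 := Nat.Coprime.eq_one_of_dvd hc (card_dvd_of_le h2)
  exact Subgroup.card_eq_one.mp h3

/-- C5 -/
theorem oP_cA_le_oP' (h : Setup M A₀ p) {q r : ℕ} [Fact q.Prime] [Fact r.Prime]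
    (hq : q ∣ Nat.card (fittingOf M)) (hrq : r ≠ q) {X : Subgroup G} (hX : X ≠ ⊤)
    (hAX : cA M A₀ ≤ X) : oP r (cA M A₀) ≤ oP' q X := by
  obtain ⟨Z, _, hZp, hZF, hZC, hN⟩ := exists_Z h.hG h.hM hq
  have h1 : oP r (cA M A₀) ≤ oP' q M :=
    ((oP_mono (isNilpotent_fittingOf M) (cA_le M A₀) r).trans
      (oP_le_oP' hrq _)).trans (oP'_fittingOf_le q M)
  exact (le_inf h1 ((oP_le _ _).trans hAX)).trans
    (oP'_inf_le h.hG hZp hN hX ((Z_le_cA h hZF hZC).trans hAX))

/-- C7 -/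
theorem inv_le_oP' (h : Setup M A₀ p) {X Y : Subgroup G} (hX : X ≠ ⊤) (hAX : cA M A₀ ≤ X)
    (hYX : Y ≤ X) (hAY : cA M A₀ ≤ normalizer (Y : Set G))
    (hc : (Nat.card Y).Coprime (Nat.card (fittingOf M))) {q : ℕ} [hqp : Fact q.Prime]
    (hq : q ∣ Nat.card (fittingOf M)) : Y ≤ oP' q X := by
  obtain ⟨r, hr, hrF, hrq⟩ := h.notp q hqp.out hq
  haveI := Fact.mk hr
  set A := cA M A₀ with hA
  set R := oP r A with hR
  have hRA : R ≤ A := oP_le r A
  have hRY : R ≤ normalizer (Y : Set G) := hRA.trans hAY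
  have hcR : (Nat.card R).Coprime (Nat.card Y) :=
    (hc.coprime_dvd_right (card_dvd_of_le (hRA.trans (cA_le M A₀)))).symm
  have hRs : Group.IsSolvable R := by
    haveI := (isPGroup_oP r A).isNilpotent
    infer_instance
  have h1 := S0026.result R Y hRY hcR (Or.inl hRs)
  have hRX : R ≤ oP' q X := oP_cA_le_oP' h hq hrq hX hAX
  have h2 : ⁅Y, R⁆ ≤ oP' q X := by
    rw [commutator_le]
    intro y hy r hr
    have h3 : y * r * y⁻¹ ∈ oP' q X :=
      (mem_normalizer_iff.mp (le_normalizer_oP' q X (hYX hy)) r).mp (hRX hr)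
    rw [commutatorElement_def]
    exact (oP' q X).mul_mem h3 ((oP' q X).inv_mem (hRX hr))
  have h3 : Y ⊓ centralizer (R : Set G) = ⊥ := by
    set T := Y ⊓ centralizer (R : Set G) with hT
    have hTM : T ≤ M := inf_le_right.trans (centralizer_oP_cA_le h hrF)
    have hAT : A ≤ normalizer (T : Set G) :=
      le_normalizer_inf hAY ((le_normalizer_oP r A).trans (normalizer_le_normalizer_centralizer _))
    have hcT : (Nat.card T).Coprime (Nat.card (fittingOf M)) :=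
      hc.coprime_dvd_left (card_dvd_of_le inf_le_left)
    apply eq_bot_of_le_centralizer h _ hcT
    refine le_centralizer_of_comm fun t ht a ha => ?_
    have h4 : t * a * t⁻¹ * a⁻¹ ∈ T := by
      have h5 := (mem_normalizer_iff.mp (hAT ha) t⁻¹).mp (T.inv_mem ht)
      have h6 := T.mul_mem ht h5
      simpa [mul_assoc] using h6
    have h5 : t * a * t⁻¹ * a⁻¹ ∈ fittingOf M := by
      have haF := cA_le M A₀ ha
      exact (fittingOf M).mul_mem
        ((mem_normalizer_iff.mp (FitAux.le_normalizer_fittingOf M (hTM ht)) a).mp haF)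
        ((fittingOf M).inv_mem haF)
    have h6 : T ⊓ fittingOf M = ⊥ := (disjoint_of_coprime_natCard hcT).eq_bot
    have h7 : t * a * t⁻¹ * a⁻¹ ∈ T ⊓ fittingOf M := ⟨h4, h5⟩
    rw [h6, mem_bot] at h7
    have h8 := mul_inv_eq_one.mp h7
    exact mul_inv_eq_iff_eq_mul.mp h8
  rw [h3, sup_bot_eq] at h1
  rw [← h1]
  exact h2

/-- C6 -/
theorem transitivityHypothesis (h : Setup M A₀ p) : TransitivityHypothesis (cA M A₀) := by
  haveI := Fact.mk h.hp
  have hpA : p ∣ Nat.card (cA M A₀) := (dvd_card_cA_iff h h.hp).mpr (p_dvd h)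
  refine ⟨?_, ?_, ?_⟩
  · intro hb
    rw [hb, Subgroup.card_bot] at hpA
    exact h.hp.one_lt.ne' (Nat.dvd_one.mp hpA)
  · intro ht
    exact h.hM.1 (top_le_iff.mp (ht ▸ (cA_le M A₀).trans (FitAux.fittingOf_le M)))
  · intro X hX hAX
    apply le_antisymm
    · refine sSup_le ?_
      rintro Y ⟨hYX, hYπ, hYA⟩
      have hc : (Nat.card Y).Coprime (Nat.card (fittingOf M)) :=
        (coprime_iff h Y).mp (coprime_of_isPi_primesNotDvd hYπ)
      let W : Subgroup G := X ⊓ ⨅ q : {q : ℕ // q.Prime ∧ q ∣ Nat.card (fittingOf M)}, oP' q X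
      have hYW : Y ≤ W := by
        refine le_inf hYX (le_iInf fun q => ?_)
        haveI := Fact.mk q.2.1
        exact inv_le_oP' h hX hAX hYX hYA hc q.2.2
      refine hYW.trans (le_piCoreOf inf_le_left ?_ ?_)
      · intro x hx
        rw [mem_normalizer_iff]
        intro w
        simp only [W, mem_inf, mem_iInf]
        refine and_congr ?_ (forall_congr' fun q => ?_)
        · exact mem_normalizer_iff.mp (le_normalizer hx) w
        · exact mem_normalizer_iff.mp (le_normalizer_oP' q X hx) w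
      · intro l hl hlW
        refine ⟨hl, fun hlA => ?_⟩
        have hlF := (dvd_card_cA_iff h hl).mp hlA
        have h1 : W ≤ oP' l X := inf_le_right.trans (iInf_le _ (⟨l, hl, hlF⟩ :
          {q : ℕ // q.Prime ∧ q ∣ Nat.card (fittingOf M)}))
        have h2 := hlW.trans (card_dvd_of_le h1)
        have h3 := coprime_oP' l X
        have h4 := Nat.dvd_gcd h2 (dvd_refl l)
        rw [h3] at h4
        exact hl.one_lt.ne' (Nat.dvd_one.mp h4)
    · refine le_sSup ⟨piCoreOf_le _ _, piCoreOf_isPi _ _, ?_⟩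
      exact hAX.trans (le_normalizer_piCoreOf _ X)

/-- C8: no nontrivial `A`-invariant `q`-subgroups for `q ∉ π(F)`. -/
theorem inv_eq_bot (h : Setup M A₀ p) {q : ℕ} (hq : q.Prime)
    (hqF : ¬ q ∣ Nat.card (fittingOf M)) {Y : Subgroup G} (hY : IsPGroup q Y)
    (hAY : cA M A₀ ≤ normalizer (Y : Set G)) : Y = ⊥ := by
  haveI := Fact.mk h.hp
  haveI := Fact.mk hq
  have hqA : ¬ q ∣ Nat.card (cA M A₀) := fun h1 => hqF ((dvd_card_cA_iff h hq).mp h1)
  have hFtop : fittingOf M ≠ ⊤ := fun ht =>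
    h.hM.1 (top_le_iff.mp (ht ▸ FitAux.fittingOf_le M))
  have hK : piCoreOf (primesNotDvd (Nat.card (cA M A₀))) (centralizer (cA M A₀ : Set G)) = ⊥ := by
    apply eq_bot_of_le_centralizer h (piCoreOf_le _ _)
    exact (coprime_iff h _).mp (coprime_of_isPi_primesNotDvd (piCoreOf_isPi _ _))
  have hZ : ¬ RankLE 2 ↥(cA M A₀ ⊓ centralizer (cA M A₀ : Set G)) := by
    intro hr
    have hle : A₀ ≤ cA M A₀ ⊓ centralizer (cA M A₀ : Set G) := by
      refine le_inf (A₀_le h) (le_centralizer_symm ?_)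
      exact inf_le_right
    have h1 := hr p h.hp (A₀.subgroupOf (cA M A₀ ⊓ centralizer (cA M A₀ : Set G)))
      ⟨⟨fun a b => Subtype.ext (Subtype.ext (h.comm _ a.2 _ b.2))⟩⟩
      (fun a ha => Subtype.ext (h.pow _ ha))
    rw [Nat.card_congr (subgroupOfEquivOfLe hle).toEquiv] at h1
    have h2 := h.card
    have h3 : p ^ 2 < p ^ 3 := Nat.pow_lt_pow_right h.hp.one_lt (by norm_num)
    omega
  have htr := S1393.result h.hG (cA M A₀) (transitivityHypothesis h) hZ q hq hqA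
  have huniq : ∀ Q₁ ∈ maxInvSubgroups ⊤ (cA M A₀) {q}, ∀ Q₂ ∈ maxInvSubgroups ⊤ (cA M A₀) {q},
      Q₂ = Q₁ := by
    intro Q₁ h₁ Q₂ h₂
    obtain ⟨k, hk, hk2⟩ := htr Q₁ h₁ Q₂ h₂
    rw [hK, mem_bot] at hk
    rw [hk2, hk, MinSimpleBasic.map_conj_one]
  have hsub := (S1395.result h.hG (cA M A₀) (transitivityHypothesis h) q hq hqA (fittingOf M)
    hFtop (fun r hr hrF => (dvd_card_cA_iff h hr).mpr hrF) (cA_le M A₀)
    (isSubnormal_of_isNilpotent (isNilpotent_fittingOf M) _) htr).2.2.1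
  obtain ⟨Q, hQ, -⟩ := Transitivity.exists_maxInv_ge
    (Transitivity.bot_mem_inv (⊤ : Subgroup G) (fittingOf M) {q})
  have hQA := hsub hQ
  have hQp : IsPGroup q Q := (isPi_singleton_iff hq Q).mp hQ.1.2.1
  have hMQ : M ≤ normalizer (Q : Set G) := by
    intro m hm
    have h1 := hsub (Transitivity.conj_mem_maxInv_top hQ (FitAux.le_normalizer_fittingOf M hm))
    exact mem_normalizer_iff_conj.mpr (huniq _ hQA _ h1)
  have hQbot : Q = ⊥ := by
    by_contra hne
    have hN : normalizer (Q : Set G) = M :=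
      MinSimpleBasic.normalizer_eq_of_coatom h.hG h.hM hne
        (MinSimpleBasic.ne_top_of_isPGroup h.hG hQp) hMQ
    have hQM : Q ≤ M := le_normalizer.trans hN.le
    have hQF : Q ≤ fittingOf M := FitAux.le_fittingOf hQM hMQ hQp.isNilpotent
    haveI : Nontrivial Q := (Subgroup.nontrivial_iff_ne_bot Q).mpr hne
    obtain ⟨n, hn, hc⟩ := hQp.nontrivial_iff_card.mp inferInstance
    exact hqF ((hc ▸ dvd_pow_self q hn.ne').trans (card_dvd_of_le hQF))
  obtain ⟨Q', hQ', hYQ'⟩ := Transitivity.exists_maxInv_ge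
    (Y := Y) (H := (⊤ : Subgroup G)) (A := cA M A₀) (π := {q})
    ⟨le_top, (isPi_singleton_iff hq Y).mpr hY, hAY⟩
  have h2 := huniq _ hQA _ hQ'
  rw [hQbot] at h2
  exact le_bot_iff.mp (h2 ▸ hYQ')

end Cfsg.Agent.OddOrderLocal.FitUniqA2
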