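import Mathlib
import Cfsg.Prelude.Def_Transfer
import Cfsg.Agent.OddOrderLocal.HyperplaneFixed
import Cfsg.Agent.SignalizersComponents.CoprimeFix
import Cfsg.Agent.Blocks.SylowIn

/-!
# Coprime action: a hyperplane with fixed points outside a normal subgroup

An elementary abelian `p`-subgroup `B` acting on a `q`-group `R` (`q ≠ p`) with an invariant proper normal
subgroup `D`: some `B₁ ≤ B` of index at most `p` centralizes an element of `R` outside `D`.
-/

set_option autoImplicit false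
open Cfsg

namespace Cfsg.Agent.OddOrderLocal.HyperplaneSection

open Subgroup

theorem exists_fixed_not_mem {G : Type*} [Group G] [Finite G] {p q : ℕ} (hp : p.Prime) (hq : q.Prime)
    (hpq : p ≠ q) (B R D : Subgroup G) (hB : Cfsg.IsElementaryAbelian p B) (hR : IsPGroup q R)
    (hDR : D ≤ R) (hne : D ≠ R) (hRD : R ≤ normalizer (D : Set G))
    (hBR : B ≤ normalizer (R : Set G)) (hBD : B ≤ normalizer (D : Set G)) :
    ∃ B₁ : Subgroup G, B₁ ≤ B ∧ B₁.relIndex B ≤ p ∧ ∃ r ∈ R, r ∉ D ∧ ∀ b ∈ B₁, b * r = r * b := by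
  have := Fact.mk hp
  have := Fact.mk hq
  obtain ⟨N, hN⟩ : ∃ N : Subgroup G, N = normalizer (D : Set G) := ⟨_, rfl⟩
  rw [← hN] at hRD hBD
  have hDN : D ≤ N := hDR.trans hRD
  have hD'n : (D.subgroupOf N).Normal := by
    rw [Subgroup.normal_subgroupOf_iff_le_normalizer hDN, hN]
  obtain ⟨π, hπ⟩ : ∃ π : N →* N ⧸ D.subgroupOf N, π = QuotientGroup.mk' (D.subgroupOf N) := ⟨_, rfl⟩
  have hπk : ∀ x : N, π x = 1 ↔ (x : G) ∈ D := by
    intro x
    rw [hπ]
    exact QuotientGroup.eq_one_iff x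
  obtain ⟨hBc, hBp⟩ := hB
  have hBcomm : ∀ a ∈ B, ∀ b ∈ B, a * b = b * a := by
    intro a ha b hb
    have := hBc.is_comm.comm ⟨a, ha⟩ ⟨b, hb⟩
    exact congrArg Subtype.val this
  obtain ⟨B1', hB1B, hB1i, hB1f⟩ := HyperplaneFixed.exists_relIndex_le hp hq hpq
    ((B.subgroupOf N).map π) ((R.subgroupOf N).map π) (by
      refine ⟨⟨⟨?_⟩⟩, ?_⟩
      · rintro ⟨_, a, ha, rfl⟩ ⟨_, b, hb, rfl⟩
        apply Subtype.ext
        show π a * π b = π b * π a
        rw [← map_mul, ← map_mul]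
        congr 1
        exact Subtype.ext (hBcomm a ha b hb)
      · rintro _ ⟨a, ha, rfl⟩
        rw [← map_pow]
        have : a ^ p = 1 := Subtype.ext (hBp a ha)
        rw [this, map_one])
    ((hR.comap_subtype (K := N)).map π)
    (by
      intro hbot
      apply hne
      apply le_antisymm hDR
      intro r hr
      have h1 : π ⟨r, hRD hr⟩ ∈ (R.subgroupOf N).map π := ⟨_, hr, rfl⟩
      rw [hbot, Subgroup.mem_bot, hπk] at h1
      exact h1)
    (by
      rw [Subgroup.le_normalizer_iff]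
      rintro _ ⟨a, ha, rfl⟩ _ ⟨r, hr, rfl⟩
      refine ⟨a * r * a⁻¹, ?_, by simp only [map_mul, map_inv]⟩
      exact Subgroup.le_normalizer_iff.mp hBR a ha r hr)
  -- lift `B₁`
  refine ⟨((B1'.comap π) ⊓ B.subgroupOf N).map N.subtype, ?_, ?_, ?_⟩
  · rintro _ ⟨a, ha, rfl⟩
    exact ha.2
  · have h1 : B = (B.subgroupOf N).map N.subtype := (Subgroup.map_subgroupOf_eq_of_le hBD).symm
    have h2 : (((B1'.comap π) ⊓ B.subgroupOf N).map N.subtype).relIndex B =
        (((B1'.comap π) ⊓ B.subgroupOf N).map N.subtype).relIndex ((B.subgroupOf N).map N.subtype) := by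
      rw [← h1]
    rw [h2, Subgroup.relIndex_map_map_of_injective _ _ N.subtype_injective, Subgroup.inf_relIndex_right,
      Subgroup.relIndex_comap]
    exact hB1i
  · obtain ⟨z, hz⟩ := Subgroup.ne_bot_iff_exists_ne_one.mp hB1f
    obtain ⟨⟨y, hyR, hyz⟩, hzc⟩ := z.2
    have hyD : (y : G) ∉ D := by
      intro h
      apply hz
      apply Subtype.ext
      show z.1 = 1
      rw [← hyz]
      exact (hπk y).mpr h
    have hDp : ¬ p ∣ Nat.card D := by
      obtain ⟨n, hn⟩ := IsPGroup.iff_card.mp (hR.to_le hDR)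
      rw [hn]
      intro h
      exact hpq ((Nat.prime_dvd_prime_iff_eq hp hq).mp (hp.dvd_of_dvd_pow h))
    have hBpg : IsPGroup p B := by
      intro b
      exact ⟨1, by rw [pow_one]; exact Subtype.ext (hBp b b.2)⟩
    obtain ⟨w, hw, hwf⟩ := SignalizersComponents.CoprimeFix.exists_fixed_in_coset
      (((B1'.comap π) ⊓ B.subgroupOf N).map N.subtype)
      (hBpg.to_le (by rintro _ ⟨a, ha, rfl⟩; exact ha.2)) D hDp
      (by
        rintro _ ⟨a, ha, rfl⟩ d hd
        have : (a : G) ∈ normalizer (D : Set G) := hN ▸ a.2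
        exact (Subgroup.mem_normalizer_iff.mp this d).mp hd)
      (y : G)
      (by
        rintro _ ⟨a, ha, rfl⟩
        show (y : G)⁻¹ * ((a : G) * y * (a : G)⁻¹) ∈ D
        have h1 : π (y⁻¹ * (a * y * a⁻¹)) = 1 := by
          have h2 := Subgroup.mem_centralizer_iff.mp hzc (π a) ha.1
          rw [← hyz] at h2
          simp only [map_mul, map_inv]
          rw [h2]
          group
        exact (hπk _).mp h1)
    refine ⟨w, ?_, ?_, ?_⟩
    · have h3 : w = y * ((y : G)⁻¹ * w) := by group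
      rw [h3]
      exact R.mul_mem hyR (hDR hw)
    · intro h
      apply hyD
      have h3 : (y : G) = w * ((y : G)⁻¹ * w)⁻¹ := by group
      rw [h3]
      exact D.mul_mem h (D.inv_mem hw)
    · intro b hb
      exact mul_inv_eq_iff_eq_mul.mp (hwf b hb)

end Cfsg.Agent.OddOrderLocal.HyperplaneSection
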