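import Mathlib
import Cfsg.Prelude.Def_OddOrderLocal
import Cfsg.Agent.Lib.Cores
import Cfsg.Agent.OddOrderLocal.Narrow
import Cfsg.Agent.S1454

/-!
Action version of the first clause of S1454 (B & G 5.5 (a)): if a solvable group `N` of odd order normalizes a
narrow `q`-group `Q` (`q` odd), then every `p`-subgroup of `⁅N, N⁆` with `p ≠ q` centralizes `Q`.
-/

set_option autoImplicit false

namespace Cfsg.Agent.OddOrderLocal.NarrowAction

open Cfsg Subgroup

/-- If `p ≠ q` are primes then an element which has both `p`-power and `q`-power order is trivial. -/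
theorem eq_one_of_pow {H : Type*} [Group H] {p q : ℕ} (hp : p.Prime) (hq : q.Prime) (hpq : p ≠ q) {x : H}
    {m n : ℕ} (h1 : x ^ p ^ m = 1) (h2 : x ^ q ^ n = 1) : x = 1 := by
  have h3 : orderOf x ∣ p ^ m := orderOf_dvd_of_pow_eq_one h1
  have h4 : orderOf x ∣ q ^ n := orderOf_dvd_of_pow_eq_one h2
  have h5 : (p ^ m).Coprime (q ^ n) := Nat.Coprime.pow _ _ ((Nat.coprime_primes hp hq).mpr hpq)
  have h6 : orderOf x = 1 := Nat.eq_one_of_dvd_coprimes h5 h3 h4
  exact orderOf_eq_one_iff.mp h6

/-- A solvable group of odd order of automorphisms of a narrow `q`-group has its derived group in its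
`q`-core. -/
theorem commutator_isPGroup_of_narrow {Q : Type*} [Group Q] [Finite Q] (q : ℕ) [Fact q.Prime] (hq2 : q ≠ 2)
    (hQ : IsPGroup q Q) (hQn : Cfsg.IsNarrow q Q) (A : Subgroup (MulAut Q)) (hAs : Group.IsSolvable A)
    (hAodd : Odd (Nat.card A)) : ∀ a ∈ commutator A, ∃ n : ℕ, a ^ q ^ n = 1 := by
  let Γ := Q ⋊[A.subtype] A
  have hfin : Finite Γ := Finite.of_equiv _ (SemidirectProduct.equivProd (φ := A.subtype)).symm
  let R : Subgroup Γ := (SemidirectProduct.inl : Q →* Γ).range
  let B : Subgroup Γ := (SemidirectProduct.inr : A →* Γ).range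
  have hinl : Function.Injective (SemidirectProduct.inl : Q →* Γ) := SemidirectProduct.inl_injective
  have hinr : Function.Injective (SemidirectProduct.inr : A →* Γ) := SemidirectProduct.inr_injective
  let eR : Q ≃* R := MonoidHom.ofInjective hinl
  let eB : A ≃* B := MonoidHom.ofInjective hinr
  have hR : IsPGroup q R := hQ.of_equiv eR
  have hRn : Cfsg.IsNarrow q R := Narrow.isNarrow_congr eR hQn
  have hBR : B ≤ Subgroup.normalizer (R : Set Γ) := by
    have : R.Normal := by
      have h : R = (SemidirectProduct.rightHom : Γ →* A).ker := SemidirectProduct.range_inl_eq_ker_rightHom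
      rw [h]; infer_instance
    rw [Subgroup.normalizer_eq_top]
    exact le_top
  have hBs : Group.IsSolvable B := Group.isSolvable_of_surjective (f := eB.toMonoidHom) eB.surjective
  have hBodd : Odd (Nat.card B) := by rwa [← Nat.card_congr eB.toEquiv]
  have hfaith : B ⊓ Subgroup.centralizer (R : Set Γ) = ⊥ := by
    rw [eq_bot_iff]
    rintro _ ⟨⟨a, rfl⟩, ha⟩
    have h1 : a = 1 := by
      apply Subtype.ext
      apply MulEquiv.ext
      intro x
      have h2 := Subgroup.mem_centralizer_iff.mp ha (SemidirectProduct.inl x) ⟨x, rfl⟩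
      have h3 : SemidirectProduct.inl (A.subtype a x) =
          (SemidirectProduct.inr a * SemidirectProduct.inl x * SemidirectProduct.inr a⁻¹ : Γ) :=
        SemidirectProduct.inl_aut a x
      have h4 : SemidirectProduct.inl (A.subtype a x) = (SemidirectProduct.inl x : Γ) := by
        rw [h3, ← h2, map_inv, mul_inv_cancel_right]
      exact hinl h4
    rw [h1, map_one]
    exact Subgroup.mem_bot.mpr rfl
  obtain ⟨⟨h1, -⟩, -⟩ := Cfsg.Agent.S1454.result q hq2 R B hR hRn hBR hBs hBodd hfaith
  intro a ha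
  have h2 : eB a ∈ commutator B := by
    have h3 : (commutator A).map eB.toMonoidHom ≤ commutator B := by
      rw [commutator_def, commutator_def, Subgroup.map_commutator]
      exact Subgroup.commutator_mono le_top le_top
    exact h3 ⟨a, ha, rfl⟩
  obtain ⟨n, hn⟩ := Lib.Cores.pCore_isPGroup q ⟨eB a, h1 h2⟩
  refine ⟨n, ?_⟩
  apply eB.injective
  rw [map_pow, map_one]
  simpa using congrArg Subtype.val hn

/-- If a solvable group `N` of odd order normalizes a narrow `q`-group `Q`, `q` odd, then every `p`-subgroup of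
the derived group of `N`, `p ≠ q`, centralizes `Q`. -/
theorem le_centralizer_of_narrow {G : Type*} [Group G] [Finite G] {p q : ℕ} [hp : Fact p.Prime] [hq : Fact q.Prime]
    (hpq : p ≠ q) (hq2 : q ≠ 2) {Q N P : Subgroup G} (hQ : IsPGroup q Q) (hQn : Cfsg.IsNarrow q Q)
    (hN : N ≤ Subgroup.normalizer (Q : Set G)) (hNs : Group.IsSolvable N) (hNodd : Odd (Nat.card N))
    (hP : IsPGroup p P) (hPN : P ≤ ⁅N, N⁆) : P ≤ Subgroup.centralizer (Q : Set G) := by
  let φ : N →* MulAut Q := Q.normalizerMonoidHom.comp (Subgroup.inclusion hN)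
  let A : Subgroup (MulAut Q) := φ.range
  have hAs : Group.IsSolvable A :=
    Group.isSolvable_of_surjective (f := φ.rangeRestrict) φ.rangeRestrict_surjective
  have hAodd : Odd (Nat.card A) :=
    Odd.of_dvd_nat hNodd (Subgroup.card_range_dvd φ)
  have key := commutator_isPGroup_of_narrow q hq2 hQ hQn A hAs hAodd
  intro x hx
  have hxN : x ∈ N := (Subgroup.commutator_le_self N) (hPN hx)
  -- the image of x in A lies in the derived group of A
  have h1 : φ.rangeRestrict ⟨x, hxN⟩ ∈ commutator A := by
    have h2 : (⁅N, N⁆ : Subgroup G) = (commutator N).map N.subtype := by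
      rw [commutator_def, Subgroup.map_commutator, ← MonoidHom.range_eq_map, Subgroup.range_subtype]
    have h3 : x ∈ (commutator N).map N.subtype := h2 ▸ hPN hx
    obtain ⟨y, hy, hyx⟩ := h3
    have h4 : y = ⟨x, hxN⟩ := Subtype.ext hyx
    rw [← h4]
    have h5 : (commutator N).map φ.rangeRestrict ≤ commutator A := by
      rw [commutator_def, commutator_def, Subgroup.map_commutator]
      exact Subgroup.commutator_mono le_top le_top
    exact h5 ⟨y, hy, rfl⟩
  obtain ⟨n, hn⟩ := key _ h1
  obtain ⟨m, hm⟩ := hP ⟨x, hx⟩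
  have hm' : φ.rangeRestrict ⟨x, hxN⟩ ^ p ^ m = 1 := by
    have : (⟨x, hxN⟩ : N) ^ p ^ m = 1 := Subtype.ext (by simpa using congrArg Subtype.val hm)
    rw [← map_pow, this, map_one]
  have h6 := eq_one_of_pow hp.out hq.out hpq hm' hn
  have h7 : φ ⟨x, hxN⟩ = 1 := congrArg Subtype.val h6
  have h8 : (⟨x, hN hxN⟩ : Subgroup.normalizer (Q : Set G)) ∈ Q.normalizerMonoidHom.ker := h7
  rw [Subgroup.normalizerMonoidHom_ker, Subgroup.mem_subgroupOf] at h8
  exact h8

end Cfsg.Agent.OddOrderLocal.NarrowAction
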