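import Mathlib
import Cfsg.Prelude.Def_OddOrderLocal
import Cfsg.Agent.OddOrderLocal.Rank
import Cfsg.Agent.OddOrderLocal.MinSimple
import Cfsg.Agent.OddOrderLocal.MinSimpleBasic
import Cfsg.Agent.OddOrderLocal.PiCoreOf
import Cfsg.Agent.OddOrderLocal.Transitivity
import Cfsg.Agent.OddOrderLocal.NarrowAction
import Cfsg.Agent.Solvable.Zipper
import Cfsg.Agent.S1394
import Cfsg.Agent.S1395
import Cfsg.Agent.S1396
import Cfsg.Agent.S1410
import Cfsg.Agent.S1411
import Cfsg.Agent.S1412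

/-!
B & G, Proposition 10.10.
-/

set_option autoImplicit false

namespace Cfsg.Agent.OddOrderLocal.Sec10_10

open Cfsg Subgroup

variable {G : Type*} [Group G]

/-- A maximal elementary abelian `p`-subgroup `A` contains every element of order `p` centralizing it. -/
theorem mem_of_commute {p : ℕ} {A : Subgroup G} (hA : Cfsg.IsElementaryAbelian p A)
    (hmax : ∀ B : Subgroup G, Cfsg.IsElementaryAbelian p B → A ≤ B → B = A) {x : G}
    (hx : x ∈ Subgroup.centralizer (A : Set G)) (hxp : x ^ p = 1) : x ∈ A := by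
  have h1 : Cfsg.IsElementaryAbelian p (A ⊔ Subgroup.zpowers x) := by
    apply Rank.elemAb_sup hA (Rank.elemAb_zpowers hxp)
    rintro a ha _ ⟨k, rfl⟩
    have h2 : Commute a x := Subgroup.mem_centralizer_iff.mp hx a ha
    exact h2.zpow_right k
  have h2 := hmax _ h1 le_sup_left
  rw [← h2]
  exact (le_sup_right : Subgroup.zpowers x ≤ _) (Subgroup.mem_zpowers x)

/-- A maximal elementary abelian `p`-subgroup of a minimal simple group of odd order satisfies the transitivity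
hypothesis. -/
theorem transitivityHypothesis_of_maximal [Finite G] (hG : Cfsg.IsMinSimpleOddOrder G) {p : ℕ} [Fact p.Prime]
    (hp : p ∣ Nat.card G) {A : Subgroup G} (hA : Cfsg.IsElementaryAbelian p A)
    (hmax : ∀ B : Subgroup G, Cfsg.IsElementaryAbelian p B → A ≤ B → B = A) :
    Cfsg.TransitivityHypothesis A :=
  Cfsg.Agent.S1396.result hG p hp A (Rank.elemAb_isPGroup hA) hA.1
    (Or.inl ⟨fun _ hx => ⟨fun h => mem_of_commute hA hmax hx h, fun h => hA.2 _ h⟩,
      fun H hH => Cfsg.Agent.S1410.result hG p H hH⟩)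

/-- B & G, Proposition 10.10. -/
theorem max_normed_signaliser {G : Type*} [Group G] [Finite G] (hG : Cfsg.IsMinSimpleOddOrder G)
    (p q : ℕ) [Fact p.Prime] [Fact q.Prime] (hpq : p ≠ q) (A : Subgroup G)
    (hA : Cfsg.IsElementaryAbelian p A) (hAc : Nat.card A = p ^ 2)
    (hmax : ∀ B : Subgroup G, Cfsg.IsElementaryAbelian p B → A ≤ B → B = A) (Q : Subgroup G)
    (hQ : Q ∈ Cfsg.maxInvSubgroups ⊤ A {q})
    (hqC : q ∣ Nat.card (Subgroup.centralizer (A : Set G))) :
    ∃ P : Sylow p G, A ≤ (P : Subgroup G) ∧ (P : Subgroup G) ≤ Subgroup.normalizer (Q : Set G) ∧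
      Subgroup.normalizer ((P : Subgroup G) : Set G) =
        Cfsg.piCoreOf (Cfsg.primesNotDvd p) (Subgroup.centralizer ((P : Subgroup G) : Set G)) ⊔
          (Subgroup.normalizer ((P : Subgroup G) : Set G) ⊓ Subgroup.normalizer (Q : Set G)) ∧
      (P : Subgroup G) ≤ ⁅Subgroup.normalizer (Q : Set G), Subgroup.normalizer (Q : Set G)⁆ ∧
      (Cfsg.IsNarrow q Q → (P : Subgroup G) ≤ Subgroup.centralizer (Q : Set G)) := by
  have hp : p.Prime := Fact.out
  have hq : q.Prime := Fact.out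
  have hpA : ∀ r : ℕ, r.Prime → (r ∣ Nat.card A ↔ r = p) := by
    intro r hr
    rw [hAc]
    constructor
    · intro h
      exact (Nat.prime_dvd_prime_iff_eq hr hp).mp (hr.dvd_of_dvd_pow h)
    · rintro rfl
      exact dvd_pow_self r (by norm_num)
  have hpG : p ∣ Nat.card G := ((hpA p hp).mpr rfl).trans (Subgroup.card_subgroup_dvd_card A)
  have hTH := transitivityHypothesis_of_maximal hG hpG hA hmax
  have hqA : ¬ q ∣ Nat.card A := fun h => hpq ((hpA q hq).mp h).symm
  have hAA : A ≤ Subgroup.centralizer (A : Set G) := by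
    intro x hx
    rw [Subgroup.mem_centralizer_iff]
    intro y hy
    exact (Rank.elemAb_def.mp hA).1 y hy x hx
  have hZ : ¬ Cfsg.RankLE 1 ↥(A ⊓ Subgroup.centralizer (A : Set G)) := by
    refine Rank.not_rankLE_of_elemAb hp (le_inf le_rfl hAA) hA ?_
    rw [hAc]
    exact Nat.pow_lt_pow_right hp.one_lt (by norm_num)
  have htr := Cfsg.Agent.S1394.result hG A hTH hZ q hq hqA hqC
  -- the hypotheses of S1395 hold for every Sylow subgroup containing `A`
  have hS1395 : ∀ P : Sylow p G, A ≤ (P : Subgroup G) → _ := fun P hAP =>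
    Cfsg.Agent.S1395.result hG A hTH q hq hqA (P : Subgroup G) (MinSimpleBasic.sylow_ne_top hG P)
      (by
        intro r hr hrP
        rw [hpA r hr]
        obtain ⟨n, hn⟩ := IsPGroup.iff_card.mp P.isPGroup'
        rw [hn] at hrP
        exact (Nat.prime_dvd_prime_iff_eq hr hp).mp (hr.dvd_of_dvd_pow hrP)) hAP
      (Cfsg.Agent.Solvable.Zipper.isSubnormal_of_isNilpotent P.isPGroup'.isNilpotent _) htr
  obtain ⟨P₀, hAP₀⟩ := (Rank.elemAb_isPGroup hA).exists_le_sylow
  obtain ⟨-, -, hc0, -⟩ := hS1395 P₀ hAP₀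
  obtain ⟨Q₁, hQ₁, -⟩ := Transitivity.exists_maxInv_ge (Transitivity.bot_mem_inv (⊤ : Subgroup G) (P₀ : Subgroup G) {q})
  obtain ⟨k, hk, hQk⟩ := htr Q₁ (hc0 hQ₁) Q hQ
  have hkC : k ∈ Subgroup.centralizer (A : Set G) := PiCoreOf.piCoreOf_le _ _ hk
  let P : Sylow p G := k • P₀
  have hPeq : (P : Subgroup G) = (P₀ : Subgroup G).map (MulAut.conj k).toMonoidHom := rfl
  have hAk : A.map (MulAut.conj k).toMonoidHom = A := MinSimpleBasic.map_conj_of_mem_centralizer hkC
  have hAP : A ≤ (P : Subgroup G) := by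
    rw [hPeq, ← hAk]
    exact Subgroup.map_mono hAP₀
  have hQP : Q ∈ Cfsg.maxInvSubgroups ⊤ (P : Subgroup G) {q} := by
    have h := Transitivity.map_conj_mem_maxInv hQ₁ k
    rw [← hQk, ← hPeq] at h
    rwa [← MonoidHom.range_eq_map, MonoidHom.range_eq_top_of_surjective _ (MulAut.conj k).surjective] at h
  obtain ⟨-, -, -, hd⟩ := hS1395 P hAP
  obtain ⟨hd1, hd2⟩ := hd Q hQP
  have hprimes : Cfsg.primesNotDvd (Nat.card A) = Cfsg.primesNotDvd p := by
    ext r
    constructor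
    · rintro ⟨h1, h2⟩
      exact ⟨h1, fun h => h2 ((hpA r h1).mpr ((Nat.prime_dvd_prime_iff_eq h1 hp).mp h))⟩
    · rintro ⟨h1, h2⟩
      exact ⟨h1, fun h => h2 (((hpA r h1).mp h) ▸ dvd_rfl)⟩
  rw [hprimes] at hd2
  obtain ⟨V, hV, -⟩ := Cfsg.Agent.S1412.exists_compl P
  have hPd := (Cfsg.Agent.S1411.result hG p P V hV).2
  have hPQ : (P : Subgroup G) ≤ ⁅Subgroup.normalizer (Q : Set G), Subgroup.normalizer (Q : Set G)⁆ :=
    (le_inf le_rfl hPd).trans hd1
  refine ⟨P, hAP, hQP.1.2.2, hd2, hPQ, ?_⟩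
  intro hn
  by_cases hQ1 : Q = ⊥
  · subst hQ1
    intro x _
    rw [Subgroup.mem_centralizer_iff]
    intro y hy
    rw [SetLike.mem_coe, Subgroup.mem_bot] at hy
    rw [hy, one_mul, mul_one]
  · have hQp : IsPGroup q Q := (PiCoreOf.isPi_singleton_iff hq Q).mp hQ.1.2.1
    have hN : Subgroup.normalizer (Q : Set G) ≠ ⊤ :=
      MinSimpleBasic.normalizer_ne_top hG hQ1 (MinSimpleBasic.ne_top_of_isPGroup hG hQp)
    exact NarrowAction.le_centralizer_of_narrow hpq
      (MinSimpleBasic.prime_ne_two_of_isPGroup hG hQp hQ1) hQp hn le_rfl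
      (MinSimpleBasic.isSolvable_of_ne_top hG hN) (MinSimpleBasic.odd_card_subgroup hG _)
      P.isPGroup' hPQ

end Cfsg.Agent.OddOrderLocal.Sec10_10
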