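import Mathlib
import Cfsg.Prelude.Def_OddOrderLocal
import Cfsg.Agent.OddOrderLocal.PiCore
import Cfsg.Agent.OddOrderLocal.PiCoreOf
import Cfsg.Agent.OddOrderLocal.HallPi
import Cfsg.Agent.OddOrderLocal.Rank
import Cfsg.Agent.OddOrderLocal.RankBasics
import Cfsg.Agent.OddOrderLocal.ZGroup
import Cfsg.Agent.OddOrderLocal.MinSimple
import Cfsg.Agent.OddOrderLocal.MinSimpleBasic
import Cfsg.Agent.OddOrderLocal.FcoreChain
import Cfsg.Agent.OddOrderLocal.SylowInter
import Cfsg.Agent.OddOrderLocal.SigmaCompl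
import Cfsg.Agent.OddOrderLocal.AlphaCore
import Cfsg.Agent.OddOrderLocal.SigmaCoreBasic808
import Cfsg.Agent.OddOrderLocal.NilpotentHall
import Cfsg.Agent.OddOrderLocal.CyclicSub
import Cfsg.Agent.OddOrderLocal.FpfSolvable
import Cfsg.Agent.OddOrderLocal.FittingHall
import Cfsg.Agent.OddOrderLocal.FitAux
import Cfsg.Agent.OddOrderLocal.SigmaElements
import Cfsg.Agent.OddOrderLocal.CommProd
import Cfsg.Agent.Lib.CoprimeCommutator
import Cfsg.Agent.OddOrderLocal.Sec10_10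
import Cfsg.Agent.Lib.CoprimeAbelian
import Cfsg.Agent.S1403
import Cfsg.Agent.S1405
import Cfsg.Agent.S1408
import Cfsg.Agent.S1411
import Cfsg.Agent.S1415

/-!
B&G Proposition 10.11: the action of `σ(M)'`-subgroups of a maximal subgroup `M` on `M_σ`.
-/

set_option autoImplicit false
set_option linter.style.haveILetI false

namespace Cfsg.Agent.OddOrderLocal.Sec10_11

open Cfsg Cfsg.Agent Cfsg.Agent.OddOrderLocal
open scoped commutatorElement

variable {G : Type*} [Group G]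

/-- `(C T)' ≤ C T'` when `T` normalizes `C`. -/
theorem commutator_sup_le {C T : Subgroup G} (hTC : T ≤ Subgroup.normalizer (C : Set G)) :
    ⁅C ⊔ T, C ⊔ T⁆ ≤ C ⊔ ⁅T, T⁆ := by
  set L : Subgroup G := Subgroup.normalizer (C : Set G) with hL
  have hCL : C ≤ L := Subgroup.le_normalizer
  have hsup : C ⊔ T ≤ L := sup_le hCL hTC
  haveI hn : (C.subgroupOf L).Normal := Subgroup.normal_in_normalizer
  set f := QuotientGroup.mk' (C.subgroupOf L) with hf
  have h1 : ((C ⊔ T).subgroupOf L).map f = (T.subgroupOf L).map f := by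
    rw [Subgroup.subgroupOf_sup hCL hTC, Subgroup.map_sup]
    have : (C.subgroupOf L).map f = ⊥ := by
      rw [Subgroup.map_eq_bot_iff, hf, QuotientGroup.ker_mk']
    rw [this, bot_sup_eq]
  have h2 : (⁅(C ⊔ T).subgroupOf L, (C ⊔ T).subgroupOf L⁆).map f ≤
      (⁅T.subgroupOf L, T.subgroupOf L⁆).map f := by
    rw [Subgroup.map_commutator, Subgroup.map_commutator, h1]
  rw [Subgroup.map_le_iff_le_comap, Subgroup.comap_map_eq, hf, QuotientGroup.ker_mk'] at h2
  have h3 := Subgroup.map_mono (f := L.subtype) h2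
  rw [Subgroup.map_commutator, Subgroup.map_sup, Subgroup.map_commutator,
    Subgroup.map_subgroupOf_eq_of_le hsup, Subgroup.map_subgroupOf_eq_of_le hTC,
    Subgroup.map_subgroupOf_eq_of_le hCL] at h3
  rw [sup_comm C ⁅T, T⁆]
  exact h3

/-- If the derived subgroup of `N ≤ C T` contains the `p`-group `P`, where the `p'`-group `C`
centralizes `P` and is normalized by `T`, then `P ≤ T'`. -/
theorem le_commutator_of_le_sup [Finite G] {P N C T : Subgroup G} {p : ℕ} [hp : Fact p.Prime]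
    (hPp : IsPGroup p P) (hPN : P ≤ ⁅N, N⁆) (hN : N ≤ C ⊔ T)
    (hTC : T ≤ Subgroup.normalizer (C : Set G))
    (hCP : C ≤ Subgroup.centralizer (P : Set G)) (hCp : ¬ p ∣ Nat.card C) :
    P ≤ ⁅T, T⁆ := by
  intro x hx
  have hx1 : x ∈ C ⊔ ⁅T, T⁆ := commutator_sup_le hTC (Subgroup.commutator_mono hN hN (hPN hx))
  have hTT : ⁅T, T⁆ ≤ Subgroup.normalizer (C : Set G) := (Subgroup.commutator_le_self T).trans hTC
  rw [sup_comm] at hx1
  obtain ⟨t, ht, c, hc, hct⟩ := RankBasics.exists_mul_of_mem_sup hTT hx1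
  have hcx : Commute c x := (Subgroup.mem_centralizer_iff.mp (hCP hc) x hx).symm
  have ht' : t = c⁻¹ * x := by
    have h1 : t = x * c⁻¹ := by rw [← hct]; group
    rw [h1]; exact hcx.symm.inv_right.eq
  have hpow : t ^ Nat.card C = x ^ Nat.card C := by
    rw [ht', (hcx.inv_left).mul_pow, inv_pow]
    have : c ^ Nat.card C = 1 := by
      have := pow_card_eq_one' (x := (⟨c, hc⟩ : C))
      exact congrArg Subtype.val this
    rw [this]; simp
  have hmem : x ^ Nat.card C ∈ ⁅T, T⁆ := by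
    rw [← hpow]; exact pow_mem ht _
  obtain ⟨k, hk⟩ := hPp ⟨x, hx⟩
  have hk' : x ^ p ^ k = 1 := congrArg Subtype.val hk
  have hcop : (Nat.card C).Coprime (p ^ k) :=
    (Nat.Coprime.pow_left k ((Nat.Prime.coprime_iff_not_dvd hp.out).mpr hCp)).symm
  have hb : ((Nat.card C : ℤ)).gcd ((p ^ k : ℕ) : ℤ) = 1 := by
    rw [Int.gcd_natCast_natCast]; exact hcop
  have hbez := Int.gcd_eq_gcd_ab (Nat.card C : ℤ) ((p ^ k : ℕ) : ℤ)
  rw [hb] at hbez
  have h1 : x = (x ^ Nat.card C) ^ (Int.gcdA (Nat.card C : ℤ) ((p ^ k : ℕ) : ℤ)) := by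
    conv_lhs => rw [← zpow_one x]
    have : (1 : ℤ) = ((1 : ℕ) : ℤ) := rfl
    rw [this, hbez, zpow_add, zpow_mul, zpow_mul, zpow_natCast, zpow_natCast, hk', one_zpow, mul_one]
  rw [h1]
  exact Subgroup.zpow_mem _ hmem _

/-- A Sylow subgroup is contained in the derived subgroup of its normalizer. -/
theorem sylow_le_commutator_normalizer [Finite G] (hG : Cfsg.IsMinSimpleOddOrder G) {p : ℕ}
    [Fact p.Prime] (P : Sylow p G) :
    (P : Subgroup G) ≤ ⁅Subgroup.normalizer ((P : Subgroup G) : Set G),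
      Subgroup.normalizer ((P : Subgroup G) : Set G)⁆ := by
  have hPN : (P : Subgroup G) ≤ Subgroup.normalizer ((P : Subgroup G) : Set G) :=
    Subgroup.le_normalizer
  have hc : (Nat.card (P : Subgroup G)).Coprime
      ((P : Subgroup G).relIndex (Subgroup.normalizer ((P : Subgroup G) : Set G))) := by
    refine Nat.Coprime.of_dvd_right ?_ P.card_coprime_index
    rw [← Subgroup.relIndex_mul_index hPN]
    exact dvd_mul_right _ _
  obtain ⟨V, hV⟩ := SigmaCompl.exists_isComplIn_of_coprime hPN le_rfl hc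
  exact (S1411.result hG p P V (HallPi.isComplIn_symm hV)).2

/-- A `p`-subgroup containing a Sylow `p`-subgroup equals it. -/
theorem sylow_maximal' {p : ℕ} (P : Sylow p G) {Q : Subgroup G} (hQ : IsPGroup p Q)
    (h : (P : Subgroup G) ≤ Q) : Q = (P : Subgroup G) := P.3 hQ h

/-- An elementary abelian subgroup `A` of order `p²` of the maximal subgroup `M`, `p ∉ σ(M)`,
is not a uniqueness subgroup. -/
theorem not_inUniqueMaximal_of_not_mem_sigma [Finite G] (hG : Cfsg.IsMinSimpleOddOrder G)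
    {M : Subgroup G} (hM : IsCoatom M) {p : ℕ} [hp : Fact p.Prime] (hpσ : p ∉ Cfsg.sigma M)
    {A : Subgroup G} (hAp : IsPGroup p A) (hA1 : A ≠ ⊥) (hAM : A ≤ M) :
    ¬ Cfsg.InUniqueMaximal A := by
  intro hU
  obtain ⟨P, hP⟩ := SigmaCoreBasic808.exists_sylow_ge hAp hAM
  set Q : Subgroup G := (P : Subgroup M).map M.subtype with hQ
  have hQp : IsPGroup p Q := P.isPGroup'.map _
  have hQ1 : Q ≠ ⊥ := fun h => hA1 (le_bot_iff.mp (h ▸ hP))
  have hQt : Q ≠ ⊤ := MinSimpleBasic.ne_top_of_isPGroup hG hQp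
  have hle : Subgroup.normalizer (Q : Set G) ≤ M :=
    MinSimple.le_of_inUniqueMaximal hU hM hAM (hP.trans Subgroup.le_normalizer)
      (MinSimple.normalizer_ne_top hG hQ1 hQt)
  refine hpσ ⟨hp.out, ?_, P, hle⟩
  have h1 : p ∣ Nat.card A := by
    obtain ⟨n, hn⟩ := IsPGroup.iff_card.mp hAp
    rw [hn]
    refine dvd_pow_self p ?_
    rintro rfl
    rw [pow_zero] at hn
    exact hA1 (Subgroup.card_eq_one.mp hn)
  exact h1.trans (Subgroup.card_dvd_of_le hAM)

/-- If `M_σ` has rank at most 2 then so has `M`. -/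
theorem rankLE_two_of_sigmaCore [Finite G] (hG : Cfsg.IsMinSimpleOddOrder G)
    {M : Subgroup G} (hM : IsCoatom M) (h : Cfsg.RankLE 2 (Cfsg.sigmaCore M)) :
    Cfsg.RankLE 2 M := by
  intro q hq
  by_contra hcon
  haveI : Fact q.Prime := ⟨hq⟩
  have hα : q ∈ Cfsg.alpha M := ⟨hq, hcon⟩
  obtain ⟨hHall, -, hle, -⟩ := S1405.result hG M hM
  obtain ⟨B, hBM, hB, hBc⟩ := Rank.exists_elemAb_of_not_pRankLE hcon
  have hBα : B ≤ Cfsg.alphaCore M :=
    AlphaCore.le_of_isPGroup_of_not_dvd_relIndex (AlphaCore.alphaCore_le M)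
      (AlphaCore.le_normalizer_alphaCore M) (hHall.2.2 q hq hα) (Rank.elemAb_isPGroup hB) hBM
  refine Rank.not_rankLE_of_elemAb (k := 2) hq (hBα.trans hle) hB ?_ h
  rw [hBc]
  exact Nat.pow_lt_pow_right hq.one_lt (by norm_num)

/-- B&G 10.11(b): if `K` is a `σ(M)'`-subgroup of `M` then `C_K(M_σ)` has rank at most one. -/
theorem rankLE_one_centralizer_sigmaCore {G : Type*} [Group G] [Finite G]
    (hG : Cfsg.IsMinSimpleOddOrder G) (M : Subgroup G) (hM : IsCoatom M) (K : Subgroup G)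
    (hKM : K ≤ M) (hK : ∀ p : ℕ, p.Prime → p ∣ Nat.card K → p ∉ Cfsg.sigma M) :
    Cfsg.RankLE 1 ↥(K ⊓ Subgroup.centralizer (Cfsg.sigmaCore M : Set G)) := by
  by_contra hcon
  obtain ⟨p, hp, A, hAle, hA, hAc⟩ := Rank.exists_elemAb_of_not_rankLE hcon
  haveI hpf : Fact p.Prime := ⟨hp⟩
  have hAK : A ≤ K := hAle.trans inf_le_left
  have hAM : A ≤ M := hAK.trans hKM
  have hAC : A ≤ Subgroup.centralizer (Cfsg.sigmaCore M : Set G) := hAle.trans inf_le_right
  have hAp : IsPGroup p A := Rank.elemAb_isPGroup hA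
  have hAc' : Nat.card A = p ^ 2 := hAc
  have hA1 : A ≠ ⊥ := by
    rintro rfl
    rw [Subgroup.card_bot] at hAc'
    exact absurd hAc'.symm (Nat.one_lt_pow (by norm_num) hp.one_lt).ne'
  have hpA : p ∣ Nat.card A := by rw [hAc']; exact dvd_pow_self p (by norm_num)
  have hpσ : p ∉ Cfsg.sigma M := hK p hp (hpA.trans (Subgroup.card_dvd_of_le hAK))
  -- `A` is not a uniqueness subgroup
  have hAU := not_inUniqueMaximal_of_not_mem_sigma hG hM hpσ hAp hA1 hAM
  have hr1 : ¬ Cfsg.PRankLE p 1 M := Rank.not_pRankLE_of_elemAb hAM hA (by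
    rw [hAc']; exact Nat.pow_lt_pow_right hp.one_lt (by norm_num))
  have hr2 : Cfsg.PRankLE p 2 M := by
    by_contra h
    exact hpσ (S1405.alpha_subset_sigma hG hM ⟨hp, h⟩)
  have hmax := (S1408.result hG M hM p hpσ hr2 hr1).2 A hAM hA hAc'
  -- `M_σ` has rank at most 2
  have hσ2 : Cfsg.RankLE 2 (Cfsg.sigmaCore M) := by
    by_contra h
    apply hAU
    refine S1403.result hG A (MinSimpleBasic.ne_top_of_isPGroup hG hAp) ?_ (Or.inr ?_)
    · exact Rank.not_rankLE_of_elemAb (k := 1) hp le_rfl hA (by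
        rw [hAc']; exact Nat.pow_lt_pow_right hp.one_lt (by norm_num))
    · intro h'
      refine h (Rank.rankLE_mono ?_ h')
      intro x hx
      rw [Subgroup.mem_centralizer_iff]
      intro a ha
      exact (Subgroup.mem_centralizer_iff.mp (hAC ha) x hx).symm
  have hM2 : Cfsg.RankLE 2 M := rankLE_two_of_sigmaCore hG hM hσ2
  have hMsol : Group.IsSolvable M := MinSimpleBasic.isSolvable_of_isCoatom hG hM
  have hoddM : Odd (Nat.card M) := MinSimpleBasic.odd_card_subgroup hG M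
  have hM'nil : Group.IsNilpotent ↥(commutator M) := (S1451.result hoddM (Or.inl hM2)).1
  -- a normal Sylow subgroup
  obtain ⟨q, hq, Q, hqM, hQn⟩ := FcoreChain.exists_mem_sigma_of_rank hG hM hM2
  haveI hqf : Fact q.Prime := ⟨hq⟩
  have hqσ : q ∈ Cfsg.sigma M := FcoreChain.mem_sigma_of_normal_sylow hG hM hq hqM Q hQn
  set Q' : Subgroup G := (Q : Subgroup M).map M.subtype with hQ'
  have hQ'M : Q' ≤ M := Subgroup.map_subtype_le _
  have hQ'p : IsPGroup q Q' := Q.isPGroup'.map _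
  have hQ'1 : Q' ≠ ⊥ := by
    intro h
    rw [hQ', Subgroup.map_eq_bot_iff_of_injective _ M.subtype_injective] at h
    have h2 := Q.dvd_card_of_dvd_card hqM
    rw [h, Subgroup.card_bot] at h2
    exact hq.one_lt.ne' (Nat.dvd_one.mp h2)
  have hMQ : M ≤ Subgroup.normalizer (Q' : Set G) := FcoreChain.le_normalizer_map_subtype hQn
  have hNQ : Subgroup.normalizer (Q' : Set G) = M :=
    MinSimpleBasic.normalizer_eq_of_le_coatom hG hM hQ'1 hQ'M hMQ
  obtain ⟨S, hS⟩ := SylowInter.exists_sylow_eq_of_mem_sigma hqσ ⟨Q, rfl⟩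
  have hpq : p ≠ q := fun h => hpσ (h ▸ hqσ)
  -- `A` centralizes `Q'`
  have hQσ : Q' ≤ Cfsg.sigmaCore M := by
    apply Subgroup.map_mono
    refine PiCore.le_piCore hQn ?_
    intro r hr hd
    have : r = q := by
      obtain ⟨n, hn⟩ := IsPGroup.iff_card.mp Q.isPGroup'
      rw [hn] at hd
      exact (Nat.prime_dvd_prime_iff_eq hr hq).mp (hr.dvd_of_dvd_pow hd)
    rw [this]; exact hqσ
  have hAQ : A ≤ Subgroup.centralizer (Q' : Set G) :=
    hAC.trans (Subgroup.centralizer_le hQσ)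
  have hQA : Q' ≤ Subgroup.centralizer (A : Set G) := Subgroup.le_centralizer_iff.mp hAQ
  have hQmax : Q' ∈ Cfsg.maxInvSubgroups ⊤ A {q} := by
    refine ⟨⟨le_top, ?_, hAQ.trans (Subgroup.centralizer_le_normalizer _)⟩, ?_⟩
    · intro r hr hd
      obtain ⟨n, hn⟩ := IsPGroup.iff_card.mp hQ'p
      rw [hn] at hd
      exact (Nat.prime_dvd_prime_iff_eq hr hq).mp (hr.dvd_of_dvd_pow hd)
    · rintro R ⟨-, hR, -⟩ hle
      have hRp : IsPGroup q R := (PiCoreOf.isPi_singleton_iff hq R).mp hR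
      have hle' : (S : Subgroup G) ≤ R := by rw [hS]; exact hle
      have := S.3 hRp hle'
      rw [this, hS]
  have hqC : q ∣ Nat.card (Subgroup.centralizer (A : Set G)) := by
    have h1 : q ∣ Nat.card Q' := by
      have h2 := Q.dvd_card_of_dvd_card hqM
      rwa [hQ', Subgroup.card_map_of_injective M.subtype_injective]
    exact h1.trans (Subgroup.card_dvd_of_le hQA)
  obtain ⟨P, hAP, hPQ, hNP, -, -⟩ :=
    Sec10_10.max_normed_signaliser hG p q hpq A hA hAc' hmax Q' hQmax hqC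
  rw [hNQ] at hPQ hNP
  -- `P ≤ M'`
  set C : Subgroup G := Cfsg.piCoreOf (Cfsg.primesNotDvd p)
    (Subgroup.centralizer ((P : Subgroup G) : Set G)) with hC
  have hCC : C ≤ Subgroup.centralizer ((P : Subgroup G) : Set G) := PiCoreOf.piCoreOf_le _ _
  have hCp : ¬ p ∣ Nat.card C := by
    intro hd
    have := PiCoreOf.piCoreOf_isPi (Cfsg.primesNotDvd p)
      (Subgroup.centralizer ((P : Subgroup G) : Set G)) p hp hd
    exact this.2 (dvd_refl p)
  have hTC : Subgroup.normalizer ((P : Subgroup G) : Set G) ⊓ M ≤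
      Subgroup.normalizer (C : Set G) := by
    exact inf_le_left.trans ((NilpotentHall.normalizer_le_normalizer_centralizer _).trans
      (PiCoreOf.normalizer_le_normalizer_piCoreOf _ _))
  have hPM' : (P : Subgroup G) ≤ ⁅Subgroup.normalizer ((P : Subgroup G) : Set G) ⊓ M,
      Subgroup.normalizer ((P : Subgroup G) : Set G) ⊓ M⁆ :=
    le_commutator_of_le_sup P.2 (sylow_le_commutator_normalizer hG P) hNP.le hTC hCC hCp
  have hPM : (P : Subgroup G) ≤ ⁅M, M⁆ := hPM'.trans (Subgroup.commutator_mono inf_le_right inf_le_right)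
  -- hence `P` is normal in `M`
  have hDnil : Group.IsNilpotent ↥⁅M, M⁆ := by
    rw [← Subgroup.map_subtype_commutator]
    exact Group.nilpotent_of_surjective
      ((commutator M).equivMapOfInjective M.subtype M.subtype_injective).toMonoidHom
      ((commutator M).equivMapOfInjective M.subtype M.subtype_injective).surjective
  have hMD : M ≤ Subgroup.normalizer ((⁅M, M⁆ : Subgroup G) : Set G) := by
    rw [← Subgroup.map_subtype_commutator]
    exact HallPi.le_normalizer_map_subtype _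
  have hP1 : (P : Subgroup G) ≠ ⊥ := fun h => hA1 (le_bot_iff.mp (h ▸ hAP))
  have hMP : M ≤ Subgroup.normalizer ((P : Subgroup G) : Set G) := by
    refine hMD.trans (NilpotentHall.normalizer_le_normalizer hDnil hPM ?_)
    intro r hr hd hd'
    have hrp : r = p := by
      obtain ⟨n, hn⟩ := IsPGroup.iff_card.mp P.2
      rw [hn] at hd
      exact (Nat.prime_dvd_prime_iff_eq hr hp).mp (hr.dvd_of_dvd_pow hd)
    rw [hrp] at hd'
    apply P.not_dvd_index
    rw [← Subgroup.relIndex_mul_index hPM]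
    exact dvd_mul_of_dvd_left hd' _
  have hPM' : (P : Subgroup G) ≤ M := hPM.trans (Subgroup.commutator_le_self M)
  exact hpσ (MinSimpleBasic.mem_sigma_of_normalizer_le P hP1
    (MinSimpleBasic.normalizer_eq_of_le_coatom hG hM hP1 hPM' hMP).le)

/-- `C_M(M_σ) ∩ M'` is nilpotent. -/
theorem isNilpotent_centralizer_inf_derived {G : Type*} [Group G] [Finite G]
    (hG : Cfsg.IsMinSimpleOddOrder G) (M : Subgroup G) (hM : IsCoatom M) :
    Group.IsNilpotent ↥(⁅M, M⁆ ⊓ Subgroup.centralizer (Cfsg.sigmaCore M : Set G)) := by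
  set D : Subgroup G := ⁅M, M⁆ ⊓ Subgroup.centralizer (Cfsg.sigmaCore M : Set G) with hD
  obtain ⟨-, -, hle, -, hnil⟩ := S1405.result hG M hM
  set f := QuotientGroup.mk' (Cfsg.piCore (Cfsg.alpha M) M) with hf
  have hDM : D ≤ M := inf_le_left.trans (Subgroup.commutator_le_self M)
  let g : ↥D →* ↥((commutator ↥M).map f) :=
    (f.comp (Subgroup.inclusion hDM)).codRestrict _ (by
      intro x
      refine ⟨Subgroup.inclusion hDM x, ?_, rfl⟩
      have h1 : (x : G) ∈ ⁅M, M⁆ := x.2.1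
      rw [← Subgroup.map_subtype_commutator] at h1
      obtain ⟨y, hy, hyx⟩ := h1
      have : y = Subgroup.inclusion hDM x := Subtype.ext hyx
      rw [← this]; exact hy)
  refine Subgroup.isNilpotent_of_ker_le_center g ?_
  intro x hx
  have hx' : f (Subgroup.inclusion hDM x) = 1 := congrArg Subtype.val hx
  rw [← MonoidHom.mem_ker, hf, QuotientGroup.ker_mk'] at hx'
  have h2 : (x : G) ∈ Cfsg.sigmaCore M := hle ⟨_, hx', rfl⟩
  rw [Subgroup.mem_center_iff]
  intro y
  apply Subtype.ext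
  exact (Subgroup.mem_centralizer_iff.mp y.2.2 _ h2).symm

/-- There is a cyclic normal Hall `σ(M)'`-subgroup of `C_M(M_σ) ∩ M'`, normal in `M`. -/
theorem exists_cyclic_hall {G : Type*} [Group G] [Finite G]
    (hG : Cfsg.IsMinSimpleOddOrder G) (M : Subgroup G) (hM : IsCoatom M) :
    ∃ D₂ : Subgroup G, D₂ ≤ M ∧ IsCyclic D₂ ∧ M ≤ Subgroup.normalizer (D₂ : Set G) ∧
      (∀ p : ℕ, p.Prime → p ∣ Nat.card D₂ → p ∉ Cfsg.sigma M) ∧
      D₂ ≤ ⁅M, M⁆ ⊓ Subgroup.centralizer (Cfsg.sigmaCore M : Set G) ∧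
      ∀ K : Subgroup G, K ≤ ⁅M, M⁆ ⊓ Subgroup.centralizer (Cfsg.sigmaCore M : Set G) →
        (∀ p : ℕ, p.Prime → p ∣ Nat.card K → p ∉ Cfsg.sigma M) → K ≤ D₂ := by
  set D : Subgroup G := ⁅M, M⁆ ⊓ Subgroup.centralizer (Cfsg.sigmaCore M : Set G) with hD
  have hDnil : Group.IsNilpotent D := isNilpotent_centralizer_inf_derived hG M hM
  have hDM : D ≤ M := inf_le_left.trans (Subgroup.commutator_le_self M)
  have hMD' : M ≤ Subgroup.normalizer ((⁅M, M⁆ : Subgroup G) : Set G) := by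
    rw [← Subgroup.map_subtype_commutator]
    exact HallPi.le_normalizer_map_subtype _
  have hMC : M ≤ Subgroup.normalizer
      ((Subgroup.centralizer (Cfsg.sigmaCore M : Set G) : Subgroup G) : Set G) :=
    (HallPi.le_normalizer_sigmaCore M).trans (NilpotentHall.normalizer_le_normalizer_centralizer _)
  have hMD : M ≤ Subgroup.normalizer (D : Set G) :=
    (le_inf hMD' hMC).trans Subgroup.inf_normalizer_le_normalizer_inf
  obtain ⟨D₂, hD₂⟩ := HallPi.exists_isPiHallOf (M := D) inferInstance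
    {p | p.Prime ∧ p ∉ Cfsg.sigma M}
  have hD₂p : ∀ p : ℕ, p.Prime → p ∣ Nat.card D₂ → p ∉ Cfsg.sigma M :=
    fun p hp hd => (hD₂.2.1 p hp hd).2
  have hD₂M : D₂ ≤ M := hD₂.1.trans hDM
  have hMD₂ : M ≤ Subgroup.normalizer (D₂ : Set G) :=
    hMD.trans (NilpotentHall.normalizer_le_normalizer hDnil hD₂.1
      (fun r hr hd hd' => hD₂.2.2 r hr (hD₂.2.1 r hr hd) hd'))
  refine ⟨D₂, hD₂M, ?_, hMD₂, hD₂p, hD₂.1, ?_⟩
  · have h1 := rankLE_one_centralizer_sigmaCore hG M hM D₂ hD₂M hD₂p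
    have h2 : D₂ ⊓ Subgroup.centralizer (Cfsg.sigmaCore M : Set G) = D₂ :=
      inf_eq_left.mpr (hD₂.1.trans inf_le_right)
    rw [h2] at h1
    haveI : IsZGroup D₂ :=
      (ZGroup.isZGroup_iff_rankLE_one (MinSimpleBasic.odd_card_subgroup hG D₂)).mpr h1
    haveI : Group.IsNilpotent D₂ := FitAux.isNilpotent_of_le hD₂.1 hDnil
    infer_instance
  · intro K hK hKp
    exact HallPi.le_of_normal_isPiHallOf hD₂ (hDM.trans hMD₂) hK
      (fun p hp hd => ⟨hp, hKp p hp hd⟩)

/-- A subgroup of a cyclic subgroup normal in `M` is cyclic and normal in `M`. -/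
theorem cyclic_normal_of_le {G : Type*} [Group G] [Finite G] {M D K : Subgroup G}
    (hD : IsCyclic D) (hMD : M ≤ Subgroup.normalizer (D : Set G)) (hK : K ≤ D) :
    IsCyclic K ∧ M ≤ Subgroup.normalizer (K : Set G) := by
  refine ⟨?_, ?_⟩
  · haveI := hD
    exact isCyclic_of_injective (Subgroup.inclusion hK) (Subgroup.inclusion_injective hK)
  · intro m hm
    rw [MinSimpleBasic.mem_normalizer_iff_map_conj]
    exact CyclicSub.map_conj_eq_of_le_cyclic hD hK
      (MinSimpleBasic.mem_normalizer_iff_map_conj.mp (hMD hm))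

/-- B&G 10.11(c): if `K` is a `σ(M)'`-subgroup of `M` then `C_K(M_σ) ∩ M'` is cyclic and normal
in `M`. -/
theorem isCyclic_centralizer_sigmaCore_inf_derived {G : Type*} [Group G] [Finite G]
    (hG : Cfsg.IsMinSimpleOddOrder G) (M : Subgroup G) (hM : IsCoatom M) (K : Subgroup G)
    (_hKM : K ≤ M) (hK : ∀ p : ℕ, p.Prime → p ∣ Nat.card K → p ∉ Cfsg.sigma M) :
    IsCyclic ↥(K ⊓ Subgroup.centralizer (Cfsg.sigmaCore M : Set G) ⊓ ⁅M, M⁆) ∧
      M ≤ Subgroup.normalizer
        ((K ⊓ Subgroup.centralizer (Cfsg.sigmaCore M : Set G) ⊓ ⁅M, M⁆ : Subgroup G) : Set G) := by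
  obtain ⟨D₂, -, hc, hn, -, -, hmax⟩ := exists_cyclic_hall hG M hM
  apply cyclic_normal_of_le hc hn
  apply hmax
  · exact le_inf inf_le_right (inf_le_left.trans inf_le_right)
  · intro p hp hd
    exact hK p hp (hd.trans (Subgroup.card_dvd_of_le (inf_le_left.trans inf_le_left)))

/-- B&G 10.11(d). -/
theorem commutator_prime_order_of_regular {G : Type*} [Group G] [Finite G]
    (hG : Cfsg.IsMinSimpleOddOrder G) (M : Subgroup G) (hM : IsCoatom M) (K : Subgroup G)
    (hKM : K ≤ M) (hK : ∀ p : ℕ, p.Prime → p ∣ Nat.card K → p ∉ Cfsg.sigma M)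
    (hKc : IsMulCommutative K) (p : ℕ) [hp : Fact p.Prime] (hpσ : p ∉ Cfsg.sigma M)
    (hpK : ¬ p ∣ Nat.card K) (P : Subgroup G) (hP : Nat.card P = p) (hPM : P ≤ M)
    (hPK : P ≤ Subgroup.normalizer (K : Set G))
    (hreg : Cfsg.sigmaCore M ⊓ Subgroup.centralizer (P : Set G) = ⊥) :
    ⁅K, P⁆ ≤ Subgroup.centralizer (Cfsg.sigmaCore M : Set G) ∧ IsCyclic ↥⁅K, P⁆ ∧
      M ≤ Subgroup.normalizer ((⁅K, P⁆ : Subgroup G) : Set G) := by
  -- a generator of `P`
  obtain ⟨x, hx, -, hxo, hxP⟩ := CommProd.exists_gen_of_prime (X := P) (by rw [hP]; exact hp.out)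
  rw [hP] at hxo
  set K₀ : Subgroup G := ⁅K, P⁆ with hK₀
  have hK₀K : K₀ ≤ K := Lib.CoprimeCommutator.commutator_le_left hPK
  have hK₀M : K₀ ≤ M := hK₀K.trans hKM
  have hσM : Cfsg.sigmaCore M ≤ M := HallPi.sigmaCore_le M
  have hMσ := HallPi.le_normalizer_sigmaCore M
  have hcomm : ∀ a ∈ K, ∀ b ∈ K, a * b = b * a := by
    intro a ha b hb
    exact congrArg Subtype.val (hKc.is_comm.comm (⟨a, ha⟩ : K) ⟨b, hb⟩)
  have hcopPK : (Nat.card P).Coprime (Nat.card K) := by
    rw [hP]; exact (Nat.Prime.coprime_iff_not_dvd hp.out).mpr hpK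
  have hCK₀ : K ⊓ Subgroup.centralizer (P : Set G) ⊓ K₀ = ⊥ :=
    Lib.CoprimeAbelian.inf_commutator_eq_bot P K hcomm hPK hcopPK
  have hσK : Cfsg.sigmaCore M ⊓ K = ⊥ :=
    HallPi.inf_eq_bot_of_pi (π := Cfsg.sigma M)
      (fun q hq hd => SigmaElements.mem_sigma_of_dvd_card_sigmaCore hq hd) hK
  have hcent : ∀ y : G, x * y = y * x → y ∈ Subgroup.centralizer (P : Set G) := by
    intro y hy
    rw [← hxP, Subgroup.mem_centralizer_iff]
    intro z hz
    obtain ⟨n, rfl⟩ := Subgroup.mem_zpowers_iff.mp hz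
    exact (show Commute x y from hy).zpow_left n
  -- `H = M_σ K₀` admits the fixed-point-free action of `x`
  set H : Subgroup G := Cfsg.sigmaCore M ⊔ K₀ with hH
  have hHM : H ≤ M := sup_le hσM hK₀M
  haveI : Group.IsSolvable M := MinSimpleBasic.isSolvable_of_isCoatom hG hM
  have hHsol : Group.IsSolvable H := by
    exact Group.isSolvable_of_isSolvable_injective (f := Subgroup.inclusion hHM)
      (Subgroup.inclusion_injective hHM)
  have hxM : x ∈ M := hPM hx
  have hxσ : x ∈ Subgroup.normalizer (Cfsg.sigmaCore M : Set G) := hMσ hxM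
  have hxK₀ : x ∈ Subgroup.normalizer (K₀ : Set G) :=
    Lib.CoprimeCommutator.right_le_normalizer_commutator K P hx
  have hxH : x ∈ Subgroup.normalizer (H : Set G) := by
    rw [MinSimpleBasic.mem_normalizer_iff_map_conj, hH, Subgroup.map_sup,
      MinSimpleBasic.mem_normalizer_iff_map_conj.mp hxσ,
      MinSimpleBasic.mem_normalizer_iff_map_conj.mp hxK₀]
  have hfpf : ∀ y ∈ H, x * y = y * x → y = 1 := by
    intro y hy hxy
    rw [hH, sup_comm] at hy
    obtain ⟨k, hk, m, hm, rfl⟩ := RankBasics.exists_mul_of_mem_sup (hK₀M.trans hMσ) hy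
    have hm' : x * m * x⁻¹ ∈ Cfsg.sigmaCore M := (Subgroup.mem_normalizer_iff.mp hxσ m).mp hm
    have hk' : x * k * x⁻¹ ∈ K₀ := (Subgroup.mem_normalizer_iff.mp hxK₀ k).mp hk
    have h1 : (x * k * x⁻¹) * (x * m * x⁻¹) = k * m := by
      have : (x * k * x⁻¹) * (x * m * x⁻¹) = x * (k * m) * x⁻¹ := by group
      rw [this, hxy]; group
    have h2 : k⁻¹ * (x * k * x⁻¹) = m * (x * m * x⁻¹)⁻¹ := by
      rw [eq_mul_inv_iff_mul_eq, mul_assoc, h1]; group
    have h3 : k⁻¹ * (x * k * x⁻¹) ∈ Cfsg.sigmaCore M ⊓ K := by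
      refine ⟨?_, ?_⟩
      · rw [h2]; exact (Cfsg.sigmaCore M).mul_mem hm ((Cfsg.sigmaCore M).inv_mem hm')
      · exact K.mul_mem (K.inv_mem (hK₀K hk)) (hK₀K hk')
    rw [hσK, Subgroup.mem_bot] at h3
    have hxk : x * k = k * x := by
      have h4 : k⁻¹ * (x * k * x⁻¹) * x = 1 * x := by rw [h3]
      have h5 : k⁻¹ * (x * k * x⁻¹) * x = k⁻¹ * (x * k) := by group
      rw [h5, one_mul, inv_mul_eq_iff_eq_mul] at h4
      exact h4
    have hxm : x * m = m * x := by
      rw [h2, mul_inv_eq_one] at h3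
      have h5 : x * m * x⁻¹ * x = m * x := by rw [← h3]
      rw [← h5]; group
    have hk1 : k ∈ K ⊓ Subgroup.centralizer (P : Set G) ⊓ K₀ := ⟨⟨hK₀K hk, hcent k hxk⟩, hk⟩
    rw [hCK₀, Subgroup.mem_bot] at hk1
    have hm1 : m ∈ Cfsg.sigmaCore M ⊓ Subgroup.centralizer (P : Set G) := ⟨hm, hcent m hxm⟩
    rw [hreg, Subgroup.mem_bot] at hm1
    rw [hk1, hm1, mul_one]
  have hHnil : Group.IsNilpotent H :=
    FpfSolvable.isNilpotent_of_fpf_elem H hHsol x hxH hp.out (by rw [← hxo]; exact pow_orderOf_eq_one x) hfpf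
  have hcop : (Nat.card K₀).Coprime (Nat.card (Cfsg.sigmaCore M)) := by
    apply Nat.Coprime.symm
    apply HallPi.coprime_of_pi (π := Cfsg.sigma M)
    · intro q hq hd
      exact SigmaElements.mem_sigma_of_dvd_card_sigmaCore hq hd
    · intro q hq hd
      exact hK q hq (hd.trans (Subgroup.card_dvd_of_le hK₀K))
  have hK₀C : K₀ ≤ Subgroup.centralizer (Cfsg.sigmaCore M : Set G) :=
    FittingHall.le_centralizer_of_coprime hHnil le_sup_right le_sup_left hcop
  refine ⟨hK₀C, ?_⟩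
  obtain ⟨D₂, -, hc, hn, -, -, hmax⟩ := exists_cyclic_hall hG M hM
  apply cyclic_normal_of_le hc hn
  apply hmax
  · exact le_inf (Subgroup.commutator_mono hKM hPM) hK₀C
  · intro p hp hd
    exact hK p hp (hd.trans (Subgroup.card_dvd_of_le hK₀K))

end Cfsg.Agent.OddOrderLocal.Sec10_11
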