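import Mathlib
import Cfsg.Prelude.Def_OddOrderLocal
import Cfsg.Agent.S1414
import Cfsg.Agent.OddOrderLocal.Sec12Compl
import Cfsg.Agent.OddOrderLocal.Sec12Tau2
import Cfsg.Agent.OddOrderLocal.Tau2Abelian
import Cfsg.Agent.OddOrderLocal.TauTwo808

/-!
B&G Corollary 12.10(c) and Lemma 12.11 (a), (b).
-/

set_option autoImplicit false
set_option linter.unusedSectionVars false
set_option linter.style.haveILetI false

namespace Cfsg.Agent.OddOrderLocal.Sec12_11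

open Cfsg
open Cfsg.Agent.OddOrderLocal
open Cfsg.Agent.OddOrderLocal.Sec12Compl
open Cfsg.Agent.OddOrderLocal.Sec12Tau2
open scoped commutatorElement

universe u

variable {G : Type u} [Group G] [Finite G]

/-- In a group `H` with a normal `p`-complement a `p'`-subgroup normalizing a `p`-subgroup centralizes it. -/
theorem le_centralizer_of_hasNormalPComplement {H : Subgroup G} {p : ℕ} [hp : Fact p.Prime]
    (h : HasNormalPComplement p H) {A Q : Subgroup G} (hA : A ≤ H) (hQ : Q ≤ H)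
    (hAp : IsPGroup p A) (hQp : ¬ p ∣ Nat.card Q) (hQA : Q ≤ Subgroup.normalizer (A : Set G)) :
    Q ≤ Subgroup.centralizer (A : Set G) := by
  obtain ⟨P, N, hN, hc⟩ := h
  obtain ⟨n, hn⟩ := IsPGroup.iff_card.mp P.isPGroup'
  have hidx : N.index = p ^ n := by
    rw [← hn]
    have h1 := hc.card_mul_card
    have h2 := Subgroup.card_mul_index N
    rw [← h1] at h2
    exact Nat.eq_of_mul_eq_mul_left Nat.card_pos h2
  have hcN : Nat.card N = (P : Subgroup H).index := by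
    have h1 := hc.card_mul_card
    have h2 := Subgroup.card_mul_index (P : Subgroup H)
    rw [← h1, mul_comm (Nat.card N)] at h2
    exact (Nat.eq_of_mul_eq_mul_left Nat.card_pos h2).symm
  have hpN : ¬ p ∣ Nat.card N := by rw [hcN]; exact P.not_dvd_index
  -- elements of order prime to `p` lie in `N`
  have key : ∀ x : H, ¬ p ∣ orderOf x → x ∈ N := by
    intro x hx
    have h1 : orderOf (QuotientGroup.mk' N x) ∣ orderOf x := orderOf_map_dvd _ x
    have h2 : orderOf (QuotientGroup.mk' N x) ∣ p ^ n := by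
      rw [← hidx, Subgroup.index_eq_card]
      exact orderOf_dvd_natCard _
    have h3 : (orderOf x).Coprime (p ^ n) :=
      Nat.Coprime.pow_right n (Nat.Coprime.symm ((Nat.Prime.coprime_iff_not_dvd hp.out).mpr hx))
    have h4 : orderOf (QuotientGroup.mk' N x) = 1 := Nat.eq_one_of_dvd_coprimes h3 h1 h2
    rw [orderOf_eq_one_iff] at h4
    exact (QuotientGroup.eq_one_iff x).mp h4
  intro x hx
  rw [Subgroup.mem_centralizer_iff]
  intro a ha
  have hxo : ¬ p ∣ orderOf (⟨x, hQ hx⟩ : H) := by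
    rw [Subgroup.orderOf_mk]
    exact fun hd => hQp (hd.trans (HallPi.orderOf_dvd_card_of_mem hx))
  have hxN := key _ hxo
  have hmemN : (⟨x, hQ hx⟩ : H) * (⟨a, hA ha⟩ : H) * (⟨x, hQ hx⟩ : H)⁻¹ * (⟨a, hA ha⟩ : H)⁻¹ ∈ N := by
    have h1 : (⟨a, hA ha⟩ : H) * (⟨x, hQ hx⟩ : H)⁻¹ * (⟨a, hA ha⟩ : H)⁻¹ ∈ N :=
      hN.conj_mem _ (inv_mem hxN) _
    have h2 : (⟨x, hQ hx⟩ : H) * (⟨a, hA ha⟩ : H) * (⟨x, hQ hx⟩ : H)⁻¹ * (⟨a, hA ha⟩ : H)⁻¹ =
        (⟨x, hQ hx⟩ : H) * ((⟨a, hA ha⟩ : H) * (⟨x, hQ hx⟩ : H)⁻¹ * (⟨a, hA ha⟩ : H)⁻¹) := by group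
    rw [h2]
    exact mul_mem hxN h1
  have hmemA : x * a * x⁻¹ * a⁻¹ ∈ A :=
    mul_mem ((Subgroup.mem_normalizer_iff.mp (hQA hx) a).mp ha) (inv_mem ha)
  have h1 : x * a * x⁻¹ * a⁻¹ = 1 := by
    set y : H := (⟨x, hQ hx⟩ : H) * (⟨a, hA ha⟩ : H) * (⟨x, hQ hx⟩ : H)⁻¹ * (⟨a, hA ha⟩ : H)⁻¹
      with hy
    have hyG : (y : G) = x * a * x⁻¹ * a⁻¹ := rfl
    obtain ⟨k, hk⟩ := hAp ⟨x * a * x⁻¹ * a⁻¹, hmemA⟩
    have hk' : (x * a * x⁻¹ * a⁻¹) ^ p ^ k = 1 := congrArg Subtype.val hk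
    have h2 : orderOf (x * a * x⁻¹ * a⁻¹) ∣ p ^ k := orderOf_dvd_of_pow_eq_one hk'
    have h3 : orderOf (x * a * x⁻¹ * a⁻¹) ∣ Nat.card N := by
      rw [← hyG, Subgroup.orderOf_coe]
      exact HallPi.orderOf_dvd_card_of_mem hmemN
    have h4 : (Nat.card N).Coprime (p ^ k) :=
      Nat.Coprime.pow_right k (Nat.Coprime.symm ((Nat.Prime.coprime_iff_not_dvd hp.out).mpr hpN))
    have h5 := Nat.eq_one_of_dvd_coprimes h4 h3 h2
    exact orderOf_eq_one_iff.mp h5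
  rw [mul_inv_eq_one, mul_inv_eq_iff_eq_mul] at h1
  exact h1.symm

section

variable {M E E₁ E₂ E₃ : Subgroup G}

/-- B&G 12.10(c), first part: `E₂E₃` centralizes `A`. -/
theorem sup23_le_centralizer (hG : IsMinSimpleOddOrder G) (hM : IsCoatom M)
    (h : SigmaCompl M E E₁ E₂ E₃) {p : ℕ} [Fact p.Prime] (hp : p ∈ tau2 M) {A : Subgroup G}
    (hA : A ≤ E ∧ IsElementaryAbelian p A ∧ Nat.card A = p ^ 2) :
    E₂ ⊔ E₃ ≤ Subgroup.centralizer (A : Set G) := by
  apply sup_le _ (E3_le_centralizer hG hM h hp hA)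
  have hc := Tau2Abelian.isMulCommutative_of_tau2 hG hM h.compl h.hall2.1 h.hall2.2.1
  have hAE := le_E2 hG hM h hp hA
  intro x hx
  rw [Subgroup.mem_centralizer_iff]
  intro a ha
  exact congrArg Subtype.val (hc.1.1 ⟨a, hAE ha⟩ ⟨x, hx⟩)

/-- B&G 12.10(c), second part: `C_E(A)` is normal in `E`. -/
theorem le_normalizer_centralizer (hG : IsMinSimpleOddOrder G) (hM : IsCoatom M)
    (hE : IsComplIn E (sigmaCore M) M) {p : ℕ} [Fact p.Prime] (hp : p ∈ tau2 M) {A : Subgroup G}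
    (hA : A ≤ E ∧ IsElementaryAbelian p A ∧ Nat.card A = p ^ 2) :
    E ≤ Subgroup.normalizer ((E ⊓ Subgroup.centralizer (A : Set G) : Subgroup G) : Set G) := by
  have hEA := (S1418.result hG M hM E hE p hp A hA).1.1
  rw [Subgroup.le_normalizer_iff]
  intro e he x hx
  obtain ⟨hxE, hxA⟩ := Subgroup.mem_inf.mp hx
  refine Subgroup.mem_inf.mpr ⟨mul_mem (mul_mem he hxE) (inv_mem he), ?_⟩
  rw [Subgroup.mem_centralizer_iff] at hxA ⊢
  intro a ha
  have h1 : e⁻¹ * a * e ∈ A := by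
    have := (Subgroup.mem_normalizer_iff.mp (inv_mem (hEA he)) a).mp ha
    simpa using this
  have h2 := hxA _ h1
  calc a * (e * x * e⁻¹) = e * ((e⁻¹ * a * e) * x) * e⁻¹ := by group
    _ = e * (x * (e⁻¹ * a * e)) * e⁻¹ := by rw [h2]
    _ = e * x * e⁻¹ * a := by group

/-- B&G 12.10(c), third part: `E / C_E(A)` is a `τ₁(M)`-group. -/
theorem mem_tau1_of_dvd (hG : IsMinSimpleOddOrder G) (hM : IsCoatom M)
    (hE : IsComplIn E (sigmaCore M) M) {p : ℕ} [Fact p.Prime] (hp : p ∈ tau2 M) {A : Subgroup G}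
    (hA : A ≤ E ∧ IsElementaryAbelian p A ∧ Nat.card A = p ^ 2) {q : ℕ} (hq : q.Prime)
    (hd : q ∣ (Subgroup.centralizer (A : Set G)).relIndex E) : q ∈ tau1 M := by
  obtain ⟨E₁, E₂, E₃, h⟩ := exists_sigmaCompl hG hM hE
  have h1 := Subgroup.relIndex_dvd_of_le_left E (sup23_le_centralizer hG hM h hp hA)
  have h2 := hd.trans h1
  by_contra hq1
  exact (hall23 hG hM h).2.2 q hq hq1 h2

end

/-- B&G 12.11(a). -/
theorem primes_norm_tau2_a (hG : IsMinSimpleOddOrder G) {M E : Subgroup G} (hM : IsCoatom M)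
    (hE : IsComplIn E (sigmaCore M) M) {p : ℕ} [hp' : Fact p.Prime] (hp : p ∈ tau2 M)
    {A : Subgroup G} (hA : A ≤ E ∧ IsElementaryAbelian p A ∧ Nat.card A = p ^ 2)
    {L : Subgroup G} (hL : IsCoatom L) (hN : Subgroup.normalizer (A : Set G) ≤ L) {q : ℕ}
    (hq : q ∈ tau2 M) : q ∈ sigma L ∧ q ∉ beta L := by
  haveI : Fact q.Prime := ⟨hq.1⟩
  refine ⟨?_, TauTwo808.not_mem_beta_of_tau2 hG hM hq L⟩
  by_cases hqp : q = p
  · subst hqp
    exact TauTwo808.mem_sigma_of_normalizer_le hG hA.2 hL hN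
  · obtain ⟨B, hB⟩ := exists_elemAb hG hM hE hq
    have h1 := TauTwo808.normalizer_le_normalizer hG hM hE hqp hq hp hB hA
    exact TauTwo808.mem_sigma_of_normalizer_le hG hB.2 hL (h1.trans hN)

/-- B&G 12.11(b), elementwise: a `q`-subgroup `Q` of `E` not centralizing `A` has
`q ∈ τ₁(L) ∪ τ₂(L)`. -/
theorem primes_norm_tau2_b' (hG : IsMinSimpleOddOrder G) {M E : Subgroup G} (hM : IsCoatom M)
    (hE : IsComplIn E (sigmaCore M) M) {p : ℕ} [hp' : Fact p.Prime] (hp : p ∈ tau2 M)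
    {A : Subgroup G} (hA : A ≤ E ∧ IsElementaryAbelian p A ∧ Nat.card A = p ^ 2)
    {L : Subgroup G} (hL : IsCoatom L) (hN : Subgroup.normalizer (A : Set G) ≤ L) {q : ℕ}
    [hq : Fact q.Prime] {Q : Subgroup G} (hQE : Q ≤ E) (hQ : IsPGroup q Q)
    (hQA : ¬ Q ≤ Subgroup.centralizer (A : Set G)) : q ∈ tau1 L ∨ q ∈ tau2 L := by
  have hEA := (S1418.result hG M hM E hE p hp A hA).1.1
  obtain ⟨hpL, hpβ⟩ := primes_norm_tau2_a hG hM hE hp hA hL hN hp
  have hAp : IsPGroup p A := IsPGroup.of_card hA.2.2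
  have hAL : A ≤ L := Subgroup.le_normalizer.trans hN
  have hQL : Q ≤ L := (hQE.trans hEA).trans hN
  -- `q ≠ p`
  have hqp : q ≠ p := by
    rintro rfl
    apply hQA
    have hAQ : IsPGroup q (Q ⊔ A : Subgroup G) :=
      IsPGroup.to_sup_of_normal_right' hQ hAp (hQE.trans hEA)
    have hcomm := (TauTwo808.pSubgroup_of_tau2 hG hM hp ⟨hA.1.trans hE.1, hA.2⟩ hAQ
      ((sup_le hQE hA.1).trans hE.1)).1
    intro x hx
    rw [Subgroup.mem_centralizer_iff]
    intro a ha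
    exact hcomm a (le_sup_right (a := Q) ha) x (le_sup_left (b := A) hx)
  have hpQ : ¬ p ∣ Nat.card Q := by
    obtain ⟨n, hn⟩ := IsPGroup.iff_card.mp hQ
    rw [hn]
    intro hd
    exact hqp ((Nat.prime_dvd_prime_iff_eq hp'.out hq.out).mp (hp'.out.dvd_of_dvd_pow hd)).symm
  have hQπ : ∀ r : ℕ, r.Prime → r ∣ Nat.card Q → r = q := by
    intro r hr hd
    obtain ⟨n, hn⟩ := IsPGroup.iff_card.mp hQ
    rw [hn] at hd
    exact (Nat.prime_dvd_prime_iff_eq hr hq.out).mp (hr.dvd_of_dvd_pow hd)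
  have hAπ : ∀ r : ℕ, r.Prime → r ∣ Nat.card A → r = p := by
    intro r hr hd
    rw [hA.2.2] at hd
    exact (Nat.prime_dvd_prime_iff_eq hr hp'.out).mp (hr.dvd_of_dvd_pow hd)
  have hpd : p ∣ Nat.card L := hpL.2.1
  obtain ⟨-, -, -, -, h14⟩ := S1414.result hG L hL
  obtain ⟨hc1, hc2, -⟩ := h14 p hp'.out hpd hpβ
  have hSHall := (S1350.result hG L hL).1
  have hAS : A ≤ sigmaCore L := by
    apply HallPi.le_of_normal_isPiHallOf hSHall (HallPi.le_normalizer_sigmaCore L) hAL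
    intro r hr hd
    rw [hAπ r hr hd]; exact hpL
  have hQ1 : Q ≠ ⊥ := by
    rintro rfl
    exact hQA bot_le
  have hqQ : q ∣ Nat.card Q := by
    haveI : Nontrivial Q := (Subgroup.nontrivial_iff_ne_bot Q).mpr hQ1
    obtain ⟨n, hn, hcn⟩ := hQ.nontrivial_iff_card.mp inferInstance
    rw [hcn]
    exact dvd_pow_self q hn.ne'
  have hqL : q ∣ Nat.card L := hqQ.trans (Subgroup.card_dvd_of_le hQL)
  -- `q ∉ σ(L)`
  have hqσ : q ∉ sigma L := by
    intro hqs
    have hQS : Q ≤ sigmaCore L := by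
      apply HallPi.le_of_normal_isPiHallOf hSHall (HallPi.le_normalizer_sigmaCore L) hQL
      intro r hr hd
      rw [hQπ r hr hd]; exact hqs
    exact hQA (le_centralizer_of_hasNormalPComplement hc2 hAS hQS hAp hpQ (hQE.trans hEA))
  rcases mem_tau_of_dvd hG hL hq.out hqL hqσ with h | h | h
  · exact Or.inl h
  · exact Or.inr h
  · exfalso
    -- `q ∈ τ₃(L)`: then `Q ≤ L'`
    have hSL := SigmaDerived.sigmaCore_le_commutator hG L hL
    obtain ⟨F, hF, hQF⟩ := HallPi.exists_isComplIn_ge (MinSimpleBasic.isSolvable_of_isCoatom hG hL)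
      hSHall hQL (by intro r hr hd; rw [hQπ r hr hd]; exact hqσ)
    obtain ⟨F₁, F₂, F₃, hF'⟩ := exists_sigmaCompl hG hL hF
    have hQF3 : Q ≤ F₃ := by
      apply HallPi.le_of_normal_isPiHallOf hF'.hall3 (E3_normal hG hL hF') hQF
      intro r hr hd
      rw [hQπ r hr hd]; exact h
    have hQder : Q ≤ ⁅L, L⁆ :=
      (hQF3.trans (E3_le_der hG hL hF')).trans (Subgroup.commutator_mono hF.1 hF.1)
    exact hQA (le_centralizer_of_hasNormalPComplement hc1 (hAS.trans hSL) hQder hAp hpQ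
      (hQE.trans hEA))

/-- A prime dividing `[E : C_E(A)]` gives a `q`-subgroup of `E` not centralizing `A`. -/
theorem exists_not_le_centralizer {E A : Subgroup G} {q : ℕ} [hq : Fact q.Prime]
    (hd : q ∣ (Subgroup.centralizer (A : Set G)).relIndex E) (Q : Sylow q E) :
    ¬ (Q : Subgroup E).map E.subtype ≤ Subgroup.centralizer (A : Set G) := by
  intro hle
  have h1 : (Q : Subgroup E) ≤ (Subgroup.centralizer (A : Set G)).subgroupOf E := by
    intro x hx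
    exact Subgroup.mem_subgroupOf.mpr (hle ⟨x, hx, rfl⟩)
  exact Q.not_dvd_index (hd.trans (Subgroup.index_dvd_of_le h1))

/-- B&G 12.11(b). -/
theorem primes_norm_tau2_b (hG : IsMinSimpleOddOrder G) {M E : Subgroup G} (hM : IsCoatom M)
    (hE : IsComplIn E (sigmaCore M) M) {p : ℕ} [hp' : Fact p.Prime] (hp : p ∈ tau2 M)
    {A : Subgroup G} (hA : A ≤ E ∧ IsElementaryAbelian p A ∧ Nat.card A = p ^ 2)
    {L : Subgroup G} (hL : IsCoatom L) (hN : Subgroup.normalizer (A : Set G) ≤ L) {q : ℕ}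
    (hq : q.Prime) (hd : q ∣ (Subgroup.centralizer (A : Set G)).relIndex E) :
    q ∈ tau1 L ∨ q ∈ tau2 L := by
  haveI : Fact q.Prime := ⟨hq⟩
  obtain ⟨Q⟩ : Nonempty (Sylow q E) := inferInstance
  exact primes_norm_tau2_b' hG hM hE hp hA hL hN (Subgroup.map_subtype_le _)
    (Q.isPGroup'.map _) (exists_not_le_centralizer hd Q)

end Cfsg.Agent.OddOrderLocal.Sec12_11
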