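import Mathlib
import Cfsg.Prelude.Def_OddOrderLocal
import Cfsg.Agent.OddOrderLocal.MinSimpleBasic
import Cfsg.Agent.OddOrderLocal.HallPi
import Cfsg.Agent.OddOrderLocal.Sec12_8
import Cfsg.Agent.OddOrderLocal.Sec10_13
import Cfsg.Agent.S1408
import Cfsg.Agent.S1417
import Cfsg.Agent.S1418
import Cfsg.Agent.S1419

/-!
Bender–Glauberman, Corollary 12.9.
-/

set_option autoImplicit false
set_option linter.style.haveILetI false
set_option linter.unusedSectionVars false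

namespace Cfsg.Agent.OddOrderLocal.Sec12_9

open Cfsg
open Cfsg.Agent.OddOrderLocal.MinSimpleBasic
open Cfsg.Agent.OddOrderLocal.NilpotentHall
open Cfsg.Agent.OddOrderLocal.Sec12_8
open scoped commutatorElement

/-- subgroups of order `p` of a group of order `p ^ 2`: a nontrivial proper subgroup has order `p`. -/
theorem card_eq_of_ne {G : Type*} [Group G] [Finite G] {p : ℕ} [hp : Fact p.Prime] {A Y : Subgroup G}
    (hA : Nat.card A = p ^ 2) (hYA : Y ≤ A) (h1 : Y ≠ ⊥) (h2 : Y ≠ A) : Nat.card Y = p := by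
  obtain ⟨k, hk, hk'⟩ := (Nat.dvd_prime_pow hp.out).mp (hA ▸ Subgroup.card_dvd_of_le hYA)
  have hk0 : k ≠ 0 := by
    rintro rfl
    rw [pow_zero] at hk'
    exact h1 (Subgroup.card_eq_one.mp hk')
  have hk2 : k ≠ 2 := by
    rintro rfl
    exact h2 (Subgroup.eq_of_le_of_card_ge hYA (by rw [hk', hA]))
  have hk1 : k = 1 := by omega
  rw [hk', hk1, pow_one]

/-- A group of prime order `q` has a generator. -/
theorem exists_gen {G : Type*} [Group G] [Finite G] {q : ℕ} [hq : Fact q.Prime] {X : Subgroup G}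
    (hX : Nat.card X = q) : ∃ x ∈ X, x ^ q = 1 ∧ ∀ y : G, x * y = y * x →
      y ∈ Subgroup.centralizer (X : Set G) := by
  haveI : IsCyclic X := isCyclic_of_prime_card hX
  obtain ⟨g, hg⟩ := IsCyclic.exists_generator (α := X)
  refine ⟨g, g.2, ?_, ?_⟩
  · have h1 : g ^ Nat.card X = 1 := pow_card_eq_one'
    rw [hX] at h1
    exact congrArg Subtype.val h1
  · intro y hy
    rw [Subgroup.mem_centralizer_iff]
    intro z hz
    obtain ⟨n, hn⟩ := Subgroup.mem_zpowers_iff.mp (hg ⟨z, hz⟩)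
    have hn' : (g : G) ^ n = z := congrArg Subtype.val hn
    rw [← hn']
    exact (show Commute (g : G) y from hy).zpow_left n

/-- **Corollary 12.9** of Bender–Glauberman. -/
theorem tau1_act_tau2 {G : Type*} [Group G] [Finite G] (hG : Cfsg.IsMinSimpleOddOrder G)
    (M : Subgroup G) (hM : IsCoatom M) (E : Subgroup G) (hE : Cfsg.IsComplIn E (Cfsg.sigmaCore M) M)
    (p : ℕ) [Fact p.Prime] (hp : p ∈ Cfsg.tau2 M) (A : Subgroup G)
    (hA : A ≤ E ∧ Cfsg.IsElementaryAbelian p A ∧ Nat.card A = p ^ 2)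
    (q : ℕ) (hq : q ∈ Cfsg.tau1 M) (Q : Subgroup G) (hQE : Q ≤ E) (hQ : Nat.card Q = q)
    (hreg : Cfsg.sigmaCore M ⊓ Subgroup.centralizer (Q : Set G) = ⊥) (hAQ : ⁅A, Q⁆ ≠ ⊥) :
    (∀ S : Sylow p G, ¬ IsMulCommutative (S : Subgroup G)) ∧
    (Nat.card ↥⁅A, Q⁆ = p ∧ A ⊓ Subgroup.centralizer (Cfsg.sigmaCore M : Set G) = ⁅A, Q⁆ ∧ M ≤ Subgroup.normalizer ((⁅A, Q⁆ : Subgroup G) : Set G)) ∧
    (∀ g : G, ⁅A, Q⁆ ≠ (A ⊓ Subgroup.centralizer (Q : Set G)).map (MulAut.conj g).toMonoidHom) ∧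
    (Nat.card ↥(A ⊓ Subgroup.centralizer (Q : Set G)) = p ∧ ¬ Subgroup.centralizer ((A ⊓ Subgroup.centralizer (Q : Set G) : Subgroup G) : Set G) ≤ M) := by
  have hpP : p.Prime := Fact.out
  haveI : Fact q.Prime := ⟨hq.1⟩
  have hAp : IsPGroup p A := isPGroup_of_elemAb hA.2.1
  have hAM : A ≤ M := hA.1.trans hE.1
  have hsolE : Group.IsSolvable E := isSolvable_of_ne_top hG
    (fun h => hM.1 (top_le_iff.mp (h ▸ hE.1)))
  have h17 := Cfsg.Agent.S1417.result hG M hM p hp A ⟨hAM, hA.2⟩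
  have h18 := Cfsg.Agent.S1418.result hG M hM E hE p hp A hA
  have hEN : E ≤ Subgroup.normalizer (A : Set G) := h18.1.1
  have hQN : Q ≤ Subgroup.normalizer (A : Set G) := hQE.trans hEN
  have hAc : ∀ a ∈ A, ∀ b ∈ A, a * b = b * a :=
    fun a ha b hb => congrArg Subtype.val (hA.2.1.1.is_comm.comm ⟨a, ha⟩ ⟨b, hb⟩)
  -- step 1: nonabelian Sylow subgroups
  have hstep1 : ∀ S : Sylow p G, ¬ IsMulCommutative (S : Subgroup G) := by
    intro S₀ hS₀
    obtain ⟨S, hAS⟩ := hAp.exists_le_sylow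
    have hS : IsMulCommutative (S : Subgroup G) := by
      refine ⟨⟨fun a b => Subtype.ext ?_⟩⟩
      exact commute_of_isPGroup S₀ hS₀ S.isPGroup' a.2 b.2
    obtain ⟨E₂, hE₂⟩ := HallPi.exists_isPiHallOf hsolE (tau2 M)
    obtain ⟨E₃, hE₃⟩ := HallPi.exists_isPiHallOf hsolE (tau3 M)
    have h1 := (abelian_tau2 hG M hM E hE p hp A hA S hAS hS E₂ E₃ hE₂ hE₃).2.2.2 q Q hq hQE hQ hreg
    exact hAQ (Subgroup.commutator_eq_bot_iff_le_centralizer.mpr (hA.1.trans h1))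
  -- step 2
  have hqp : q ≠ p := by
    rintro rfl
    exact tau1_not_tau2 hq hp
  have hcop : (Nat.card Q).Coprime (Nat.card A) := by
    rw [hQ, hA.2.2]
    exact Nat.Coprime.pow_right 2 ((Nat.coprime_primes hq.1 hpP).mpr hqp)
  obtain ⟨x, hxQ, hxq, hxc⟩ := exists_gen hQ
  have hA0A : ⁅A, Q⁆ ≤ A := Lib.CoprimeCommutator.commutator_le_left hQN
  have hinf := Lib.CoprimeAbelian.inf_commutator_eq_bot Q A hAc hQN hcop
  have hsup := Lib.CoprimeAbelian.sup_commutator_eq Q A hAc hQN hcop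
  have hA0C : ⁅A, Q⁆ ≤ Subgroup.centralizer (sigmaCore M : Set G) := by
    refine le_centralizer_sigmaCore hG hM hE (hA0A.trans hA.1) (hQE hxQ) hq.1 hxq
      (Lib.CoprimeCommutator.right_le_normalizer_commutator A Q hxQ) ?_ ?_
    · intro v hv hxv
      have h3 : v ∈ (A ⊓ Subgroup.centralizer (Q : Set G)) ⊓ ⁅A, Q⁆ := ⟨⟨hA0A hv, hxc v hxv⟩, hv⟩
      rwa [hinf, Subgroup.mem_bot] at h3
    · intro y hy hxy
      have h1 : y ∈ sigmaCore M ⊓ Subgroup.centralizer (Q : Set G) := ⟨hy, hxc y hxy⟩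
      rwa [hreg, Subgroup.mem_bot] at h1
  have h19 := Cfsg.Agent.S1419.result hG M hM E hE p hp hstep1 A hA
  have hA0 : A ⊓ Subgroup.centralizer (sigmaCore M : Set G) = ⁅A, Q⁆ := by
    have hle : ⁅A, Q⁆ ≤ A ⊓ Subgroup.centralizer (sigmaCore M : Set G) := le_inf hA0A hA0C
    have hd := Subgroup.card_dvd_of_le hle
    rw [h19.2.1.1] at hd
    rcases (Nat.dvd_prime hpP).mp hd with h | h
    · exact absurd (Subgroup.card_eq_one.mp h) hAQ
    · exact (Subgroup.eq_of_le_of_card_ge hle (by rw [h, h19.2.1.1])).symm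
  have hA0c : Nat.card ↥⁅A, Q⁆ = p := by rw [← hA0]; exact h19.2.1.1
  -- step 3: `M ≤ N(A₀)`
  have hMN : M ≤ Subgroup.normalizer ((⁅A, Q⁆ : Subgroup G) : Set G) := by
    have h1 : E ≤ Subgroup.normalizer ((⁅A, Q⁆ : Subgroup G) : Set G) := by
      rw [← hA0]
      intro e he
      have h2 := mem_normalizer_iff_map_conj.mp (hEN he)
      have h3 := mem_normalizer_iff_map_conj.mp (normalizer_le_normalizer_centralizer _
        (HallPi.le_normalizer_sigmaCore M (hE.1 he)))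
      rw [mem_normalizer_iff_map_conj, Subgroup.map_inf _ _ _ (MulAut.conj e).injective, h2, h3]
    have h2 : sigmaCore M ≤ Subgroup.normalizer ((⁅A, Q⁆ : Subgroup G) : Set G) := by
      intro m hm
      rw [mem_normalizer_iff_map_conj]
      exact map_conj_of_mem_centralizer (Subgroup.le_centralizer_iff.mp hA0C hm)
    intro m hm
    obtain ⟨a, ha, b, hb, rfl⟩ := hE.2.2.2 m hm
    exact mul_mem (h1 ha) (h2 hb)
  -- step 4: the order of `A₁`
  set A₁ := A ⊓ Subgroup.centralizer (Q : Set G) with hA₁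
  have hA₁A : A₁ ≤ A := inf_le_left
  have hA₁ne : A₁ ≠ A := by
    intro h
    apply hAQ
    rw [Subgroup.commutator_eq_bot_iff_le_centralizer, ← h]
    exact inf_le_right
  have hA₁1 : A₁ ≠ ⊥ := by
    intro h
    rw [h, bot_sup_eq] at hsup
    have h2 := hA.2.2
    rw [← hsup, hA0c] at h2
    have h3 : p ^ 1 = p ^ 2 := by rw [pow_one]; exact h2
    exact absurd (Nat.pow_right_injective hpP.two_le h3) (by norm_num)
  have hA₁c : Nat.card A₁ = p := card_eq_of_ne hA.2.2 hA₁A hA₁1 hA₁ne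
  have hA0A₁ : A₁ ≠ ⁅A, Q⁆ := by
    intro h
    apply hAQ
    rw [← hinf, h, inf_idem]
  -- step 5
  have hCA₁ : ¬ Subgroup.centralizer (A₁ : Set G) ≤ M :=
    (h19.2.2 A₁ (hA₁A.trans hA.1) hA₁c (by rw [hA0]; exact hA0A₁)).2
  -- step 6: `A₀` is not conjugate to `A₁`
  have hNA0 : Subgroup.normalizer ((⁅A, Q⁆ : Subgroup G) : Set G) = M :=
    normalizer_eq_of_le_coatom hG hM hAQ (hA0A.trans hAM) hMN
  obtain ⟨T, hAT⟩ := hAp.exists_le_sylow
  have hmaxA : ∀ B : Subgroup G, IsElementaryAbelian p B → A ≤ B → B = A :=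
    (Cfsg.Agent.S1408.result hG M hM p hp.2.1 hp.2.2.1 hp.2.2.2).2 A hAM hA.2.1 hA.2.2
  obtain ⟨Z₀, hZ₀A, hZ₀c, hZ₀, -, -, htrans⟩ := Sec10_13.p2max_structure hG p A (T : Subgroup G)
    hA.2.1 hA.2.2 hmaxA T.isPGroup' hAT (hstep1 T)
  have hTZ₀ : (T : Subgroup G) ≤ Subgroup.centralizer (Z₀ : Set G) := by
    intro t ht
    rw [Subgroup.mem_centralizer_iff]
    intro z hz
    exact ((hZ₀ z).mp hz).2.2 t ht
  -- no `G`-conjugate of `Z₀` is `A₀`
  have hZ₀conj : ∀ h : G, ⁅A, Q⁆ ≠ Z₀.map (MulAut.conj h).toMonoidHom := by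
    intro h hh
    have h1 : (T : Subgroup G).map (MulAut.conj h).toMonoidHom ≤ M := by
      rw [← hNA0, hh]
      intro t ht
      rw [mem_normalizer_iff_map_conj, ]
      have h2 : t ∈ Subgroup.centralizer ((Z₀.map (MulAut.conj h).toMonoidHom : Subgroup G) : Set G) := by
        rw [← Equivariance.map_centralizer_subgroup]
        exact Subgroup.map_mono hTZ₀ ht
      exact map_conj_of_mem_centralizer h2
    -- `T^h` is a Sylow subgroup of `G` inside `M`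
    have h3 : ((h • T : Sylow p G) : Subgroup G) ≤ M := by
      have h4 : ((h • T : Sylow p G) : Subgroup G) =
          (T : Subgroup G).map (MulAut.conj h).toMonoidHom := rfl
      rw [h4]; exact h1
    obtain ⟨P', hP'⟩ := exists_sylow_subtype (h • T) h3
    have h5 := (h17.2.1 P').1
    apply hstep1 (h • T)
    rw [← hP']
    refine ⟨⟨fun a b => Subtype.ext ?_⟩⟩
    obtain ⟨a', ha', ha''⟩ := a.2
    obtain ⟨b', hb', hb''⟩ := b.2
    have h6 := congrArg Subtype.val (h5.is_comm.comm ⟨a', ha'⟩ ⟨b', hb'⟩)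
    have h7 := congrArg Subtype.val h6
    rw [Subgroup.coe_mul, Subgroup.coe_mul, ← ha'', ← hb'']
    exact h7
  have hA0Z₀ : ⁅A, Q⁆ ≠ Z₀ := by
    intro h
    exact hZ₀conj 1 (by rw [map_conj_one]; exact h)
  -- `Q` normalizes `Z₀`
  have hQZ₀ : ∀ u ∈ Subgroup.normalizer (A : Set G), Z₀.map (MulAut.conj u).toMonoidHom = Z₀ := by
    intro u hu
    by_contra hne
    have h1 : Z₀.map (MulAut.conj u).toMonoidHom ≤ A := by
      rw [← mem_normalizer_iff_map_conj.mp hu]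
      exact Subgroup.map_mono hZ₀A
    obtain ⟨g, -, hg⟩ := htrans (Z₀.map (MulAut.conj u).toMonoidHom) ⁅A, Q⁆ h1
      (by rw [card_map_conj, hZ₀c]) hne hA0A hA0c hA0Z₀
    exact hZ₀conj (g * u) (by rw [map_conj_mul]; exact hg)
  -- so `Z₀ = A₁`
  have hZ₀A₁ : Z₀ = A₁ := by
    have hQnZ : Q ≤ Subgroup.normalizer (Z₀ : Set G) := by
      intro y hy
      rw [mem_normalizer_iff_map_conj]
      exact hQZ₀ y (hQN hy)
    have h1 : ⁅Z₀, Q⁆ ≤ Z₀ := Lib.CoprimeCommutator.commutator_le_left hQnZ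
    have h2 : ⁅Z₀, Q⁆ ≤ ⁅A, Q⁆ := Subgroup.commutator_mono hZ₀A le_rfl
    have h3 : ⁅Z₀, Q⁆ = ⊥ := by
      by_contra hne
      have h4 : Z₀ ⊓ ⁅A, Q⁆ = Z₀ := by
        have h5 : Nat.card ↥(Z₀ ⊓ ⁅A, Q⁆) ∣ p := hZ₀c ▸ Subgroup.card_dvd_of_le inf_le_left
        rcases (Nat.dvd_prime hpP).mp h5 with h | h
        · exfalso
          apply hne
          rw [eq_bot_iff, ← Subgroup.card_eq_one.mp h]
          exact le_inf h1 h2
        · exact Subgroup.eq_of_le_of_card_ge inf_le_left (by rw [h, hZ₀c])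
      apply hA0Z₀
      have h6 : Z₀ ≤ ⁅A, Q⁆ := inf_eq_left.mp h4
      exact (Subgroup.eq_of_le_of_card_ge h6 (by rw [hA0c, hZ₀c])).symm
    have h4 : Z₀ ≤ A₁ := le_inf hZ₀A (Subgroup.commutator_eq_bot_iff_le_centralizer.mp h3)
    exact Subgroup.eq_of_le_of_card_ge h4 (by rw [hA₁c, hZ₀c])
  refine ⟨hstep1, ⟨hA0c, hA0, hMN⟩, ?_, hA₁c, hCA₁⟩
  intro g hg
  rw [← hZ₀A₁] at hg
  exact hZ₀conj g hg

end Cfsg.Agent.OddOrderLocal.Sec12_9
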