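import Mathlib
import Cfsg.Prelude.Def_OddOrderLocal
import Cfsg.Agent.Lib.SolvableMinNormal
import Cfsg.Agent.OddOrderLocal.FixedFree
import Cfsg.Agent.OddOrderLocal.NilpotentHall
import Cfsg.Agent.OddOrderLocal.NormalPComp
import Cfsg.Agent.OddOrderLocal.FpfSolvable
import Cfsg.Agent.OddOrderLocal.ComplAux
import Cfsg.Agent.OddOrderLocal.Tau2Abelian
import Cfsg.Agent.OddOrderLocal.SigmaDisjoint
import Cfsg.Agent.OddOrderLocal.SylowInter
import Cfsg.Agent.OddOrderLocal.Sec12_19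
import Cfsg.Agent.OddOrderLocal.Sec13A
import Cfsg.Agent.OddOrderLocal.Sec13B
import Cfsg.Agent.OddOrderLocal.Sec13C
import Cfsg.Agent.OddOrderLocal.Sec13Struct

/-!
Preliminaries for B&G Theorem 13.8 (`tau1_mmaxI_asymmetry`) and 13.9.
-/

set_option autoImplicit false

namespace Cfsg.Agent.OddOrderLocal.Sec13G

open Cfsg Cfsg.Agent.OddOrderLocal Cfsg.Agent.OddOrderLocal.Sec13Tools
  Cfsg.Agent.OddOrderLocal.Sec13Struct

section General

variable {G : Type*} [Group G] [Finite G]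

/-- a `q`-subgroup of `M` with index in `M` prime to `q` is a Sylow subgroup. -/
theorem exists_sylow_of_not_dvd {q : ℕ} [Fact q.Prime] {M Q : Subgroup G} (hQM : Q ≤ M)
    (hQ : IsPGroup q Q) (hi : ¬ q ∣ Q.relIndex M) :
    ∃ S : Sylow q M, (S : Subgroup M).map M.subtype = Q := by
  have h1 : IsPGroup q (Q.subgroupOf M) :=
    hQ.of_equiv (Subgroup.subgroupOfEquivOfLe hQM).symm
  exact ⟨h1.toSylow hi, Subgroup.map_subgroupOf_eq_of_le hQM⟩

theorem pi_of_isPGroup {q : ℕ} [hq : Fact q.Prime] {Q : Subgroup G} (hQ : IsPGroup q Q) {p : ℕ}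
    (hp : p.Prime) (hd : p ∣ Nat.card Q) : p = q := by
  obtain ⟨n, hn⟩ := IsPGroup.iff_card.1 hQ
  rw [hn] at hd
  exact (Nat.prime_dvd_prime_iff_eq hp hq.out).1 (hp.dvd_of_dvd_pow hd)

theorem isPiHallOf_of_not_dvd {q : ℕ} [hq : Fact q.Prime] {M Q : Subgroup G} (hQM : Q ≤ M)
    (hQ : IsPGroup q Q) (hi : ¬ q ∣ Q.relIndex M) : IsPiHallOf {q} Q M := by
  refine ⟨hQM, fun p hp hd => pi_of_isPGroup hQ hp hd, ?_⟩
  rintro p _ rfl
  exact hi

theorem not_dvd_relIndex_mono {q : ℕ} {Q K M : Subgroup G} (hQK : Q ≤ K) (hKM : K ≤ M)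
    (hi : ¬ q ∣ Q.relIndex M) : ¬ q ∣ Q.relIndex K := fun h =>
  hi (h.trans ⟨K.relIndex M, (Subgroup.relIndex_mul_relIndex Q K M hQK hKM).symm⟩)

/-- a `q`-subgroup of `M` normalizing the Sylow subgroup `Q` lies in `Q`. -/
theorem le_of_le_normalizer {q : ℕ} [hq : Fact q.Prime] {M Q P : Subgroup G} (hQM : Q ≤ M)
    (hi : ¬ q ∣ Q.relIndex M) (hPM : P ≤ M) (hP : IsPGroup q P)
    (hPQ : P ≤ Subgroup.normalizer (Q : Set G)) : P ≤ Q := by
  have h2 : ¬ q ∣ Q.relIndex P := by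
    rw [← ComplAux.relIndex_sup_of_le_normalizer hPQ]
    exact not_dvd_relIndex_mono le_sup_right (sup_le hPM hQM) hi
  have h3 : Q.relIndex P ∣ Nat.card P := Subgroup.relIndex_dvd_card Q P
  obtain ⟨n, hn⟩ := IsPGroup.iff_card.1 hP
  rw [hn] at h3
  obtain ⟨k, _, hk⟩ := (Nat.dvd_prime_pow hq.out).1 h3
  rcases Nat.eq_zero_or_pos k with rfl | hk0
  · rw [pow_zero] at hk
    exact Subgroup.relIndex_eq_one.1 hk
  · exact absurd (hk ▸ dvd_pow_self q hk0.ne') h2

/-- a Sylow subgroup of a nilpotent normal subgroup `N` of `M` is normalized by `M`. -/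
theorem le_normalizer_of_nilpotent {q : ℕ} [hq : Fact q.Prime] {N M Q : Subgroup G}
    (hN : Group.IsNilpotent N) (hQN : Q ≤ N) (hMN : M ≤ Subgroup.normalizer (N : Set G))
    (hQ : IsPGroup q Q) (hi : ¬ q ∣ Q.relIndex N) : M ≤ Subgroup.normalizer (Q : Set G) :=
  hMN.trans (NilpotentHall.normalizer_le_normalizer hN hQN (by
    intro p hp hd
    rw [pi_of_isPGroup hQ hp hd]
    exact hi))

theorem le_normalizer_inf {T A B : Subgroup G} (hA : T ≤ Subgroup.normalizer (A : Set G))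
    (hB : T ≤ Subgroup.normalizer (B : Set G)) :
    T ≤ Subgroup.normalizer ((A ⊓ B : Subgroup G) : Set G) := by
  intro t ht
  rw [Subgroup.mem_normalizer_iff]
  intro x
  constructor
  · intro hx
    exact Subgroup.mem_inf.2 ⟨(Subgroup.mem_normalizer_iff.1 (hA ht) x).1 (Subgroup.mem_inf.1 hx).1,
      (Subgroup.mem_normalizer_iff.1 (hB ht) x).1 (Subgroup.mem_inf.1 hx).2⟩
  · intro hx
    exact Subgroup.mem_inf.2 ⟨(Subgroup.mem_normalizer_iff.1 (hA ht) x).2 (Subgroup.mem_inf.1 hx).1,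
      (Subgroup.mem_normalizer_iff.1 (hB ht) x).2 (Subgroup.mem_inf.1 hx).2⟩

theorem le_normalizer_commutator_self {M : Subgroup G} :
    M ≤ Subgroup.normalizer ((⁅M, M⁆ : Subgroup G) : Set G) :=
  Cfsg.Agent.Lib.CoprimeCommutator.left_le_normalizer_commutator M M

theorem isPGroup_of_card {p : ℕ} {P : Subgroup G} (hP : Nat.card P = p) : IsPGroup p P :=
  IsPGroup.of_card (n := 1) (by rw [pow_one]; exact hP)

theorem commutator_mem_of {A B : Subgroup G} (h : ⁅A, B⁆ = ⊥) : B ≤ Subgroup.centralizer (A : Set G) := by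
  rw [Subgroup.commutator_comm] at h
  exact Subgroup.commutator_eq_bot_iff_le_centralizer.1 h

theorem le_centralizer_symm {A B : Subgroup G} (h : A ≤ Subgroup.centralizer (B : Set G)) :
    B ≤ Subgroup.centralizer (A : Set G) := by
  rwa [Subgroup.le_centralizer_iff]

end General

section MinSimple

variable {G : Type*} [Group G] [Finite G]

/-- `M = M_σ E` lies in the normalizer of anything normalized by both factors. -/
theorem le_of_compl {E N M H : Subgroup G} (hE : IsComplIn E N M) (h1 : E ≤ H) (h2 : N ≤ H) :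
    M ≤ H := by
  intro m hm
  obtain ⟨a, ha, b, hb, rfl⟩ := hE.2.2.2 m hm
  exact H.mul_mem (h1 ha) (h2 hb)

/-- Let `Q ≤ M'` be a Sylow `q`-subgroup of `M`, `q ∉ β(M)`, and `P` a `σ(M)'`-subgroup of
`N_M(Q)`.  Then some complement of `M_σ` in `M` contains `P` and normalizes `Q`. -/
theorem exists_compl_le_normalizer (hG : IsMinSimpleOddOrder G) {M : Subgroup G} (hM : IsCoatom M)
    {q : ℕ} [hq : Fact q.Prime] (hqβ : q ∉ beta M) {Q P : Subgroup G} (hQ' : Q ≤ ⁅M, M⁆)
    (hQq : IsPGroup q Q) (hQi : ¬ q ∣ Q.relIndex M) (hPM : P ≤ M)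
    (hPQ : P ≤ Subgroup.normalizer (Q : Set G))
    (hPσ : ∀ r : ℕ, r.Prime → r ∣ Nat.card P → r ∉ sigma M) :
    ∃ E : Subgroup G, IsComplIn E (sigmaCore M) M ∧ P ≤ E ∧
      E ≤ Subgroup.normalizer (Q : Set G) := by
  have hQM : Q ≤ M := hQ'.trans (Subgroup.commutator_le_self M)
  obtain ⟨T, hT, hXT⟩ := HallPi.exists_isPiHallOf_ge (Sec13Tools.isSolvable hG hM)
    {r | r.Prime ∧ r ∉ beta M} (X := P ⊔ Q) (sup_le hPM hQM) (by
      intro r hr hd
      refine ⟨hr, ?_⟩
      rcases (hr.dvd_mul).1 (hd.trans (ComplAux.card_sup_dvd_of_le_normalizer hPQ)) with h | h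
      · exact fun hb => hPσ r hr h (Sec12_19.mem_sigma_of_mem_beta hG hM hb)
      · rw [pi_of_isPGroup hQq hr h]
        exact hqβ)
  have hPT : P ≤ T := le_sup_left.trans hXT
  have hQT : Q ≤ T := le_sup_right.trans hXT
  have hnil := Sec13C.inf_derived_nilpotent hG hM hT
  have hQN : Q ≤ T ⊓ ⁅M, M⁆ := le_inf hQT hQ'
  have hTn : T ≤ Subgroup.normalizer ((T ⊓ ⁅M, M⁆ : Subgroup G) : Set G) :=
    le_normalizer_inf Subgroup.le_normalizer (hT.1.trans le_normalizer_commutator_self)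
  have hTQ : T ≤ Subgroup.normalizer (Q : Set G) :=
    le_normalizer_of_nilpotent hnil hQN hTn hQq
      (not_dvd_relIndex_mono hQN (inf_le_left.trans hT.1) hQi)
  obtain ⟨E, hE, hET, hPE⟩ := Sec13C.exists_compl_le hG hM hT hPT hPσ
  exact ⟨E, hE, hPE, hET.trans hTQ⟩

/-- A Sylow `q`-subgroup `Q` of the maximal subgroup `M` contained in another maximal subgroup:
then `q ∉ α(M)`. -/
theorem not_mem_alpha_of_sylow (hG : IsMinSimpleOddOrder G) {M L : Subgroup G} (hM : IsCoatom M)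
    (hL : IsCoatom L) (hne : L ≠ M) {q : ℕ} [hq : Fact q.Prime] {Q : Subgroup G} (hQM : Q ≤ M)
    (hQL : Q ≤ L) (hQq : IsPGroup q Q) (hQi : ¬ q ∣ Q.relIndex M) : q ∉ alpha M := by
  rintro ⟨_, h⟩
  rw [PRankLE] at h
  push Not at h
  obtain ⟨A, hAc, hA, hAcard⟩ := h
  have hA'c : IsMulCommutative (A.map M.subtype : Subgroup G) := inferInstance
  have hcard : Nat.card (A.map M.subtype : Subgroup G) = Nat.card A :=
    Subgroup.card_map_of_injective (Subgroup.subtype_injective M)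
  have hA'el : IsElementaryAbelian q (A.map M.subtype : Subgroup G) := by
    refine ⟨hA'c, ?_⟩
    rintro _ ⟨a, ha, rfl⟩
    rw [← map_pow, hA a ha, map_one]
  have hU := SigmaDisjoint.inUniqueMaximal_of_elemAb hG hq.out hA'el (by rw [hcard]; exact hAcard)
  have hAp : IsPGroup q (A.map M.subtype : Subgroup G) := fun x =>
    ⟨1, by rw [pow_one]; exact Subtype.ext (hA'el.2 x.1 x.2)⟩
  obtain ⟨m, hm, hmQ⟩ := HallPi.exists_conj_le_of_isPiHallOf (Sec13Tools.isSolvable hG hM)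
    (isPiHallOf_of_not_dvd hQM hQq hQi) (Subgroup.map_subtype_le A)
    (fun p hp hd => pi_of_isPGroup hAp hp hd)
  exact hne (MinSimple.eq_of_inUniqueMaximal (MinSimple.inUniqueMaximal_map_conj hU m) hM
    (hmQ.trans hQM) hL (hmQ.trans hQL))

/-- `C_{M_σ}(P) ≠ 1` in the situation of 13.8. -/
theorem inf_centralizer_ne_bot (hG : IsMinSimpleOddOrder G) {M L : Subgroup G} (hM : IsCoatom M)
    (hL : IsCoatom L) (hne : L ≠ M) {p : ℕ} [hp : Fact p.Prime] (hpM : p ∈ tau1 M)
    {P : Subgroup G} (hPM : P ≤ M) (hP : Nat.card P = p) {q : ℕ} [hq : Fact q.Prime]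
    {Q : Subgroup G} (hQM : Q ≤ M) (hQq : IsPGroup q Q) (hQi : ¬ q ∣ Q.relIndex M)
    (hqp : q ≠ p) (hPQ : P ≤ Subgroup.normalizer (Q : Set G))
    (hCQ : Q ⊓ Subgroup.centralizer (P : Set G) = ⊥)
    (hNQ : Subgroup.normalizer (Q : Set G) ≤ L) {E : Subgroup G}
    (hE : IsComplIn E (sigmaCore M) M) (hEQ : E ≤ Subgroup.normalizer (Q : Set G)) :
    sigmaCore M ⊓ Subgroup.centralizer (P : Set G) ≠ ⊥ := by
  intro hfix
  have hcontra : ¬ sigmaCore M ≤ Subgroup.normalizer (Q : Set G) := by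
    intro h
    have h1 : M ≤ L := (le_of_compl hE hEQ h).trans hNQ
    exact hne ((hM.le_iff_eq hL.1).1 h1)
  have hPn : P ≤ Subgroup.normalizer (sigmaCore M : Set G) :=
    hPM.trans (HallPi.le_normalizer_sigmaCore M)
  have hcVP : (Nat.card (sigmaCore M)).Coprime (Nat.card P) :=
    HallPi.coprime_of_pi (π := sigma M) (hall hG hM).2.1 (by
      intro r hr hd
      rw [hP] at hd
      rw [(Nat.prime_dvd_prime_iff_eq hr hp.out).1 hd]
      exact hpM.2.1)
  have hVs : Group.IsSolvable (sigmaCore M) := isSolvable_of_le hG hM (HallPi.sigmaCore_le M)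
  by_cases hqσ : q ∈ sigma M
  · have hQV : Q ≤ sigmaCore M := HallPi.le_of_normal_isPiHallOf (hall hG hM)
      (HallPi.le_normalizer_sigmaCore M) hQM (fun r hr hd => by
        rw [pi_of_isPGroup hQq hr hd]; exact hqσ)
    obtain ⟨x, hxP, hx1⟩ := exists_ne_one_of_prime (X := P) (by rw [hP]; exact hp.out)
    have hPx : Subgroup.zpowers x = P := zpowers_eq_of_mem (by rw [hP]; exact hp.out) hxP hx1
    have hnil : Group.IsNilpotent (sigmaCore M) := by
      apply FpfSolvable.isNilpotent_of_fpf_elem (sigmaCore M) hVs x (hPn hxP) hp.out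
      · have h1 : x ^ Nat.card P = 1 := by
          have := pow_card_eq_one' (x := (⟨x, hxP⟩ : P))
          exact congrArg Subtype.val this
        rwa [hP] at h1
      · intro y hy hxy
        have h1 : y ∈ sigmaCore M ⊓ Subgroup.centralizer (P : Set G) := by
          refine Subgroup.mem_inf.2 ⟨hy, ?_⟩
          rw [← hPx, centralizer_zpowers, Subgroup.mem_centralizer_iff]
          rintro z rfl
          exact hxy
        rw [hfix, Subgroup.mem_bot] at h1
        exact h1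
    exact hcontra ((HallPi.sigmaCore_le M).trans (le_normalizer_of_nilpotent hnil hQV
      (HallPi.le_normalizer_sigmaCore M) hQq
      (not_dvd_relIndex_mono hQV (HallPi.sigmaCore_le M) hQi)))
  · have hcVQ : (Nat.card (sigmaCore M)).Coprime (Nat.card Q) :=
      HallPi.coprime_of_pi (π := sigma M) (hall hG hM).2.1 (by
        intro r hr hd
        rw [pi_of_isPGroup hQq hr hd]; exact hqσ)
    have hcQP : (Nat.card Q).Coprime (Nat.card P) := by
      obtain ⟨n, hn⟩ := IsPGroup.iff_card.1 hQq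
      rw [hn, hP]
      exact Nat.Coprime.pow_left n ((Nat.coprime_primes hq.out hp.out).2 hqp)
    have h := FixedFree.le_centralizer_of_fixedFree (P := P) (Q := Q) (V := sigmaCore M)
      (by rw [hP]; exact hp.out)
      (MinSimple.ne_two_of_dvd hG (H := P) dvd_rfl) (isSolvable_of_le hG hM hQM)
      (MinSimple.odd_card_subgroup hG Q) hPQ hcQP hCQ
      (hQM.trans (HallPi.le_normalizer_sigmaCore M)) hPn hVs hcVQ hcVP hfix
    exact hcontra ((le_centralizer_symm h).trans (centralizer_le_normalizer Q))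

end MinSimple

end Cfsg.Agent.OddOrderLocal.Sec13G
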