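import Cfsg.Agent.OddOrderLocal.FcoreChain

/-! `sigmaCore_ne_bot` now lives in `Cfsg.Agent.OddOrderLocal.FcoreChain`; the old name is kept. -/

set_option autoImplicit false

open Cfsg

namespace Cfsg.Agent.OddOrderLocal.SigmaCoreNeBot

theorem sigmaCore_ne_bot {G : Type*} [Group G] [Finite G] (hG : IsMinSimpleOddOrder G)
    {M : Subgroup G} (hM : IsCoatom M) : sigmaCore M ≠ ⊥ :=
  FcoreChain.sigmaCore_ne_bot hG hM

end Cfsg.Agent.OddOrderLocal.SigmaCoreNeBot
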