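import Mathlib
import Cfsg.Prelude.Def_OddOrderLocal
import Cfsg.Agent.OddOrderLocal.SigmaCompl
import Cfsg.Agent.OddOrderLocal.Tau2Abelian

/-!
B & G, Corollary 12.10 (b), second part, without reference to a complement of `M_σ`:
`τ₂(M)`-subgroups of `M` are abelian.
-/

set_option autoImplicit false

namespace Cfsg.Agent.OddOrderLocal.Tau2AbelianM

open Cfsg
open Cfsg.Agent.OddOrderLocal

variable {G : Type*} [Group G] [Finite G]

/-- A subgroup `X ≤ M` whose order involves no prime of `σ(M)` lies in some complement of `M_σ`. -/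
theorem exists_isComplIn_ge (hG : IsMinSimpleOddOrder G) {M : Subgroup G} (hM : IsCoatom M)
    {X : Subgroup G} (hXM : X ≤ M) (hX : ∀ p : ℕ, p.Prime → p ∣ Nat.card X → p ∉ sigma M) :
    ∃ E : Subgroup G, IsComplIn E (sigmaCore M) M ∧ X ≤ E := by
  have hHall := (Cfsg.Agent.S1350.result hG M hM).1
  obtain ⟨E₀, hE₀⟩ := SigmaCompl.exists_compl_sigmaCore hHall
  obtain ⟨g, hgM, hg⟩ := SigmaCompl809.exists_conj_le
    (MinSimpleBasic.isSolvable_of_isCoatom hG hM) hE₀ hHall X hXM hX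
  refine ⟨_, SigmaCompl809.isComplIn_conj hE₀ (SigmaCompl809.le_normalizer_sigmaCore M)
    (M.inv_mem hgM), ?_⟩
  intro x hx
  rw [SigmaCompl809.mem_map_conj]
  have := hg ⟨x, hx, rfl⟩
  simpa using this

/-- `τ₂(M)`-subgroups of `M` are abelian. -/
theorem isMulCommutative_of_tau2_le (hG : IsMinSimpleOddOrder G) (M : Subgroup G)
    (hM : IsCoatom M) (X : Subgroup G) (hXM : X ≤ M)
    (hX : ∀ p : ℕ, p.Prime → p ∣ Nat.card X → p ∈ tau2 M) : IsMulCommutative X := by
  obtain ⟨E, hE, hXE⟩ := exists_isComplIn_ge hG hM hXM fun p hp hd => (hX p hp hd).2.1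
  exact Tau2Abelian.isMulCommutative_of_tau2 hG hM hE hXE hX

end Cfsg.Agent.OddOrderLocal.Tau2AbelianM
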