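import Mathlib
import Cfsg.Prelude.Def_OddOrderLocal
import Cfsg.Agent.S1350
import Cfsg.Agent.S1417
import Cfsg.Agent.S1418
import Cfsg.Agent.S1419
import Cfsg.Agent.OddOrderLocal.Sec12_8
import Cfsg.Agent.OddOrderLocal.SigmaDecomp772
import Cfsg.Agent.OddOrderLocal.SigmaCoreBasic808
import Cfsg.Agent.OddOrderLocal.FitAux
import Cfsg.Agent.OddOrderLocal.Rank

/-!
A `τ₂(M)`-subgroup of a complement `E` of `M_σ` centralizes every elementary abelian subgroup of order `p ^ 2`
of `E`, `p ∈ τ₂(M)` (part of B & G, Corollary 12.10(b)).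
-/

set_option autoImplicit false

namespace Cfsg.Agent.OddOrderLocal.Tau2Commute772

open Cfsg Cfsg.Agent.OddOrderLocal Cfsg.Agent.OddOrderLocal.SigmaCoreBasic808

variable {G : Type*} [Group G]

/-- A subgroup of order coprime to the index of a normal subgroup `N` lies in `N` (relative form). -/
theorem le_of_coprime_relIndex [Finite G] {E N X : Subgroup G}
    (hn : E ≤ Subgroup.normalizer (N : Set G)) (hX : X ≤ E)
    (hc : (Nat.card X).Coprime (N.relIndex E)) : X ≤ N := by
  have hnn : (N.subgroupOf E).Normal := by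
    constructor
    intro n hn' g
    rw [Subgroup.mem_subgroupOf] at hn' ⊢
    exact (Subgroup.mem_normalizer_iff.mp (hn g.2) n).mp hn'
  intro x hx
  have h2 : orderOf (QuotientGroup.mk' (N.subgroupOf E) ⟨x, hX hx⟩) ∣ 1 := by
    rw [← Nat.coprime_iff_gcd_eq_one.mp hc]
    apply Nat.dvd_gcd
    · refine (orderOf_map_dvd _ _).trans ?_
      rw [Subgroup.orderOf_mk, ← Subgroup.orderOf_mk x hx]
      exact orderOf_dvd_natCard _
    · change _ ∣ (N.subgroupOf E).index
      rw [Subgroup.index_eq_card]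
      exact orderOf_dvd_natCard _
  have h3 : QuotientGroup.mk' (N.subgroupOf E) ⟨x, hX hx⟩ = 1 := by
    rw [← orderOf_eq_one_iff]; exact Nat.dvd_one.mp h2
  exact Subgroup.mem_subgroupOf.mp ((QuotientGroup.eq_one_iff _).mp h3)

/-- A `τ₂(M)`-subgroup of a complement `E` of `M_σ` centralizes every elementary abelian subgroup of order
`p ^ 2` of `E`, `p ∈ τ₂(M)`. -/
theorem le_centralizer_of_tau2 [Finite G] (hG : IsMinSimpleOddOrder G) {M : Subgroup G}
    (hM : IsCoatom M) {E : Subgroup G} (hE : IsComplIn E (sigmaCore M) M) {X : Subgroup G}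
    (hXE : X ≤ E) (hX : ∀ q : ℕ, q.Prime → q ∣ Nat.card X → q ∈ tau2 M) {p : ℕ} [hpp : Fact p.Prime]
    (hp : p ∈ tau2 M) {A : Subgroup G}
    (hA : A ≤ E ∧ IsElementaryAbelian p A ∧ Nat.card A = p ^ 2) :
    X ≤ Subgroup.centralizer (A : Set G) := by
  obtain ⟨hall, -, -⟩ := Cfsg.Agent.S1350.result hG M hM
  obtain ⟨⟨hEA, -⟩, -, -⟩ := Cfsg.Agent.S1418.result hG M hM E hE p hp A hA
  have hAp : IsPGroup p A := IsPGroup.of_card hA.2.2
  have hAM : A ≤ M := hA.1.trans hE.1
  by_cases hns : ∀ S : Sylow p G, ¬ IsMulCommutative (S : Subgroup G)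
  · -- the nonabelian case: `X` is a `p`-group
    obtain ⟨ht, -, -⟩ := Cfsg.Agent.S1419.result hG M hM E hE p hp hns A hA
    have hXp : IsPGroup p X := by
      rw [IsPGroup.iff_card]
      refine ⟨(Nat.card X).primeFactorsList.length, Nat.eq_prime_pow_of_unique_prime_dvd Nat.card_pos.ne' ?_⟩
      intro q hq hqd
      have := hX q hq hqd
      rw [ht] at this
      exact this
    have h1 : IsPGroup p (X ⊔ A : Subgroup G) :=
      IsPGroup.to_sup_of_normal_right' hXp hAp (hXE.trans hEA)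
    obtain ⟨P, hP⟩ := exists_sylow_ge h1 (sup_le (hXE.trans hE.1) hAM)
    obtain ⟨-, h17b, -⟩ := Cfsg.Agent.S1417.result hG M hM p hp A ⟨hAM, hA.2⟩
    have hPc := (h17b P).1
    intro x hx
    rw [Subgroup.mem_centralizer_iff]
    intro a ha
    obtain ⟨x', hx', rfl⟩ := hP (Subgroup.mem_sup_left hx)
    obtain ⟨a', ha', rfl⟩ := hP (Subgroup.mem_sup_right ha)
    have h2 := hPc.is_comm.comm ⟨a', ha'⟩ ⟨x', hx'⟩
    have h3 : a' * x' = x' * a' := congrArg Subtype.val h2
    exact congrArg Subtype.val h3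
  · -- the abelian case
    push Not at hns
    -- every Sylow subgroup of `G` for a prime of `τ₂(M)` is abelian
    have hab : ∀ q : ℕ, [Fact q.Prime] → q ∈ tau2 M → ∀ S : Sylow q G,
        IsMulCommutative (S : Subgroup G) := by
      intro q hq hqt S
      by_contra hS
      have hall' : ∀ S : Sylow q G, ¬ IsMulCommutative (S : Subgroup G) := by
        intro T hT
        apply hS
        refine ⟨⟨fun a b => ?_⟩⟩
        apply (S.equiv T).injective
        rw [map_mul, map_mul]
        exact hT.is_comm.comm _ _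
      obtain ⟨B, hBE, hB, hBc⟩ := SigmaDecomp772.exists_elemAb_le_compl hE
        (le_normalizer_sigmaCore M) (p := q) (k := 1)
        (fun hd => hqt.2.1 (hall.2.1 q hq.out hd)) hqt.2.2.2
      obtain ⟨ht, -, -⟩ := Cfsg.Agent.S1419.result hG M hM E hE q hqt hall' B ⟨hBE, hB, hBc⟩
      have hpq : p = q := by
        have h1 : p ∈ tau2 M := hp
        rw [ht] at h1
        exact h1
      subst hpq
      obtain ⟨T, hT⟩ := hns
      exact hall' T hT
    -- the key: `S ≤ F(E) ≤ C(S)`
    have hfit : ∀ q : ℕ, [Fact q.Prime] → q ∈ tau2 M → ∀ B : Subgroup G,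
        (B ≤ E ∧ IsElementaryAbelian q B ∧ Nat.card B = q ^ 2) →
        ∃ S : Sylow q G, B ≤ (S : Subgroup G) ∧ (S : Subgroup G) ≤ fittingOf E ∧
          fittingOf E ≤ Subgroup.centralizer ((S : Subgroup G) : Set G) := by
      intro q hq hqt B hB
      obtain ⟨S, hS⟩ := (IsPGroup.of_card hB.2.2 : IsPGroup q B).exists_le_sylow
      obtain ⟨h1, h2, h3, -, -⟩ := Sec12_8.abelian_tau2_sub_fitting hG M hM E hE q hqt B hB S hS
        (hab q hqt S)
      exact ⟨S, hS, h1.trans h2, h3⟩
    have hXF : X ≤ fittingOf E := by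
      apply le_of_coprime_relIndex (FitAux.le_normalizer_fittingOf E) hXE
      rw [Nat.coprime_iff_gcd_eq_one]
      by_contra hne
      obtain ⟨q, hq, hqd⟩ := Nat.exists_prime_and_dvd hne
      have := Fact.mk hq
      have hqt := hX q hq (hqd.trans (Nat.gcd_dvd_left _ _))
      obtain ⟨B, hBE, hB, hBc⟩ := SigmaDecomp772.exists_elemAb_le_compl hE
        (le_normalizer_sigmaCore M) (p := q) (k := 1)
        (fun hd => hqt.2.1 (hall.2.1 q hq hd)) hqt.2.2.2
      obtain ⟨S, -, hSF, -⟩ := hfit q hqt B ⟨hBE, hB, hBc⟩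
      have h1 : (fittingOf E).relIndex E ∣ (S : Subgroup G).index := by
        refine Dvd.dvd.trans ?_ (Subgroup.index_dvd_of_le hSF)
        rw [← Subgroup.relIndex_mul_index (FitAux.fittingOf_le E)]
        exact Dvd.intro _ rfl
      exact S.not_dvd_index ((hqd.trans (Nat.gcd_dvd_right _ _)).trans h1)
    obtain ⟨S, hAS, -, hFS⟩ := hfit p hp A hA
    exact (hXF.trans hFS).trans (Subgroup.centralizer_le hAS)

end Cfsg.Agent.OddOrderLocal.Tau2Commute772
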