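import Mathlib
import Cfsg.Agent.OddOrderLocal.HyperplaneFixed
import Cfsg.Agent.S0026
import Cfsg.Agent.S0056

/-!
# B&G 3.6, case II, part A: product formula, independence of weight spaces, the elementary abelian case
-/

set_option autoImplicit false

namespace Cfsg.Agent.OddOrderLocal.Thm36CaseIIA

open Finset
open scoped Pointwise commutatorElement

section LemmaF

variable {L A : Type*} [Group L] [CommGroup A] (φ : L →* MulAut A)

/-- The norm of `b` along the powers of `x`. -/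
def nrm (x : L) (r : ℕ) (b : A) : A := ∏ i ∈ Finset.range r, φ (x ^ i) b

theorem nrm_def (x : L) (r : ℕ) (b : A) : nrm φ x r b = ∏ i ∈ Finset.range r, φ (x ^ i) b := rfl

theorem apply_mul (g h : L) (b : A) : φ (g * h) b = φ g (φ h b) := by
  rw [map_mul]; rfl

theorem apply_nrm {x : L} {r : ℕ} (hx : x ^ r = 1) (b : A) : φ x (nrm φ x r b) = nrm φ x r b := by
  rw [nrm_def, map_prod]
  have h1 : ∀ i, φ x (φ (x ^ i) b) = φ (x ^ (i + 1)) b := by
    intro i; rw [← apply_mul, ← pow_succ']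
  simp_rw [h1]
  have h2 := Finset.prod_range_succ (fun i => φ (x ^ i) b) r
  have h3 := Finset.prod_range_succ' (fun i => φ (x ^ i) b) r
  rw [h2, hx, pow_zero] at h3
  exact (mul_right_cancel h3).symm

theorem nrm_mul (x : L) (r : ℕ) (a b : A) : nrm φ x r (a * b) = nrm φ x r a * nrm φ x r b := by
  simp only [nrm_def, map_mul, Finset.prod_mul_distrib]

theorem nrm_pow (x : L) (r n : ℕ) (a : A) : nrm φ x r (a ^ n) = nrm φ x r a ^ n := by
  simp only [nrm_def, map_pow, Finset.prod_pow]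

theorem nrm_inv (x : L) (r : ℕ) (a : A) : nrm φ x r (a⁻¹) = (nrm φ x r a)⁻¹ := by
  simp only [nrm_def, map_inv, Finset.prod_inv_distrib]

theorem nrm_mem {x : L} {r : ℕ} {W : Subgroup A} (hWx : ∀ w ∈ W, φ x w ∈ W) {a : A} (ha : a ∈ W) :
    nrm φ x r a ∈ W := by
  have hp : ∀ i, ∀ w ∈ W, φ (x ^ i) w ∈ W := by
    intro i
    induction i with
    | zero => intro w hw; simpa using hw
    | succ n ih =>
      intro w hw
      rw [pow_succ, apply_mul]
      exact ih _ (hWx w hw)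
  exact W.prod_mem fun i _ => hp i a ha

/-- Lemma F. -/
theorem lemF (Z : Subgroup L) [Fintype Z] (x : L) (r : ℕ) (hr0 : 0 < r)
    (hxZ : ∀ z ∈ Z, x * z * x⁻¹ ∈ Z)
    (hfree : ∀ i, 0 < i → i < r → ∀ z ∈ Z, x ^ i * z = z * x ^ i → z = 1)
    (W : Subgroup A) (hWx : ∀ w ∈ W, φ x w ∈ W) (hWZ : ∀ z ∈ Z, ∀ w ∈ W, φ z w ∈ W)
    (hfix : ∀ w ∈ W, (∀ z ∈ Z, φ z w = w) → w = 1) (a : A) (ha : a ∈ W) :
    ∏ z : Z, φ (z : L) (nrm φ x r (φ (z : L)⁻¹ a)) = a ^ Nat.card Z := by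
  have hWp : ∀ i, ∀ w ∈ W, φ (x ^ i) w ∈ W := by
    intro i
    induction i with
    | zero => intro w hw; simpa using hw
    | succ n ih =>
      intro w hw
      rw [pow_succ, apply_mul]
      exact ih _ (hWx w hw)
  have hxZp : ∀ i, ∀ z ∈ Z, x ^ i * z * (x ^ i)⁻¹ ∈ Z := by
    intro i
    induction i with
    | zero => intro z hz; simpa using hz
    | succ n ih =>
      intro z hz
      have : x ^ (n + 1) * z * (x ^ (n + 1))⁻¹ = x ^ n * (x * z * x⁻¹) * (x ^ n)⁻¹ := by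
        rw [pow_succ]; group
      rw [this]
      exact ih _ (hxZ z hz)
  have h1 : ∀ z : Z, φ (z : L) (nrm φ x r (φ (z : L)⁻¹ a)) =
      ∏ i ∈ Finset.range r, φ ((z : L) * x ^ i * (z : L)⁻¹) a := by
    intro z
    rw [nrm_def, map_prod]
    refine Finset.prod_congr rfl fun i _ => ?_
    rw [← apply_mul, ← apply_mul, mul_assoc]
  rw [Finset.prod_congr rfl fun z _ => h1 z, Finset.prod_comm]
  obtain ⟨r', rfl⟩ : ∃ r', r = r' + 1 := ⟨r - 1, by omega⟩
  rw [Finset.prod_range_succ']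
  have h0 : ∏ z : Z, φ ((z : L) * x ^ 0 * (z : L)⁻¹) a = a ^ Nat.card Z := by
    simp [Nat.card_eq_fintype_card]
  rw [h0]
  have h2 : ∀ i ∈ Finset.range r', ∏ z : Z, φ ((z : L) * x ^ (i + 1) * (z : L)⁻¹) a = 1 := by
    intro i hi
    rw [Finset.mem_range] at hi
    set b : A := φ (x ^ (i + 1)) a with hb
    have hbW : b ∈ W := hWp _ a ha
    let e : Z → Z := fun z => ⟨(z : L) * (x ^ (i + 1) * (z : L)⁻¹ * (x ^ (i + 1))⁻¹),
      Z.mul_mem z.2 (hxZp (i + 1) _ (Z.inv_mem z.2))⟩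
    have hinj : Function.Injective e := by
      intro z w hzw
      have h3 : (z : L) * (x ^ (i + 1) * (z : L)⁻¹ * (x ^ (i + 1))⁻¹) =
          (w : L) * (x ^ (i + 1) * (w : L)⁻¹ * (x ^ (i + 1))⁻¹) := congrArg Subtype.val hzw
      have h4 : x ^ (i + 1) * ((w : L)⁻¹ * z) = ((w : L)⁻¹ * z) * x ^ (i + 1) := by
        have h5 : (z : L) * x ^ (i + 1) * (z : L)⁻¹ = (w : L) * x ^ (i + 1) * (w : L)⁻¹ := by
          have := congrArg (fun t => t * x ^ (i + 1)) h3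
          simpa [mul_assoc] using this
        calc x ^ (i + 1) * ((w : L)⁻¹ * z)
            = (w : L)⁻¹ * ((w : L) * x ^ (i + 1) * (w : L)⁻¹) * z := by group
          _ = (w : L)⁻¹ * ((z : L) * x ^ (i + 1) * (z : L)⁻¹) * z := by rw [h5]
          _ = ((w : L)⁻¹ * z) * x ^ (i + 1) := by group
      have h6 := hfree (i + 1) (Nat.succ_pos i) (by omega) _
        (Z.mul_mem (Z.inv_mem w.2) z.2) h4
      exact Subtype.ext (inv_mul_eq_one.mp h6).symm
    have hbij : Function.Bijective e := Finite.injective_iff_bijective.mp hinj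
    have h3 : ∏ z : Z, φ ((z : L) * x ^ (i + 1) * (z : L)⁻¹) a = ∏ z : Z, φ ((e z : Z) : L) b := by
      refine Finset.prod_congr rfl fun z _ => ?_
      rw [hb, ← apply_mul]
      congr 2
      show (z : L) * x ^ (i + 1) * (z : L)⁻¹ =
        (z : L) * (x ^ (i + 1) * (z : L)⁻¹ * (x ^ (i + 1))⁻¹) * x ^ (i + 1)
      group
    rw [h3, hbij.prod_comp (fun z : Z => φ (z : L) b)]
    apply hfix
    · exact W.prod_mem fun z _ => hWZ z z.2 b hbW
    · intro g hg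
      rw [map_prod]
      have h4 : ∀ z : Z, φ g (φ (z : L) b) = φ (((⟨g, hg⟩ : Z) * z : Z) : L) b := by
        intro z
        rw [← apply_mul]; rfl
      rw [Finset.prod_congr rfl fun z _ => h4 z]
      exact (Equiv.mulLeft (⟨g, hg⟩ : Z)).bijective.prod_comp (fun z : Z => φ (z : L) b)
  rw [Finset.prod_congr rfl h2, Finset.prod_const_one, one_mul]

/-- Consequence: `W` is generated by the `Z`-images of the `x`-fixed elements of `W`. -/
theorem mem_of_fixed (Z : Subgroup L) [Finite Z] (x : L) (r : ℕ) (hr0 : 0 < r) (hxr : x ^ r = 1)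
    (hxZ : ∀ z ∈ Z, x * z * x⁻¹ ∈ Z)
    (hfree : ∀ i, 0 < i → i < r → ∀ z ∈ Z, x ^ i * z = z * x ^ i → z = 1)
    (W : Subgroup A) [Finite A] (hWx : ∀ w ∈ W, φ x w ∈ W) (hWZ : ∀ z ∈ Z, ∀ w ∈ W, φ z w ∈ W)
    (hfix : ∀ w ∈ W, (∀ z ∈ Z, φ z w = w) → w = 1) (hcop : (Nat.card A).Coprime (Nat.card Z))
    (B : Subgroup A) (hB : ∀ z ∈ Z, ∀ c ∈ W, φ x c = c → φ z c ∈ B) : W ≤ B := by
  intro a ha
  have := Fintype.ofFinite Z
  -- `a` is a `card Z`-th power of an element of `W`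
  have hcopW : (Nat.card W).Coprime (Nat.card Z) :=
    Nat.Coprime.coprime_dvd_left (Subgroup.card_subgroup_dvd_card W) hcop
  obtain ⟨b, hb⟩ : ∃ b : W, b ^ Nat.card Z = ⟨a, ha⟩ :=
    (powCoprime hcopW).surjective ⟨a, ha⟩
  have h1 := lemF φ Z x r hr0 hxZ hfree W hWx hWZ hfix (b : A) b.2
  have h2 : (b : A) ^ Nat.card Z = a := by
    have := congrArg Subtype.val hb
    simpa using this
  rw [h2] at h1
  rw [← h1]
  apply B.prod_mem
  intro z _
  apply hB z z.2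
  · exact nrm_mem φ hWx (hWZ _ (Z.inv_mem z.2) _ b.2)
  · exact apply_nrm φ hxr _

theorem exists_fixed (Z : Subgroup L) [Finite Z] (x : L) (r : ℕ) (hr0 : 0 < r) (hxr : x ^ r = 1)
    (hxZ : ∀ z ∈ Z, x * z * x⁻¹ ∈ Z)
    (hfree : ∀ i, 0 < i → i < r → ∀ z ∈ Z, x ^ i * z = z * x ^ i → z = 1)
    (W : Subgroup A) [Finite A] (hWx : ∀ w ∈ W, φ x w ∈ W) (hWZ : ∀ z ∈ Z, ∀ w ∈ W, φ z w ∈ W)
    (hfix : ∀ w ∈ W, (∀ z ∈ Z, φ z w = w) → w = 1) (hcop : (Nat.card A).Coprime (Nat.card Z))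
    (hW : W ≠ ⊥) : ∃ c ∈ W, c ≠ 1 ∧ φ x c = c := by
  by_contra hcon
  push Not at hcon
  apply hW
  rw [eq_bot_iff]
  refine mem_of_fixed φ Z x r hr0 hxr hxZ hfree W hWx hWZ hfix hcop ⊥ ?_
  intro z _ c hc hxc
  by_cases h1 : c = 1
  · rw [h1, map_one]; exact Subgroup.one_mem _
  · exact absurd hxc (hcon c hc h1)

end LemmaF


section Indep

variable {L A : Type*} [Group L] [CommGroup A] (φ : L →* MulAut A)

/-- The fixed points of the subgroup `Y` in `A`. -/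
def fx (Y : Subgroup L) : Subgroup A where
  carrier := {a | ∀ y ∈ Y, φ y a = a}
  mul_mem' := by
    intro a b ha hb y hy
    rw [map_mul, ha y hy, hb y hy]
  one_mem' := by intro y _; exact map_one _
  inv_mem' := by
    intro a ha y hy
    rw [map_inv, ha y hy]

theorem mem_fx {Y : Subgroup L} {a : A} : a ∈ fx φ Y ↔ ∀ y ∈ Y, φ y a = a := Iff.rfl

theorem mem_fx_sup {Y Z : Subgroup L} {a : A} (h1 : a ∈ fx φ Y) (h2 : a ∈ fx φ Z) :
    a ∈ fx φ (Y ⊔ Z) := by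
  let S : Subgroup L :=
    { carrier := {g | φ g a = a}
      mul_mem' := by
        intro g h hg hh
        show φ (g * h) a = a
        rw [apply_mul, show φ h a = a from hh]; exact hg
      one_mem' := by
        show φ 1 a = a
        simp
      inv_mem' := by
        intro g hg
        show φ g⁻¹ a = a
        have : φ g⁻¹ (φ g a) = a := by rw [← apply_mul]; simp
        rwa [show φ g a = a from hg] at this }
  have h3 : Y ⊔ Z ≤ S := sup_le (fun y hy => h1 y hy) (fun z hz => h2 z hz)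
  exact fun y hy => h3 hy

/-- Independence of the weight spaces. -/
theorem indep {Q : Subgroup L} (hQc : ∀ a ∈ Q, ∀ b ∈ Q, a * b = b * a)
    (hQfix : ∀ a : A, a ∈ fx φ Q → a = 1) {ι : Type*} (Y : ι → Subgroup L) (s : Finset ι) :
    (∀ i ∈ s, Y i ≤ Q) → (∀ i ∈ s, ∀ j ∈ s, i ≠ j → Y i ⊔ Y j = Q) →
    ∀ v : ι → A, (∀ i ∈ s, v i ∈ fx φ (Y i)) → ∏ i ∈ s, v i = 1 → ∀ i ∈ s, v i = 1 := by
  classical
  induction s using Finset.induction_on with
  | empty => intro _ _ v _ _ i hi; exact absurd hi (Finset.notMem_empty i)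
  | insert i₀ s hi₀ ih =>
    intro hYQ hd v hv hprod
    rw [Finset.prod_insert hi₀] at hprod
    have hs : ∏ i ∈ s, v i = (v i₀)⁻¹ := by
      rw [eq_inv_iff_mul_eq_one, mul_comm]; exact hprod
    have hvs : ∀ i ∈ s, v i = 1 := by
      intro j hj
      apply hQfix
      rw [← hd i₀ (Finset.mem_insert_self _ _) j (Finset.mem_insert_of_mem hj)
        (fun h => hi₀ (h ▸ hj))]
      apply mem_fx_sup
      · intro y hy
        have h1 := ih (fun i hi => hYQ i (Finset.mem_insert_of_mem hi))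
          (fun i hi k hk => hd i (Finset.mem_insert_of_mem hi) k (Finset.mem_insert_of_mem hk))
          (fun i => φ y (v i) * (v i)⁻¹) ?_ ?_ j hj
        · exact mul_inv_eq_one.mp h1
        · intro i hi
          apply (fx φ (Y i)).mul_mem
          · intro z hz
            have hyQ : y ∈ Q := hYQ i₀ (Finset.mem_insert_self _ _) hy
            have hzQ : z ∈ Q := hYQ i (Finset.mem_insert_of_mem hi) hz
            rw [← apply_mul, hQc z hzQ y hyQ, apply_mul, hv i (Finset.mem_insert_of_mem hi) z hz]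
          · exact (fx φ (Y i)).inv_mem (hv i (Finset.mem_insert_of_mem hi))
        · rw [Finset.prod_mul_distrib, Finset.prod_inv_distrib, ← map_prod, hs, map_inv,
            hv i₀ (Finset.mem_insert_self _ _) y hy, inv_inv, inv_mul_cancel]
      · exact hv j (Finset.mem_insert_of_mem hj)
    intro i hi
    rw [Finset.mem_insert] at hi
    rcases hi with rfl | hi
    · rw [Finset.prod_eq_one hvs, mul_one] at hprod
      exact hprod
    · exact hvs i hi

theorem fx_conj {Y : Subgroup L} {a : A} (ha : a ∈ fx φ Y) (g : L) :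
    φ g a ∈ fx φ (MulAut.conj g • Y) := by
  intro y hy
  rw [Subgroup.mem_pointwise_smul_iff_inv_smul_mem] at hy
  have h1 : g⁻¹ * y * g ∈ Y := by
    have : (MulAut.conj g)⁻¹ • y = g⁻¹ * y * g := by
      rw [← map_inv]; simp [MulAut.smul_def]
    rwa [this] at hy
  have h2 := ha _ h1
  have h3 : y * g = g * (g⁻¹ * y * g) := by group
  rw [← apply_mul, h3, apply_mul, h2]

end Indep

/-- Commutators of two subgroups acting on a group `Q / Y` that is cyclic act trivially on it. -/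
theorem commutator_le_of_cyclic {L : Type*} [Group L] (Q Y S T : Subgroup L) (hYQ : Y ≤ Q)
    (hQY : Q ≤ Subgroup.normalizer (Y : Set L))
    (u : L) (hu : ∀ g ∈ Q, ∃ n : ℤ, (u ^ n)⁻¹ * g ∈ Y)  (huQ : u ∈ Q)
    (hSQ : S ≤ Subgroup.normalizer (Q : Set L)) (hSY : S ≤ Subgroup.normalizer (Y : Set L))
    (hTQ : T ≤ Subgroup.normalizer (Q : Set L)) (hTY : T ≤ Subgroup.normalizer (Y : Set L)) :
    ∀ c ∈ ⁅S, T⁆, ∀ g ∈ Q, g⁻¹ * (c * g * c⁻¹) ∈ Y := by
  -- work modulo Y in the group N = N(Q) ∩ N(Y)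
  set N : Subgroup L := Subgroup.normalizer (Q : Set L) ⊓ Subgroup.normalizer (Y : Set L) with hN
  have hST : ⁅S, T⁆ ≤ N := by
    rw [Subgroup.commutator_le]
    intro s hs t ht
    have hs' : s ∈ N := ⟨hSQ hs, hSY hs⟩
    have ht' : t ∈ N := ⟨hTQ ht, hTY ht⟩
    exact N.mul_mem (N.mul_mem (N.mul_mem hs' ht') (N.inv_mem hs')) (N.inv_mem ht')
  -- the set of elements acting trivially on Q / Y
  have hconjY : ∀ n ∈ N, ∀ y ∈ Y, n * y * n⁻¹ ∈ Y := fun n hn y hy =>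
    (Subgroup.mem_normalizer_iff.mp hn.2 y).mp hy
  have hconjQ : ∀ n ∈ N, ∀ y ∈ Q, n * y * n⁻¹ ∈ Q := fun n hn y hy =>
    (Subgroup.mem_normalizer_iff.mp hn.1 y).mp hy
  have hQN : ∀ n ∈ Q, ∀ y ∈ Y, n * y * n⁻¹ ∈ Y := fun n hn y hy =>
    (Subgroup.mem_normalizer_iff.mp (hQY hn) y).mp hy
  -- congruence mod Y
  let E : L → L → Prop := fun a b => a⁻¹ * b ∈ Y
  have Erefl : ∀ a, E a a := fun a => by
    show a⁻¹ * a ∈ Y
    rw [inv_mul_cancel]; exact Y.one_mem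
  have Esymm : ∀ a b, E a b → E b a := fun a b h => by
    show b⁻¹ * a ∈ Y
    have := Y.inv_mem h
    simpa using this
  have Etrans : ∀ a b c, E a b → E b c → E a c := fun a b c h1 h2 => by
    show a⁻¹ * c ∈ Y
    have := Y.mul_mem h1 h2
    simpa [mul_assoc] using this
  have Emul : ∀ a b c d, b ∈ Q → E a b → d ∈ Q → E c d → E (a * c) (b * d) := by
    intro a b c d hb h1 hd h2
    show (a * c)⁻¹ * (b * d) ∈ Y
    have h3 : d⁻¹ * (a⁻¹ * b) * d⁻¹⁻¹ ∈ Y := hQN d⁻¹ (Q.inv_mem hd) _ h1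
    have h4 : (a * c)⁻¹ * (b * d) = (c⁻¹ * d) * (d⁻¹ * (a⁻¹ * b) * d⁻¹⁻¹) := by group
    rw [h4]; exact Y.mul_mem h2 h3
  have Einv : ∀ a b, a ∈ Q → b ∈ Q → E a b → E a⁻¹ b⁻¹ := by
    intro a b ha hb h
    show a⁻¹⁻¹ * b⁻¹ ∈ Y
    have h3 := hQN a ha _ (Y.inv_mem h)
    have : a * (a⁻¹ * b)⁻¹ * a⁻¹ = a⁻¹⁻¹ * b⁻¹ := by group
    rw [← this]; exact h3
  have Epow : ∀ a b, a ∈ Q → b ∈ Q → E a b → ∀ n : ℤ, E (a ^ n) (b ^ n) := by
    intro a b ha hb h n
    induction n using Int.induction_on with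
    | zero => simpa using Erefl 1
    | succ n ih =>
      rw [zpow_add_one, zpow_add_one]
      exact Emul _ _ _ _ (Q.zpow_mem hb _) ih hb h
    | pred n ih =>
      rw [zpow_sub_one, zpow_sub_one]
      exact Emul _ _ _ _ (Q.zpow_mem hb _) ih (Q.inv_mem hb) (Einv _ _ ha hb h)
  have Econj : ∀ n ∈ N, ∀ a b, E a b → E (n * a * n⁻¹) (n * b * n⁻¹) := by
    intro n hn a b h
    show (n * a * n⁻¹)⁻¹ * (n * b * n⁻¹) ∈ Y
    have : (n * a * n⁻¹)⁻¹ * (n * b * n⁻¹) = n * (a⁻¹ * b) * n⁻¹ := by group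
    rw [this]; exact hconjY n hn _ h
  -- each n in N acts as a power map on Q / Y
  have hpow : ∀ n ∈ N, ∃ m : ℤ, ∀ g ∈ Q, E (g ^ m) (n * g * n⁻¹) := by
    intro n hn
    obtain ⟨m, hm⟩ := hu _ (hconjQ n hn u huQ)
    refine ⟨m, fun g hg => ?_⟩
    obtain ⟨k, hk⟩ := hu g hg
    -- g ≡ u^k ; n g n⁻¹ ≡ (n u n⁻¹)^k ≡ u^(m k) ≡ g^m
    have h1 : E (n * u ^ k * n⁻¹) (n * g * n⁻¹) := Econj n hn _ _ hk
    have h2 : E ((u ^ m) ^ k) ((n * u * n⁻¹) ^ k) :=
      Epow _ _ (Q.zpow_mem huQ _) (hconjQ n hn u huQ) hm k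
    have h3 : (n * u * n⁻¹) ^ k = n * u ^ k * n⁻¹ := by
      rw [conj_zpow]
    rw [h3] at h2
    have h4 : E ((u ^ k) ^ m) (g ^ m) := Epow _ _ (Q.zpow_mem huQ _) hg hk m
    have h5 : (u ^ k) ^ m = (u ^ m) ^ k := by
      rw [← zpow_mul, ← zpow_mul, mul_comm]
    rw [h5] at h4
    exact Etrans _ _ _ (Esymm _ _ h4) (Etrans _ _ _ h2 h1)
  -- the subgroup acting trivially
  let K : Subgroup L :=
    { carrier := {c | c ∈ N ∧ ∀ g ∈ Q, E g (c * g * c⁻¹)}
      mul_mem' := by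
        rintro a b ⟨haN, ha⟩ ⟨hbN, hb⟩
        refine ⟨N.mul_mem haN hbN, fun g hg => ?_⟩
        have h1 := ha _ (hconjQ b hbN g hg)
        have h2 := hb g hg
        have : a * b * g * (a * b)⁻¹ = a * (b * g * b⁻¹) * a⁻¹ := by group
        rw [this]; exact Etrans _ _ _ h2 h1
      one_mem' := ⟨N.one_mem, fun g _ => by simpa using Erefl g⟩
      inv_mem' := by
        rintro a ⟨haN, ha⟩
        refine ⟨N.inv_mem haN, fun g hg => ?_⟩
        have h0 : a⁻¹ * g * a⁻¹⁻¹ ∈ Q := hconjQ _ (N.inv_mem haN) g hg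
        have h1 := ha _ h0
        have : a * (a⁻¹ * g * a⁻¹⁻¹) * a⁻¹ = g := by group
        rw [this] at h1
        exact Esymm _ _ h1 }
  have hK : ⁅S, T⁆ ≤ K := by
    rw [Subgroup.commutator_le]
    intro s hs t ht
    have hs' : s ∈ N := ⟨hSQ hs, hSY hs⟩
    have ht' : t ∈ N := ⟨hTQ ht, hTY ht⟩
    refine ⟨N.mul_mem (N.mul_mem (N.mul_mem hs' ht') (N.inv_mem hs')) (N.inv_mem ht'), ?_⟩
    intro g hg
    -- write g = (t s) g' (t s)⁻¹
    obtain ⟨m, hm⟩ := hpow s hs'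
    obtain ⟨n, hn⟩ := hpow t ht'
    have hts : t * s ∈ N := N.mul_mem ht' hs'
    set g' : L := (t * s)⁻¹ * g * (t * s) with hg'
    have hg'Q : g' ∈ Q := by
      have := hconjQ _ (N.inv_mem hts) g hg
      rwa [inv_inv] at this
    have e1 : E ((g' ^ n) ^ m) (s * (t * g' * t⁻¹) * s⁻¹) := by
      have h1 : E (g' ^ n) (t * g' * t⁻¹) := hn g' hg'Q
      have h2 : E (s * (g' ^ n) * s⁻¹) (s * (t * g' * t⁻¹) * s⁻¹) := Econj s hs' _ _ h1
      exact Etrans _ _ _ (hm _ (Q.zpow_mem hg'Q n)) h2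
    have e2 : E ((g' ^ m) ^ n) (t * (s * g' * s⁻¹) * t⁻¹) := by
      have h1 : E (g' ^ m) (s * g' * s⁻¹) := hm g' hg'Q
      have h2 : E (t * (g' ^ m) * t⁻¹) (t * (s * g' * s⁻¹) * t⁻¹) := Econj t ht' _ _ h1
      exact Etrans _ _ _ (hn _ (Q.zpow_mem hg'Q m)) h2
    have e3 : t * (s * g' * s⁻¹) * t⁻¹ = g := by rw [hg']; group
    have e4 : s * (t * g' * t⁻¹) * s⁻¹ = ⁅s, t⁆ * g * ⁅s, t⁆⁻¹ := by
      rw [hg', commutatorElement_def]; group
    have e5 : (g' ^ n) ^ m = (g' ^ m) ^ n := by rw [← zpow_mul, ← zpow_mul, mul_comm]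
    rw [e4, e5] at e1
    rw [e3] at e2
    exact Etrans _ _ _ (Esymm _ _ e2) e1
  intro c hc g hg
  exact (hK hc).2 g hg

end Cfsg.Agent.OddOrderLocal.Thm36CaseIIA
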