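import Mathlib
import Cfsg.Agent.OddOrderLocal.Thm36CaseIIA

/-!
# B&G 3.6, case II with `Q` elementary abelian (type level)
-/

set_option autoImplicit false

namespace Cfsg.Agent.OddOrderLocal.Thm36CaseIIAbelian

open Finset Cfsg.Agent.OddOrderLocal.Thm36CaseIIA
open scoped Pointwise commutatorElement

section Basic

variable {L : Type*} [Group L]

theorem conj_smul_eq_iff (g : L) (Y : Subgroup L) :
    MulAut.conj g • Y = Y ↔ g ∈ Subgroup.normalizer (Y : Set L) := by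
  rw [Subgroup.mem_normalizer_iff]
  constructor
  · intro h y
    constructor
    · intro hy
      have : MulAut.conj g • y ∈ MulAut.conj g • Y := Subgroup.smul_mem_pointwise_smul _ _ _ hy
      rw [h] at this
      simpa [MulAut.smul_def] using this
    · intro hy
      have h2 : g * y * g⁻¹ ∈ MulAut.conj g • Y := by rw [h]; exact hy
      rw [Subgroup.mem_pointwise_smul_iff_inv_smul_mem, ← map_inv] at h2
      simpa [MulAut.smul_def, mul_assoc] using h2
  · intro h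
    ext y
    rw [Subgroup.mem_pointwise_smul_iff_inv_smul_mem, ← map_inv]
    have : MulAut.conj g⁻¹ • y = g⁻¹ * y * g := by simp [MulAut.smul_def]
    rw [this]
    have h2 := h (g⁻¹ * y * g)
    have h3 : g * (g⁻¹ * y * g) * g⁻¹ = y := by group
    rw [h3] at h2
    exact h2

theorem conj_smul_smul (g h : L) (Y : Subgroup L) :
    MulAut.conj g • MulAut.conj h • Y = MulAut.conj (g * h) • Y := by
  rw [map_mul, mul_smul]

/-- powers of an element of prime order generate -/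
theorem exists_pow_eq {x : L} {r : ℕ} (hr : r.Prime) (hxr : x ^ r = 1) {d : ℕ} (hd : 0 < d)
    (hdr : d < r) : ∃ m : ℕ, (x ^ d) ^ m = x := by
  apply exists_pow_eq_self_of_coprime
  have h1 : orderOf x ∣ r := orderOf_dvd_of_pow_eq_one hxr
  have h2 : Nat.Coprime d r := by
    rw [Nat.coprime_comm]
    exact (Nat.Prime.coprime_iff_not_dvd hr).mpr (fun h => absurd (Nat.le_of_dvd hd h) (by omega))
  exact Nat.Coprime.coprime_dvd_right h1 h2

theorem conj_pow_smul {x : L} {Y : Subgroup L} (h : MulAut.conj x • Y = Y) (n : ℕ) :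
    MulAut.conj (x ^ n) • Y = Y := by
  rw [conj_smul_eq_iff] at h ⊢
  exact Subgroup.pow_mem _ h n

/-- The conjugates of `Y` by the powers of `x` are distinct. -/
theorem conj_pow_injOn {x : L} {r : ℕ} (hr : r.Prime) (hxr : x ^ r = 1) {Y : Subgroup L}
    (hY : MulAut.conj x • Y ≠ Y) {i j : ℕ} (hi : i < r) (hj : j < r)
    (h : MulAut.conj (x ^ i) • Y = MulAut.conj (x ^ j) • Y) : i = j := by
  wlog hij : i < j generalizing i j
  · rcases Nat.lt_trichotomy i j with h1 | h1 | h1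
    · exact absurd h1 hij
    · exact h1
    · exact (this hj hi h.symm h1).symm
  exfalso
  apply hY
  have h1 : MulAut.conj (x ^ (j - i)) • Y = Y := by
    have h2 : x ^ j = x ^ i * x ^ (j - i) := by rw [← pow_add]; congr 1; omega
    rw [h2, ← conj_smul_smul] at h
    exact (smul_left_cancel _ h).symm
  obtain ⟨m, hm⟩ := exists_pow_eq hr hxr (d := j - i) (by omega) (by omega)
  have h3 := conj_pow_smul h1 m
  rwa [hm] at h3

end Basic

variable {L A : Type*} [Group L] [CommGroup A]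

/-- The set of weights. -/
def Wt (φ : L →* MulAut A) (Q : Subgroup L) (q : ℕ) (Y : Subgroup L) : Prop :=
  Y ≤ Q ∧ Y.relIndex Q = q ∧ ∃ a ∈ fx φ Y, a ≠ 1

theorem Wt.sup_eq {φ : L →* MulAut A} {Q : Subgroup L} {q : ℕ} (hq : q.Prime) {Y Z : Subgroup L}
    (hY : Wt φ Q q Y) (hZ : Wt φ Q q Z) (hne : Y ≠ Z) : Y ⊔ Z = Q := by
  have h1 : Y ⊔ Z ≤ Q := sup_le hY.1 hZ.1
  have h2 := Subgroup.relIndex_mul_relIndex Y (Y ⊔ Z) Q le_sup_left h1
  have h3 := Subgroup.relIndex_mul_relIndex Z (Y ⊔ Z) Q le_sup_right h1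
  rw [hY.2.1] at h2
  rw [hZ.2.1] at h3
  rcases (Nat.dvd_prime hq).mp ⟨_, h2.symm⟩ with h4 | h4
  · -- Y = Y ⊔ Z
    have h5 : Y ⊔ Z ≤ Y := Subgroup.relIndex_eq_one.mp h4
    have hZY : Z ≤ Y := le_sup_right.trans h5
    rcases (Nat.dvd_prime hq).mp ⟨_, h3.symm⟩ with h6 | h6
    · have h7 : Y ⊔ Z ≤ Z := Subgroup.relIndex_eq_one.mp h6
      exact absurd (le_antisymm (le_sup_left.trans h7) hZY) hne
    · rw [h6] at h3
      have h8 : (Y ⊔ Z).relIndex Q = 1 := by
        have := hq.pos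
        exact Nat.eq_of_mul_eq_mul_left this (by rw [h3, mul_one])
      exact le_antisymm h1 (Subgroup.relIndex_eq_one.mp h8)
  · rw [h4] at h2
    have h8 : (Y ⊔ Z).relIndex Q = 1 := by
      have := hq.pos
      exact Nat.eq_of_mul_eq_mul_left this (by rw [h2, mul_one])
    exact le_antisymm h1 (Subgroup.relIndex_eq_one.mp h8)

theorem Wt.conj {φ : L →* MulAut A} {Q : Subgroup L} {q : ℕ} {Y : Subgroup L} (hY : Wt φ Q q Y)
    {g : L} (hg : g ∈ Subgroup.normalizer (Q : Set L)) : Wt φ Q q (MulAut.conj g • Y) := by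
  have hQ : MulAut.conj g • Q = Q := (conj_smul_eq_iff g Q).mpr hg
  refine ⟨?_, ?_, ?_⟩
  · calc MulAut.conj g • Y ≤ MulAut.conj g • Q := Subgroup.pointwise_smul_le_pointwise_smul_iff.mpr hY.1
      _ = Q := hQ
  · have := Subgroup.relIndex_pointwise_smul (MulAut.conj g) Y Q
    rw [hQ] at this
    rw [this]; exact hY.2.1
  · obtain ⟨a, ha, ha1⟩ := hY.2.2
    refine ⟨φ g a, fx_conj φ ha g, ?_⟩
    intro h
    apply ha1
    exact (map_eq_one_iff (φ g) (φ g).injective).mp h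

section Main

variable {φ : L →* MulAut A} {Q : Subgroup L} {q : ℕ} {x : L} {r : ℕ}

/-- All weights moved by `x` form a single orbit; and the norm is injective on a moved weight space. -/
theorem two_weights (hq : q.Prime) (hr : r.Prime) (hxr : x ^ r = 1)
    (hQc : ∀ a ∈ Q, ∀ b ∈ Q, a * b = b * a) (hQfix : ∀ a : A, a ∈ fx φ Q → a = 1)
    (hxQ : x ∈ Subgroup.normalizer (Q : Set L)) {Y : Subgroup L} (hY : Wt φ Q q Y)
    (hxY : MulAut.conj x • Y ≠ Y) {a : A} (ha : a ∈ fx φ Y) (hN : nrm φ x r a = 1) : a = 1 := by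
  have hxQp : ∀ i, x ^ i ∈ Subgroup.normalizer (Q : Set L) := fun i => Subgroup.pow_mem _ hxQ i
  have h1 := indep φ hQc hQfix (fun i : ℕ => MulAut.conj (x ^ i) • Y) (Finset.range r)
    (fun i _ => (hY.conj (hxQp i)).1)
    (fun i hi j hj hij => Wt.sup_eq hq (hY.conj (hxQp i)) (hY.conj (hxQp j))
      (fun h => hij (conj_pow_injOn hr hxr hxY (Finset.mem_range.mp hi) (Finset.mem_range.mp hj) h)))
    (fun i => φ (x ^ i) a) (fun i _ => fx_conj φ ha _) hN 0 (Finset.mem_range.mpr hr.pos)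
  simpa using h1

theorem one_orbit (hq : q.Prime) (hr : r.Prime) (hxr : x ^ r = 1)
    (hQc : ∀ a ∈ Q, ∀ b ∈ Q, a * b = b * a) (hQfix : ∀ a : A, a ∈ fx φ Q → a = 1)
    (hxQ : x ∈ Subgroup.normalizer (Q : Set L))
    (hCV : ∀ c c' : A, φ x c = c → φ x c' = c' → c ≠ 1 → ∃ n : ℕ, c' = c ^ n)
    {Y Y' : Subgroup L} (hY : Wt φ Q q Y) (hY' : Wt φ Q q Y')
    (hxY : MulAut.conj x • Y ≠ Y) (hxY' : MulAut.conj x • Y' ≠ Y') :
    ∃ i : ℕ, i < r ∧ Y' = MulAut.conj (x ^ i) • Y := by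
  by_contra hcon
  push Not at hcon
  have hxQp : ∀ i, x ^ i ∈ Subgroup.normalizer (Q : Set L) := fun i => Subgroup.pow_mem _ hxQ i
  obtain ⟨a, ha, ha1⟩ := hY.2.2
  obtain ⟨a', ha', ha1'⟩ := hY'.2.2
  have hNa : nrm φ x r a ≠ 1 := fun h => ha1 (two_weights hq hr hxr hQc hQfix hxQ hY hxY ha h)
  obtain ⟨n, hn⟩ := hCV _ _ (apply_nrm φ hxr a) (apply_nrm φ hxr a') hNa
  -- cross distinctness
  have hcross : ∀ i < r, ∀ j < r, MulAut.conj (x ^ i) • Y ≠ MulAut.conj (x ^ j) • Y' := by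
    intro i hi j hj h
    -- Y' = conj (x^(r-j) * x^i) Y
    have h1 : Y' = MulAut.conj (x ^ ((r - j + i) % r)) • Y := by
      have h2 : MulAut.conj (x ^ (r - j)) • MulAut.conj (x ^ j) • Y' = Y' := by
        rw [conj_smul_smul, ← pow_add, Nat.sub_add_cancel hj.le, hxr, map_one, one_smul]
      rw [← h2, ← h, conj_smul_smul, ← pow_add]
      congr 2
      conv_lhs => rw [← Nat.div_add_mod (r - j + i) r, pow_add, pow_mul, hxr, one_pow, one_mul]
    exact hcon _ (Nat.mod_lt _ hr.pos) h1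
  let Yf : ℕ ⊕ ℕ → Subgroup L := fun k => match k with
    | Sum.inl i => MulAut.conj (x ^ i) • Y
    | Sum.inr i => MulAut.conj (x ^ i) • Y'
  let v : ℕ ⊕ ℕ → A := fun k => match k with
    | Sum.inl i => φ (x ^ i) (a ^ n)
    | Sum.inr i => φ (x ^ i) (a'⁻¹)
  have hWf : ∀ k, Wt φ Q q (Yf k) := by
    intro k
    cases k with
    | inl i => exact hY.conj (hxQp i)
    | inr i => exact hY'.conj (hxQp i)
  have h1 := indep φ hQc hQfix Yf ((Finset.range r).disjSum (Finset.range r))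
    (fun k _ => (hWf k).1) ?_ v ?_ ?_ (Sum.inr 0)
    (Finset.inr_mem_disjSum.mpr (Finset.mem_range.mpr hr.pos))
  · have h2 : φ (x ^ 0) (a'⁻¹) = 1 := h1
    simp at h2
    exact ha1' h2
  · intro k hk l hl hkl
    apply Wt.sup_eq hq (hWf k) (hWf l)
    intro h
    apply hkl
    rcases k with i | i <;> rcases l with j | j
    · rw [Finset.inl_mem_disjSum, Finset.mem_range] at hk hl
      rw [conj_pow_injOn hr hxr hxY hk hl h]
    · rw [Finset.inl_mem_disjSum, Finset.mem_range] at hk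
      rw [Finset.inr_mem_disjSum, Finset.mem_range] at hl
      exact absurd h (hcross i hk j hl)
    · rw [Finset.inr_mem_disjSum, Finset.mem_range] at hk
      rw [Finset.inl_mem_disjSum, Finset.mem_range] at hl
      exact absurd h.symm (hcross j hl i hk)
    · rw [Finset.inr_mem_disjSum, Finset.mem_range] at hk hl
      rw [conj_pow_injOn hr hxr hxY' hk hl h]
  · intro k _
    rcases k with i | i
    · exact fx_conj φ (Subgroup.pow_mem _ ha n) _
    · exact fx_conj φ (Subgroup.inv_mem _ ha') _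
  · rw [Finset.prod_disjSum]
    show nrm φ x r (a ^ n) * nrm φ x r (a'⁻¹) = 1
    rw [nrm_pow, nrm_inv, ← hn, mul_inv_cancel]

/-- A fixed-point-free automorphism: two `x`-invariant conjugates of `Y` under `P` are equal. -/
theorem fixed_unique [Finite L] {P : Subgroup L} (hxP : x ∈ Subgroup.normalizer (P : Set L))
    (hCP : ∀ g ∈ P, g * x = x * g → g = 1) {Y : Subgroup L} (hxY : MulAut.conj x • Y = Y)
    {u : L} (hu : u ∈ P) (hxu : MulAut.conj x • MulAut.conj u • Y = MulAut.conj u • Y) :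
    MulAut.conj u • Y = Y := by
  have hxPc : ∀ g ∈ P, x * g * x⁻¹ ∈ P := fun g hg => (Subgroup.mem_normalizer_iff.mp hxP g).mp hg
  -- the commutator map is injective on P
  have hinj : ∀ g ∈ P, ∀ h ∈ P, g⁻¹ * (x * g * x⁻¹) = h⁻¹ * (x * h * x⁻¹) → g = h := by
    intro g hg h hh heq
    have h1 : (h * g⁻¹) * x = x * (h * g⁻¹) := by
      have h2 : h * g⁻¹ * (x * g * x⁻¹) = x * h * x⁻¹ := by
        rw [mul_assoc, heq]; group
      calc h * g⁻¹ * x = (h * g⁻¹ * (x * g * x⁻¹)) * x * g⁻¹ := by group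
        _ = (x * h * x⁻¹) * x * g⁻¹ := by rw [h2]
        _ = x * (h * g⁻¹) := by group
    have h3 := hCP _ (P.mul_mem hh (P.inv_mem hg)) h1
    exact (mul_inv_eq_one.mp h3).symm
  -- stabilizer
  let P₁ : Subgroup L := P ⊓ Subgroup.normalizer (Y : Set L)
  have hxY' : x ∈ Subgroup.normalizer (Y : Set L) := (conj_smul_eq_iff x Y).mp hxY
  have hxP₁ : ∀ g ∈ P₁, x * g * x⁻¹ ∈ P₁ := fun g hg =>
    ⟨hxPc g hg.1, Subgroup.mul_mem _ (Subgroup.mul_mem _ hxY' hg.2) (Subgroup.inv_mem _ hxY')⟩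
  let f : P₁ → P₁ := fun g => ⟨(g : L)⁻¹ * (x * g * x⁻¹), P₁.mul_mem (P₁.inv_mem g.2) (hxP₁ g g.2)⟩
  have hf : Function.Injective f := by
    intro g h hgh
    apply Subtype.ext
    exact hinj _ g.2.1 _ h.2.1 (congrArg Subtype.val hgh)
  have hfs : Function.Surjective f := Finite.surjective_of_injective hf
  have hmem : u⁻¹ * (x * u * x⁻¹) ∈ P₁ := by
    refine ⟨P.mul_mem (P.inv_mem hu) (hxPc u hu), ?_⟩
    apply (conj_smul_eq_iff _ _).mp
    have h1 : MulAut.conj (x⁻¹) • Y = Y := (conj_smul_eq_iff _ _).mpr (Subgroup.inv_mem _ hxY')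
    calc MulAut.conj (u⁻¹ * (x * u * x⁻¹)) • Y
        = MulAut.conj u⁻¹ • MulAut.conj x • MulAut.conj u • MulAut.conj x⁻¹ • Y := by
          rw [conj_smul_smul, conj_smul_smul, conj_smul_smul]
          congr 2; group
      _ = MulAut.conj u⁻¹ • MulAut.conj u • Y := by rw [h1, hxu]
      _ = Y := by rw [conj_smul_smul, inv_mul_cancel, map_one, one_smul]
  obtain ⟨w, hw⟩ := hfs ⟨_, hmem⟩
  have h2 : (w : L)⁻¹ * (x * w * x⁻¹) = u⁻¹ * (x * u * x⁻¹) := congrArg Subtype.val hw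
  have h3 := hinj _ w.2.1 _ hu h2
  rw [conj_smul_eq_iff, ← h3]
  exact w.2.2

end Main


section MainA

variable {φ : L →* MulAut A} {Q : Subgroup L} {q : ℕ} {x : L} {r : ℕ}

/-- No weight is `P`-invariant. -/
theorem no_fixed [Finite L] (hq : q.Prime) (hr : r.Prime) (hxr : x ^ r = 1)
    (hQc : ∀ a ∈ Q, ∀ b ∈ Q, a * b = b * a) (hQfix : ∀ a : A, a ∈ fx φ Q → a = 1)
    (hxQ : x ∈ Subgroup.normalizer (Q : Set L))
    (hCV : ∀ c c' : A, φ x c = c → φ x c' = c' → c ≠ 1 → ∃ n : ℕ, c' = c ^ n)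
    {P : Subgroup L} (hPQ : P ≤ Subgroup.normalizer (Q : Set L)) (hcomm : ⁅Q, P⁆ = Q)
    (hPx : ⁅P, Subgroup.zpowers x⁆ = P)
    {Y : Subgroup L} (hY : Wt φ Q q Y) (hPY : P ≤ Subgroup.normalizer (Y : Set L)) : False := by
  obtain ⟨a, ha, ha1⟩ := hY.2.2
  have hYne : ¬ Q ≤ Y := by
    intro h
    have := hY.2.1
    rw [Subgroup.relIndex_eq_one.mpr h] at this
    exact hq.one_lt.ne this
  have hQY : Q ≤ Subgroup.normalizer (Y : Set L) := by
    intro g hg
    rw [Subgroup.mem_normalizer_iff]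
    intro y
    constructor
    · intro hy
      have : g * y * g⁻¹ = y := by rw [hQc g hg y (hY.1 hy)]; group
      rw [this]; exact hy
    · intro hy
      have h1 : g⁻¹ * (g * y * g⁻¹) * g = g * y * g⁻¹ := by
        rw [mul_assoc, ← hQc g hg _ (hY.1 hy)]; group
      have h2 : g⁻¹ * (g * y * g⁻¹) * g = y := by group
      rw [← h2, h1]; exact hy
  by_cases hxY : MulAut.conj x • Y = Y
  · -- `P = [P, x]` acts trivially on the cyclic group `Q / Y`
    have hxY' : x ∈ Subgroup.normalizer (Y : Set L) := (conj_smul_eq_iff x Y).mp hxY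
    obtain ⟨u, huQ, huY⟩ : ∃ u ∈ Q, u ∉ Y := by
      by_contra h
      push Not at h
      exact hYne h
    have hu : ∀ g ∈ Q, ∃ n : ℤ, (u ^ n)⁻¹ * g ∈ Y := by
      -- `Y ⊔ zpowers u = Q`
      have h1 : Y ⊔ Subgroup.zpowers u = Q := by
        have hle : Y ⊔ Subgroup.zpowers u ≤ Q := sup_le hY.1 (by simpa using huQ)
        have h2 := Subgroup.relIndex_mul_relIndex Y (Y ⊔ Subgroup.zpowers u) Q le_sup_left hle
        rw [hY.2.1] at h2
        rcases (Nat.dvd_prime hq).mp ⟨_, h2.symm⟩ with h4 | h4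
        · exfalso
          apply huY
          have h5 : Y ⊔ Subgroup.zpowers u ≤ Y := Subgroup.relIndex_eq_one.mp h4
          exact h5 ((le_sup_right : Subgroup.zpowers u ≤ Y ⊔ Subgroup.zpowers u) (Subgroup.mem_zpowers u))
        · rw [h4] at h2
          have h8 : (Y ⊔ Subgroup.zpowers u).relIndex Q = 1 :=
            Nat.eq_of_mul_eq_mul_left hq.pos (by rw [h2, mul_one])
          exact le_antisymm hle (Subgroup.relIndex_eq_one.mp h8)
      -- the set of all `u ^ n * y` is a subgroup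
      let S : Subgroup L :=
        { carrier := {g | g ∈ Q ∧ ∃ n : ℤ, (u ^ n)⁻¹ * g ∈ Y}
          mul_mem' := by
            rintro g h ⟨hg, n, hn⟩ ⟨hh, m, hm⟩
            refine ⟨Q.mul_mem hg hh, n + m, ?_⟩
            have h3 : (u ^ (n + m))⁻¹ * (g * h) = ((u ^ n)⁻¹ * g) * ((u ^ m)⁻¹ * h) := by
              rw [zpow_add, mul_inv_rev]
              have h4 : (u ^ m)⁻¹ * ((u ^ n)⁻¹ * g) = ((u ^ n)⁻¹ * g) * (u ^ m)⁻¹ :=
                hQc _ (Q.inv_mem (Q.zpow_mem huQ m)) _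
                  (Q.mul_mem (Q.inv_mem (Q.zpow_mem huQ n)) hg)
              calc (u ^ m)⁻¹ * (u ^ n)⁻¹ * (g * h) = ((u ^ m)⁻¹ * ((u ^ n)⁻¹ * g)) * h := by group
                _ = (((u ^ n)⁻¹ * g) * (u ^ m)⁻¹) * h := by rw [h4]
                _ = ((u ^ n)⁻¹ * g) * ((u ^ m)⁻¹ * h) := by group
            rw [h3]; exact Y.mul_mem hn hm
          one_mem' := ⟨Q.one_mem, 0, by simp⟩
          inv_mem' := by
            rintro g ⟨hg, n, hn⟩
            refine ⟨Q.inv_mem hg, -n, ?_⟩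
            have h3 : (u ^ (-n))⁻¹ * g⁻¹ = ((u ^ n)⁻¹ * g)⁻¹ := by
              rw [mul_inv_rev, inv_inv, zpow_neg, inv_inv]
              exact hQc _ (Q.zpow_mem huQ n) _ (Q.inv_mem hg)
            rw [h3]; exact Y.inv_mem hn }
      have hS : Y ⊔ Subgroup.zpowers u ≤ S := by
        apply sup_le
        · intro y hy
          exact ⟨hY.1 hy, 0, by simpa using hy⟩
        · rw [Subgroup.zpowers_le]
          exact ⟨huQ, 1, by simp⟩
      intro g hg
      rw [← h1] at hg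
      exact (hS hg).2
    have h1 := commutator_le_of_cyclic Q Y P (Subgroup.zpowers x) hY.1 hQY u hu huQ hPQ hPY
      (by simpa using hxQ) (by simpa using hxY')
    rw [hPx] at h1
    apply hYne
    rw [← hcomm, Subgroup.commutator_le]
    intro g hg c hc
    -- ⁅g, c⁆ = g (c g⁻¹ c⁻¹) ; have (g⁻¹)⁻¹ * (c g⁻¹ c⁻¹) ∈ Y
    have h2 := h1 c hc g⁻¹ (Q.inv_mem hg)
    have h3 : g⁻¹⁻¹ * (c * g⁻¹ * c⁻¹) = ⁅g, c⁆ := by rw [commutatorElement_def]; group
    rwa [h3] at h2
  · -- `fx Y` has order `p`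
    have hcyc : ∀ b ∈ fx φ Y, ∃ n : ℕ, b = a ^ n := by
      intro b hb
      have hNa : nrm φ x r a ≠ 1 := fun h => ha1 (two_weights hq hr hxr hQc hQfix hxQ hY hxY ha h)
      obtain ⟨n, hn⟩ := hCV _ _ (apply_nrm φ hxr a) (apply_nrm φ hxr b) hNa
      refine ⟨n, ?_⟩
      have h1 : nrm φ x r (b * (a ^ n)⁻¹) = 1 := by
        rw [nrm_mul, nrm_inv, nrm_pow, hn, mul_inv_cancel]
      have h2 := two_weights hq hr hxr hQc hQfix hxQ hY hxY
        ((fx φ Y).mul_mem hb ((fx φ Y).inv_mem ((fx φ Y).pow_mem ha n))) h1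
      exact mul_inv_eq_one.mp h2
    -- elements of N(Y) preserve fx Y and commute on it
    have hpres : ∀ g ∈ Subgroup.normalizer (Y : Set L), ∀ b ∈ fx φ Y, φ g b ∈ fx φ Y := by
      intro g hg b hb
      have := fx_conj φ hb g
      rwa [(conj_smul_eq_iff g Y).mpr hg] at this
    have hcommute : ∀ g ∈ Subgroup.normalizer (Y : Set L), ∀ h ∈ Subgroup.normalizer (Y : Set L),
        ∀ b ∈ fx φ Y, φ (g * h) b = φ (h * g) b := by
      intro g hg h hh b hb
      obtain ⟨m, hm⟩ := hcyc _ (hpres g hg a ha)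
      obtain ⟨n, hn⟩ := hcyc _ (hpres h hh a ha)
      obtain ⟨k, rfl⟩ := hcyc b hb
      rw [apply_mul, apply_mul, map_pow, map_pow, map_pow, map_pow, hm, hn, map_pow, map_pow, hm, hn]
      rw [← pow_mul, ← pow_mul, ← pow_mul, ← pow_mul]
      congr 1; ring
    apply ha1
    apply hQfix
    -- stabilizer of a
    let S : Subgroup L :=
      { carrier := {g | φ g a = a}
        mul_mem' := by
          intro g h hg hh
          show φ (g * h) a = a
          rw [apply_mul, show φ h a = a from hh]; exact hg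
        one_mem' := by
          show φ 1 a = a
          simp
        inv_mem' := by
          intro g hg
          show φ g⁻¹ a = a
          have : φ g⁻¹ (φ g a) = a := by rw [← apply_mul]; simp
          rwa [show φ g a = a from hg] at this }
    have hS : ⁅Q, P⁆ ≤ S := by
      rw [Subgroup.commutator_le]
      intro g hg h hh
      show φ ⁅g, h⁆ a = a
      have hg' := hQY hg
      have hh' := hPY hh
      set b : A := φ ((h * g)⁻¹) a with hb
      have hbY : b ∈ fx φ Y := hpres _ (Subgroup.inv_mem _ (Subgroup.mul_mem _ hh' hg')) a ha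
      have h1 : φ ⁅g, h⁆ a = φ (g * h) b := by
        rw [hb, ← apply_mul]; congr 2
        rw [commutatorElement_def]; group
      have h2 : φ (h * g) b = a := by
        rw [hb, ← apply_mul]; simp
      rw [h1, hcommute g hg' h hh' b hbY, h2]
    rw [hcomm] at hS
    exact fun y hy => hS hy

/-- Case II of B&G 3.6 for elementary abelian `Q`, at the level of actions. -/
theorem caseIIa [Finite L] {p : ℕ} [Fact p.Prime] (hq : q.Prime) (hr : r.Prime) (hxr : x ^ r = 1)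
    (hr2 : r ≠ 2) (hrp : r ≠ p) (hp2 : p ≠ 2)
    (hQc : ∀ a ∈ Q, ∀ b ∈ Q, a * b = b * a) (hQfix : ∀ a : A, a ∈ fx φ Q → a = 1)
    (hxQ : x ∈ Subgroup.normalizer (Q : Set L))
    (hCV : ∀ c c' : A, φ x c = c → φ x c' = c' → c ≠ 1 → ∃ n : ℕ, c' = c ^ n)
    {P : Subgroup L} (hPp : IsPGroup p P) (hPQ : P ≤ Subgroup.normalizer (Q : Set L))
    (hxP : x ∈ Subgroup.normalizer (P : Set L)) (hcomm : ⁅Q, P⁆ = Q)
    (hPx : ⁅P, Subgroup.zpowers x⁆ = P) (hCP : ∀ g ∈ P, g * x = x * g → g = 1)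
    {Y₁ : Subgroup L} (hY₁ : Wt φ Q q Y₁) : False := by
  classical
  have hpp : p.Prime := Fact.out
  let _ : MulAction P (Subgroup L) :=
    MulAction.compHom (Subgroup L) ((MulAut.conj : L →* MulAut L).comp P.subtype)
  have hsmul : ∀ (u : P) (Z : Subgroup L), u • Z = MulAut.conj (u : L) • Z := fun u Z => rfl
  let O : Set (Subgroup L) := MulAction.orbit P Y₁
  have hO : ∀ Z, Z ∈ O ↔ ∃ u ∈ P, MulAut.conj u • Y₁ = Z := by
    intro Z
    show Z ∈ MulAction.orbit P Y₁ ↔ _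
    rw [MulAction.mem_orbit_iff]
    constructor
    · rintro ⟨u, hu⟩; exact ⟨u, u.2, hu⟩
    · rintro ⟨u, hu, h⟩; exact ⟨⟨u, hu⟩, h⟩
  have hOW : ∀ Z ∈ O, Wt φ Q q Z := by
    intro Z hZ
    obtain ⟨u, hu, rfl⟩ := (hO Z).mp hZ
    exact hY₁.conj (hPQ hu)
  have hOconj : ∀ Z ∈ O, ∀ u ∈ P, MulAut.conj u • Z ∈ O := by
    intro Z hZ u hu
    obtain ⟨w, hw, rfl⟩ := (hO Z).mp hZ
    rw [hO]
    exact ⟨u * w, P.mul_mem hu hw, by rw [conj_smul_smul]⟩
  have hOtrans : ∀ Z ∈ O, ∀ Z' ∈ O, ∃ u ∈ P, MulAut.conj u • Z = Z' := by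
    intro Z hZ Z' hZ'
    obtain ⟨w, hw, rfl⟩ := (hO Z).mp hZ
    obtain ⟨w', hw', rfl⟩ := (hO Z').mp hZ'
    refine ⟨w' * w⁻¹, P.mul_mem hw' (P.inv_mem hw), ?_⟩
    rw [conj_smul_smul]; congr 2; group
  have hY₁O : Y₁ ∈ O := (hO Y₁).mpr ⟨1, P.one_mem, by simp⟩
  obtain ⟨n, hn⟩ := hPp.card_orbit (α := Subgroup L) Y₁
  have hOcard : O.ncard = p ^ n := by
    rw [← hn]; rfl
  have hOfin : O.Finite := Set.toFinite O
  -- at most one x-fixed member
  let F : Set (Subgroup L) := {Z ∈ O | MulAut.conj x • Z = Z}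
  let M : Set (Subgroup L) := {Z ∈ O | MulAut.conj x • Z ≠ Z}
  have hF1 : F.ncard ≤ 1 := by
    rw [Set.ncard_le_one (Set.toFinite F)]
    rintro Z ⟨hZ, hxZ⟩ Z' ⟨hZ', hxZ'⟩
    obtain ⟨u, hu, rfl⟩ := hOtrans Z hZ Z' hZ'
    exact (fixed_unique hxP hCP hxZ hu hxZ').symm
  have hFM : F.ncard + M.ncard = O.ncard := by
    rw [← Set.ncard_union_eq ?_ (Set.toFinite F) (Set.toFinite M)]
    · congr 1
      ext Z
      simp only [F, M, Set.mem_union, Set.mem_ofPred_eq]
      tauto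
    · rw [Set.disjoint_left]
      rintro Z ⟨_, h1⟩ ⟨_, h2⟩
      exact h2 h1
  -- the orbit has at least 3 elements
  have hn0 : n ≠ 0 := by
    rintro rfl
    rw [pow_zero] at hOcard
    obtain ⟨Z₀, hZ₀⟩ := Set.ncard_eq_one.mp hOcard
    have hall : ∀ Z ∈ O, Z = Y₁ := by
      intro Z hZ
      rw [hZ₀, Set.mem_singleton_iff] at hZ hY₁O
      rw [hZ, hY₁O]
    refine no_fixed hq hr hxr hQc hQfix hxQ hCV hPQ hcomm hPx hY₁ ?_
    intro u hu
    rw [← conj_smul_eq_iff]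
    exact hall _ (hOconj Y₁ hY₁O u hu)
  have hp3 : 3 ≤ p := by
    have := hpp.two_le
    omega
  have hO3 : 3 ≤ O.ncard := by
    rw [hOcard]
    calc 3 ≤ p := hp3
      _ = p ^ 1 := (pow_one p).symm
      _ ≤ p ^ n := Nat.pow_le_pow_right (by omega) (Nat.one_le_iff_ne_zero.mpr hn0)
  have hM2 : 1 < M.ncard := by omega
  obtain ⟨Y₀, Y₂, hY₀, hY₂, hne⟩ := (Set.one_lt_ncard_iff (Set.toFinite M)).mp hM2
  obtain ⟨i, hir, hi⟩ := one_orbit hq hr hxr hQc hQfix hxQ hCV (hOW _ hY₀.1) (hOW _ hY₂.1) hY₀.2 hY₂.2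
  have hi0 : 0 < i := by
    rcases Nat.eq_zero_or_pos i with h | h
    · exfalso; apply hne; rw [hi, h]; simp
    · exact h
  -- O is invariant under x ^ i
  have hinvi : ∀ Z ∈ O, MulAut.conj (x ^ i) • Z ∈ O := by
    intro Z hZ
    obtain ⟨u, hu, rfl⟩ := hOtrans Y₀ hY₀.1 Z hZ
    have h1 : MulAut.conj (x ^ i) • MulAut.conj u • Y₀
        = MulAut.conj (x ^ i * u * (x ^ i)⁻¹) • Y₂ := by
      rw [hi, conj_smul_smul, conj_smul_smul]; congr 2; group
    rw [h1]
    apply hOconj _ hY₂.1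
    exact (Subgroup.mem_normalizer_iff.mp (Subgroup.pow_mem _ hxP i) u).mp hu
  have hinvim : ∀ m : ℕ, ∀ Z ∈ O, MulAut.conj ((x ^ i) ^ m) • Z ∈ O := by
    intro m
    induction m with
    | zero => intro Z hZ; simpa using hZ
    | succ m ih =>
      intro Z hZ
      rw [pow_succ, ← conj_smul_smul]
      exact ih _ (hinvi Z hZ)
  obtain ⟨m, hm⟩ := exists_pow_eq hr hxr hi0 hir
  have hinvx : ∀ j : ℕ, ∀ Z ∈ O, MulAut.conj (x ^ j) • Z ∈ O := by
    intro j Z hZ
    have := hinvim (m * j) Z hZ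
    rwa [pow_mul, hm] at this
  have hMr : M.ncard = r := by
    have hMeq : M = (fun j : ℕ => MulAut.conj (x ^ j) • Y₀) '' (Finset.range r : Set ℕ) := by
      ext Z
      constructor
      · rintro ⟨hZ, hxZ⟩
        obtain ⟨j, hj, hj'⟩ := one_orbit hq hr hxr hQc hQfix hxQ hCV (hOW _ hY₀.1) (hOW _ hZ) hY₀.2 hxZ
        exact ⟨j, by simpa using hj, hj'.symm⟩
      · rintro ⟨j, hj, rfl⟩
        refine ⟨hinvx j _ hY₀.1, ?_⟩
        intro h
        apply hY₀.2
        have h2 : MulAut.conj (x ^ j) • MulAut.conj x • Y₀ = MulAut.conj (x ^ j) • Y₀ := by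
          rw [conj_smul_smul, ← pow_succ, pow_succ', ← conj_smul_smul]
          exact h
        exact smul_left_cancel _ h2
    rw [hMeq, Set.InjOn.ncard_image, Set.ncard_coe_finset, Finset.card_range]
    intro j hj k hk hjk
    exact conj_pow_injOn hr hxr hY₀.2 (by simpa using hj) (by simpa using hk) hjk
  have hfin : F.ncard + r = p ^ n := by rw [← hMr, hFM, hOcard]
  rcases Nat.eq_zero_or_pos F.ncard with h0 | h0
  · rw [h0, zero_add] at hfin
    have h1 : p ∣ r := by rw [hfin]; exact dvd_pow_self p hn0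
    exact hrp ((Nat.prime_dvd_prime_iff_eq hpp hr).mp h1).symm
  · have h1 : F.ncard = 1 := by omega
    rw [h1] at hfin
    have hro : Odd r := hr.odd_of_ne_two hr2
    have hpo : Odd (p ^ n) := (hpp.odd_of_ne_two hp2).pow
    rw [← hfin] at hpo
    have : Even (1 + r) := by
      rw [Nat.even_add]
      simp [Nat.not_even_iff_odd.mpr hro]
    exact (Nat.not_even_iff_odd.mpr hpo) this

end MainA

end Cfsg.Agent.OddOrderLocal.Thm36CaseIIAbelian
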