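import Mathlib
import Cfsg.Agent.OddOrderLocal.Thm36CaseIIA
import Cfsg.Agent.S0022
import Cfsg.Agent.S0026
import Cfsg.Agent.S0055

/-!
# B&G 3.6, case II with `Q` nonabelian
-/

set_option autoImplicit false

namespace Cfsg.Agent.OddOrderLocal.Thm36CaseIINonab

open Finset Cfsg.Agent.OddOrderLocal.Thm36CaseIIA
open scoped Pointwise commutatorElement

section Cyclic

variable {L A : Type*} [Group L] [CommGroup A] (φ : L →* MulAut A)

/-- Elements of the subgroup generated by the images `φ z w`, `z ∈ Z` abelian, as products. -/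
theorem exists_prod (Z : Subgroup L) [Fintype Z] (w : A) {b : A}
    (hb : b ∈ Subgroup.closure {c : A | ∃ z ∈ Z, c = φ z w}) :
    ∃ n : Z → ℤ, b = ∏ z : Z, (φ (z : L) w) ^ n z := by
  classical
  induction hb using Subgroup.closure_induction with
  | mem c hc =>
    obtain ⟨z, hz, rfl⟩ := hc
    refine ⟨fun y => if y = ⟨z, hz⟩ then 1 else 0, ?_⟩
    rw [Finset.prod_eq_single ⟨z, hz⟩]
    · simp
    · intro y _ hy; simp [hy]
    · intro h; exact absurd (Finset.mem_univ _) h
  | one => exact ⟨fun _ => 0, by simp⟩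
  | mul a c _ _ iha ihc =>
    obtain ⟨n, rfl⟩ := iha
    obtain ⟨m, rfl⟩ := ihc
    refine ⟨fun z => n z + m z, ?_⟩
    simp only [zpow_add, Finset.prod_mul_distrib]
  | inv a _ iha =>
    obtain ⟨n, rfl⟩ := iha
    refine ⟨fun z => - n z, ?_⟩
    simp only [zpow_neg, Finset.prod_inv_distrib]

/-- The centralizer of an abelian group acting "cyclically" is abelian. -/
theorem comm_on_cyclic (Z : Subgroup L) [Finite Z] (hZ : ∀ a ∈ Z, ∀ b ∈ Z, a * b = b * a) (w : A)
    (W : Subgroup A) (hw : w ∈ W) (hW : W ≤ Subgroup.closure {c : A | ∃ z ∈ Z, c = φ z w})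
    (g h : L) (hg : ∀ z ∈ Z, g * z = z * g) (hh : ∀ z ∈ Z, h * z = z * h)
    (hgW : ∀ a ∈ W, φ g a ∈ W) (hhW : ∀ a ∈ W, φ h a ∈ W) :
    ∀ a ∈ W, φ (g * h) a = φ (h * g) a := by
  have := Fintype.ofFinite Z
  obtain ⟨n, hn⟩ := exists_prod φ Z w (hW (hgW w hw))
  obtain ⟨m, hm⟩ := exists_prod φ Z w (hW (hhW w hw))
  have key : φ (g * h) w = φ (h * g) w := by
    rw [apply_mul, apply_mul, hm, hn, map_prod, map_prod]
    have e1 : ∀ z : Z, φ g ((φ (z : L) w) ^ m z) =
        ∏ z' : Z, (φ ((z : L) * (z' : L)) w) ^ (n z' * m z) := by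
      intro z
      rw [map_zpow, ← apply_mul, hg z z.2, apply_mul, hn, map_prod, ← Finset.prod_zpow]
      refine Finset.prod_congr rfl fun z' _ => ?_
      rw [map_zpow, ← apply_mul, ← zpow_mul]
    have e2 : ∀ z : Z, φ h ((φ (z : L) w) ^ n z) =
        ∏ z' : Z, (φ ((z : L) * (z' : L)) w) ^ (m z' * n z) := by
      intro z
      rw [map_zpow, ← apply_mul, hh z z.2, apply_mul, hm, map_prod, ← Finset.prod_zpow]
      refine Finset.prod_congr rfl fun z' _ => ?_
      rw [map_zpow, ← apply_mul, ← zpow_mul]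
    rw [Finset.prod_congr rfl fun z _ => e1 z, Finset.prod_congr rfl fun z _ => e2 z,
      Finset.prod_comm]
    refine Finset.prod_congr rfl fun z _ => Finset.prod_congr rfl fun z' _ => ?_
    rw [hZ z' z'.2 z z.2, mul_comm]
  intro a ha
  have ha' := hW ha
  clear ha
  induction ha' using Subgroup.closure_induction with
  | mem c hc =>
    obtain ⟨z, hz, rfl⟩ := hc
    have h1 : g * h * z = z * (g * h) := by
      rw [mul_assoc, hh z hz, ← mul_assoc, hg z hz, mul_assoc]
    have h2 : h * g * z = z * (h * g) := by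
      rw [mul_assoc, hg z hz, ← mul_assoc, hh z hz, mul_assoc]
    rw [← apply_mul, ← apply_mul, h1, h2, apply_mul φ z (g * h), apply_mul φ z (h * g), key]
  | one => rw [map_one, map_one]
  | mul a c _ _ iha ihc => rw [map_mul (φ (g * h)), map_mul (φ (h * g)), iha, ihc]
  | inv a _ iha => rw [map_inv (φ (g * h)), map_inv (φ (h * g)), iha]

/-- The kernel of the averaging map of `Z` on `A`. -/
def kerAvg (Z : Subgroup L) [Fintype Z] : Subgroup A where
  carrier := {a | ∏ z : Z, φ (z : L) a = 1}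
  mul_mem' := by
    intro a b ha hb
    show ∏ z : Z, φ (z : L) (a * b) = 1
    simp only [map_mul, Finset.prod_mul_distrib]
    rw [show ∏ z : Z, φ (z : L) a = 1 from ha, show ∏ z : Z, φ (z : L) b = 1 from hb, mul_one]
  one_mem' := by
    show ∏ z : Z, φ (z : L) 1 = 1
    simp
  inv_mem' := by
    intro a ha
    show ∏ z : Z, φ (z : L) (a⁻¹) = 1
    simp only [map_inv, Finset.prod_inv_distrib]
    rw [show ∏ z : Z, φ (z : L) a = 1 from ha, inv_one]

theorem mem_kerAvg (Z : Subgroup L) [Fintype Z] (a : A) :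
    a ∈ kerAvg φ Z ↔ ∏ z : Z, φ (z : L) a = 1 := Iff.rfl

theorem kerAvg_fixed (Z : Subgroup L) [Fintype Z] [Finite A]
    (hcop : (Nat.card A).Coprime (Nat.card Z)) {a : A} (ha : a ∈ kerAvg φ Z)
    (hfix : ∀ z ∈ Z, φ z a = a) : a = 1 := by
  rw [mem_kerAvg, Finset.prod_congr rfl fun z _ => hfix z.1 z.2, Finset.prod_const,
    Finset.card_univ, ← Nat.card_eq_fintype_card] at ha
  have := (powCoprime hcop).injective (a₁ := a) (a₂ := 1) (by simpa using ha)
  exact this

theorem kerAvg_diff (Z : Subgroup L) [Fintype Z] {z : L} (hz : z ∈ Z) (a : A) :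
    φ z a * a⁻¹ ∈ kerAvg φ Z := by
  rw [mem_kerAvg]
  simp only [map_mul, map_inv, Finset.prod_mul_distrib, Finset.prod_inv_distrib]
  have : ∏ y : Z, φ (y : L) (φ z a) = ∏ y : Z, φ (y : L) a := by
    have h1 : ∀ y : Z, φ (y : L) (φ z a) = φ ((y * ⟨z, hz⟩ : Z) : L) a := by
      intro y; rw [← apply_mul]; rfl
    rw [Finset.prod_congr rfl fun y _ => h1 y]
    exact (Equiv.mulRight (⟨z, hz⟩ : Z)).bijective.prod_comp (fun y : Z => φ (y : L) a)
  rw [this, mul_inv_cancel]

theorem kerAvg_inv (Z : Subgroup L) [Fintype Z] {g : L} (hg : g ∈ Subgroup.normalizer (Z : Set L))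
    {a : A} (ha : a ∈ kerAvg φ Z) : φ g a ∈ kerAvg φ Z := by
  rw [mem_kerAvg] at ha ⊢
  have hg' := Subgroup.mem_normalizer_iff.mp (Subgroup.inv_mem _ hg)
  let e : Z → Z := fun z => ⟨g⁻¹ * z * g⁻¹⁻¹, (hg' z).mp z.2⟩
  have he : Function.Bijective e := by
    constructor
    · intro y z hyz
      have := congrArg Subtype.val hyz
      apply Subtype.ext
      simpa [e] using this
    · intro z
      refine ⟨⟨g * z * g⁻¹, (Subgroup.mem_normalizer_iff.mp hg z).mp z.2⟩, ?_⟩
      apply Subtype.ext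
      simp [e, mul_assoc]
  have h1 : ∀ z : Z, φ (z : L) (φ g a) = φ g (φ ((e z : Z) : L) a) := by
    intro z
    rw [← apply_mul, ← apply_mul]; congr 2
    show (z : L) * g = g * (g⁻¹ * z * g⁻¹⁻¹)
    group
  rw [Finset.prod_congr rfl fun z _ => h1 z, ← map_prod,
    he.prod_comp (fun z : Z => φ (z : L) a), ha, map_one]

end Cyclic

end Cfsg.Agent.OddOrderLocal.Thm36CaseIINonab
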