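import Mathlib
import Cfsg.Agent.OddOrderLocal.Thm36CaseIINonab
import Cfsg.Agent.OddOrderLocal.Thm36CaseIIAbelian

set_option autoImplicit false

namespace Cfsg.Agent.OddOrderLocal.Thm36CaseIINonab2

open Finset Cfsg.Agent.OddOrderLocal.Thm36CaseIIA Cfsg.Agent.OddOrderLocal.Thm36CaseIINonab
open scoped Pointwise commutatorElement

section Q

variable {L : Type*} [Group L]

/-- The action of `N(Q) ⊓ N(Z)` on `Q / Z`. -/
noncomputable def qact (Q Z : Subgroup L) [(Z.subgroupOf Q).Normal] :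
    ↥(Subgroup.normalizer (Q : Set L) ⊓ Subgroup.normalizer (Z : Set L)) →*
      MulAut (Q ⧸ Z.subgroupOf Q) where
  toFun g := QuotientGroup.congr (Z.subgroupOf Q) (Z.subgroupOf Q)
    (Q.normalizerMonoidHom ⟨g.1, g.2.1⟩) (by
      ext y
      constructor
      · rintro ⟨z, hz, rfl⟩
        exact (Subgroup.mem_normalizer_iff.mp g.2.2 _).mp hz
      · intro hy
        refine ⟨⟨g.1⁻¹ * y.1 * g.1⁻¹⁻¹, (Subgroup.mem_normalizer_iff.mp
          (Subgroup.inv_mem _ g.2.1) _).mp y.2⟩, ?_, ?_⟩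
        · exact (Subgroup.mem_normalizer_iff.mp (Subgroup.inv_mem _ g.2.2) _).mp hy
        · apply Subtype.ext
          show g.1 * (g.1⁻¹ * y.1 * g.1⁻¹⁻¹) * g.1⁻¹ = y.1
          group)
  map_one' := by
    ext y
    induction y using QuotientGroup.induction_on with
    | H y =>
      show (QuotientGroup.mk _ : Q ⧸ Z.subgroupOf Q) = QuotientGroup.mk y
      congr 1
      apply Subtype.ext
      show (1 : L) * y.1 * (1 : L)⁻¹ = y.1
      simp
  map_mul' g h := by
    ext y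
    induction y using QuotientGroup.induction_on with
    | H y =>
      show (QuotientGroup.mk _ : Q ⧸ Z.subgroupOf Q) = QuotientGroup.mk _
      congr 1
      apply Subtype.ext
      show (g.1 * h.1) * y.1 * (g.1 * h.1)⁻¹ = g.1 * (h.1 * y.1 * h.1⁻¹) * g.1⁻¹
      group

theorem qact_mk (Q Z : Subgroup L) [(Z.subgroupOf Q).Normal]
    (g : ↥(Subgroup.normalizer (Q : Set L) ⊓ Subgroup.normalizer (Z : Set L))) (y : Q) :
    qact Q Z g (QuotientGroup.mk y) =
      QuotientGroup.mk ⟨g.1 * y.1 * g.1⁻¹, (Subgroup.mem_normalizer_iff.mp g.2.1 _).mp y.2⟩ := rfl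

end Q

/-- A Frobenius group `P ⋊ ⟨x⟩` acting on `Q / Z` (abelian, coprime) without fixed points of `P`: there is
a fixed point of `x`. -/
theorem exists_fixed_mod {L : Type*} [Group L] [Finite L] {p q r : ℕ} [Fact p.Prime] [Fact q.Prime]
    (hpq : p ≠ q) (hr : r.Prime) (hrq : r ≠ q) {Q P Z : Subgroup L} {x : L} (hxr : x ^ r = 1)
    (hQq : IsPGroup q Q) (hPp : IsPGroup p P)
    (hxQ : x ∈ Subgroup.normalizer (Q : Set L)) (hPQ : P ≤ Subgroup.normalizer (Q : Set L))
    (hxP : x ∈ Subgroup.normalizer (P : Set L))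
    (hZQ : Z ≤ Q) (hQZ : Q ≤ Subgroup.normalizer (Z : Set L))
    (hPZ : P ≤ Subgroup.normalizer (Z : Set L)) (hxZ : x ∈ Subgroup.normalizer (Z : Set L))
    (hD : ∀ a ∈ Q, ∀ b ∈ Q, ⁅a, b⁆ ∈ Z) (hne : Z ≠ Q)
    (hfixP : ∀ g ∈ Q, (∀ y ∈ P, g * y = y * g) → g ∈ Z)
    (hCP : ∀ g ∈ P, g * x = x * g → g = 1) : ∃ c ∈ Q, c ∉ Z ∧ c * x = x * c := by
  have hnormal : (Z.subgroupOf Q).Normal := by
    constructor
    intro z hz g
    exact (Subgroup.mem_normalizer_iff.mp (hQZ g.2) _).mp hz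
  let _ : CommGroup (Q ⧸ Z.subgroupOf Q) :=
    { (inferInstance : Group (Q ⧸ Z.subgroupOf Q)) with
      mul_comm := by
        intro a b
        induction a using QuotientGroup.induction_on with
        | H a =>
          induction b using QuotientGroup.induction_on with
          | H b =>
            rw [← QuotientGroup.mk_mul, ← QuotientGroup.mk_mul, QuotientGroup.eq]
            show ((a.1 * b.1)⁻¹ * (b.1 * a.1)) ∈ Z
            have := hD b.1⁻¹ (Q.inv_mem b.2) a.1⁻¹ (Q.inv_mem a.2)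
            rw [commutatorElement_def] at this
            simpa [mul_assoc] using this }
  have hQsol : Group.IsSolvable Q := by
    have := hQq.isNilpotent
    infer_instance
  set N := Subgroup.normalizer (Q : Set L) ⊓ Subgroup.normalizer (Z : Set L) with hN
  have hPN : P ≤ N := le_inf hPQ hPZ
  have hxN : x ∈ N := ⟨hxQ, hxZ⟩
  have hcopPQ : (Nat.card P).Coprime (Nat.card Q) := IsPGroup.coprime_card_of_ne p q hpq _ _ hPp hQq
  have hcopXQ : (Nat.card (Subgroup.zpowers x)).Coprime (Nat.card Q) := by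
    rw [Nat.card_zpowers]
    obtain ⟨k, hk⟩ := (IsPGroup.iff_card).mp hQq
    rw [hk]
    apply Nat.Coprime.coprime_dvd_left (orderOf_dvd_of_pow_eq_one hxr)
    exact Nat.Coprime.pow_right _ ((Nat.coprime_primes hr (Fact.out)).mpr hrq)
  -- apply `exists_fixed`
  have hfree : ∀ i, 0 < i → i < r → ∀ z ∈ P, x ^ i * z = z * x ^ i → z = 1 := by
    intro i hi hir z hz h
    apply hCP z hz
    obtain ⟨m, hm⟩ := Cfsg.Agent.OddOrderLocal.Thm36CaseIIAbelian.exists_pow_eq hr hxr hi hir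
    have : Commute z (x ^ i) := h.symm
    have h2 := this.pow_right m
    rw [hm] at h2
    exact h2
  have hW : (⊤ : Subgroup (Q ⧸ Z.subgroupOf Q)) ≠ ⊥ := by
    intro h
    apply hne
    apply le_antisymm hZQ
    intro g hg
    have h1 : (QuotientGroup.mk ⟨g, hg⟩ : Q ⧸ Z.subgroupOf Q) ∈ (⊥ : Subgroup (Q ⧸ Z.subgroupOf Q)) := by
      rw [← h]; trivial
    rw [Subgroup.mem_bot, QuotientGroup.eq_one_iff] at h1
    exact h1
  obtain ⟨c, -, hc1, hc⟩ := exists_fixed (qact Q Z) (P.subgroupOf N) ⟨x, hxN⟩ r hr.pos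
    (Subtype.ext (by simpa using hxr))
    (by
      intro z hz
      exact (Subgroup.mem_normalizer_iff.mp hxP _).mp hz)
    (by
      intro i hi hir z hz h
      apply Subtype.ext
      exact hfree i hi hir z.1 hz (by simpa using congrArg Subtype.val h))
    ⊤ (fun _ _ => trivial) (fun _ _ _ _ => trivial)
    (by
      intro w _ hw
      induction w using QuotientGroup.induction_on with
      | H w =>
        obtain ⟨c, ⟨hcQ, hcP⟩, hc⟩ := Cfsg.Agent.S0022.result P Q hPQ hcopPQ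
          (Or.inr hQsol) Z hZQ hQZ hPZ w.1 w.2 (by
            intro a ha
            have h1 := hw ⟨a, hPN ha⟩ ha
            rw [qact_mk, eq_comm, QuotientGroup.eq] at h1
            have h2 : w.1⁻¹ * (a * w.1 * a⁻¹) ∈ Z := h1
            have h3 := (Subgroup.mem_normalizer_iff.mp (hQZ w.2) _).mp h2
            simpa [mul_assoc] using h3)
        rw [QuotientGroup.eq_one_iff]
        show w.1 ∈ Z
        have h4 : c ∈ Z := hfixP c hcQ (fun y hy => ((Subgroup.mem_centralizer_iff.mp hcP) y hy).symm)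
        have h5 := Z.mul_mem h4 (Z.inv_mem hc)
        simpa [mul_assoc] using h5)
    (by
      have h1 : Nat.card (Q ⧸ Z.subgroupOf Q) ∣ Nat.card Q := Subgroup.card_quotient_dvd_card _
      have h2 : Nat.card (P.subgroupOf N) = Nat.card P :=
        Nat.card_congr (Subgroup.subgroupOfEquivOfLe hPN).toEquiv
      rw [h2]
      exact (Nat.Coprime.coprime_dvd_left h1 hcopPQ.symm))
    hW
  induction c using QuotientGroup.induction_on with
  | H w =>
    have h0 : w.1⁻¹ * (x * w.1 * x⁻¹) ∈ Z := by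
      rw [qact_mk, eq_comm, QuotientGroup.eq] at hc
      exact hc
    have hfix : ∀ a ∈ Subgroup.zpowers x, a * w.1 * a⁻¹ * w.1⁻¹ ∈ Z := by
      let S : Subgroup ↥N :=
        { carrier := {g | qact Q Z g (QuotientGroup.mk w) = QuotientGroup.mk w}
          mul_mem' := by
            intro g h hg hh
            show qact Q Z (g * h) _ = _
            rw [apply_mul, show qact Q Z h _ = _ from hh]; exact hg
          one_mem' := by
            show qact Q Z 1 _ = _
            simp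
          inv_mem' := by
            intro g hg
            show qact Q Z g⁻¹ _ = _
            have : qact Q Z g⁻¹ (qact Q Z g (QuotientGroup.mk w)) = QuotientGroup.mk w := by
              rw [← apply_mul]; simp
            rwa [show qact Q Z g _ = _ from hg] at this }
      have hS : Subgroup.zpowers (⟨x, hxN⟩ : ↥N) ≤ S := by
        rw [Subgroup.zpowers_le]; exact hc
      rintro a ⟨n, rfl⟩
      have h1 := hS (⟨n, rfl⟩ : (⟨x, hxN⟩ : ↥N) ^ n ∈ Subgroup.zpowers (⟨x, hxN⟩ : ↥N))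
      have h2 : qact Q Z ((⟨x, hxN⟩ : ↥N) ^ n) (QuotientGroup.mk w) = QuotientGroup.mk w := h1
      rw [qact_mk, eq_comm, QuotientGroup.eq] at h2
      have h3 : w.1⁻¹ * (x ^ n * w.1 * (x ^ n)⁻¹) ∈ Z := by
        have h4 : w.1⁻¹ * (((⟨x, hxN⟩ : ↥N) ^ n).1 * w.1 * (((⟨x, hxN⟩ : ↥N) ^ n).1)⁻¹) ∈ Z := h2
        simpa using h4
      have h4 := (Subgroup.mem_normalizer_iff.mp (hQZ w.2) _).mp h3
      simpa [mul_assoc] using h4
    obtain ⟨c, ⟨hcQ, hcx⟩, hc'⟩ := Cfsg.Agent.S0022.result (Subgroup.zpowers x) Q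
      (by rw [Subgroup.zpowers_le]; exact hxQ) hcopXQ
      (Or.inr hQsol) Z hZQ hQZ
      (by rw [Subgroup.zpowers_le]; exact hxZ) w.1 w.2 hfix
    refine ⟨c, hcQ, ?_, ?_⟩
    · intro hcZ
      apply hc1
      rw [QuotientGroup.eq_one_iff]
      show w.1 ∈ Z
      have h5 := Z.mul_mem hcZ (Z.inv_mem hc')
      simpa [mul_assoc] using h5
    · exact ((Subgroup.mem_centralizer_iff.mp hcx) x (Subgroup.mem_zpowers x)).symm

/-- B&G 3.6, case II with `Q` nonabelian. -/
theorem nonab {L A : Type*} [Group L] [Finite L] [CommGroup A] [Finite A] (φ : L →* MulAut A)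
    {p q r : ℕ} [Fact p.Prime] [Fact q.Prime] (hpq : p ≠ q) (hr : r.Prime) (hrq : r ≠ q)
    {Q P : Subgroup L} {x : L} (hxr : x ^ r = 1) (hA : IsPGroup p A)
    (hQq : IsPGroup q Q) (hPp : IsPGroup p P)
    (hxQ : x ∈ Subgroup.normalizer (Q : Set L)) (hPQ : P ≤ Subgroup.normalizer (Q : Set L))
    (hxP : x ∈ Subgroup.normalizer (P : Set L))
    (hfaith : ∀ g ∈ Q, (∀ a : A, φ g a = a) → g = 1) (hcomm : ⁅Q, P⁆ = Q)
    (hna : ¬ ∀ a ∈ Q, ∀ b ∈ Q, a * b = b * a)
    (hF2 : ∀ g ∈ Q, (∀ h ∈ Q, g * h = h * g) → ∀ y ∈ P, g * y = y * g)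
    (hF3 : ⁅⁅Q, Q⁆, P⁆ = ⊥)
    (hCP : ∀ g ∈ P, g * x = x * g → g = 1)
    (hCQ : ∀ c ∈ Q, ∀ c' ∈ Q, c * x = x * c → c' * x = x * c' → c * c' = c' * c)
    (hCV : ∀ c c' : A, φ x c = c → φ x c' = c' → c ≠ 1 → ∃ n : ℕ, c' = c ^ n) : False := by
  classical
  have hQsol : Group.IsSolvable Q := by
    have := hQq.isNilpotent
    infer_instance
  have hcopPQ : (Nat.card P).Coprime (Nat.card Q) := IsPGroup.coprime_card_of_ne p q hpq _ _ hPp hQq
  have hcopX : ∀ K : Subgroup L, IsPGroup q K → (Nat.card (Subgroup.zpowers x)).Coprime (Nat.card K) := by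
    intro K hK
    rw [Nat.card_zpowers]
    obtain ⟨k, hk⟩ := (IsPGroup.iff_card).mp hK
    rw [hk]
    apply Nat.Coprime.coprime_dvd_left (orderOf_dvd_of_pow_eq_one hxr)
    exact Nat.Coprime.pow_right _ ((Nat.coprime_primes hr (Fact.out)).mpr hrq)
  set D : Subgroup L := ⁅Q, Q⁆ with hDdef
  have hDQ : D ≤ Q := Subgroup.commutator_le_self Q
  -- `D` is centralized by `P` and by `Q`
  have hPD : ⁅P, D⁆ = ⊥ := by rw [Subgroup.commutator_comm]; exact hF3
  have hDD : ⁅D, Q⁆ ≤ D := by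
    rw [hDdef]
    exact Subgroup.commutator_mono hDQ le_rfl
  have hQD : ⁅Q, D⁆ = ⊥ := by
    have h1 : ⁅⁅Q, P⁆, D⁆ = ⊥ := by
      apply Subgroup.commutator_commutator_eq_bot_of_rotate
      · rw [hPD, Subgroup.commutator_bot_left]
      · rw [eq_bot_iff, ← hF3]
        exact Subgroup.commutator_mono hDD le_rfl
    rwa [hcomm] at h1
  -- the center
  set Z : Subgroup L := Q ⊓ Subgroup.centralizer (Q : Set L) with hZdef
  have hZQ : Z ≤ Q := inf_le_left
  have hZc : ∀ z ∈ Z, ∀ g ∈ Q, z * g = g * z := fun z hz g hg =>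
    ((Subgroup.mem_centralizer_iff.mp hz.2) g hg).symm
  have hDZ : D ≤ Z := by
    refine le_inf hDQ ?_
    rw [← Subgroup.commutator_eq_bot_iff_le_centralizer, Subgroup.commutator_comm]
    exact hQD
  have hZP : ∀ z ∈ Z, ∀ y ∈ P, z * y = y * z := fun z hz y hy =>
    hF2 z hz.1 (hZc z hz) y hy
  have hQZ : Q ≤ Subgroup.normalizer (Z : Set L) := by
    intro g hg
    rw [Subgroup.mem_normalizer_iff]
    intro z
    constructor
    · intro hz
      rw [← hZc z hz g hg, mul_inv_cancel_right]; exact hz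
    · intro hz
      have h1 := hZc _ hz g hg
      have h2 : g * z * g⁻¹ = z := by
        have h3 : z = g⁻¹ * (g * z * g⁻¹) * g := by group
        have h4 : g⁻¹ * (g * z * g⁻¹ * g) = g⁻¹ * (g * (g * z * g⁻¹)) := by rw [h1]
        rw [inv_mul_cancel_left] at h4
        rw [← h4]; group
      rwa [h2] at hz
  have hPZ : P ≤ Subgroup.normalizer (Z : Set L) := by
    intro g hg
    rw [Subgroup.mem_normalizer_iff]
    intro z
    constructor
    · intro hz
      rw [← hZP z hz g hg, mul_inv_cancel_right]; exact hz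
    · intro hz
      have h1 := hZP _ hz g hg
      have h2 : g * z * g⁻¹ = z := by
        have h4 : g⁻¹ * (g * z * g⁻¹ * g) = g⁻¹ * (g * (g * z * g⁻¹)) := by rw [h1]
        rw [inv_mul_cancel_left] at h4
        rw [← h4]; group
      rwa [h2] at hz
  have hxZ' : ∀ g ∈ Subgroup.normalizer (Q : Set L), ∀ z ∈ Z, g * z * g⁻¹ ∈ Z := by
    intro g hg z hz
    refine Subgroup.mem_inf.mpr ⟨(Subgroup.mem_normalizer_iff.mp hg _).mp hz.1, ?_⟩
    rw [Subgroup.mem_centralizer_iff]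
    intro h hh
    have h1 : g⁻¹ * h * g⁻¹⁻¹ ∈ Q :=
      (Subgroup.mem_normalizer_iff.mp (Subgroup.inv_mem _ hg) _).mp hh
    have h2 := hZc z hz _ h1
    have h3 : h = g * (g⁻¹ * h * g⁻¹⁻¹) * g⁻¹ := by group
    have h4 : g * (z * (g⁻¹ * h * g⁻¹⁻¹)) * g⁻¹ = g * ((g⁻¹ * h * g⁻¹⁻¹) * z) * g⁻¹ := by rw [h2]
    calc h * (g * z * g⁻¹) = g * ((g⁻¹ * h * g⁻¹⁻¹) * z) * g⁻¹ := by group
      _ = g * (z * (g⁻¹ * h * g⁻¹⁻¹)) * g⁻¹ := h4.symm
      _ = g * z * g⁻¹ * h := by group
  have hNZ : Subgroup.normalizer (Q : Set L) ≤ Subgroup.normalizer (Z : Set L) := by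
    intro g hg
    rw [Subgroup.mem_normalizer_iff]
    intro z
    constructor
    · exact hxZ' g hg z
    · intro hz
      have := hxZ' g⁻¹ (Subgroup.inv_mem _ hg) _ hz
      have h2 : g⁻¹ * (g * z * g⁻¹) * g⁻¹⁻¹ = z := by group
      rwa [h2] at this
  have hZq : IsPGroup q Z := hQq.to_le hZQ
  have hZcomm : IsMulCommutative Z :=
    ⟨⟨fun a b => Subtype.ext (hZc a.1 a.2 b.1 (hZQ b.2))⟩⟩
  have hxN : Subgroup.zpowers x ≤ Subgroup.normalizer (Q : Set L) := by
    rw [Subgroup.zpowers_le]; exact hxQ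
  -- STEP 1
  have step1 : ∀ z ∈ Z, z * x = x * z := by
    by_contra hcon
    obtain ⟨hdec1, hdec2⟩ := Cfsg.Agent.S0055.result (Subgroup.zpowers x) Z (hxN.trans hNZ)
      (hcopX Z hZq)
    set Z1 : Subgroup L := ⁅Z, Subgroup.zpowers x⁆ with hZ1
    have hZ1ne : Z1 ≠ ⊥ := by
      intro h
      rw [h, sup_bot_eq] at hdec2
      apply hcon
      intro z hz
      rw [← hdec2] at hz
      exact ((Subgroup.mem_centralizer_iff.mp hz.2) x (Subgroup.mem_zpowers x)).symm
    have hZ1Z : Z1 ≤ Z := by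
      rw [hZ1, Subgroup.commutator_le]
      intro z hz g hg
      rw [commutatorElement_def]
      have h1 := (Subgroup.mem_normalizer_iff.mp ((hxN.trans hNZ) hg) z⁻¹).mp (Z.inv_mem hz)
      have h2 := Z.mul_mem hz h1
      simpa [mul_assoc] using h2
    have hxZ1 : x ∈ Subgroup.normalizer (Z1 : Set L) := by
      have : Subgroup.zpowers x ≤ Subgroup.normalizer (Z1 : Set L) := by
        rw [hZ1]
        exact Subgroup.normalizer_commutator_ge_right Z (Subgroup.zpowers x)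
      exact this (Subgroup.mem_zpowers x)
    have : Fintype Z1 := Fintype.ofFinite _
    have hcopA : (Nat.card A).Coprime (Nat.card Z1) := by
      obtain ⟨k, hk⟩ := (IsPGroup.iff_card).mp hA
      obtain ⟨l, hl⟩ := (IsPGroup.iff_card).mp (hZq.to_le hZ1Z)
      rw [hk, hl]
      exact Nat.Coprime.pow _ _ ((Nat.coprime_primes Fact.out Fact.out).mpr hpq)
    set W : Subgroup A := kerAvg φ Z1 with hW
    have hQZ1 : ∀ g ∈ Q, ∀ z ∈ Z1, g * z = z * g := fun g hg z hz => (hZc z (hZ1Z hz) g hg).symm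
    have hPZ1 : ∀ g ∈ P, ∀ z ∈ Z1, g * z = z * g := fun g hg z hz => (hZP z (hZ1Z hz) g hg).symm
    have hcen : ∀ g : L, (∀ z ∈ Z1, g * z = z * g) → g ∈ Subgroup.normalizer (Z1 : Set L) := by
      intro g hg
      have : g ∈ Subgroup.centralizer (Z1 : Set L) := by
        rw [Subgroup.mem_centralizer_iff]
        exact fun z hz => (hg z hz).symm
      exact Subgroup.centralizer_le_normalizer _ this
    have hWx : ∀ w ∈ W, φ x w ∈ W := fun w hw => kerAvg_inv φ Z1 hxZ1 hw
    have hWQ : ∀ g ∈ Q, ∀ w ∈ W, φ g w ∈ W := fun g hg w hw =>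
      kerAvg_inv φ Z1 (hcen g (hQZ1 g hg)) hw
    have hWP : ∀ g ∈ P, ∀ w ∈ W, φ g w ∈ W := fun g hg w hw =>
      kerAvg_inv φ Z1 (hcen g (hPZ1 g hg)) hw
    have hWfix : ∀ w ∈ W, (∀ z ∈ Z1, φ z w = w) → w = 1 := fun w hw h =>
      kerAvg_fixed φ Z1 hcopA hw h
    have hWne : W ≠ ⊥ := by
      intro h
      apply hZ1ne
      rw [eq_bot_iff]
      intro z hz
      rw [Subgroup.mem_bot]
      apply hfaith z (hZQ (hZ1Z hz))
      intro a
      have := kerAvg_diff φ Z1 hz a
      rw [← hW, h, Subgroup.mem_bot] at this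
      exact mul_inv_eq_one.mp this
    have hfree : ∀ i, 0 < i → i < r → ∀ z ∈ Z1, x ^ i * z = z * x ^ i → z = 1 := by
      intro i hi hir z hz h
      obtain ⟨m, hm⟩ := Cfsg.Agent.OddOrderLocal.Thm36CaseIIAbelian.exists_pow_eq hr hxr hi hir
      have h1 : Commute z (x ^ i) := h.symm
      have h2 := h1.pow_right m
      rw [hm] at h2
      have h3 : z ∈ (Z ⊓ Subgroup.centralizer (Subgroup.zpowers x : Set L)) ⊓ Z1 := by
        refine Subgroup.mem_inf.mpr ⟨Subgroup.mem_inf.mpr ⟨hZ1Z hz, ?_⟩, hz⟩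
        rw [Subgroup.mem_centralizer_iff]
        rintro _ ⟨n, rfl⟩
        exact (h2.zpow_right n).symm
      rw [hdec1] at h3
      exact h3
    have hxZ1' : ∀ z ∈ Z1, x * z * x⁻¹ ∈ Z1 := fun z hz =>
      (Subgroup.mem_normalizer_iff.mp hxZ1 _).mp hz
    obtain ⟨w0, hw0, hw01, hxw0⟩ := exists_fixed φ Z1 x r hr.pos hxr hxZ1' hfree W hWx
      (fun z hz => hWQ z (hZQ (hZ1Z hz))) hWfix hcopA hWne
    have hWle : W ≤ Subgroup.closure {c : A | ∃ z ∈ Z1, c = φ z w0} := by
      refine mem_of_fixed φ Z1 x r hr.pos hxr hxZ1' hfree W hWx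
        (fun z hz => hWQ z (hZQ (hZ1Z hz))) hWfix hcopA _ ?_
      intro z hz c _ hxc
      obtain ⟨n, rfl⟩ := hCV w0 c hxw0 hxc hw01
      rw [map_pow]
      have h5 : φ z w0 ∈ Subgroup.closure {c : A | ∃ z ∈ Z1, c = φ z w0} :=
        Subgroup.subset_closure ⟨z, hz, rfl⟩
      exact Subgroup.pow_mem _ h5 n
    have htriv : ∀ g ∈ Q, ∀ h ∈ P, ∀ a ∈ W, φ (g * h) a = φ (h * g) a := by
      intro g hg h hh
      exact comm_on_cyclic φ Z1 (fun a ha b hb => hZc a (hZ1Z ha) b (hZQ (hZ1Z hb))) w0 W hw0 hWle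
        g h (hQZ1 g hg) (hPZ1 h hh) (hWQ g hg) (hWP h hh)
    let S : Subgroup L :=
      { carrier := {g | g ∈ Q ∧ ∀ a ∈ W, φ g a = a}
        mul_mem' := by
          rintro g h ⟨hgQ, hg⟩ ⟨hhQ, hh⟩
          refine ⟨Q.mul_mem hgQ hhQ, fun a ha => ?_⟩
          rw [apply_mul, hh a ha, hg a ha]
        one_mem' := ⟨Q.one_mem, fun a _ => by simp⟩
        inv_mem' := by
          rintro g ⟨hgQ, hg⟩
          refine ⟨Q.inv_mem hgQ, fun a ha => ?_⟩
          have h1 : φ g⁻¹ (φ g a) = a := by rw [← apply_mul]; simp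
          rwa [hg a ha] at h1 }
    have hS : ⁅Q, P⁆ ≤ S := by
      rw [Subgroup.commutator_le]
      intro g hg h hh
      refine ⟨?_, fun a ha => ?_⟩
      · rw [← hcomm]; exact Subgroup.commutator_mem_commutator hg hh
      · -- `⁅g, h⁆ = g h g⁻¹ h⁻¹`
        set b : A := φ (h * g)⁻¹ a with hb
        have hbW : b ∈ W := by
          rw [hb, mul_inv_rev, apply_mul]
          exact hWQ _ (Q.inv_mem hg) _ (hWP _ (P.inv_mem hh) a ha)
        have h1 := htriv g hg h hh b hbW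
        have h2 : φ (h * g) b = a := by
          rw [hb, ← apply_mul]; simp
        have h3 : ⁅g, h⁆ = (g * h) * (h * g)⁻¹ := by
          rw [commutatorElement_def]; group
        rw [h3, apply_mul, ← hb, h1, h2]
    rw [hcomm] at hS
    apply hWne
    rw [eq_bot_iff]
    intro w hw
    rw [Subgroup.mem_bot]
    exact hWfix w hw (fun z hz => (hS (hZQ (hZ1Z hz))).2 w hw)
  -- STEP 2
  have hDx : ⁅D, Subgroup.zpowers x⁆ = ⊥ := by
    rw [Subgroup.commutator_eq_bot_iff_le_centralizer]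
    intro d hd
    rw [Subgroup.mem_centralizer_iff]
    rintro _ ⟨n, rfl⟩
    have : Commute d x := step1 d (hDZ hd)
    exact (this.zpow_right n).symm
  have hE : ∀ g ∈ Q, (∀ y ∈ P, g * y = y * g) → g ∈ Z := by
    set E : Subgroup L := Q ⊓ Subgroup.centralizer (P : Set L) with hE
    have h1 : ⁅⁅Q, P⁆, E⁆ = ⊥ := by
      apply Subgroup.commutator_commutator_eq_bot_of_rotate
      · have h2 : ⁅P, E⁆ = ⊥ := by
          rw [Subgroup.commutator_comm, Subgroup.commutator_eq_bot_iff_le_centralizer]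
          exact inf_le_right
        rw [h2, Subgroup.commutator_bot_left]
      · rw [eq_bot_iff, ← hF3]
        exact Subgroup.commutator_mono (Subgroup.commutator_mono inf_le_left le_rfl) le_rfl
    rw [hcomm, Subgroup.commutator_comm, Subgroup.commutator_eq_bot_iff_le_centralizer] at h1
    intro g hg hgP
    refine ⟨hg, h1 (Subgroup.mem_inf.mpr ⟨hg, ?_⟩)⟩
    rw [Subgroup.mem_centralizer_iff]
    exact fun y hy => (hgP y hy).symm
  have hZne : Z ≠ Q := by
    intro h
    apply hna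
    intro a ha b hb
    exact hZc a (by rw [h]; exact ha) b hb
  obtain ⟨c, hcQ, hcZ, hcx⟩ := exists_fixed_mod hpq hr hrq hxr hQq hPp hxQ hPQ hxP hZQ hQZ hPZ
    (hNZ hxQ) (fun a ha b hb => hDZ (Subgroup.commutator_mem_commutator ha hb)) hZne hE hCP
  apply hcZ
  -- `C = C_Q(x)` is central
  set C : Subgroup L := Q ⊓ Subgroup.centralizer (Subgroup.zpowers x : Set L) with hC
  have hCC : ⁅⁅Q, Subgroup.zpowers x⁆, C⁆ = ⊥ := by
    apply Subgroup.commutator_commutator_eq_bot_of_rotate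
    · have h2 : ⁅Subgroup.zpowers x, C⁆ = ⊥ := by
        rw [Subgroup.commutator_comm, Subgroup.commutator_eq_bot_iff_le_centralizer]
        exact inf_le_right
      rw [h2, Subgroup.commutator_bot_left]
    · rw [eq_bot_iff, ← hDx]
      exact Subgroup.commutator_mono (Subgroup.commutator_mono inf_le_left le_rfl) le_rfl
  have hfac := Cfsg.Agent.S0026.result (Subgroup.zpowers x) Q hxN (hcopX Q hQq) (Or.inr hQsol)
  have hcC : c ∈ C := by
    refine Subgroup.mem_inf.mpr ⟨hcQ, ?_⟩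
    rw [Subgroup.mem_centralizer_iff]
    rintro _ ⟨n, rfl⟩
    have : Commute c x := hcx
    exact (this.zpow_right n).symm
  have hQle : Q ≤ Subgroup.centralizer ({c} : Set L) := by
    rw [← hfac]
    refine sup_le ?_ ?_
    · rw [Subgroup.commutator_eq_bot_iff_le_centralizer] at hCC
      intro g hg
      rw [Subgroup.mem_centralizer_iff]
      intro d hd
      rw [Set.mem_singleton_iff] at hd
      rw [hd]
      exact (Subgroup.mem_centralizer_iff.mp (hCC hg)) c hcC
    · intro g hg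
      rw [Subgroup.mem_centralizer_iff]
      intro d hd
      rw [Set.mem_singleton_iff] at hd
      rw [hd]
      exact hCQ c hcQ g hg.1 hcx
        ((Subgroup.mem_centralizer_iff.mp hg.2) x (Subgroup.mem_zpowers x)).symm
  refine Subgroup.mem_inf.mpr ⟨hcQ, ?_⟩
  rw [Subgroup.mem_centralizer_iff]
  intro g hg
  exact ((Subgroup.mem_centralizer_iff.mp (hQle hg)) c rfl).symm

end Cfsg.Agent.OddOrderLocal.Thm36CaseIINonab2
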