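import Mathlib
import Cfsg.Prelude.Def_OddOrderLocal
import Cfsg.Prelude.Def_Local
import Cfsg.Agent.S1302
import Cfsg.Agent.OddOrderLocal.ConstrainedSignalizer
import Cfsg.Agent.OddOrderLocal.HyperplaneSection
import Cfsg.Agent.OddOrderLocal.Transitivity
import Cfsg.Agent.Lib.PGroupCoprimeAction

/-!
# The transitivity theorem for groups with `p`-constrained `p`-local subgroups
-/

set_option autoImplicit false
open Cfsg

namespace Cfsg.Agent.OddOrderLocal.TransitivityConstrained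

open Subgroup Cfsg.Agent.OddOrderLocal.PiCoreOf Cfsg.Agent.OddOrderLocal.Transitivity

/-- If the Sylow `p`-subgroups have class at most two then `[[S, S], S] = 1` for every `p`-subgroup. -/
theorem commutator_eq_bot_of_class_two {G : Type*} [Group G] (p : ℕ)
    (h2 : ∀ S : Sylow p G, Group.IsNilpotent (S : Subgroup G) ∧ Group.nilpotencyClass (S : Subgroup G) ≤ 2)
    (S : Subgroup G) (hS : IsPGroup p S) : ⁅⁅S, S⁆, S⁆ = ⊥ := by
  obtain ⟨P, hP⟩ := hS.exists_le_sylow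
  obtain ⟨hnil, hcl⟩ := h2 P
  have h := Subgroup.lowerCentralSeries_eq_bot_of_nilpotencyClass_le (S := (P : Subgroup G)) hcl
  rw [Subgroup.lowerCentralSeries_succ, Subgroup.lowerCentralSeries_succ, Subgroup.lowerCentralSeries_zero] at h
  rw [eq_bot_iff, ← h]
  exact Subgroup.commutator_mono (Subgroup.commutator_mono hP hP) hP

/-- Under the hypotheses of the transitivity theorem: for `1 ≠ x ∈ E`, every `E`-invariant `p'`-subgroup of `C_G(x)`
lies in `O_{p'}(N_G(⟨x⟩))`. -/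
theorem le_core {G : Type*} [Group G] [Finite G] (p : ℕ) [Fact p.Prime]
    (hloc : ∀ T : Subgroup G, IsPGroup p T → T ≠ ⊥ → Cfsg.IsPConstrained p ↥(Subgroup.normalizer (T : Set G)))
    (h2 : p = 2 → ∀ S : Sylow p G, Group.IsNilpotent (S : Subgroup G) ∧ Group.nilpotencyClass (S : Subgroup G) ≤ 2)
    (E : Subgroup G) (hEp : IsPGroup p E) (hEc : IsMulCommutative E)
    (hEfull : ∀ x ∈ Subgroup.centralizer (E : Set G), IsPGroup p (Subgroup.zpowers x) → x ∈ E)
    (x : G) (hx : x ∈ E) (hx1 : x ≠ 1) (Q : Subgroup G) (hQ : ¬ p ∣ Nat.card Q)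
    (hEQ : E ≤ normalizer (Q : Set G)) (hQx : ∀ y ∈ Q, y * x = x * y) :
    Q ≤ (pPrimeCore p ↥(normalizer (zpowers x : Set G))).map (normalizer (zpowers x : Set G)).subtype := by
  obtain ⟨N, hN⟩ : ∃ N : Subgroup G, N = normalizer ((zpowers x : Subgroup G) : Set G) := ⟨_, rfl⟩
  have hEcomm : ∀ a ∈ E, ∀ b ∈ E, a * b = b * a := by
    intro a ha b hb
    have := hEc.is_comm.comm ⟨a, ha⟩ ⟨b, hb⟩
    exact congrArg Subtype.val this
  have hcN : ∀ y : G, y * x = x * y → y ∈ N := by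
    intro y hy
    rw [hN]
    apply Subgroup.centralizer_le_normalizer
    rw [Subgroup.mem_centralizer_iff]
    rintro _ ⟨k, rfl⟩
    have h1 : Commute x y := hy.symm
    exact (h1.zpow_left k).eq
  have hEN : E ≤ N := fun a ha => hcN a (hEcomm a ha x hx)
  have hQN : Q ≤ N := fun a ha => hcN a (hQx a ha)
  have hT : IsPGroup p (zpowers x) := hEp.to_le (by rwa [zpowers_le])
  have hT1 : zpowers x ≠ ⊥ := by rwa [Ne, zpowers_eq_bot]
  have hcon : IsPConstrained p ↥N := by rw [hN]; exact hloc _ hT hT1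
  rw [← hN]
  have hcardQ : ¬ p ∣ Nat.card (Q.subgroupOf N) := by
    rw [Nat.card_congr (Subgroup.subgroupOfEquivOfLe hQN).toEquiv]
    exact hQ
  have hnorm : E.subgroupOf N ≤ normalizer (Q.subgroupOf N : Set N) := by
    rw [Subgroup.le_normalizer_iff]
    intro a ha q hq
    exact Subgroup.le_normalizer_iff.mp hEQ a ha q hq
  have hcentr : ∀ y : N, y ∈ centralizer (E.subgroupOf N : Set N) → (y : G) ∈ centralizer (E : Set G) := by
    intro y hy
    rw [Subgroup.mem_centralizer_iff] at hy ⊢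
    intro a ha
    exact congrArg Subtype.val (hy ⟨a, hEN ha⟩ ha)
  have key : Q.subgroupOf N ≤ pPrimeCore p N := by
    by_cases hp : p = 2
    · have hEp' : IsPGroup p (E.subgroupOf N) := hEp.comap_subtype
      obtain ⟨S, hS⟩ := hEp'.exists_le_sylow
      refine ConstrainedSignalizer.le_pPrimeCore p hcon (E.subgroupOf N) S hS ?_ ?_ _ hcardQ hnorm
      · have hSp : IsPGroup p ((S : Subgroup N).map N.subtype) := S.2.map _
        have h3 := commutator_eq_bot_of_class_two p (h2 hp) _ hSp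
        rw [← Subgroup.commutator_eq_bot_iff_le_centralizer]
        have h4 : (⁅⁅(S : Subgroup N), E.subgroupOf N⁆, E.subgroupOf N⁆).map N.subtype = ⊥ := by
          rw [eq_bot_iff, ← h3, Subgroup.map_commutator, Subgroup.map_commutator]
          exact Subgroup.commutator_mono (Subgroup.commutator_mono le_rfl (Subgroup.map_mono hS))
            (Subgroup.map_mono hS)
        rwa [Subgroup.map_eq_bot_iff_of_injective _ N.subtype_injective] at h4
      · intro y hy hyS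
        apply hEfull y (hcentr y hy)
        have h5 : IsPGroup p (zpowers y) := S.2.to_le (by rwa [zpowers_le])
        have h6 : (zpowers y).map N.subtype = zpowers (y : G) := by
          rw [MonoidHom.map_zpowers]; rfl
        rw [← h6]
        exact h5.map _
    · refine Cfsg.Agent.S1302.result p hp hcon (E.subgroupOf N) ?_ hEp.comap_subtype ?_ _ hcardQ hnorm
      · refine ⟨⟨?_⟩⟩
        rintro ⟨a, ha⟩ ⟨b, hb⟩
        apply Subtype.ext
        apply Subtype.ext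
        exact hEcomm a ha b hb
      · intro y hy hyo
        apply hEfull y (hcentr y hy)
        rw [IsPGroup.iff_card]
        refine ⟨1, ?_⟩
        rw [Nat.card_zpowers, Subgroup.orderOf_coe, hyo, pow_one]
  have h7 := Subgroup.map_mono (f := N.subtype) key
  rwa [Subgroup.map_subgroupOf_eq_of_le hQN] at h7

theorem le_normalizer_inf {G : Type*} [Group G] {E A B : Subgroup G} (hA : E ≤ normalizer (A : Set G))
    (hB : E ≤ normalizer (B : Set G)) : E ≤ normalizer ((A ⊓ B : Subgroup G) : Set G) := by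
  rw [Subgroup.le_normalizer_iff] at hA hB ⊢
  intro e he x hx
  exact ⟨hA e he x hx.1, hB e he x hx.2⟩

theorem le_normalizer_sup {G : Type*} [Group G] {E A B : Subgroup G} (hA : E ≤ normalizer (A : Set G))
    (hB : E ≤ normalizer (B : Set G)) : E ≤ normalizer ((A ⊔ B : Subgroup G) : Set G) := by
  intro e he
  rw [mem_normalizer_iff_conj, Subgroup.map_sup, mem_normalizer_iff_conj.mp (hA he),
    mem_normalizer_iff_conj.mp (hB he)]

theorem card_lt_of_mem {G : Type*} [Group G] [Finite G] {D F : Subgroup G} (h : D ≤ F) {r : G}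
    (hr : r ∈ F) (hrD : r ∉ D) : Nat.card D < Nat.card F := by
  refine lt_of_le_of_ne (Subgroup.card_le_of_le h) ?_
  intro hc
  have h1 := Subgroup.eq_of_le_of_card_ge h hc.ge
  rw [h1] at hrD
  exact hrD hr

/-- Abstract form of the transitivity argument. -/
theorem transitive_aux {G : Type*} [Group G] [Finite G] (p q : ℕ) [Fact p.Prime] [Fact q.Prime]
    (hqp : q ≠ p) (E E₀ : Subgroup G) (hEp : IsPGroup p E) (hEcomm : ∀ a ∈ E, ∀ b ∈ E, a * b = b * a)
    (hE₀E : E₀ ≤ E) (hE₀ : IsElementaryAbelian p E₀) (hcard : p ^ 2 < Nat.card E₀)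
    (hcore : ∀ x ∈ E, x ≠ 1 → ∃ L : Subgroup G, ¬ p ∣ Nat.card L ∧
      centralizer ({x} : Set G) ≤ normalizer (L : Set G) ∧
      ∀ Q : Subgroup G, IsPGroup q Q → E ≤ normalizer (Q : Set G) → (∀ y ∈ Q, y * x = x * y) → Q ≤ L)
    (K : Subgroup G)
    (hK : ∀ L : Subgroup G, ¬ p ∣ Nat.card L → centralizer (E : Set G) ≤ normalizer (L : Set G) →
      L ⊓ centralizer (E : Set G) ≤ K) (n : ℕ) :
    ∀ Q₁ ∈ maxInvSubgroups ⊤ E {q}, ∀ Q₂ ∈ maxInvSubgroups ⊤ E {q},
      Nat.card G ≤ Nat.card ↥(Q₁ ⊓ Q₂) + n → ∃ k ∈ K, Q₂ = Q₁.map (MulAut.conj k).toMonoidHom := by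
  have hp : p.Prime := Fact.out
  have hq : q.Prime := Fact.out
  induction n with
  | zero =>
    intro Q₁ h₁ Q₂ h₂ hc
    have h3 : Q₁ ⊓ Q₂ = ⊤ := Subgroup.eq_top_of_le_card _ (by simpa using hc)
    have h4 : Q₁ = ⊤ := top_le_iff.mp (h3 ▸ inf_le_left)
    have h5 : Q₂ = ⊤ := top_le_iff.mp (h3 ▸ inf_le_right)
    refine ⟨1, K.one_mem, ?_⟩
    rw [h4, h5, map_one]
    ext x
    simp
  | succ n ih =>
    intro Q₁ h₁ Q₂ h₂ hc
    by_cases hne : Q₁ = Q₂
    · refine ⟨1, K.one_mem, ?_⟩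
      rw [hne, map_one]
      ext x
      simp
    obtain ⟨D, hD⟩ : ∃ D : Subgroup G, D = Q₁ ⊓ Q₂ := ⟨_, rfl⟩
    rw [← hD] at hc
    obtain ⟨N, hN⟩ : ∃ N : Subgroup G, N = normalizer (D : Set G) := ⟨_, rfl⟩
    have hED : E ≤ normalizer (D : Set G) := by
      rw [hD]
      exact le_normalizer_inf h₁.1.2.2 h₂.1.2.2
    have hEN : E ≤ N := hN ▸ hED
    -- the common step for `Q₁` and `Q₂`
    have step : ∀ Q ∈ maxInvSubgroups ⊤ E {q}, D ≤ Q → D ≠ Q →
        ∃ B : Subgroup G, B ≤ E₀ ∧ B.relIndex E₀ ≤ p ∧ ∃ r ∈ N ⊓ Q, r ∉ D ∧ ∀ b ∈ B, b * r = r * b := by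
      intro Q hQ hDQ hDne
      have hQq : IsPGroup q Q := (isPi_singleton_iff hq Q).mp hQ.1.2.1
      refine HyperplaneSection.exists_fixed_not_mem hp hq hqp.symm E₀ (N ⊓ Q) D hE₀ (hQq.to_le inf_le_right)
        (le_inf (hN ▸ Subgroup.le_normalizer) hDQ) ?_ (hN ▸ inf_le_left) ?_ (hE₀E.trans hED)
      · intro heq
        apply hDne
        refine (Blocks.SylowIn.eq_of_normalizer_inf_le hQq hDQ ?_).symm
        rw [← hN, ← heq]
      · exact hE₀E.trans (le_normalizer_inf (hEN.trans Subgroup.le_normalizer) hQ.1.2.2)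
    have hD1 : D ≠ Q₁ := by
      intro h
      apply hne
      have : Q₁ ≤ Q₂ := by rw [← h, hD]; exact inf_le_right
      exact (h₁.2 Q₂ h₂.1 this).symm
    have hD2 : D ≠ Q₂ := by
      intro h
      apply hne
      have : Q₂ ≤ Q₁ := by rw [← h, hD]; exact inf_le_left
      exact (h₂.2 Q₁ h₁.1 this)
    obtain ⟨B₁, hB₁E, hB₁i, r₁, hr₁, hr₁D, hr₁B⟩ := step Q₁ h₁ (hD ▸ inf_le_left) hD1
    obtain ⟨B₂, hB₂E, hB₂i, r₂, hr₂, hr₂D, hr₂B⟩ := step Q₂ h₂ (hD ▸ inf_le_right) hD2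
    have hBne : B₁ ⊓ B₂ ≠ ⊥ := by
      intro hbot
      have h3 : (B₁ ⊓ B₂).relIndex E₀ ≤ B₁.relIndex E₀ * B₂.relIndex E₀ := Subgroup.relIndex_inf_le
      rw [hbot, Subgroup.relIndex_bot_left] at h3
      have h4 : B₁.relIndex E₀ * B₂.relIndex E₀ ≤ p * p := Nat.mul_le_mul hB₁i hB₂i
      rw [pow_two] at hcard
      omega
    obtain ⟨⟨x, hxB⟩, hx⟩ := Subgroup.ne_bot_iff_exists_ne_one.mp hBne
    have hx1 : x ≠ 1 := fun h => hx (Subtype.ext h)
    have hxE : x ∈ E := hE₀E (hB₁E hxB.1)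
    obtain ⟨L, hLp, hLn, hLQ⟩ := hcore x hxE hx1
    have hEx : E ≤ centralizer ({x} : Set G) := by
      intro a ha
      rw [Subgroup.mem_centralizer_singleton_iff]
      exact hEcomm a ha x hxE
    have hEL : E ≤ normalizer (L : Set G) := hEx.trans hLn
    have hEL₀ : E ≤ normalizer ((L ⊓ N : Subgroup G) : Set G) :=
      le_normalizer_inf hEL (hEN.trans Subgroup.le_normalizer)
    have hL₀p : ¬ p ∣ Nat.card ↥(L ⊓ N) := fun h => hLp (h.trans (Subgroup.card_dvd_of_le inf_le_left))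
    have hEL₀' := Subgroup.le_normalizer_iff.mp hEL₀
    -- the invariant subgroups `C_{N_Q(D)}(x)`
    have hC : ∀ Q ∈ maxInvSubgroups ⊤ E {q},
        IsPGroup q ↥(centralizer ({x} : Set G) ⊓ (N ⊓ Q)) ∧
        E ≤ normalizer ((centralizer ({x} : Set G) ⊓ (N ⊓ Q) : Subgroup G) : Set G) ∧
        centralizer ({x} : Set G) ⊓ (N ⊓ Q) ≤ L ⊓ N := by
      intro Q hQ
      have hQq : IsPGroup q Q := (isPi_singleton_iff hq Q).mp hQ.1.2.1
      have hCq : IsPGroup q ↥(centralizer ({x} : Set G) ⊓ (N ⊓ Q)) :=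
        hQq.to_le (inf_le_right.trans inf_le_right)
      have hCE : E ≤ normalizer ((centralizer ({x} : Set G) ⊓ (N ⊓ Q) : Subgroup G) : Set G) :=
        le_normalizer_inf (hEx.trans Subgroup.le_normalizer)
          (le_normalizer_inf (hEN.trans Subgroup.le_normalizer) hQ.1.2.2)
      refine ⟨hCq, hCE, le_inf (hLQ _ hCq hCE ?_) (inf_le_right.trans inf_le_left)⟩
      intro y hy
      exact Subgroup.mem_centralizer_singleton_iff.mp hy.1
    obtain ⟨hC₁q, hC₁E, hC₁L⟩ := hC Q₁ h₁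
    obtain ⟨hC₂q, hC₂E, hC₂L⟩ := hC Q₂ h₂
    obtain ⟨S₁, hS₁, hS₁E, hCS₁⟩ := Lib.PGroupCoprimeAction.exists_invariant_sylow_ge hEp hL₀p hEL₀'
      hC₁L hC₁q (Subgroup.le_normalizer_iff.mp hC₁E)
    obtain ⟨S₂, hS₂, hS₂E, hCS₂⟩ := Lib.PGroupCoprimeAction.exists_invariant_sylow_ge hEp hL₀p hEL₀'
      hC₂L hC₂q (Subgroup.le_normalizer_iff.mp hC₂E)
    obtain ⟨c, hc', hcS⟩ := Lib.PGroupCoprimeAction.exists_centralizer_conj hEp hL₀p hEL₀' hS₁ hS₂
      hS₁E hS₂E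
    have hcK : c ∈ K := by
      refine hK L hLp ?_ ⟨hc'.1.1, hc'.2⟩
      refine le_trans ?_ hLn
      intro y hy
      rw [Subgroup.mem_centralizer_singleton_iff]
      exact (Subgroup.mem_centralizer_iff.mp hy x hxE).symm
    have hcD : c ∈ normalizer (D : Set G) := hN ▸ hc'.1.2
    obtain ⟨hS₂L, hS₂q, -⟩ := Blocks.SylowIn.exists_sylow_map_eq_iff.mp hS₂
    have hS₂D : S₂ ≤ normalizer (D : Set G) := hN ▸ (hS₂L.trans inf_le_right)
    have hDq : IsPGroup q D := by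
      have : IsPGroup q Q₁ := (isPi_singleton_iff hq Q₁).mp h₁.1.2.1
      exact this.to_le (hD ▸ inf_le_left)
    have hYq : IsPGroup q ↥(S₂ ⊔ D) := IsPGroup.to_sup_of_normal_right' hS₂q hDq hS₂D
    obtain ⟨Q₃, h₃, hYQ₃⟩ := exists_maxInv_ge (H := ⊤) (A := E) (π := {q}) (Y := S₂ ⊔ D)
      ⟨le_top, (isPi_singleton_iff hq _).mpr hYq,
        le_normalizer_sup (Subgroup.le_normalizer_iff.mpr hS₂E) hED⟩
    have hS₂Q₃ : S₂ ≤ Q₃ := le_sup_left.trans hYQ₃
    have hDQ₃ : D ≤ Q₃ := le_sup_right.trans hYQ₃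
    have hcE : c ∈ normalizer (E : Set G) := Subgroup.centralizer_le_normalizer _ hc'.2
    have h₁c := conj_mem_maxInv_top h₁ hcE
    have hr₁C : r₁ ∈ centralizer ({x} : Set G) ⊓ (N ⊓ Q₁) := by
      refine ⟨Subgroup.mem_centralizer_singleton_iff.mpr ?_, hr₁⟩
      exact (hr₁B x hxB.1).symm
    have hr₂C : r₂ ∈ centralizer ({x} : Set G) ⊓ (N ⊓ Q₂) := by
      refine ⟨Subgroup.mem_centralizer_singleton_iff.mpr ?_, hr₂⟩
      exact (hr₂B x hxB.2).symm
    -- first intersection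
    have hlt1 : Nat.card D < Nat.card ↥(Q₁.map (MulAut.conj c).toMonoidHom ⊓ Q₃) := by
      refine card_lt_of_mem (r := c * r₁ * c⁻¹) (le_inf ?_ hDQ₃) ⟨⟨r₁, hr₁.2, rfl⟩, ?_⟩ ?_
      · rw [← mem_normalizer_iff_conj.mp hcD]
        exact Subgroup.map_mono (hD ▸ inf_le_left)
      · apply hS₂Q₃
        rw [← hcS]
        exact ⟨r₁, hCS₁ hr₁C, rfl⟩
      · intro h
        exact hr₁D ((Subgroup.mem_normalizer_iff.mp hcD r₁).mpr h)
    have hlt2 : Nat.card D < Nat.card ↥(Q₃ ⊓ Q₂) :=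
      card_lt_of_mem (r := r₂) (le_inf hDQ₃ (hD ▸ inf_le_right)) ⟨hS₂Q₃ (hCS₂ hr₂C), hr₂.2⟩ hr₂D
    obtain ⟨k₁, hk₁, hk₁'⟩ := ih _ h₁c Q₃ h₃ (by omega)
    obtain ⟨k₂, hk₂, hk₂'⟩ := ih Q₃ h₃ Q₂ h₂ (by omega)
    refine ⟨k₂ * k₁ * c, K.mul_mem (K.mul_mem hk₂ hk₁) hcK, ?_⟩
    rw [hk₂', hk₁', Subgroup.map_map, Subgroup.map_map]
    congr 1
    ext y
    simp [mul_assoc]

/-- **Transitivity theorem** for groups with `p`-constrained `p`-local subgroups. -/
theorem transitive {G : Type*} [Group G] [Finite G] (p : ℕ) [Fact p.Prime]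
    (hloc : ∀ T : Subgroup G, IsPGroup p T → T ≠ ⊥ → Cfsg.IsPConstrained p ↥(Subgroup.normalizer (T : Set G)))
    (h2 : p = 2 → ∀ S : Sylow p G, Group.IsNilpotent (S : Subgroup G) ∧ Group.nilpotencyClass (S : Subgroup G) ≤ 2)
    (E : Subgroup G) (hEp : IsPGroup p E) (hEc : IsMulCommutative E) (hE3 : ¬ Cfsg.PRankLE p 2 E)
    (hEfull : ∀ x ∈ Subgroup.centralizer (E : Set G), IsPGroup p (Subgroup.zpowers x) → x ∈ E)
    (q : ℕ) [Fact q.Prime] (hqp : q ≠ p) :
    ∀ Q₁ ∈ Cfsg.maxInvSubgroups ⊤ E {q}, ∀ Q₂ ∈ Cfsg.maxInvSubgroups ⊤ E {q},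
        ∃ k ∈ Cfsg.piCoreOf (Cfsg.primesNotDvd p) (Subgroup.centralizer (E : Set G)),
          Q₂ = Q₁.map (MulAut.conj k).toMonoidHom := by
  have hp : p.Prime := Fact.out
  have hq : q.Prime := Fact.out
  have hEcomm : ∀ a ∈ E, ∀ b ∈ E, a * b = b * a := by
    intro a ha b hb
    have := hEc.is_comm.comm ⟨a, ha⟩ ⟨b, hb⟩
    exact congrArg Subtype.val this
  unfold PRankLE at hE3
  push Not at hE3
  obtain ⟨A, hAc, hAp, hAcard⟩ := hE3
  have hE₀E : A.map E.subtype ≤ E := Subgroup.map_subtype_le A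
  intro Q₁ h₁ Q₂ h₂
  refine transitive_aux p q hqp E (A.map E.subtype) hEp hEcomm hE₀E ?_ ?_ ?_ _ ?_ (Nat.card G)
    Q₁ h₁ Q₂ h₂ (Nat.le_add_left _ _)
  · refine ⟨⟨⟨?_⟩⟩, ?_⟩
    · intro a b
      exact Subtype.ext (hEcomm a (hE₀E a.2) b (hE₀E b.2))
    · rintro _ ⟨a, ha, rfl⟩
      rw [← map_pow, hAp a ha, map_one]
  · rwa [Subgroup.card_map_of_injective E.subtype_injective]
  · intro x hx hx1
    obtain ⟨N, hN⟩ : ∃ N : Subgroup G, N = normalizer ((zpowers x : Subgroup G) : Set G) := ⟨_, rfl⟩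
    have hNn : (pPrimeCore p N).Normal := Lib.Cores.pPrimeCore_normal p
    refine ⟨(pPrimeCore p N).map N.subtype, ?_, ?_, ?_⟩
    · rw [Subgroup.card_map_of_injective N.subtype_injective]
      exact (Nat.Prime.coprime_iff_not_dvd hp).mp (Lib.Cores.pPrimeCore_coprime p).symm
    · have h1 : centralizer ({x} : Set G) ≤ N := by
        intro y hy
        rw [hN]
        apply Subgroup.centralizer_le_normalizer
        rw [Subgroup.mem_centralizer_iff]
        rintro _ ⟨k, rfl⟩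
        have h1 : Commute x y := (Subgroup.mem_centralizer_singleton_iff.mp hy).symm
        exact (h1.zpow_left k).eq
      refine h1.trans ?_
      rw [Subgroup.le_normalizer_iff]
      rintro a ha _ ⟨b, hb, rfl⟩
      exact ⟨⟨a, ha⟩ * b * ⟨a, ha⟩⁻¹, hNn.conj_mem b hb _, rfl⟩
    · intro Q hQ hEQ hQx
      rw [hN]
      refine le_core p hloc h2 E hEp hEc hEfull x hx hx1 Q ?_ hEQ hQx
      obtain ⟨n, hn⟩ := IsPGroup.iff_card.mp hQ
      rw [hn]
      intro h
      exact hqp ((Nat.prime_dvd_prime_iff_eq hp hq).mp (hp.dvd_of_dvd_pow h)).symm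
  · intro L hL hLn
    refine le_piCoreOf inf_le_right (le_normalizer_inf hLn Subgroup.le_normalizer) ?_
    rw [isPi_primesNotDvd_iff]
    refine ((Nat.Prime.coprime_iff_not_dvd hp).mpr ?_).symm
    exact fun h => hL (h.trans (Subgroup.card_dvd_of_le inf_le_left))

end Cfsg.Agent.OddOrderLocal.TransitivityConstrained
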