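import Cfsg.Prelude.Def_OddOrderLocal

/-!
# Weak Type I (Peterfalvi's Type I) and the sets A(M), A₀(M) defined with it

`Cfsg.IsOfTypeI` asks in its third alternative that `O_{p'}(M)` be cyclic; local analysis (and
Peterfalvi's definition) only gives that `O_{p'}(M_F)` is cyclic.  The whole proof of the odd order
theorem therefore runs on the notions of this file; for a maximal subgroup `M` of a minimal simple
group of odd order `IsOfTypeIw M` holds exactly when `kappa M = ∅`.  Only definitions and trivial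
unfolding lemmas.
-/

set_option autoImplicit false

namespace Cfsg.Agent.OddOrderLocal.WeakType

universe u

/-- Weak Type I: `M` is of Frobenius type and, with `H = M_F`, either `H` is a TI-subset of `G`, or `H` is
abelian of rank exactly 2, or the exponent of `M/H` divides `p - 1` for every prime `p` dividing the order
of `H` and `O_{p'}(H)` is cyclic for some such prime `p`. -/
def IsOfTypeIw {G : Type u} [Group G] (M : Subgroup G) : Prop :=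
  Cfsg.IsOfTypeF M ∧
  ( Cfsg.IsTISubset (Cfsg.fittingHallOf M : Set G) ∨
    (IsMulCommutative (Cfsg.fittingHallOf M) ∧ Cfsg.RankLE 2 (Cfsg.fittingHallOf M) ∧
      ¬ Cfsg.RankLE 1 (Cfsg.fittingHallOf M)) ∨
    ((∀ p : ℕ, p.Prime → p ∣ Nat.card (Cfsg.fittingHallOf M) →
        Monoid.exponent (M ⧸ Cfsg.fittingHall M) ∣ p - 1) ∧
      ∃ p : ℕ, p.Prime ∧ p ∣ Nat.card (Cfsg.fittingHallOf M) ∧
        IsCyclic (Cfsg.pPrimeCore p ↥(Cfsg.fittingHallOf M))) )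

open scoped Classical in
/-- `A(M)` with the weak Type I as switch. -/
noncomputable def typeAw {G : Type u} [Group G] (M : Subgroup G) : Set G :=
  if IsOfTypeIw M then
    {a | a ∈ M ∧ a ≠ 1 ∧ ∃ x ∈ Cfsg.fittingHallOf M, x ≠ 1 ∧ a * x = x * a}
  else
    {a | a ∈ ⁅M, M⁆ ∧ a ≠ 1 ∧ ∃ x ∈ Cfsg.typeCore M, x ≠ 1 ∧ a * x = x * a}

/-- `A₀(M)` with the weak Type I as switch. -/
noncomputable def typeA0w {G : Type u} [Group G] (M : Subgroup G) : Set G :=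
  typeAw M ∪ {v | ¬ IsOfTypeIw M ∧ ∃ W₁ U W₂ : Subgroup G, Cfsg.IsTypePWith M W₁ U W₂ ∧
    ∃ m ∈ M, ∃ w ∈ W₁ ⊔ W₂, w ∉ W₁ ∧ w ∉ W₂ ∧ v = m * w * m⁻¹}

/-- `L` supports `M` (relative to the weak `A₀(M)`). -/
def Supportsw {G : Type u} [Group G] (L M : Subgroup G) : Prop :=
  IsCoatom L ∧ ∃ x ∈ typeA0w M, ¬ Subgroup.centralizer ({x} : Set G) ≤ M ∧
    Subgroup.centralizer ({x} : Set G) ≤ L

section unfold

variable {G : Type u} [Group G] {M : Subgroup G}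

theorem isOfTypeIw_def : IsOfTypeIw M ↔ Cfsg.IsOfTypeF M ∧
    ( Cfsg.IsTISubset (Cfsg.fittingHallOf M : Set G) ∨
      (IsMulCommutative (Cfsg.fittingHallOf M) ∧ Cfsg.RankLE 2 (Cfsg.fittingHallOf M) ∧
        ¬ Cfsg.RankLE 1 (Cfsg.fittingHallOf M)) ∨
      ((∀ p : ℕ, p.Prime → p ∣ Nat.card (Cfsg.fittingHallOf M) →
          Monoid.exponent (M ⧸ Cfsg.fittingHall M) ∣ p - 1) ∧
        ∃ p : ℕ, p.Prime ∧ p ∣ Nat.card (Cfsg.fittingHallOf M) ∧
          IsCyclic (Cfsg.pPrimeCore p ↥(Cfsg.fittingHallOf M))) ) := Iff.rfl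

theorem IsOfTypeIw.typeF (h : IsOfTypeIw M) : Cfsg.IsOfTypeF M := h.1

theorem typeAw_of_typeI (h : IsOfTypeIw M) :
    typeAw M = {a | a ∈ M ∧ a ≠ 1 ∧ ∃ x ∈ Cfsg.fittingHallOf M, x ≠ 1 ∧ a * x = x * a} := by
  classical
  rw [typeAw, if_pos h]

theorem typeAw_of_not_typeI (h : ¬ IsOfTypeIw M) :
    typeAw M = {a | a ∈ ⁅M, M⁆ ∧ a ≠ 1 ∧ ∃ x ∈ Cfsg.typeCore M, x ≠ 1 ∧ a * x = x * a} := by
  classical
  rw [typeAw, if_neg h]

theorem typeA0w_def : typeA0w M = typeAw M ∪ {v | ¬ IsOfTypeIw M ∧ ∃ W₁ U W₂ : Subgroup G,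
    Cfsg.IsTypePWith M W₁ U W₂ ∧ ∃ m ∈ M, ∃ w ∈ W₁ ⊔ W₂, w ∉ W₁ ∧ w ∉ W₂ ∧ v = m * w * m⁻¹} := rfl

theorem typeA0w_of_typeI (h : IsOfTypeIw M) : typeA0w M = typeAw M := by
  rw [typeA0w_def]
  ext x
  constructor
  · rintro (hx | ⟨hn, _⟩)
    · exact hx
    · exact absurd h hn
  · exact Or.inl

theorem typeA0w_of_not_typeI (h : ¬ IsOfTypeIw M) :
    typeA0w M = typeAw M ∪ {v | ∃ W₁ U W₂ : Subgroup G, Cfsg.IsTypePWith M W₁ U W₂ ∧
      ∃ m ∈ M, ∃ w ∈ W₁ ⊔ W₂, w ∉ W₁ ∧ w ∉ W₂ ∧ v = m * w * m⁻¹} := by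
  rw [typeA0w_def]
  ext x
  constructor
  · rintro (hx | ⟨_, hx⟩)
    · exact Or.inl hx
    · exact Or.inr hx
  · rintro (hx | hx)
    · exact Or.inl hx
    · exact Or.inr ⟨h, hx⟩

theorem typeAw_subset_typeA0w : typeAw M ⊆ typeA0w M := fun _ hx => Or.inl hx

theorem supportsw_def {L : Subgroup G} : Supportsw L M ↔ IsCoatom L ∧ ∃ x ∈ typeA0w M,
    ¬ Subgroup.centralizer ({x} : Set G) ≤ M ∧ Subgroup.centralizer ({x} : Set G) ≤ L := Iff.rfl

end unfold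

end Cfsg.Agent.OddOrderLocal.WeakType
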